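import Cfsg.Agent.Lib.Helper33.Conj

/-!
# Sylow subgroups of subgroups, fully normalized subgroups (helper33 library)
-/

set_option autoImplicit false

namespace Cfsg.Agent.Lib.Helper33

open scoped Pointwise

variable {G : Type*} [Group G] {p : ℕ}

/-- `T` is a Sylow `p`-subgroup of the subgroup `H` (Prelude form). -/
def SylIn (p : ℕ) (T H : Subgroup G) : Prop :=
  T ≤ H ∧ IsPGroup p T ∧ ¬ p ∣ T.relIndex H

theorem SylIn.le {T H : Subgroup G} (h : SylIn p T H) : T ≤ H := h.1
theorem SylIn.isPGroup {T H : Subgroup G} (h : SylIn p T H) : IsPGroup p T := h.2.1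
theorem SylIn.not_dvd {T H : Subgroup G} (h : SylIn p T H) : ¬ p ∣ T.relIndex H := h.2.2

/-- The Sylow subgroup of `↥H` attached to `SylIn p T H`. -/
noncomputable def SylIn.toSylow [Fact p.Prime] {T H : Subgroup G} (h : SylIn p T H) : Sylow p H :=
  IsPGroup.toSylow (P := T.subgroupOf H) (h.isPGroup.comap_subtype) h.not_dvd

theorem SylIn.coe_toSylow [Fact p.Prime] {T H : Subgroup G} (h : SylIn p T H) :
    (h.toSylow : Subgroup H) = T.subgroupOf H := rfl

theorem sylIn_of_sylow [Fact p.Prime] {H : Subgroup G} (R : Sylow p H) [Finite G] :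
    SylIn p ((R : Subgroup H).map H.subtype) H := by
  refine ⟨?_, ?_, ?_⟩
  · exact Subgroup.map_subtype_le _
  · exact R.isPGroup'.map _
  · have : ((R : Subgroup H).map H.subtype).relIndex H = (R : Subgroup H).index := by
      unfold Subgroup.relIndex
      congr 1
      ext x
      simp [Subgroup.mem_subgroupOf]
    rw [this]
    exact R.not_dvd_index

theorem SylIn.cj [Fact p.Prime] {T H : Subgroup G} (h : SylIn p T H) (g : G) :
    SylIn p (cj g T) (cj g H) :=
  ⟨cj_mono h.le, isPGroup_cj h.isPGroup, by rw [relIndex_cj]; exact h.not_dvd⟩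

/-- Sylow's theorem inside `H`: a `p`-subgroup of `H` is `H`-conjugate into a given Sylow subgroup of `H`. -/
theorem SylIn.exists_cj_le [Fact p.Prime] [Finite G] {T H Q : Subgroup G} (hT : SylIn p T H)
    (hQ : Q ≤ H) (hQp : IsPGroup p Q) : ∃ h ∈ H, Helper33.cj h Q ≤ T := by
  obtain ⟨R, hR⟩ := (hQp.comap_subtype (K := H)).exists_le_sylow
  obtain ⟨h, hh⟩ := MulAction.exists_smul_eq H R hT.toSylow
  refine ⟨(h : G), h.2, ?_⟩
  intro x hx
  rw [mem_cj] at hx
  have hxH : (h : G)⁻¹ * x * h ∈ H := hQ hx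
  have h1 : (⟨(h : G)⁻¹ * x * h, hxH⟩ : H) ∈ (R : Subgroup H) := hR hx
  have h2 : MulAut.conj h • (⟨(h : G)⁻¹ * x * h, hxH⟩ : H) ∈ MulAut.conj h • (R : Subgroup H) :=
    Subgroup.smul_mem_pointwise_smul _ _ _ h1
  rw [← Sylow.coe_subgroup_smul, hh] at h2
  have h3 : (MulAut.conj h • (⟨(h : G)⁻¹ * x * h, hxH⟩ : H) : H) ∈ T.subgroupOf H := h2
  rw [Subgroup.mem_subgroupOf] at h3
  have : ((MulAut.conj h • (⟨(h : G)⁻¹ * x * h, hxH⟩ : H) : H) : G) = x := by
    simp [MulAut.smul_def, mul_assoc]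
  rwa [this] at h3

/-- A `p`-subgroup of `H` containing a Sylow `p`-subgroup of `H` equals it. -/
theorem SylIn.eq_of_le [Fact p.Prime] {T H Q : Subgroup G} (hT : SylIn p T H)
    (hQ : Q ≤ H) (hQp : IsPGroup p Q) (hTQ : T ≤ Q) : Q = T := by
  have h1 : Q.subgroupOf H = hT.toSylow := by
    apply hT.toSylow.is_maximal' (hQp.comap_subtype (K := H))
    intro x hx
    exact hTQ hx
  apply le_antisymm _ hTQ
  intro x hx
  have : (⟨x, hQ hx⟩ : H) ∈ Q.subgroupOf H := hx
  rw [h1] at this
  exact this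

/-- Two Sylow `p`-subgroups of `H` are conjugate in `H`. -/
theorem SylIn.exists_cj_eq [Fact p.Prime] [Finite G] {T T' H : Subgroup G} (hT : SylIn p T H)
    (hT' : SylIn p T' H) : ∃ h ∈ H, Helper33.cj h T' = T := by
  obtain ⟨h, hh, hle⟩ := hT.exists_cj_le hT'.le hT'.isPGroup
  refine ⟨h, hh, ?_⟩
  have h1 : SylIn p (Helper33.cj h T') (Helper33.cj h H) := hT'.cj h
  rw [cj_eq_self_of_mem hh] at h1
  exact (h1.eq_of_le hT.le hT.isPGroup hle).symm

theorem sylIn_of_sylow_le [Fact p.Prime] [Finite G] (S : Sylow p G) {K : Subgroup G}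
    (hK : (S : Subgroup G) ≤ K) : SylIn p (S : Subgroup G) K :=
  ⟨hK, S.isPGroup', fun h => S.not_dvd_index (h.trans (Subgroup.relIndex_dvd_index_of_le hK))⟩

theorem sylIn_top [Fact p.Prime] [Finite G] (S : Sylow p G) : SylIn p (S : Subgroup G) ⊤ :=
  sylIn_of_sylow_le S le_top

/-- A Sylow `p`-subgroup of `⊤` as a `Sylow p G`. -/
noncomputable def SylIn.toSylowTop [Fact p.Prime] {T : Subgroup G} (h : SylIn p T ⊤) : Sylow p G :=
  IsPGroup.toSylow (P := T) h.isPGroup (by rw [← Subgroup.relIndex_top_right]; exact h.not_dvd)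

theorem SylIn.coe_toSylowTop [Fact p.Prime] {T : Subgroup G} (h : SylIn p T ⊤) :
    (h.toSylowTop : Subgroup G) = T := rfl

theorem card_lt_card_of_lt [Finite G] {H K : Subgroup G} (h : H < K) : Nat.card H < Nat.card K := by
  have := Set.ncard_lt_ncard (SetLike.coe_ssubset_coe.mpr h) (Set.toFinite _)
  rwa [← Nat.card_coe_set_eq, ← Nat.card_coe_set_eq] at this

/-- `U` is fully normalized in `S`: `N_S(U)` is a Sylow `p`-subgroup of `N_G(U)`. -/
def FullyNormalized (p : ℕ) (S U : Subgroup G) : Prop :=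
  ¬ p ∣ (S ⊓ Subgroup.normalizer (U : Set G)).relIndex (Subgroup.normalizer (U : Set G))

theorem FullyNormalized.sylIn [Fact p.Prime] {S : Sylow p G} {U : Subgroup G}
    (h : FullyNormalized p (S : Subgroup G) U) :
    SylIn p ((S : Subgroup G) ⊓ Subgroup.normalizer (U : Set G)) (Subgroup.normalizer (U : Set G)) :=
  ⟨inf_le_right, S.isPGroup'.to_le inf_le_left, h⟩

/-- Every subgroup of `S` has a fully normalized conjugate inside `S`. -/
theorem exists_fullyNormalized_cj [Fact p.Prime] [Finite G] (S : Sylow p G) {P : Subgroup G}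
    (hP : P ≤ (S : Subgroup G)) :
    ∃ g : G, cj g P ≤ (S : Subgroup G) ∧ FullyNormalized p (S : Subgroup G) (cj g P) := by
  set N := Subgroup.normalizer (P : Set G) with hN
  have hPp : IsPGroup p P := S.isPGroup'.to_le hP
  obtain R : Sylow p N := Classical.arbitrary _
  set R' := (R : Subgroup N).map N.subtype with hR'
  have hR'syl : SylIn p R' N := sylIn_of_sylow R
  -- P ≤ R'
  have hPR : P ≤ R' := by
    have hnorm : (P.subgroupOf N).Normal := Subgroup.normal_in_normalizer
    have := IsPGroup.le_sylow_of_normal (N := P.subgroupOf N) (hPp.comap_subtype (K := N)) R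
    intro x hx
    have hxN : x ∈ N := Subgroup.le_normalizer hx
    exact ⟨⟨x, hxN⟩, this hx, rfl⟩
  obtain ⟨Q, hQ⟩ := hR'syl.isPGroup.exists_le_sylow
  obtain ⟨u, hu⟩ := MulAction.exists_smul_eq G Q S
  have hQS : cj u (Q : Subgroup G) = (S : Subgroup G) := by
    rw [← hu]; rfl
  refine ⟨u, ?_, ?_⟩
  · rw [← hQS]; exact cj_mono (hPR.trans hQ)
  · unfold FullyNormalized
    rw [← cj_normalizer]
    have h1 : SylIn p (cj u R') (cj u N) := hR'syl.cj u
    have h2 : cj u R' ≤ (S : Subgroup G) ⊓ cj u N := by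
      refine le_inf ?_ h1.le
      rw [← hQS]; exact cj_mono hQ
    have h3 := h1.eq_of_le (inf_le_right) (S.isPGroup'.to_le inf_le_left) h2
    rw [h3]
    exact h1.not_dvd

/-- Given a fully normalized conjugate `U` of `P`, the conjugating element can be chosen to carry
`N_S(P)` into `N_S(U)`. -/
theorem exists_cj_normalizer_le [Fact p.Prime] [Finite G] (S : Sylow p G) {P U : Subgroup G}
    (hU : FullyNormalized p (S : Subgroup G) U) (u : G) (huP : cj u P = U) :
    ∃ k : G, cj k P = U ∧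
      cj k ((S : Subgroup G) ⊓ Subgroup.normalizer (P : Set G)) ≤
        (S : Subgroup G) ⊓ Subgroup.normalizer (U : Set G) := by
  have h1 : cj u ((S : Subgroup G) ⊓ Subgroup.normalizer (P : Set G)) ≤ Subgroup.normalizer (U : Set G) := by
    rw [← huP, ← cj_normalizer]
    exact cj_mono inf_le_right
  have h2 : IsPGroup p (cj u ((S : Subgroup G) ⊓ Subgroup.normalizer (P : Set G))) :=
    isPGroup_cj (S.isPGroup'.to_le inf_le_left)
  obtain ⟨n, hn, hle⟩ := hU.sylIn.exists_cj_le h1 h2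
  refine ⟨n * u, ?_, ?_⟩
  · rw [cj_mul, huP]
    exact cj_eq_self_of_mem_normalizer hn
  · rw [cj_mul]; exact hle

/-- A proper subgroup of a Sylow `p`-subgroup `S` is properly contained in its normalizer in `S`. -/
theorem exists_mem_normalizer_not_mem [Fact p.Prime] [Finite G] (S : Sylow p G) {P : Subgroup G}
    (hP : P ≤ (S : Subgroup G)) (hne : P ≠ (S : Subgroup G)) :
    ∃ x, x ∈ (S : Subgroup G) ⊓ Subgroup.normalizer (P : Set G) ∧ x ∉ P := by
  have : Group.IsNilpotent (S : Subgroup G) := S.isPGroup'.isNilpotent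
  have hnc : NormalizerCondition (S : Subgroup G) := Group.normalizerCondition_of_isNilpotent
  have hlt : P.subgroupOf (S : Subgroup G) < ⊤ := by
    rw [lt_top_iff_ne_top]
    intro h
    apply hne
    apply le_antisymm hP
    intro x hx
    have : (⟨x, hx⟩ : (S : Subgroup G)) ∈ P.subgroupOf (S : Subgroup G) := by rw [h]; trivial
    exact this
  have := hnc _ hlt
  obtain ⟨x, hxN, hxP⟩ := SetLike.exists_of_lt this
  rw [Subgroup.mem_normalizer_iff] at hxN
  refine ⟨(x : G), Subgroup.mem_inf.mpr ⟨x.2, ?_⟩, hxP⟩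
  rw [Subgroup.mem_normalizer_iff]
  intro y
  constructor
  · intro hy
    have := (hxN ⟨y, hP hy⟩).mp hy
    exact this
  · intro hy
    have hyS : y ∈ (S : Subgroup G) := by
      have h1 := hP hy
      have : y = (x : G)⁻¹ * ((x : G) * y * (x : G)⁻¹) * (x : G) := by group
      rw [this]
      exact mul_mem (mul_mem (inv_mem x.2) h1) x.2
    exact (hxN ⟨y, hyS⟩).mpr hy

theorem card_lt_card_normalizer_inf [Fact p.Prime] [Finite G] (S : Sylow p G) {P : Subgroup G}
    (hP : P ≤ (S : Subgroup G)) (hne : P ≠ (S : Subgroup G)) :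
    Nat.card P < Nat.card ((S : Subgroup G) ⊓ Subgroup.normalizer (P : Set G) : Subgroup G) := by
  obtain ⟨x, hx, hxP⟩ := exists_mem_normalizer_not_mem S hP hne
  have hle : P ≤ (S : Subgroup G) ⊓ Subgroup.normalizer (P : Set G) := le_inf hP Subgroup.le_normalizer
  have hlt : P < (S : Subgroup G) ⊓ Subgroup.normalizer (P : Set G) :=
    lt_of_le_of_ne hle (fun h => hxP (h ▸ hx))
  exact card_lt_card_of_lt hlt

end Cfsg.Agent.Lib.Helper33
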