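import Cfsg.Agent.Lib.Helper33.SylIn
import Cfsg.Agent.Lib.Helper55.IndexP

/-!
# Normal subgroups of index `p` and the derived subgroup (helper33 library)

* `exists_index_eq_prime_of_comm`: a finite commutative group of order divisible by `p` has a subgroup of index `p`.
* `exists_normal_index_eq_prime_of_not_le_commutator`: a `p`-subgroup not inside `G'` gives a normal subgroup of
  index `p`.
* `not_le_commutator_of_normal_index_eq_prime`: the converse for subgroups of index prime to `p`.
* `exists_mul_of_mem_normalizer_sylow`: `N_G(S) = S C_G(S)` when `p'`-elements of `N_G(S)` centralize `S`.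
-/

set_option autoImplicit false

namespace Cfsg.Agent.Lib.Helper33

variable {p : ℕ}

theorem exists_index_eq_prime_of_comm {A : Type*} [CommGroup A] [Finite A] [hp : Fact p.Prime]
    (h : p ∣ Nat.card A) : ∃ H : Subgroup A, H.index = p := by
  obtain ⟨a, ha⟩ := exists_prime_orderOf_dvd_card' p h
  have ha1 : a ≠ 1 := by
    rintro rfl
    rw [orderOf_one] at ha
    exact hp.out.one_lt.ne ha
  have hni : ¬ Function.Injective (powMonoidHom p : A →* A) := by
    intro hinj
    apply ha1
    apply hinj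
    rw [map_one, powMonoidHom_apply, ← ha, pow_orderOf_eq_one]
  have hns : ¬ Function.Surjective (powMonoidHom p : A →* A) :=
    fun hs => hni (Finite.injective_iff_surjective.mpr hs)
  rw [Function.Surjective] at hns
  push Not at hns
  obtain ⟨b, hb⟩ := hns
  have hQ : IsPGroup p (A ⧸ (powMonoidHom p : A →* A).range) := by
    intro q
    induction q using QuotientGroup.induction_on with
    | H x =>
      refine ⟨1, ?_⟩
      rw [pow_one, ← QuotientGroup.mk_pow, QuotientGroup.eq_one_iff]
      exact ⟨x, rfl⟩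
  refine Cfsg.Agent.Lib.Helper55.exists_index_eq_prime_of_hom hQ
    (QuotientGroup.mk' (powMonoidHom p : A →* A).range) b ?_
  rw [Ne, QuotientGroup.mk'_apply, QuotientGroup.eq_one_iff]
  rintro ⟨x, hx⟩
  exact hb x hx

theorem exists_normal_index_eq_prime_of_not_le_commutator {G : Type*} [Group G] [Finite G]
    [hp : Fact p.Prime] {S : Subgroup G} (hS : IsPGroup p S) (h : ¬ S ≤ commutator G) :
    ∃ M : Subgroup G, M.Normal ∧ M.index = p := by
  obtain ⟨s, hs, hsn⟩ := SetLike.not_le_iff_exists.mp h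
  have ha : (Abelianization.of s : Abelianization G) ≠ 1 := by
    intro h1
    apply hsn
    rw [← Abelianization.ker_of]
    exact h1
  obtain ⟨k, hk⟩ := hS ⟨s, hs⟩
  have hk' : s ^ (p ^ k) = 1 := by simpa using congrArg Subtype.val hk
  have h2 : (Abelianization.of s : Abelianization G) ^ (p ^ k) = 1 := by
    rw [← map_pow, hk', map_one]
  have hdvd : orderOf (Abelianization.of s : Abelianization G) ∣ p ^ k := orderOf_dvd_of_pow_eq_one h2
  obtain ⟨j, -, hj⟩ := (Nat.dvd_prime_pow hp.out).mp hdvd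
  have hj0 : j ≠ 0 := by
    rintro rfl
    rw [pow_zero, orderOf_eq_one_iff] at hj
    exact ha hj
  have hpdvd : p ∣ Nat.card (Abelianization G) := by
    refine dvd_trans ?_ (orderOf_dvd_natCard (Abelianization.of s : Abelianization G))
    rw [hj]
    exact dvd_pow_self p hj0
  obtain ⟨H, hH⟩ := exists_index_eq_prime_of_comm hpdvd
  have hHn : H.Normal := Subgroup.normal_of_isMulCommutative H
  refine ⟨H.comap Abelianization.of, hHn.comap _, ?_⟩
  have hsurj : Function.Surjective (Abelianization.of : G →* Abelianization G) :=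
    QuotientGroup.mk'_surjective _
  rw [Subgroup.index_comap_of_surjective _ hsurj, hH]

theorem not_le_commutator_of_normal_index_eq_prime {G : Type*} [Group G]
    [hp : Fact p.Prime] {M : Subgroup G} [M.Normal] (hM : M.index = p) {T : Subgroup G}
    (hT : ¬ p ∣ T.index) : ¬ T ≤ commutator G := by
  intro hle
  have hcard : Nat.card (G ⧸ M) = p := by rw [← Subgroup.index_eq_card]; exact hM
  have hcyc : IsCyclic (G ⧸ M) := isCyclic_of_prime_card hcard
  have hcomm : IsMulCommutative (G ⧸ M) := IsCyclic.isMulCommutative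
  have h1 : commutator G ≤ M := Subgroup.Normal.quotient_commutative_iff_commutator_le.mp hcomm
  apply hT
  rw [← hM]
  exact Subgroup.index_dvd_of_le (hle.trans h1)

/-- A `p`-element normalizing a Sylow `p`-subgroup lies in it. -/
theorem mem_sylow_of_mem_normalizer_of_pow_eq_one {G : Type*} [Group G] [Fact p.Prime]
    (S : Sylow p G) {s : G} (hs : s ∈ Subgroup.normalizer ((S : Subgroup G) : Set G)) {a : ℕ}
    (hsa : s ^ (p ^ a) = 1) : s ∈ (S : Subgroup G) := by
  have hz : IsPGroup p (Subgroup.zpowers s) := by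
    rintro ⟨x, hx⟩
    obtain ⟨i, rfl⟩ := Subgroup.mem_zpowers_iff.mp hx
    refine ⟨a, ?_⟩
    apply Subtype.ext
    rw [Subgroup.coe_pow, Subgroup.coe_one, ← zpow_natCast, ← zpow_mul, mul_comm, zpow_mul,
      zpow_natCast, hsa, one_zpow]
  have hle : Subgroup.zpowers s ≤ Subgroup.normalizer ((S : Subgroup G) : Set G) :=
    (Subgroup.zpowers_le).mpr hs
  have hsup : IsPGroup p (Subgroup.zpowers s ⊔ (S : Subgroup G) : Subgroup G) :=
    hz.to_sup_of_normal_right' S.isPGroup' hle
  have heq := S.is_maximal' hsup le_sup_right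
  have : s ∈ Subgroup.zpowers s ⊔ (S : Subgroup G) :=
    Subgroup.mem_sup_left (Subgroup.mem_zpowers s)
  rwa [heq] at this

/-- If every `p'`-element of `N_G(S)` centralizes the Sylow `p`-subgroup `S`, then `N_G(S) = S C_G(S)`. -/
theorem exists_mul_of_mem_normalizer_sylow {G : Type*} [Group G] [Finite G] [hp : Fact p.Prime]
    (S : Sylow p G)
    (hN : ∀ g ∈ Subgroup.normalizer ((S : Subgroup G) : Set G), (orderOf g).Coprime p →
      g ∈ Subgroup.centralizer ((S : Subgroup G) : Set G)) :
    ∀ g ∈ Subgroup.normalizer ((S : Subgroup G) : Set G),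
      ∃ s ∈ (S : Subgroup G), ∃ c ∈ Subgroup.centralizer ((S : Subgroup G) : Set G), g = s * c := by
  intro g hg
  have ho : 0 < orderOf g := orderOf_pos g
  obtain ⟨a, m, hm, hom⟩ := Nat.exists_eq_pow_mul_and_not_dvd ho.ne' p hp.out.ne_one
  have hcop : Nat.Coprime (p ^ a) m := ((Nat.Prime.coprime_iff_not_dvd hp.out).mpr hm).pow_left a
  have hb := Nat.gcd_eq_gcd_ab (p ^ a) m
  rw [hcop.gcd_eq_one] at hb
  have hgm : g ^ (p ^ a * m) = 1 := by rw [← hom]; exact pow_orderOf_eq_one g
  refine ⟨g ^ ((m : ℤ) * Nat.gcdB (p ^ a) m), ?_, g ^ (((p ^ a : ℕ) : ℤ) * Nat.gcdA (p ^ a) m), ?_, ?_⟩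
  · apply mem_sylow_of_mem_normalizer_of_pow_eq_one S (Subgroup.zpow_mem _ hg _) (a := a)
    rw [← zpow_natCast, ← zpow_mul, mul_comm, ← mul_assoc, zpow_mul, ← Nat.cast_mul, zpow_natCast,
      hgm, one_zpow]
  · apply hN _ (Subgroup.zpow_mem _ hg _)
    have h1 : (g ^ (((p ^ a : ℕ) : ℤ) * Nat.gcdA (p ^ a) m)) ^ m = 1 := by
      rw [← zpow_natCast, ← zpow_mul, mul_comm, ← mul_assoc, zpow_mul, ← Nat.cast_mul, zpow_natCast,
        mul_comm m, hgm, one_zpow]
    have h2 : orderOf (g ^ (((p ^ a : ℕ) : ℤ) * Nat.gcdA (p ^ a) m)) ∣ m := orderOf_dvd_of_pow_eq_one h1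
    exact Nat.Coprime.coprime_dvd_left h2 ((Nat.Prime.coprime_iff_not_dvd hp.out).mpr hm).symm
  · rw [← zpow_add, add_comm, ← hb]
    simp

end Cfsg.Agent.Lib.Helper33
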