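import Mathlib
import Cfsg.Agent.Lib.Helper67.S3Basic
import Cfsg.Agent.Lib.Helper40.ShultAS

/-!
# `card_AS` for the `S₃` fixed-point-free theorem S4305 (helper33, for helper67)

`|C_V(h)|² · |C_V(f)| = |V|` in the configuration `Ctx f h ψ ρ σ`, from helper40's `card_fix_AS`.
-/

set_option autoImplicit false

namespace Cfsg.Agent.Lib.Helper33.S3CardAS

open Cfsg.Agent.Lib.Helper67.S3

variable {𝔸 Q V : Type*} [Group 𝔸] [Group Q] [AddCommGroup V] {p : ℕ} [Module (ZMod p) V]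
  {f h : 𝔸} {ψ : 𝔸 →* MulAut Q} {ρ : Representation (ZMod p) Q V}
  {σ : Representation (ZMod p) 𝔸 V}

/-- the order of a finite `𝔽_p`-module is a power of `p` -/
theorem card_eq_pow [Finite V] [Fact p.Prime] : ∃ n : ℕ, Nat.card V = p ^ n := by
  have hp : IsPGroup p (Multiplicative V) := by
    intro x
    refine ⟨1, ?_⟩
    rw [pow_one]
    apply Multiplicative.toAdd.injective
    rw [toAdd_pow, toAdd_one]
    have : (p : ZMod p) • (Multiplicative.toAdd x) = 0 := by
      rw [ZMod.natCast_self, zero_smul]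
    rwa [Nat.cast_smul_eq_nsmul] at this
  obtain ⟨n, hn⟩ := IsPGroup.iff_card.mp hp
  exact ⟨n, by rw [← hn]; rfl⟩

theorem card_AS [Finite V] [Fact p.Prime] (c : Ctx f h ψ ρ σ) :
    Nat.card ↥(FixL (σ h)) ^ 2 * Nat.card ↥(FixL (σ f)) = Nat.card V := by
  obtain ⟨n, hn⟩ := card_eq_pow (V := V) (p := p)
  have hM : (Nat.card V).Coprime 6 := by
    rw [hn]; exact Nat.Coprime.pow_left n c.p6
  have key := Cfsg.Agent.Lib.Helper40.card_fix_AS hM (σ f).toAddMonoidHom (σ h).toAddMonoidHom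
    (fun v => c.rel.sigma_f3 σ v) (fun v => c.rel.sigma_h2 σ v)
    (fun v => c.rel.sigma_hfh σ v) (fun v hf hh => c.fixV v hf hh)
  exact key

end Cfsg.Agent.Lib.Helper33.S3CardAS
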