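import Cfsg.Agent.Lib.Helper33.PQuotLift
import Cfsg.Agent.Lib.Helper76.PCore

/-!
# Control of strong fusion from constrained sections (helper33 library)

`familyControls_of_secProp`: if a family of isomorphism-invariant `p`-group functors controls strong fusion in every section
`G*` of `G` with `C_{G*}(O_p(G*)) ≤ O_p(G*)`, then it controls strong fusion in `G` (Glauberman).
-/

set_option autoImplicit false

namespace Cfsg.Agent.Lib.Helper33

universe u

variable (p : ℕ) (𝓦 : Set (∀ (Q : Type u) [Group Q], Subgroup Q))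

/-- the family controls strong fusion in `Y` provided `Y` is constrained -/
def FusProp : ∀ (Y : Type u) [Group Y], Prop :=
  fun Y _ => Constrained p Y → Cfsg.FamilyControlsStrongFusionIn p (indFam 𝓦 Y) ⊤

variable {p} {𝓦}

theorem fusProp_of_mulEquiv [Fact p.Prime] (h𝓦 : ∀ W ∈ 𝓦, Cfsg.IsCharPFunctor.{u} p W)
    (X Y : Type u) [Group X] [Group Y] [Finite X] (e : X ≃* Y) (h : FusProp p 𝓦 X) : FusProp p 𝓦 Y := by
  intro hcY
  exact familyControls_top_of_mulEquiv h𝓦 e (h (constrained_of_mulEquiv e.symm hcY))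

/-- **Glauberman**: control of strong fusion in all constrained sections gives control of strong fusion. -/
theorem familyControls_of_secProp [hp : Fact p.Prime] (h𝓦 : ∀ W ∈ 𝓦, Cfsg.IsCharPFunctor.{u} p W) :
    ∀ n : ℕ, ∀ (G : Type u) [Group G] [Finite G], Nat.card G = n → SecProp (FusProp p 𝓦) G →
      Cfsg.FamilyControlsStrongFusionIn p (indFam 𝓦 G) ⊤ := by
  intro n
  induction n using Nat.strong_induction_on with
  | _ n IH =>
  intro G _ _ hn hsec
  obtain S : Sylow p G := Classical.arbitrary _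
  have hPn : (Cfsg.pCore p G).Normal := Subgroup.sSup_normal _ (fun _ h => h.1)
  have hPS : Cfsg.pCore p G ≤ (S : Subgroup G) := Cfsg.Agent.Lib.Helper76.pCore_le_sylow p S
  have hPmax : ∀ N : Subgroup G, N.Normal → IsPGroup p N → N ≤ Cfsg.pCore p G :=
    fun N hN hNp => Cfsg.Agent.Lib.Helper76.le_pCore p N hN hNp
  by_cases hc : (S : Subgroup G) ⊓ Subgroup.centralizer ((Cfsg.pCore p G : Subgroup G) : Set G) ≤
      Cfsg.pCore p G
  · -- `O_p(G)` is centric: `G ⧸ O_{p'}(G)` is constrained
    have hKn : (Cfsg.pPrimeCore p G).Normal := Subgroup.sSup_normal _ (fun _ h => h.1)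
    have hK : (Nat.card (Cfsg.pPrimeCore p G)).Coprime p := Cfsg.Agent.Lib.Helper76.pPrimeCore_coprime p
    have hKmax : ∀ N : Subgroup G, N.Normal → (Nat.card N).Coprime p → N ≤ Cfsg.pPrimeCore p G :=
      fun N hN hNp => Cfsg.Agent.Lib.Helper76.le_pPrimeCore p N hN hNp
    have hcon := constrained_quotient_of_normal_centric S (Cfsg.pCore p G) hPS hc (Cfsg.pPrimeCore p G) hK hKmax
    have h1 := (hsec.quotient (Cfsg.pPrimeCore p G)).self hcon
    exact familyControls_of_quotient_pPrime h𝓦 (Cfsg.pPrimeCore p G) hK h1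
  · have IHsub : ∀ H : Subgroup G, H ≠ ⊤ → Cfsg.FamilyControlsStrongFusionIn p (indFam 𝓦 G) H := by
      intro H hH
      apply familyControls_subgroup_of_top h𝓦 H
      refine IH (Nat.card H) ?_ ↥H rfl (hsec.subgroup H)
      rw [← hn, ← Subgroup.card_top (G := G)]
      exact card_lt_card_of_lt (lt_top_iff_ne_top.mpr hH)
    by_cases hP1 : Cfsg.pCore p G = ⊥
    · -- `O_p(G) = 1`: all local subgroups are proper
      refine familyControls_top_of_local S (indFam 𝓦 G) (indFam_isConjugacyFunctor 𝓦 h𝓦 G) Set.univ ?_ ?_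
      · intro Q hQ
        obtain ⟨g, hle, hfn⟩ := exists_fullyNormalized_cj S hQ
        exact ⟨cj g Q, trivial, ⟨g, rfl⟩, hle, hfn⟩
      · intro U _ hUne hUS _
        apply IHsub
        intro htop
        have hUn : U.Normal := Subgroup.normalizer_eq_top_iff.mp htop
        have := hPmax U hUn (S.isPGroup'.to_le hUS)
        rw [hP1] at this
        exact hUne (le_bot_iff.mp this)
    · -- `O_p(G) ≠ 1` not centric
      have H1 : Cfsg.FamilyControlsStrongFusionIn p (indFam 𝓦 (G ⧸ Cfsg.pCore p G)) ⊤ := by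
        refine IH (Nat.card (G ⧸ Cfsg.pCore p G)) ?_ (G ⧸ Cfsg.pCore p G) rfl (hsec.quotient _)
        rw [← hn, Subgroup.card_eq_card_quotient_mul_card_subgroup (Cfsg.pCore p G)]
        have h1 : 1 < Nat.card ↥(Cfsg.pCore p G) := by
          rw [Subgroup.one_lt_card_iff_ne_bot]
          exact hP1
        have h0 : 0 < Nat.card (G ⧸ Cfsg.pCore p G) := Nat.card_pos
        nlinarith
      exact familyControls_of_pQuot h𝓦 S (Cfsg.pCore p G) hPS hPmax hc H1
        (fun X _ _ hne => IHsub _ hne)

end Cfsg.Agent.Lib.Helper33
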