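import Cfsg.Agent.Lib.Helper33.KInfPStable
import Cfsg.Agent.S1969

/-!
# Control of strong fusion by the K-infinity subgroups when all sections are `p`-stable (helper33 library)
-/

set_option autoImplicit false

namespace Cfsg.Agent.Lib.Helper33

universe u

/-- a characteristic `p`-functor that is normal in all constrained groups with `p`-stable sections controls strong
fusion in every group with `p`-stable sections -/
theorem controlsStrongFusion_of_secPStable {p : ℕ} [Fact p.Prime] (W : ∀ (Q : Type u) [Group Q], Subgroup Q)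
    (hW : Cfsg.IsCharPFunctor.{u} p W)
    (hnorm : ∀ (Y : Type u) [Group Y] [Finite Y], SecProp (ECN p) Y → Constrained p Y → ∀ T : Sylow p Y,
      (Cfsg.inducedFunctor W (T : Subgroup Y)).Normal)
    {G : Type u} [Group G] [Finite G] (hsecG : SecProp (ECN p) G) (S : Sylow p G) :
    Cfsg.ControlsStrongFusion p (Cfsg.inducedFunctor W (S : Subgroup G)) := by
  have h𝓦 : ∀ W' ∈ ({W} : Set (∀ (Q : Type u) [Group Q], Subgroup Q)), Cfsg.IsCharPFunctor.{u} p W' := by
    rintro W' rfl
    exact hW
  have hsecFus : SecProp (FusProp p {W}) G := by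
    intro K Y _ φ hφ
    have : Finite Y := Finite.of_surjective φ hφ
    intro hconY
    have hsY : SecProp (ECN p) Y := (hsecG.subgroup K).of_surjective φ hφ
    exact Cfsg.Agent.S1969.familyControls_of_normal W (fun T => hnorm Y hsY hconY T)
  have hY := familyControls_of_secProp h𝓦 _ G rfl hsecFus
  have hcf := isConjugacyFunctor_inducedFunctor W hW (G := G)
  have e : indFam {W} G = {Cfsg.inducedFunctor (G := G) W} := by
    unfold indFam
    rw [Set.image_singleton]
  rw [e] at hY
  have hgood := good_of_familyControls (by rintro W' rfl; exact hcf) hY (sylIn_top S)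
  refine ⟨S, cf_le hcf S.isPGroup', fun A hA => ⟨hA, fun g hg => ?_⟩⟩
  obtain ⟨g', hreach, hagree⟩ := hgood A g (Subgroup.mem_top _) hA hg
  rw [stepSet_singleton] at hreach
  exact ⟨g', (hreach.mem_of_subgroup).2, fun a ha => (hagree a ha).symm⟩

theorem controlsStrongFusion_kInfLower_of_hst {p : ℕ} [Fact p.Prime] {G : Type u} [Group G] [Finite G]
    (hst : ∀ (K R : Subgroup G) [_hR : (R.subgroupOf K).Normal], Cfsg.IsNormalizerPStable p (↥K ⧸ R.subgroupOf K))
    (S : Sylow p G) : Cfsg.ControlsStrongFusion p (Cfsg.inducedFunctor Cfsg.kInfLower (S : Subgroup G)) :=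
  controlsStrongFusion_of_secPStable _ (isCharPFunctor_kInfLower p)
    (fun _ _ _ hs hc T => (kInf_normal_of_secPStable hs hc T).1) (secProp_ecn_of_hst hst) S

theorem controlsStrongFusion_kInfUpper_of_hst {p : ℕ} [Fact p.Prime] {G : Type u} [Group G] [Finite G]
    (hst : ∀ (K R : Subgroup G) [_hR : (R.subgroupOf K).Normal], Cfsg.IsNormalizerPStable p (↥K ⧸ R.subgroupOf K))
    (S : Sylow p G) : Cfsg.ControlsStrongFusion p (Cfsg.inducedFunctor Cfsg.kInfUpper (S : Subgroup G)) :=
  controlsStrongFusion_of_secPStable _ (isCharPFunctor_kInfUpper p)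
    (fun _ _ _ hs hc T => (kInf_normal_of_secPStable hs hc T).2) (secProp_ecn_of_hst hst) S

end Cfsg.Agent.Lib.Helper33
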