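import Cfsg.Agent.Lib.Helper33.TransferControl

/-!
# Commutator form of the Alperin induction, and the focal subgroup (helper33 library)
-/

set_option autoImplicit false

namespace Cfsg.Agent.Lib.Helper33

open scoped commutatorElement

variable {G : Type*} [Group G] {p : ℕ}

/-- Alperin induction for the property "all commutators `g x g⁻¹ x⁻¹`, `x ∈ P`, lie in `D`". -/
theorem alperin_commutator [Fact p.Prime] [Finite G] (S : Sylow p G) (D : Subgroup G)
    (𝓕 : Set (Subgroup G))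
    (h𝓕 : ∀ P : Subgroup G, P ≤ (S : Subgroup G) →
      ∃ U ∈ 𝓕, (∃ g : G, cj g P = U) ∧ U ≤ (S : Subgroup G) ∧ FullyNormalized p (S : Subgroup G) U)
    (loc : ∀ U ∈ 𝓕, U ≤ (S : Subgroup G) → FullyNormalized p (S : Subgroup G) U →
      (∀ P : Subgroup G, P ≤ (S : Subgroup G) → Nat.card U < Nat.card P →
        ∀ g, cj g P ≤ (S : Subgroup G) → ∀ x ∈ P, g * x * g⁻¹ * x⁻¹ ∈ D) →
      ∀ g ∈ Subgroup.normalizer (U : Set G), ∀ x ∈ U, g * x * g⁻¹ * x⁻¹ ∈ D) :
    ∀ P : Subgroup G, P ≤ (S : Subgroup G) → ∀ g, cj g P ≤ (S : Subgroup G) →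
      ∀ x ∈ P, g * x * g⁻¹ * x⁻¹ ∈ D :=
  alperin_induction S (fun P g => ∀ x ∈ P, g * x * g⁻¹ * x⁻¹ ∈ D) 𝓕 h𝓕
    (by
      intro P g h _ _ _ h1 h2 x hx
      have e : h * g * x * (h * g)⁻¹ * x⁻¹ =
          (h * (g * x * g⁻¹) * h⁻¹ * (g * x * g⁻¹)⁻¹) * (g * x * g⁻¹ * x⁻¹) := by group
      rw [e]
      exact D.mul_mem (h2 _ (conj_mem_cj hx)) (h1 x hx))
    (by
      intro P P' g hle _ _ h1 x hx
      exact h1 x (hle hx))
    (by
      intro P g _ _ h1 x hx
      have hx' := mem_cj.mp hx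
      have := h1 _ hx'
      have e : g⁻¹ * x * g⁻¹⁻¹ * x⁻¹ = (g * (g⁻¹ * x * g) * g⁻¹ * (g⁻¹ * x * g)⁻¹)⁻¹ := by group
      rw [e]
      exact D.inv_mem this)
    loc

/-- the focal subgroup theorem in the form used here -/
theorem focal_le_of_forall [Fact p.Prime] [Finite G] (S : Sylow p G) (D : Subgroup G)
    (key : ∀ P : Subgroup G, P ≤ (S : Subgroup G) → ∀ g, cj g P ≤ (S : Subgroup G) →
      ∀ x ∈ P, g * x * g⁻¹ * x⁻¹ ∈ D) :
    (S : Subgroup G) ⊓ commutator G ≤ D := by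
  have hSF : (S : Subgroup G) ⊓ commutator G = (S : Subgroup G).focalSubgroup := by
    rw [inf_comm]; exact Subgroup.commutator_inf_eq_focalSubgroup S
  rw [hSF, Subgroup.focalSubgroup_def, Subgroup.closure_le]
  rintro g ⟨hgS, x, hxS, u, rfl⟩
  have hux : u * x * u⁻¹ ∈ (S : Subgroup G) := by
    have : u * x * u⁻¹ = (x⁻¹ * ⁅x, u⁆)⁻¹ := by rw [commutatorElement_def]; group
    rw [this]
    exact (S : Subgroup G).inv_mem ((S : Subgroup G).mul_mem ((S : Subgroup G).inv_mem hxS) hgS)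
  have hP : Subgroup.zpowers x ≤ (S : Subgroup G) := by
    rw [Subgroup.zpowers_le]; exact hxS
  have hPu : cj u (Subgroup.zpowers x) ≤ (S : Subgroup G) := by
    rw [Subgroup.zpowers_eq_closure, cj_closure, Subgroup.closure_le]
    rintro _ ⟨a, ha, rfl⟩
    rw [Set.mem_singleton_iff.mp ha]
    exact hux
  have := key _ hP u hPu x (Subgroup.mem_zpowers _)
  have e : ⁅x, u⁆ = (u * x * u⁻¹ * x⁻¹)⁻¹ := by rw [commutatorElement_def]; group
  rw [SetLike.mem_coe, e]
  exact D.inv_mem this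

/-- If `U` is fully normalized in `S` then `C_S(U)` is a Sylow `p`-subgroup of `C_G(U)`. -/
theorem FullyNormalized.sylIn_centralizer [Fact p.Prime] [Finite G] {S : Sylow p G} {U : Subgroup G}
    (h : FullyNormalized p (S : Subgroup G) U) :
    SylIn p ((S : Subgroup G) ⊓ Subgroup.centralizer (U : Set G)) (Subgroup.centralizer (U : Set G)) := by
  set C := Subgroup.centralizer (U : Set G) with hC
  have hCN : C ≤ Subgroup.normalizer (U : Set G) := Subgroup.centralizer_le_normalizer _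
  obtain R : Sylow p C := Classical.arbitrary _
  have hR := sylIn_of_sylow R
  set Q₀ := (R : Subgroup C).map C.subtype with hQ₀
  obtain ⟨n, hn, hle⟩ := h.sylIn.exists_cj_le (hR.le.trans hCN) hR.isPGroup
  have hnC : cj n C = C := by
    rw [hC, cj_centralizer, cj_eq_self_of_mem_normalizer hn]
  have h1 : SylIn p (cj n Q₀) C := by
    have := hR.cj n
    rwa [hnC] at this
  have h2 : cj n Q₀ ≤ (S : Subgroup G) ⊓ C := le_inf (hle.trans inf_le_left) h1.le
  have h3 := h1.eq_of_le inf_le_right (S.isPGroup'.to_le inf_le_left) h2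
  rw [h3]
  exact h1

/-- Frattini-type factorization: for `U` fully normalized and `g ∈ N_G(U)` there is `c ∈ C_G(U)` with
`c g ∈ N_G(C_S(U))`. -/
theorem exists_centralizer_mul_mem_normalizer [Fact p.Prime] [Finite G] {S : Sylow p G} {U : Subgroup G}
    (h : FullyNormalized p (S : Subgroup G) U) {g : G} (hg : g ∈ Subgroup.normalizer (U : Set G)) :
    ∃ c ∈ Subgroup.centralizer (U : Set G),
      c * g ∈ Subgroup.normalizer (((S : Subgroup G) ⊓ Subgroup.centralizer (U : Set G) : Subgroup G) : Set G) := by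
  set C := Subgroup.centralizer (U : Set G) with hC
  have hsyl := h.sylIn_centralizer
  have hgC : cj g C = C := by
    rw [hC, cj_centralizer, cj_eq_self_of_mem_normalizer hg]
  have h1 : cj g ((S : Subgroup G) ⊓ C) ≤ C :=
    (cj_mono inf_le_right).trans hgC.le
  obtain ⟨c, hc, hle⟩ := hsyl.exists_cj_le h1 (isPGroup_cj hsyl.isPGroup)
  refine ⟨c, hc, ?_⟩
  rw [mem_normalizer_iff_cj_eq, cj_mul]
  apply Subgroup.eq_of_le_of_card_ge hle
  rw [card_cj, card_cj]

end Cfsg.Agent.Lib.Helper33
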