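import Mathlib

/-!
# Conjugation of subgroups, Sylow subgroups of subgroups (helper33 library)

`cj g P` is `g P g⁻¹` written as `P.map (MulAut.conj g).toMonoidHom`, the form used in the Prelude.
`SylIn p T H` says that `T` is a Sylow `p`-subgroup of the subgroup `H`, in the Prelude's form
(`T ≤ H`, `T` a `p`-group, `p ∤ |H : T|`).
-/

set_option autoImplicit false

namespace Cfsg.Agent.Lib.Helper33

variable {G : Type*} [Group G]

/-- `g P g⁻¹` -/
def cj (g : G) (P : Subgroup G) : Subgroup G := P.map (MulAut.conj g).toMonoidHom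

theorem cj_def (g : G) (P : Subgroup G) : cj g P = P.map (MulAut.conj g).toMonoidHom := rfl

theorem mem_cj {g x : G} {P : Subgroup G} : x ∈ cj g P ↔ g⁻¹ * x * g ∈ P := by
  unfold cj
  rw [Subgroup.mem_map_equiv]
  simp [MulAut.conj_symm_apply]

theorem conj_mem_cj {g x : G} {P : Subgroup G} (hx : x ∈ P) : g * x * g⁻¹ ∈ cj g P := by
  rw [mem_cj]
  simpa [mul_assoc] using hx

theorem conj_mem_cj_iff {g x : G} {P : Subgroup G} : g * x * g⁻¹ ∈ cj g P ↔ x ∈ P := by
  rw [mem_cj]
  simp [mul_assoc]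

theorem cj_one (P : Subgroup G) : cj 1 P = P := by
  ext x; simp [mem_cj]

theorem cj_mul (g h : G) (P : Subgroup G) : cj (g * h) P = cj g (cj h P) := by
  ext x; simp [mem_cj, mul_assoc]

theorem cj_inv_cj (g : G) (P : Subgroup G) : cj g⁻¹ (cj g P) = P := by
  rw [← cj_mul]; simp [cj_one]

theorem cj_cj_inv (g : G) (P : Subgroup G) : cj g (cj g⁻¹ P) = P := by
  rw [← cj_mul]; simp [cj_one]

theorem cj_le_cj {g : G} {P Q : Subgroup G} : cj g P ≤ cj g Q ↔ P ≤ Q := by
  constructor
  · intro h x hx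
    have := h (conj_mem_cj (g := g) hx)
    exact conj_mem_cj_iff.mp this
  · intro h
    exact Subgroup.map_mono h

theorem cj_mono {g : G} {P Q : Subgroup G} (h : P ≤ Q) : cj g P ≤ cj g Q := cj_le_cj.mpr h

theorem cj_le_iff {g : G} {P Q : Subgroup G} : cj g P ≤ Q ↔ P ≤ cj g⁻¹ Q := by
  rw [← cj_le_cj (g := g⁻¹), cj_inv_cj]

theorem cj_injective (g : G) : Function.Injective (cj g : Subgroup G → Subgroup G) := by
  intro P Q h
  have := congrArg (cj g⁻¹) h
  simpa [cj_inv_cj] using this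

theorem cj_inf (g : G) (P Q : Subgroup G) : cj g (P ⊓ Q) = cj g P ⊓ cj g Q := by
  ext x; simp [mem_cj]

theorem cj_bot (g : G) : cj g (⊥ : Subgroup G) = ⊥ := by
  unfold cj; simp

theorem cj_top (g : G) : cj g (⊤ : Subgroup G) = ⊤ := by
  ext x; simp [mem_cj]

theorem cj_eq_bot_iff {g : G} {P : Subgroup G} : cj g P = ⊥ ↔ P = ⊥ := by
  constructor
  · intro h
    have := congrArg (cj g⁻¹) h
    simpa [cj_inv_cj, cj_bot] using this
  · rintro rfl; exact cj_bot g

theorem cj_normalizer (g : G) (P : Subgroup G) :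
    cj g (Subgroup.normalizer (P : Set G)) = Subgroup.normalizer ((cj g P : Subgroup G) : Set G) :=
  Subgroup.map_equiv_normalizer_eq P (MulAut.conj g)

theorem cj_centralizer (g : G) (P : Subgroup G) :
    cj g (Subgroup.centralizer (P : Set G)) = Subgroup.centralizer ((cj g P : Subgroup G) : Set G) := by
  ext x
  rw [mem_cj, Subgroup.mem_centralizer_iff, Subgroup.mem_centralizer_iff]
  constructor
  · intro h y hy
    have hy' := mem_cj.mp hy
    have := h _ hy'
    calc y * x = g * ((g⁻¹ * y * g) * (g⁻¹ * x * g)) * g⁻¹ := by group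
      _ = g * ((g⁻¹ * x * g) * (g⁻¹ * y * g)) * g⁻¹ := by rw [this]
      _ = x * y := by group
  · intro h y hy
    have := h _ (conj_mem_cj (g := g) hy)
    calc y * (g⁻¹ * x * g) = g⁻¹ * ((g * y * g⁻¹) * x) * g := by group
      _ = g⁻¹ * (x * (g * y * g⁻¹)) * g := by rw [this]
      _ = g⁻¹ * x * g * y := by group

theorem cj_eq_self_of_mem_normalizer {g : G} {P : Subgroup G}
    (hg : g ∈ Subgroup.normalizer (P : Set G)) : cj g P = P := by
  ext x
  rw [mem_cj]
  have hg' : g⁻¹ ∈ Subgroup.normalizer (P : Set G) := inv_mem hg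
  rw [Subgroup.mem_normalizer_iff] at hg'
  have := hg' x
  simpa using this.symm

theorem mem_normalizer_iff_cj_eq {g : G} {P : Subgroup G} :
    g ∈ Subgroup.normalizer (P : Set G) ↔ cj g P = P := by
  refine ⟨cj_eq_self_of_mem_normalizer, fun h => ?_⟩
  rw [Subgroup.mem_normalizer_iff]
  intro x
  constructor
  · intro hx
    rw [← h]; exact conj_mem_cj hx
  · intro hx
    rw [← h] at hx
    exact conj_mem_cj_iff.mp hx

theorem cj_eq_self_of_mem {g : G} {P : Subgroup G} (hg : g ∈ P) : cj g P = P :=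
  cj_eq_self_of_mem_normalizer (Subgroup.le_normalizer hg)

theorem cj_le_of_mem {g : G} {P H : Subgroup G} (hP : P ≤ H) (hg : g ∈ H) : cj g P ≤ H := by
  intro x hx
  rw [mem_cj] at hx
  have h1 := hP hx
  have : x = g * (g⁻¹ * x * g) * g⁻¹ := by group
  rw [this]
  exact H.mul_mem (H.mul_mem hg h1) (H.inv_mem hg)

theorem cj_coe (g : G) (P : Subgroup G) :
    ((cj g P : Subgroup G) : Set G) = (fun a => g * a * g⁻¹) '' (P : Set G) := by
  ext x
  simp only [SetLike.mem_coe, Set.mem_image]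
  constructor
  · intro hx
    exact ⟨g⁻¹ * x * g, mem_cj.mp hx, by group⟩
  · rintro ⟨a, ha, rfl⟩
    exact conj_mem_cj ha

/-- The group isomorphism `P ≃* g P g⁻¹`. -/
noncomputable def cjEquiv (g : G) (P : Subgroup G) : P ≃* cj g P :=
  (MulAut.conj g).subgroupMap P

theorem card_cj (g : G) (P : Subgroup G) : Nat.card (cj g P) = Nat.card P :=
  (Nat.card_congr (cjEquiv g P).toEquiv).symm

theorem isPGroup_cj {p : ℕ} {g : G} {P : Subgroup G} (hP : IsPGroup p P) : IsPGroup p (cj g P) :=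
  hP.map _

theorem isPGroup_cj_iff {p : ℕ} {g : G} {P : Subgroup G} : IsPGroup p (cj g P) ↔ IsPGroup p P := by
  refine ⟨fun h => ?_, isPGroup_cj⟩
  have := isPGroup_cj (g := g⁻¹) h
  rwa [cj_inv_cj] at this

theorem relIndex_cj (g : G) (H K : Subgroup G) : (cj g H).relIndex (cj g K) = H.relIndex K :=
  Subgroup.relIndex_map_map_of_injective H K (MulAut.conj g).injective

theorem cj_closure (g : G) (A : Set G) :
    cj g (Subgroup.closure A) = Subgroup.closure ((fun a => g * a * g⁻¹) '' A) := by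
  unfold cj
  rw [MonoidHom.map_closure]
  rfl

theorem cj_sup (g : G) (P Q : Subgroup G) : cj g (P ⊔ Q) = cj g P ⊔ cj g Q :=
  Subgroup.map_sup P Q _

theorem cj_commutator (g : G) (P Q : Subgroup G) : cj g ⁅P, Q⁆ = ⁅cj g P, cj g Q⁆ :=
  Subgroup.map_commutator P Q _

end Cfsg.Agent.Lib.Helper33
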