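import Cfsg.Agent.Lib.Helper33.CentricNormal

/-!
# Elements stabilizing a normal chain `U ≥ P ≥ 1` (helper33 library)

Main result `exists_centralizer_mul_mem_normalizer_of_stab`: in a finite group with Sylow `p`-subgroup `T`, normal subgroups
`P ≤ U` with `P` a `p`-group, if `h` acts trivially on `U/P` then `c h` normalizes `T ∩ C(P)` for some `c ∈ C(U)`.
-/

set_option autoImplicit false

namespace Cfsg.Agent.Lib.Helper33

variable {G : Type*} [Group G] {p : ℕ}

/-- A proper subgroup of a finite `p`-group `Q` is properly contained in its normalizer in `Q`. -/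
theorem exists_mem_normalizer_not_mem_of_lt [Fact p.Prime] [Finite G] {P Q : Subgroup G}
    (hQ : IsPGroup p Q) (hlt : P < Q) :
    ∃ x, x ∈ Q ⊓ Subgroup.normalizer (P : Set G) ∧ x ∉ P := by
  have hP : P ≤ Q := hlt.le
  have : Group.IsNilpotent Q := hQ.isNilpotent
  have hnc : NormalizerCondition Q := Group.normalizerCondition_of_isNilpotent
  have hlt' : P.subgroupOf Q < ⊤ := by
    rw [lt_top_iff_ne_top]
    intro h
    apply hlt.ne
    apply le_antisymm hP
    intro x hx
    have : (⟨x, hx⟩ : Q) ∈ P.subgroupOf Q := by rw [h]; trivial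
    exact this
  have := hnc _ hlt'
  obtain ⟨x, hxN, hxP⟩ := SetLike.exists_of_lt this
  rw [Subgroup.mem_normalizer_iff] at hxN
  refine ⟨(x : G), Subgroup.mem_inf.mpr ⟨x.2, ?_⟩, hxP⟩
  rw [Subgroup.mem_normalizer_iff]
  intro y
  constructor
  · intro hy
    have := (hxN ⟨y, hP hy⟩).mp hy
    exact this
  · intro hy
    have hyS : y ∈ Q := by
      have h1 := hP hy
      have : y = (x : G)⁻¹ * ((x : G) * y * (x : G)⁻¹) * (x : G) := by group
      rw [this]
      exact mul_mem (mul_mem (inv_mem x.2) h1) x.2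
    exact (hxN ⟨y, hyS⟩).mpr hy

/-- If `H` normalizes `M ≤ H` and `T` is a Sylow `p`-subgroup of `H` then `T ∩ M` is a Sylow `p`-subgroup of `M`. -/
theorem SylIn.inf_of_normal [Fact p.Prime] [Finite G] {T H M : Subgroup G} (hT : SylIn p T H)
    (hM : M ≤ H) (hn : H ≤ Subgroup.normalizer (M : Set G)) : SylIn p (T ⊓ M) M := by
  obtain R : Sylow p M := Classical.arbitrary _
  have hR := sylIn_of_sylow R
  obtain ⟨n, hnH, hle⟩ := hT.exists_cj_le (hR.le.trans hM) hR.isPGroup
  have hnM : Helper33.cj n M = M := cj_eq_self_of_mem_normalizer (hn hnH)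
  have h1 : SylIn p (Helper33.cj n ((R : Subgroup M).map M.subtype)) M := by
    have := hR.cj n
    rwa [hnM] at this
  have h2 : Helper33.cj n ((R : Subgroup M).map M.subtype) ≤ T ⊓ M := le_inf hle h1.le
  have h3 := h1.eq_of_le inf_le_right (hT.isPGroup.to_le inf_le_left) h2
  rw [h3]
  exact h1

/-- counting form of the second isomorphism theorem -/
theorem relIndex_sup_eq_relIndex_of_normal [Finite G] (H F : Subgroup G) [F.Normal] :
    H.relIndex (H ⊔ F) = H.relIndex F := by
  have h1 := Subgroup.relIndex_mul_relIndex (⊥ : Subgroup G) H (H ⊔ F) bot_le le_sup_left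
  have h2 := Subgroup.relIndex_mul_relIndex (⊥ : Subgroup G) F (H ⊔ F) bot_le le_sup_right
  have h3 := Subgroup.relIndex_mul_relIndex (⊥ : Subgroup G) (H ⊓ F) H bot_le inf_le_left
  have h4 := Subgroup.relIndex_mul_relIndex (⊥ : Subgroup G) (H ⊓ F) F bot_le inf_le_right
  rw [Subgroup.relIndex_bot_left] at h1 h2 h3 h4
  rw [Subgroup.relIndex_bot_left] at h1 h2 h3 h4
  have h5 : F.relIndex (H ⊔ F) = F.relIndex H := Subgroup.relIndex_sup_right H F
  have h6 : (H ⊓ F).relIndex H = F.relIndex H := by rw [inf_comm]; exact Subgroup.inf_relIndex_right F H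
  have h7 : (H ⊓ F).relIndex F = H.relIndex F := Subgroup.inf_relIndex_right H F
  rw [h5] at h2
  rw [h6] at h3
  rw [h7] at h4
  have hpos : 0 < Nat.card H := Nat.card_pos
  apply Nat.eq_of_mul_eq_mul_left hpos
  -- card H * relIndex H (H ⊔ F) = card (H ⊔ F) = card F * relIndex F H
  -- card H = card (H ⊓ F) * relIndex F H ; card F = card (H ⊓ F) * relIndex H F
  rw [h1, ← h2, ← h4, ← h3]
  ring

theorem pow_conj_of_mem_centralizer (P : Subgroup G) {b a : G}
    (hb : b ∈ Subgroup.centralizer (P : Set G)) (hπ : b * a * b⁻¹ * a⁻¹ ∈ P) (k : ℕ) :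
    b ^ k * a * (b ^ k)⁻¹ = (b * a * b⁻¹ * a⁻¹) ^ k * a := by
  induction k with
  | zero => simp
  | succ k ih =>
    have hcomm : (b * a * b⁻¹ * a⁻¹) ^ k * b = b * (b * a * b⁻¹ * a⁻¹) ^ k :=
      (Subgroup.mem_centralizer_iff.mp hb) _ (P.pow_mem hπ k)
    calc b ^ (k + 1) * a * (b ^ (k + 1))⁻¹ = b * (b ^ k * a * (b ^ k)⁻¹) * b⁻¹ := by
          rw [pow_succ']; group
      _ = b * ((b * a * b⁻¹ * a⁻¹) ^ k * a) * b⁻¹ := by rw [ih]
      _ = (b * (b * a * b⁻¹ * a⁻¹) ^ k) * (a * b⁻¹) := by group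
      _ = ((b * a * b⁻¹ * a⁻¹) ^ k * b) * (a * b⁻¹) := by rw [hcomm]
      _ = (b * a * b⁻¹ * a⁻¹) ^ k * (b * a * b⁻¹ * a⁻¹) * a := by group
      _ = (b * a * b⁻¹ * a⁻¹) ^ (k + 1) * a := by rw [pow_succ]

/-- the subgroup of elements acting trivially on `U/P` (for `P` normal) -/
def stabQuot (U P : Subgroup G) [P.Normal] : Subgroup G :=
  (Subgroup.centralizer ((U.map (QuotientGroup.mk' P) : Subgroup (G ⧸ P)) : Set (G ⧸ P))).comap
    (QuotientGroup.mk' P)

theorem mem_stabQuot {U P : Subgroup G} [P.Normal] {x : G} :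
    x ∈ stabQuot U P ↔ ∀ a ∈ U, x * a * x⁻¹ * a⁻¹ ∈ P := by
  unfold stabQuot
  rw [Subgroup.mem_comap, Subgroup.mem_centralizer_iff]
  constructor
  · intro h a ha
    have h1 := h (QuotientGroup.mk' P a) (Subgroup.mem_map_of_mem _ ha)
    rw [← QuotientGroup.eq_one_iff, ← QuotientGroup.mk'_apply]
    simp only [map_mul, map_inv]
    rw [← h1]
    group
  · rintro h _ ⟨a, ha, rfl⟩
    have h1 := h a ha
    rw [← QuotientGroup.eq_one_iff, ← QuotientGroup.mk'_apply] at h1
    simp only [map_mul, map_inv] at h1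
    calc QuotientGroup.mk' P a * QuotientGroup.mk' P x
        = (QuotientGroup.mk' P x * QuotientGroup.mk' P a * (QuotientGroup.mk' P x)⁻¹ *
            (QuotientGroup.mk' P a)⁻¹)⁻¹ * (QuotientGroup.mk' P x * QuotientGroup.mk' P a) := by group
      _ = QuotientGroup.mk' P x * QuotientGroup.mk' P a := by rw [h1]; group

theorem stabQuot_normal (U P : Subgroup G) [U.Normal] [P.Normal] : (stabQuot U P).Normal := by
  unfold stabQuot
  have h1 : (U.map (QuotientGroup.mk' P)).Normal :=
    Subgroup.Normal.map inferInstance _ (QuotientGroup.mk'_surjective P)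
  have h2 : (Subgroup.centralizer ((U.map (QuotientGroup.mk' P) : Subgroup (G ⧸ P)) : Set (G ⧸ P))).Normal :=
    Subgroup.normal_centralizer
  exact h2.comap _

/-- In a finite group with Sylow `p`-subgroup `T` and normal subgroups `P ≤ U`, `P` a `p`-group: if `h` acts trivially on
`U/P`, then `c h` normalizes `T ∩ C(P)` for some `c ∈ C(U)`. -/
theorem exists_centralizer_mul_mem_normalizer_of_stab [hp : Fact p.Prime] [Finite G] (T : Sylow p G)
    (U P : Subgroup G) [hUn : U.Normal] [hPn : P.Normal] (hP : IsPGroup p P) (hPU : P ≤ U) {h : G}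
    (hh : ∀ a ∈ U, h * a * h⁻¹ * a⁻¹ ∈ P) :
    ∃ c ∈ Subgroup.centralizer (U : Set G),
      c * h ∈ Subgroup.normalizer
        ((((T : Subgroup G) ⊓ Subgroup.centralizer (P : Set G) : Subgroup G)) : Set G) := by
  have hCn : (Subgroup.centralizer (P : Set G)).Normal := Subgroup.normal_centralizer
  have hZn : (Subgroup.centralizer (U : Set G)).Normal := Subgroup.normal_centralizer
  have hZC : Subgroup.centralizer (U : Set G) ≤ Subgroup.centralizer (P : Set G) :=
    Subgroup.centralizer_le hPU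
  have hKn : (stabQuot U P).Normal := stabQuot_normal U P
  have htopn : ∀ M : Subgroup G, M.Normal → (⊤ : Subgroup G) ≤ Subgroup.normalizer (M : Set G) := by
    intro M hM
    rw [Subgroup.normalizer_eq_top (H := M)]
  have hY : SylIn p ((T : Subgroup G) ⊓ Subgroup.centralizer (P : Set G))
      (Subgroup.centralizer (P : Set G)) := (sylIn_top T).inf_of_normal le_top (htopn _ hCn)
  have hYp : IsPGroup p ((T : Subgroup G) ⊓ Subgroup.centralizer (P : Set G) : Subgroup G) := hY.isPGroup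
  -- the quotient by `C(U)`
  have hYb : SylIn p (((T : Subgroup G) ⊓ Subgroup.centralizer (P : Set G)).map
      (QuotientGroup.mk' (Subgroup.centralizer (U : Set G))))
      ((Subgroup.centralizer (P : Set G)).map (QuotientGroup.mk' (Subgroup.centralizer (U : Set G)))) := by
    refine ⟨Subgroup.map_mono inf_le_right, hYp.map _, ?_⟩
    rw [Subgroup.relIndex_map_map, QuotientGroup.ker_mk', sup_eq_left.mpr hZC]
    intro hdvd
    exact hY.not_dvd (dvd_trans hdvd (Subgroup.relIndex_dvd_of_le_left _ le_sup_left))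
  have hBn : (Subgroup.centralizer (P : Set G) ⊓ stabQuot U P).Normal := Subgroup.normal_inf_normal _ _
  have hBbn : ((Subgroup.centralizer (P : Set G) ⊓ stabQuot U P).map
      (QuotientGroup.mk' (Subgroup.centralizer (U : Set G)))).Normal :=
    hBn.map _ (QuotientGroup.mk'_surjective _)
  have hBbp : IsPGroup p ((Subgroup.centralizer (P : Set G) ⊓ stabQuot U P).map
      (QuotientGroup.mk' (Subgroup.centralizer (U : Set G)))) := by
    obtain ⟨m, hm⟩ := hP.exists_card_eq
    rintro ⟨_, b, hb, rfl⟩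
    refine ⟨m, ?_⟩
    apply Subtype.ext
    rw [Subgroup.coe_pow, Subgroup.coe_one, ← map_pow, QuotientGroup.mk'_apply, QuotientGroup.eq_one_iff,
      Subgroup.mem_centralizer_iff]
    intro a ha
    have hπ : b * a * b⁻¹ * a⁻¹ ∈ P := (mem_stabQuot.mp hb.2) a ha
    have h1 := pow_conj_of_mem_centralizer P hb.1 hπ (p ^ m)
    have h2 : (b * a * b⁻¹ * a⁻¹) ^ (p ^ m) = 1 := by
      have := pow_card_eq_one' (G := P) (x := ⟨_, hπ⟩)
      rw [hm] at this
      simpa using congrArg Subtype.val this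
    rw [h2, one_mul] at h1
    calc a * b ^ p ^ m = (b ^ p ^ m * a * (b ^ p ^ m)⁻¹)  * b ^ p ^ m := by rw [h1]
      _ = b ^ p ^ m * a := by group
  have hBY : (Subgroup.centralizer (P : Set G) ⊓ stabQuot U P).map
      (QuotientGroup.mk' (Subgroup.centralizer (U : Set G))) ≤
      ((T : Subgroup G) ⊓ Subgroup.centralizer (P : Set G)).map
        (QuotientGroup.mk' (Subgroup.centralizer (U : Set G))) := by
    obtain ⟨q, -, hle⟩ := hYb.exists_cj_le (Subgroup.map_mono inf_le_left) hBbp
    have hq : q ∈ Subgroup.normalizer ((((Subgroup.centralizer (P : Set G) ⊓ stabQuot U P).map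
        (QuotientGroup.mk' (Subgroup.centralizer (U : Set G))) :
        Subgroup (G ⧸ Subgroup.centralizer (U : Set G)))) : Set (G ⧸ Subgroup.centralizer (U : Set G))) := by
      rw [Subgroup.normalizer_eq_top]
      exact Subgroup.mem_top q
    rwa [cj_eq_self_of_mem_normalizer hq] at hle
  -- `h Y h⁻¹ ≤ Y C(U)`
  have hhK : h ∈ stabQuot U P := mem_stabQuot.mpr hh
  have hcjle : cj h ((T : Subgroup G) ⊓ Subgroup.centralizer (P : Set G)) ≤
      ((T : Subgroup G) ⊓ Subgroup.centralizer (P : Set G)) ⊔ Subgroup.centralizer (U : Set G) := by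
    intro x hx
    rw [mem_cj] at hx
    -- x = h y h⁻¹ with y = h⁻¹ x h ∈ Y
    have hb : x * (h⁻¹ * x * h)⁻¹ ∈ Subgroup.centralizer (P : Set G) ⊓ stabQuot U P := by
      refine Subgroup.mem_inf.mpr ⟨?_, ?_⟩
      · have h1 : x ∈ Subgroup.centralizer (P : Set G) := by
          have := hCn.conj_mem _ hx.2 h
          have e : h * (h⁻¹ * x * h) * h⁻¹ = x := by group
          rwa [e] at this
        exact mul_mem h1 (inv_mem hx.2)
      · have e : x * (h⁻¹ * x * h)⁻¹ = h * ((h⁻¹ * x * h) * h⁻¹ * (h⁻¹ * x * h)⁻¹) := by group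
        rw [e]
        exact mul_mem hhK (hKn.conj_mem _ (inv_mem hhK) _)
    have h2 := hBY (Subgroup.mem_map_of_mem _ hb)
    rw [← Subgroup.mem_comap, Subgroup.comap_map_eq, QuotientGroup.ker_mk'] at h2
    have e : x = (x * (h⁻¹ * x * h)⁻¹) * (h⁻¹ * x * h) := by group
    rw [e]
    exact mul_mem h2 (Subgroup.mem_sup_left hx)
  have hsyl2 : SylIn p ((T : Subgroup G) ⊓ Subgroup.centralizer (P : Set G))
      (((T : Subgroup G) ⊓ Subgroup.centralizer (P : Set G)) ⊔ Subgroup.centralizer (U : Set G)) := by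
    refine ⟨le_sup_left, hYp, ?_⟩
    rw [relIndex_sup_eq_relIndex_of_normal, ← Subgroup.inf_relIndex_right]
    have h1 : ((T : Subgroup G) ⊓ Subgroup.centralizer (P : Set G)) ⊓ Subgroup.centralizer (U : Set G) =
        (T : Subgroup G) ⊓ Subgroup.centralizer (U : Set G) := by
      rw [inf_assoc, inf_eq_right.mpr hZC]
    rw [h1]
    exact ((sylIn_top T).inf_of_normal le_top (htopn _ hZn)).not_dvd
  obtain ⟨w, hw, hwle⟩ := hsyl2.exists_cj_le hcjle (isPGroup_cj hYp)
  obtain ⟨y₀, hy₀, c₁, hc₁, rfl⟩ := exists_mul_of_mem_sup_normal hw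
  refine ⟨c₁, hc₁, ?_⟩
  rw [mem_normalizer_iff_cj_eq]
  have h1 : cj (y₀ * c₁ * h) ((T : Subgroup G) ⊓ Subgroup.centralizer (P : Set G)) =
      (T : Subgroup G) ⊓ Subgroup.centralizer (P : Set G) := by
    apply Subgroup.eq_of_le_of_card_ge
    · rw [cj_mul]; exact hwle
    · rw [card_cj]
  have h2 : cj (c₁ * h) ((T : Subgroup G) ⊓ Subgroup.centralizer (P : Set G)) =
      cj y₀⁻¹ (cj (y₀ * c₁ * h) ((T : Subgroup G) ⊓ Subgroup.centralizer (P : Set G))) := by
    rw [← cj_mul]
    congr 1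
    group
  rw [h2, h1]
  exact cj_eq_self_of_mem (inv_mem hy₀)

end Cfsg.Agent.Lib.Helper33
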