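import Mathlib
import Cfsg.Prelude.Def_Characters
import Cfsg.Agent.Lib.Helper79.Schur
import Cfsg.Agent.Lib.Helper78.CharValues

/-!
# PF sec.10 T-side module [TS-V1] (helper33, for helper60)

An irreducible character `θ` of `K` whose kernel does not contain the normal subgroup `H` vanishes
at every `x` with `C_H(x) = 1`.
-/

set_option autoImplicit false
set_option linter.unusedSectionVars false

namespace Cfsg.Agent.Lib.Helper33.PFTenT

open Cfsg

/-- For `θ` irreducible and `H` normal: `∑_{h ∈ H} θ (h y) = (∑_{h ∈ H} θ h) θ y / θ 1`. -/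
theorem sum_normal_mul {K : Type*} [Group K] [Fintype K] (H : Subgroup K) [H.Normal] [Fintype H]
    (θ : K → ℂ) (hθ : IsIrrCharacter K θ) (y : K) :
    ∑ h : H, θ ((h : K) * y) = (∑ h : H, θ (h : K)) * θ y / θ 1 := by
  classical
  have hcard : (Nat.card K : ℂ) ≠ 0 := by
    have : 0 < Nat.card K := Nat.card_pos
    exact_mod_cast this.ne'
  -- conjugation invariance of the left side
  have hconj : ∀ a : K, ∑ h : H, θ (a * (h : K) * a⁻¹ * y) = ∑ h : H, θ ((h : K) * y) := by
    intro a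
    have hmem : ∀ h : H, a * (h : K) * a⁻¹ ∈ H := fun h => ‹H.Normal›.conj_mem _ h.2 a
    apply Fintype.sum_bijective (fun h : H => (⟨a * (h : K) * a⁻¹, hmem h⟩ : H))
    · constructor
      · intro h h' hh
        have := congrArg Subtype.val hh
        simp only [mul_left_inj, mul_right_inj] at this
        exact Subtype.ext this
      · intro h
        refine ⟨⟨a⁻¹ * (h : K) * a, ?_⟩, ?_⟩
        · have := ‹H.Normal›.conj_mem _ h.2 a⁻¹
          simpa using this
        · apply Subtype.ext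
          simp [mul_assoc]
    · intro h
      rfl
  have h1 : ∑ a : K, ∑ h : H, θ (a * (h : K) * a⁻¹ * y) =
      (Nat.card K : ℂ) * ∑ h : H, θ ((h : K) * y) := by
    rw [Finset.sum_congr rfl (fun a _ => hconj a), Finset.sum_const, Finset.card_univ,
      nsmul_eq_mul, Nat.card_eq_fintype_card]
  have h2 : ∑ a : K, ∑ h : H, θ (a * (h : K) * a⁻¹ * y) =
      (Nat.card K : ℂ) * ((∑ h : H, θ (h : K)) * θ y / θ 1) := by
    rw [Finset.sum_comm]
    have h3 : ∀ h : H, ∑ a : K, θ (a * (h : K) * a⁻¹ * y) =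
        (Nat.card K : ℂ) * θ (h : K) * θ y / θ 1 :=
      fun h => Cfsg.Agent.Lib.Helper79.irr_sum_conj_mul ⟨θ, hθ⟩ (h : K) y
    rw [Finset.sum_congr rfl (fun h _ => h3 h), Finset.sum_mul, Finset.sum_div, Finset.mul_sum]
    apply Finset.sum_congr rfl
    intro h _
    ring
  rw [h1] at h2
  exact mul_left_cancel₀ hcard h2

/-- MODULE [TS-V1] -/
theorem irr_vanish_of_fpf {K : Type*} [Group K] [Fintype K] (H : Subgroup K) [H.Normal]
    (θ : K → ℂ) (hθ : IsIrrCharacter K θ) (hH : ∃ h ∈ H, θ h ≠ θ 1)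
    (x : K) (hx : ∀ h ∈ H, h * x = x * h → h = 1) : θ x = 0 := by
  classical
  have hfin : Fintype H := Fintype.ofFinite H
  have hθ1 : θ 1 ≠ 0 := Cfsg.Agent.Lib.Helper78.IsIrrCharacter.apply_one_ne_zero hθ
  have hcf : IsClassFunction K θ :=
    Cfsg.Agent.Lib.Helper78.IsCharacter.isClassFunction
      (Cfsg.Agent.Lib.Helper78.IsIrrCharacter.isCharacter hθ)
  -- the sum of `θ` over `H` vanishes
  have hs : ∑ h : H, θ (h : K) = 0 := by
    by_contra hne
    obtain ⟨y, hyH, hy⟩ := hH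
    apply hy
    have h1 := sum_normal_mul H θ hθ y
    have h2 : ∑ h : H, θ ((h : K) * y) = ∑ h : H, θ (h : K) := by
      apply Fintype.sum_bijective (fun h : H => h * ⟨y, hyH⟩)
      · exact Group.mulRight_bijective _
      · intro h
        rfl
    rw [h2] at h1
    rw [eq_div_iff hθ1] at h1
    exact (mul_left_cancel₀ hne h1).symm
  have h0 : ∑ h : H, θ ((h : K) * x) = 0 := by
    rw [sum_normal_mul H θ hθ x, hs, zero_mul, zero_div]
  -- every element of `H x` is conjugate to `x`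
  have hmem : ∀ h : H, (h : K) * x * (h : K)⁻¹ * x⁻¹ ∈ H := by
    intro h
    have h1 : x * (h : K)⁻¹ * x⁻¹ ∈ H := ‹H.Normal›.conj_mem _ (H.inv_mem h.2) x
    have h2 := H.mul_mem h.2 h1
    have h3 : (h : K) * (x * (h : K)⁻¹ * x⁻¹) = (h : K) * x * (h : K)⁻¹ * x⁻¹ := by group
    rwa [h3] at h2
  have hinj : Function.Injective (fun h : H => (⟨(h : K) * x * (h : K)⁻¹ * x⁻¹, hmem h⟩ : H)) := by
    intro h h' hh
    have h1 : (h : K) * x * (h : K)⁻¹ * x⁻¹ = (h' : K) * x * (h' : K)⁻¹ * x⁻¹ :=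
      congrArg Subtype.val hh
    have h2 : (h : K) * x * (h : K)⁻¹ = (h' : K) * x * (h' : K)⁻¹ := mul_right_cancel h1
    have h3 : ((h' : K)⁻¹ * (h : K)) * x = x * ((h' : K)⁻¹ * (h : K)) := by
      calc ((h' : K)⁻¹ * (h : K)) * x = (h' : K)⁻¹ * ((h : K) * x * (h : K)⁻¹) * (h : K) := by group
        _ = (h' : K)⁻¹ * ((h' : K) * x * (h' : K)⁻¹) * (h : K) := by rw [h2]
        _ = x * ((h' : K)⁻¹ * (h : K)) := by group
    have h4 := hx _ (H.mul_mem (H.inv_mem h'.2) h.2) h3
    apply Subtype.ext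
    exact (inv_mul_eq_one.mp h4).symm
  have hbij := Finite.injective_iff_bijective.mp hinj
  have h5 : ∑ h : H, θ ((h : K) * x) = ∑ h : H, θ x := by
    symm
    apply Fintype.sum_bijective _ hbij
    intro h
    show θ x = θ ((h : K) * x * (h : K)⁻¹ * x⁻¹ * x)
    rw [inv_mul_cancel_right]
    exact (hcf x (h : K)).symm
  rw [h5, Finset.sum_const, Finset.card_univ, nsmul_eq_mul] at h0
  rcases mul_eq_zero.mp h0 with h | h
  · exfalso
    have : (Fintype.card H : ℂ) ≠ 0 := by
      have : 0 < Fintype.card H := Fintype.card_pos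
      exact_mod_cast this.ne'
    exact this h
  · exact h

end Cfsg.Agent.Lib.Helper33.PFTenT
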