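import Cfsg.Agent.Lib.Helper33.FusionTransport
import Cfsg.Prelude.Def_Solvable

/-!
# Properties of all sections of a group; constrained sections (helper33 library)

* `SecProp Pr G`: every section `Y` of `G` (image of a subgroup of `G` under a surjective homomorphism, in the same universe)
  satisfies `Pr Y`; inherited by subgroups and quotients; obtained from the "`K`, `R`" form used in the frozen statements.
* `Constrained p Y`: `C_Y(O_p(Y)) ≤ O_p(Y)`; invariant under isomorphism.
-/

set_option autoImplicit false

namespace Cfsg.Agent.Lib.Helper33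

universe u

section secprop

variable (Pr : ∀ (Y : Type u) [Group Y], Prop)

/-- every section of `G` has the property `Pr` -/
def SecProp (G : Type u) [Group G] : Prop :=
  ∀ (K : Subgroup G) (Y : Type u) [Group Y] (φ : ↥K →* Y), Function.Surjective φ → Pr Y

variable {Pr}

theorem secProp_of_sections {G : Type u} [Group G] [Finite G]
    (hiso : ∀ (X Y : Type u) [Group X] [Group Y] [Finite X], (X ≃* Y) → Pr X → Pr Y)
    (h : ∀ (K R : Subgroup G) [_hR : (R.subgroupOf K).Normal], Pr (↥K ⧸ R.subgroupOf K)) :
    SecProp Pr G := by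
  intro K Y _ φ hφ
  have hR : (φ.ker.map K.subtype).subgroupOf K = φ.ker :=
    Subgroup.comap_map_eq_self_of_injective K.subtype_injective φ.ker
  have : ((φ.ker.map K.subtype).subgroupOf K).Normal := by rw [hR]; infer_instance
  have h1 := h K (φ.ker.map K.subtype)
  exact hiso _ _
    ((QuotientGroup.quotientMulEquivOfEq hR).trans (QuotientGroup.quotientKerEquivOfSurjective φ hφ)) h1

theorem SecProp.self {G : Type u} [Group G] (h : SecProp Pr G) : Pr G :=
  h ⊤ G (Subgroup.topEquiv (G := G)).toMonoidHom (Subgroup.topEquiv (G := G)).surjective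

theorem SecProp.subgroup {G : Type u} [Group G] (h : SecProp Pr G) (N : Subgroup G) : SecProp Pr ↥N := by
  intro K Y _ φ hφ
  exact h (K.map N.subtype) Y
    (φ.comp (K.equivMapOfInjective N.subtype N.subtype_injective).symm.toMonoidHom)
    (hφ.comp (K.equivMapOfInjective N.subtype N.subtype_injective).symm.surjective)

theorem SecProp.of_surjective {G G' : Type u} [Group G] [Group G'] (h : SecProp Pr G) (f : G →* G')
    (hf : Function.Surjective f) : SecProp Pr G' := by
  intro K Y _ φ hφ
  exact h (K.comap f) Y (φ.comp (f.subgroupComap K))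
    (hφ.comp (f.subgroupComap_surjective_of_surjective K hf))

theorem SecProp.quotient {G : Type u} [Group G] (h : SecProp Pr G) (M : Subgroup G) [M.Normal] :
    SecProp Pr (G ⧸ M) :=
  h.of_surjective (QuotientGroup.mk' M) (QuotientGroup.mk'_surjective M)

theorem SecProp.mono {Pr' : ∀ (Y : Type u) [Group Y], Prop} {G : Type u} [Group G] [Finite G]
    (h : SecProp Pr G) (himp : ∀ (Y : Type u) [Group Y] [Finite Y], Pr Y → Pr' Y) : SecProp Pr' G := by
  intro K Y _ φ hφ
  have : Finite Y := Finite.of_surjective φ hφ
  exact himp Y (h K Y φ hφ)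

end secprop

section constrained

variable (p : ℕ)

/-- `C_Y(O_p(Y)) ≤ O_p(Y)` -/
def Constrained (Y : Type*) [Group Y] : Prop :=
  Subgroup.centralizer ((Cfsg.pCore p Y : Subgroup Y) : Set Y) ≤ Cfsg.pCore p Y

variable {p}

theorem pCore_map_equiv {X Y : Type*} [Group X] [Group Y] (e : X ≃* Y) :
    (Cfsg.pCore p X).map e.toMonoidHom = Cfsg.pCore p Y := by
  apply le_antisymm
  · unfold Cfsg.pCore
    rw [Subgroup.map_le_iff_le_comap, sSup_le_iff]
    rintro N ⟨hNn, hNp⟩
    rw [← Subgroup.map_le_iff_le_comap]
    apply le_sSup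
    refine ⟨?_, hNp.map _⟩
    exact hNn.map e.toMonoidHom e.surjective
  · unfold Cfsg.pCore
    rw [sSup_le_iff]
    rintro N ⟨hNn, hNp⟩
    have h1 : N.comap e.toMonoidHom ≤ sSup {N : Subgroup X | N.Normal ∧ IsPGroup p N} := by
      apply le_sSup
      refine ⟨hNn.comap _, ?_⟩
      exact hNp.comap_of_injective e.toMonoidHom e.injective
    have h2 := Subgroup.map_mono (f := e.toMonoidHom) h1
    rwa [Subgroup.map_comap_eq_self_of_surjective e.surjective] at h2

theorem constrained_of_mulEquiv {X Y : Type*} [Group X] [Group Y] (e : X ≃* Y)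
    (h : Constrained p X) : Constrained p Y := by
  intro y hy
  have h1 : e.symm y ∈ Subgroup.centralizer ((Cfsg.pCore p X : Subgroup X) : Set X) := by
    rw [Subgroup.mem_centralizer_iff]
    intro x hx
    apply e.injective
    rw [map_mul, map_mul, e.apply_symm_apply]
    have hex : e x ∈ Cfsg.pCore p Y := by
      rw [← pCore_map_equiv e]
      exact Subgroup.mem_map_of_mem _ hx
    exact (Subgroup.mem_centralizer_iff.mp hy) (e x) hex
  have h2 := h h1
  rw [← pCore_map_equiv e]
  exact ⟨e.symm y, h2, e.apply_symm_apply y⟩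

end constrained

end Cfsg.Agent.Lib.Helper33
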