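import Mathlib
import Cfsg.Prelude.Def_OddOrderLocal
import Cfsg.Agent.Lib.Helper4.PFInterface
import Cfsg.Agent.Lib.Helper4.PFNineA

/-!
# PROJECT PF, Peterfalvi section 13, group part (A) (helper33)

`N_G(W₁) = C_G(W₁) = T_F W₂` (Peterfalvi (13.2)(c)-type statement, the frozen row S1548), derived
from the TI-property of `A₀(T)` with normalizer `T`, the commutativity of `Q = T_F`
(both from S1543 for `T`), and `C_V(Q) = 1` (S1547 for `T`), using the landed
Frobenius-Wielandt fixed point formula S1545.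
-/

set_option autoImplicit false

namespace Cfsg.Agent.Lib.Helper33.PF13

open Cfsg Cfsg.Agent.Lib.Helper4.PF Cfsg.Agent.Lib.Helper4

variable {G : Type*} [Group G]

section
variable {T W₁ W₂ V : Subgroup G} (hTP : IsTypePWith T W₂ V W₁)
include hTP

/-- `W₁ ∖ {1} ⊆ A₀(T)` for type-P data `(T, W₂, V, W₁)`. -/
theorem mem_typeA0_of_mem_W₁ {x : G} (hx : x ∈ W₁) (hx1 : x ≠ 1) : x ∈ typeA0 T := by
  have hxQ : x ∈ fittingHallOf T := PF9.W₂_le_H hTP hx
  have hxD : x ∈ ⁅T, T⁆ := PF9.H_le_der hTP hxQ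
  have hxT : x ∈ T := PF9.der_le hTP hxD
  refine Or.inl ?_
  unfold typeA
  split_ifs with hI
  · exact ⟨hxT, hx1, x, hxQ, hx1, rfl⟩
  · refine ⟨hxD, hx1, x, ?_, hx1, rfl⟩
    unfold typeCore
    split_ifs
    · exact hxD
    · exact hxQ

/-- `N_G(W₁) ≤ T` from the TI-property of `A₀(T)`. -/
theorem normalizer_W₁_le (hTI : IsTISubset (typeA0 T))
    (hN : Subgroup.normalizer (typeA0 T) = T) :
    Subgroup.normalizer (W₁ : Set G) ≤ T := by
  intro g hg
  by_contra hgT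
  have hgN : g ∉ Subgroup.normalizer (typeA0 T) := by rw [hN]; exact hgT
  have hW₁ne : W₁ ≠ ⊥ := hTP.selfNormalizing.2.1
  obtain ⟨x, hx1⟩ := (Subgroup.ne_bot_iff_exists_ne_one (H := W₁)).1 hW₁ne
  have hx1' : (x : G) ≠ 1 := fun h0 => hx1 (Subtype.ext h0)
  have hgx : g * x * g⁻¹ ∈ W₁ := ((Subgroup.mem_normalizer_iff.1 hg) x).1 x.2
  have hgx1 : g * x * g⁻¹ ≠ 1 := by
    intro h0
    apply hx1'
    have : (x : G) = g⁻¹ * (g * x * g⁻¹) * g := by group
    rw [this, h0]; group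
  exact hx1' (hTI g hgN x (mem_typeA0_of_mem_W₁ hTP x.2 hx1')
    (mem_typeA0_of_mem_W₁ hTP hgx hgx1))

end

section
variable [Finite G] {T W₁ W₂ V : Subgroup G} (hTP : IsTypePWith T W₂ V W₁)
include hTP

/-- `C_V(W₁) = 1`, from `C_V(Q) = 1` and the Frobenius-Wielandt formula S1545 applied to
the Frobenius group `C_V(W₁) W₂` acting on `Q = T_F`. -/
theorem V_inf_centralizer_W₁
    (hCV : V ⊓ Subgroup.centralizer (fittingHallOf T : Set G) = ⊥) :
    V ⊓ Subgroup.centralizer (W₁ : Set G) = ⊥ := by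
  by_contra hne
  set V₀ : Subgroup G := V ⊓ Subgroup.centralizer (W₁ : Set G) with hV₀
  set Q : Subgroup G := fittingHallOf T with hQ
  have hV₀V : V₀ ≤ V := inf_le_left
  have hcomm : ∀ a ∈ W₂, ∀ b ∈ W₁, a * b = b * a := hTP.selfNormalizing.2.2.2.1
  have hle : V₀ ⊔ W₂ ≤ V ⊔ W₂ := sup_le_sup_right hV₀V W₂
  have h := Cfsg.Agent.S1545.result V₀ W₂ Q hne hTP.W₁_ne
    (by
      rw [eq_bot_iff, ← PF9.U_inf_W₁ hTP]
      exact inf_le_inf_right W₂ hV₀V)
    (fun e he u hu => by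
      refine Subgroup.mem_inf.2 ⟨?_, ?_⟩
      · have := hTP.U_normal he
        rw [Subgroup.mem_normalizer_iff] at this
        exact (this u).1 hu.1
      · rw [Subgroup.mem_centralizer_iff]
        intro b hb
        have h1 : b * u = u * b := Subgroup.mem_centralizer_iff.1 hu.2 b hb
        have h2 : e * b = b * e := hcomm e he b hb
        have h3 : e⁻¹ * b = b * e⁻¹ := by
          have : b = e * b * e⁻¹ := by rw [h2]; group
          calc e⁻¹ * b = e⁻¹ * (e * b * e⁻¹) := by rw [← this]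
            _ = b * e⁻¹ := by group
        calc b * (e * u * e⁻¹) = (b * e) * u * e⁻¹ := by group
          _ = e * (b * u) * e⁻¹ := by rw [← h2]; group
          _ = e * u * (b * e⁻¹) := by rw [h1]; group
          _ = e * u * e⁻¹ * b := by rw [← h3]; group)
    (fun e he he1 u hu heu => PF9.W₁_fpf_U hTP he he1 hu.1 heu)
    (fun x hx h hh => PF9.conj_mem_fittingHallOf T (PF9.UW₁_le hTP (hle hx)) hh)
    (by
      rw [eq_bot_iff, ← (PF9.isComplIn_H_UW₁ hTP).2.2.1]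
      exact inf_le_inf_left _ hle)
    (PF9.H_isSolvable T)
    (Nat.Coprime.coprime_dvd_right (Subgroup.card_dvd_of_le hle) (PF9.coprime_H_UW₁ hTP))
  -- `C_Q(W₂) = W₁`
  rw [PF9.H_inf_centralizer_W₁ hTP] at h
  -- `C_Q(V₀ W₂) = W₁`
  have h1 : Q ⊓ Subgroup.centralizer ((V₀ ⊔ W₂ : Subgroup G) : Set G) = W₁ := by
    apply le_antisymm
    · rw [← PF9.H_inf_centralizer_W₁ hTP]
      intro x hx
      exact ⟨hx.1, Subgroup.centralizer_le
        (by exact_mod_cast (le_sup_right : W₂ ≤ V₀ ⊔ W₂)) hx.2⟩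
    · intro x hx
      refine Subgroup.mem_inf.2 ⟨PF9.W₂_le_H hTP hx, ?_⟩
      have : V₀ ⊔ W₂ ≤ Subgroup.centralizer ({x} : Set G) := by
        refine sup_le ?_ ?_
        · intro v hv
          rw [Subgroup.mem_centralizer_iff]
          intro y hy
          rw [Set.mem_singleton_iff] at hy
          subst hy
          exact Subgroup.mem_centralizer_iff.1 hv.2 y hx
        · intro w hw
          rw [Subgroup.mem_centralizer_iff]
          intro y hy
          rw [Set.mem_singleton_iff] at hy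
          subst hy
          exact (hcomm w hw y hx).symm
      rw [Subgroup.mem_centralizer_iff]
      intro y hy
      have := Subgroup.mem_centralizer_iff.1 (this hy) x (Set.mem_singleton x)
      exact this.symm
  rw [h1] at h
  have hpos : 0 < Nat.card ↥W₁ ^ Nat.card ↥W₂ := pow_pos Nat.card_pos _
  have h2 : Nat.card ↥Q = Nat.card ↥(Q ⊓ Subgroup.centralizer (V₀ : Set G)) :=
    Nat.eq_of_mul_eq_mul_left hpos h
  have h3 : Q ⊓ Subgroup.centralizer (V₀ : Set G) = Q :=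
    Subgroup.eq_of_le_of_card_ge inf_le_left h2.le
  have h4 : V₀ ≤ V ⊓ Subgroup.centralizer (Q : Set G) := by
    intro v hv
    refine Subgroup.mem_inf.2 ⟨hV₀V hv, ?_⟩
    rw [Subgroup.mem_centralizer_iff]
    intro y hy
    have hy' : y ∈ Q ⊓ Subgroup.centralizer (V₀ : Set G) := h3.symm ▸ hy
    exact (Subgroup.mem_centralizer_iff.1 hy'.2 v hv).symm
  rw [hCV] at h4
  exact hne (le_bot_iff.1 h4)

/-- `N_V(W₁) = 1`. -/
theorem V_inf_normalizer_W₁
    (hCV : V ⊓ Subgroup.centralizer (fittingHallOf T : Set G) = ⊥) :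
    V ⊓ Subgroup.normalizer (W₁ : Set G) = ⊥ := by
  have hV₀ := V_inf_centralizer_W₁ hTP hCV
  have hcomm : ∀ a ∈ W₂, ∀ b ∈ W₁, a * b = b * a := hTP.selfNormalizing.2.2.2.1
  rw [eq_bot_iff]
  intro v hv
  rw [Subgroup.mem_bot]
  obtain ⟨w, hw1⟩ := (Subgroup.ne_bot_iff_exists_ne_one (H := W₂)).1 hTP.W₁_ne
  have hw1' : (w : G) ≠ 1 := fun h0 => hw1 (Subtype.ext h0)
  -- `[v, w] ∈ V ⊓ C(W₁)`
  have hc : v * w * v⁻¹ * (w : G)⁻¹ ∈ V ⊓ Subgroup.centralizer (W₁ : Set G) := by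
    refine Subgroup.mem_inf.2 ⟨?_, ?_⟩
    · have hn := hTP.U_normal w.2
      rw [Subgroup.mem_normalizer_iff] at hn
      have : v * w * v⁻¹ * (w : G)⁻¹ = v * (w * v⁻¹ * (w : G)⁻¹) := by group
      rw [this]
      exact Subgroup.mul_mem _ hv.1 ((hn v⁻¹).1 (Subgroup.inv_mem _ hv.1))
    · rw [Subgroup.mem_centralizer_iff]
      intro x hx
      have hvn := Subgroup.mem_normalizer_iff.1 hv.2
      -- y := v⁻¹ x v ∈ W₁
      have hy : v⁻¹ * x * v ∈ W₁ := by
        have := (hvn (v⁻¹ * x * v)).2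
        apply this
        have e : v * (v⁻¹ * x * v) * v⁻¹ = x := by group
        rw [e]; exact hx
      have h1 : (w : G) * x = x * w := hcomm w w.2 x hx
      have h2 : (w : G) * (v⁻¹ * x * v) = (v⁻¹ * x * v) * w := hcomm w w.2 _ hy
      have h1' : (w : G)⁻¹ * x = x * (w : G)⁻¹ := by
        calc (w : G)⁻¹ * x = (w : G)⁻¹ * (x * w) * (w : G)⁻¹ := by group
          _ = (w : G)⁻¹ * (w * x) * (w : G)⁻¹ := by rw [h1]
          _ = x * (w : G)⁻¹ := by group
      calc x * (v * w * v⁻¹ * (w : G)⁻¹)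
          = v * ((v⁻¹ * x * v) * w) * v⁻¹ * (w : G)⁻¹ := by group
        _ = v * (w * (v⁻¹ * x * v)) * v⁻¹ * (w : G)⁻¹ := by rw [h2]
        _ = v * w * v⁻¹ * (x * (w : G)⁻¹) := by group
        _ = v * w * v⁻¹ * ((w : G)⁻¹ * x) := by rw [h1']
        _ = v * w * v⁻¹ * (w : G)⁻¹ * x := by group
  rw [hV₀, Subgroup.mem_bot] at hc
  have hwv : (w : G) * v = v * w := by
    have : v * w = (v * w * v⁻¹ * (w : G)⁻¹) * (w * v) := by group
    rw [this, hc, one_mul]
  exact PF9.W₁_fpf_U hTP w.2 hw1' hv.1 hwv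

/-- **Peterfalvi (13.3)(b)-type statement, the conclusion of the frozen row S1548**:
`N_G(W₁) = C_G(W₁) = T_F W₂`. -/
theorem normalizer_W₁_eq
    (hQab : ∀ a ∈ fittingHallOf T, ∀ b ∈ fittingHallOf T, a * b = b * a)
    (hTI : IsTISubset (typeA0 T)) (hN : Subgroup.normalizer (typeA0 T) = T)
    (hCV : V ⊓ Subgroup.centralizer (fittingHallOf T : Set G) = ⊥) :
    Subgroup.normalizer (W₁ : Set G) = Subgroup.centralizer (W₁ : Set G) ∧
      Subgroup.centralizer (W₁ : Set G) = fittingHallOf T ⊔ W₂ := by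
  have hcomm : ∀ a ∈ W₂, ∀ b ∈ W₁, a * b = b * a := hTP.selfNormalizing.2.2.2.1
  have hW₁Q : W₁ ≤ fittingHallOf T := PF9.W₂_le_H hTP
  -- `Q ⊔ W₂ ≤ C(W₁)`
  have h1 : fittingHallOf T ⊔ W₂ ≤ Subgroup.centralizer (W₁ : Set G) := by
    refine sup_le ?_ ?_
    · intro a ha
      rw [Subgroup.mem_centralizer_iff]
      intro b hb
      exact hQab b (hW₁Q hb) a ha
    · intro w hw
      rw [Subgroup.mem_centralizer_iff]
      intro b hb
      exact (hcomm w hw b hb).symm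
  have h2 : Subgroup.centralizer (W₁ : Set G) ≤ Subgroup.normalizer (W₁ : Set G) :=
    Subgroup.centralizer_le_normalizer (W₁ : Set G)
  -- `N(W₁) ≤ Q ⊔ W₂`
  have h3 : Subgroup.normalizer (W₁ : Set G) ≤ fittingHallOf T ⊔ W₂ := by
    intro g hg
    have hgT : g ∈ T := normalizer_W₁_le hTP hTI hN hg
    obtain ⟨d, hd, w, hw, rfl⟩ := hTP.W₁_compl.2.2.2 g hgT
    obtain ⟨a, ha, v, hv, rfl⟩ := hTP.U_compl.2.2.2 d hd
    have hvN : v ∈ V ⊓ Subgroup.normalizer (W₁ : Set G) := by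
      refine Subgroup.mem_inf.2 ⟨hv, ?_⟩
      have e : v = a⁻¹ * (a * v * w) * w⁻¹ := by group
      rw [e]
      refine Subgroup.mul_mem _ (Subgroup.mul_mem _ ?_ hg) ?_
      · exact Subgroup.inv_mem _ (h2 (h1 (Subgroup.mem_sup_left ha)))
      · exact Subgroup.inv_mem _ (h2 (h1 (Subgroup.mem_sup_right hw)))
    rw [V_inf_normalizer_W₁ hTP hCV, Subgroup.mem_bot] at hvN
    subst hvN
    rw [mul_one]
    exact Subgroup.mul_mem _ (Subgroup.mem_sup_left ha) (Subgroup.mem_sup_right hw)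
  exact ⟨le_antisymm (h3.trans h1) h2, le_antisymm (h2.trans h3) h1⟩

end

/-- The frozen row S1548 follows from S1543 and S1547 (both applied to the swapped pair). -/
theorem stmt1548_of [Finite G] (h1543 : Stmt1543 G) (h1547 : Stmt1547 G) : Stmt1548 G := by
  intro S T W₁ W₂ U V hS hT hSP hTP hST hII hS25 hT25
  have hST' : T ⊓ S = W₂ ⊔ W₁ := by rw [inf_comm, hST, sup_comm]
  obtain ⟨-, -, hEA, -, hTI, hN⟩ := h1543 T S W₂ W₁ V U hT hS hTP hSP hST' hII.symm hT25 hS25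
  have hCV := h1547 T S W₂ W₁ V U hT hS hTP hSP hST' hII.symm hT25 hS25
  refine normalizer_W₁_eq hTP ?_ hTI hN hCV
  intro a ha b hb
  have := hEA.1.is_comm.comm (⟨a, ha⟩ : fittingHallOf T) ⟨b, hb⟩
  exact congrArg Subtype.val this

end Cfsg.Agent.Lib.Helper33.PF13
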