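import Mathlib
import Cfsg.Agent.S1545
import Cfsg.Agent.S0041
import Cfsg.Agent.S3745
import Cfsg.Agent.Lib.Helper54.Coprime

/-!
# PROJECT PF, Peterfalvi section 13, group part (B) (helper33)

Abstract facts on a subgroup `E` acting without fixed points on a nilpotent subgroup `H`
(a Frobenius complement with its kernel), inside an ambient finite group in which `H` need not be
normal:

* `FpfOn.no_frob`: `E` contains no Frobenius subgroup `A ⋊ B` (Frobenius-Wielandt, landed S1545);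
* `FpfOn.isCyclic_of_comm`: abelian subgroups of `E` are cyclic (landed S0041);
* `FpfOn.eq_of_le_sup`: if `E ≤ Q ⋊ W₂` with `Q` abelian of prime exponent `q`, `|W₂| = p` prime,
  and `E` contains a subgroup `W₁ ≤ Q` of order `q`, then `E = W₁` or `E = W₁ × W₂^y`, `y ∈ Q`.
-/

set_option autoImplicit false

namespace Cfsg.Agent.Lib.Helper33.PF13

open Cfsg

variable {G : Type*} [Group G]

/-- `E` normalizes the nilpotent subgroup `H ≠ 1`, has order prime to `|H|`, and no non-identity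
element of `E` centralizes a non-identity element of `H`. -/
structure FpfOn (H E : Subgroup G) : Prop where
  ne_bot : H ≠ ⊥
  nil : Group.IsNilpotent H
  norm : ∀ e ∈ E, ∀ h ∈ H, e * h * e⁻¹ ∈ H
  cop : (Nat.card H).Coprime (Nat.card E)
  fpf : ∀ e ∈ E, e ≠ 1 → ∀ h ∈ H, e * h = h * e → h = 1

namespace FpfOn

variable {H E : Subgroup G}

theorem mono (c : FpfOn H E) {E' : Subgroup G} (h : E' ≤ E) [Finite G] : FpfOn H E' where
  ne_bot := c.ne_bot
  nil := c.nil
  norm := fun e he => c.norm e (h he)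
  cop := c.cop.coprime_dvd_right (Subgroup.card_dvd_of_le h)
  fpf := fun e he => c.fpf e (h he)

theorem inf_eq_bot (c : FpfOn H E) : H ⊓ E = ⊥ :=
  disjoint_iff.mp (Subgroup.disjoint_of_coprime_natCard c.cop)

/-- The centralizer in `H` of a nontrivial subgroup of `E` is trivial. -/
theorem inf_centralizer_eq_bot (c : FpfOn H E) {A : Subgroup G} (hA : A ≤ E) (hA1 : A ≠ ⊥) :
    H ⊓ Subgroup.centralizer (A : Set G) = ⊥ := by
  obtain ⟨a, ha1⟩ := (Subgroup.ne_bot_iff_exists_ne_one (H := A)).1 hA1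
  have ha1' : (a : G) ≠ 1 := fun h0 => ha1 (Subtype.ext h0)
  rw [eq_bot_iff]
  intro x hx
  rw [Subgroup.mem_bot]
  exact c.fpf a (hA a.2) ha1' x hx.1 (Subgroup.mem_centralizer_iff.1 hx.2 a a.2)

/-- **No Frobenius subgroups**: `E` has no subgroups `A ≠ 1`, `B ≠ 1` with `B` normalizing `A` and
acting on it without fixed points. -/
theorem no_frob [Finite G] (c : FpfOn H E) (A B : Subgroup G) (hA : A ≤ E) (hB : B ≤ E)
    (hA1 : A ≠ ⊥) (hB1 : B ≠ ⊥) (hBA : ∀ b ∈ B, ∀ a ∈ A, b * a * b⁻¹ ∈ A)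
    (hfpf : ∀ b ∈ B, b ≠ 1 → ∀ a ∈ A, b * a = a * b → a = 1) : False := by
  have hAB : A ⊔ B ≤ E := sup_le hA hB
  have hsolv : Group.IsSolvable H := by
    have := c.nil
    exact IsNilpotent.to_isSolvable
  have h := Cfsg.Agent.S1545.result A B H hA1 hB1
    (by
      rw [eq_bot_iff]
      intro x hx
      rw [Subgroup.mem_bot]
      by_contra hx1
      exact hx1 (hfpf x hx.2 hx1 x hx.1 rfl))
    hBA hfpf (fun x hx h hh => c.norm x (hAB hx) h hh)
    (by
      rw [eq_bot_iff, ← c.inf_eq_bot]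
      exact inf_le_inf_left _ hAB)
    hsolv (c.cop.coprime_dvd_right (Subgroup.card_dvd_of_le hAB))
  rw [c.inf_centralizer_eq_bot hAB (fun h0 => hA1 (le_bot_iff.1 (h0 ▸ le_sup_left))),
    c.inf_centralizer_eq_bot hB hB1, c.inf_centralizer_eq_bot hA hA1] at h
  simp only [Subgroup.card_bot, one_pow, one_mul, mul_one] at h
  exact c.ne_bot (Subgroup.card_eq_one.1 h)

/-- The centre of `H`, as a subgroup of the ambient group. -/
theorem center_ne_bot [Finite G] (c : FpfOn H E) :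
    H ⊓ Subgroup.centralizer (H : Set G) ≠ ⊥ := by
  have hnt : Nontrivial H := (Subgroup.nontrivial_iff_ne_bot H).2 c.ne_bot
  have hnil := c.nil
  have hz := Group.IsNilpotent.center_ne_bot (G := H)
  obtain ⟨z, hz1⟩ := (Subgroup.ne_bot_iff_exists_ne_one (H := Subgroup.center H)).1 hz
  intro h0
  apply hz1
  have hzc : ((z : H) : G) ∈ H ⊓ Subgroup.centralizer (H : Set G) := by
    refine Subgroup.mem_inf.2 ⟨(z : H).2, ?_⟩
    rw [Subgroup.mem_centralizer_iff]
    intro y hy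
    have := (Subgroup.mem_center_iff.1 z.2) ⟨y, hy⟩
    exact congrArg Subtype.val this
  rw [h0, Subgroup.mem_bot] at hzc
  exact Subtype.ext (Subtype.ext hzc)

/-- Abelian subgroups of `E` are cyclic. -/
theorem isCyclic_of_comm [Finite G] (c : FpfOn H E) (A : Subgroup G) (hA : A ≤ E)
    (hAab : ∀ a ∈ A, ∀ b ∈ A, a * b = b * a) : IsCyclic A := by
  set V : Subgroup G := H ⊓ Subgroup.centralizer (H : Set G) with hV
  have hVab : IsMulCommutative V := ⟨⟨fun a b => Subtype.ext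
    ((Subgroup.mem_centralizer_iff.1 a.2.2 b b.2.1).symm)⟩⟩
  have hconj : ∀ e ∈ E, ∀ v ∈ V, e * v * e⁻¹ ∈ V := by
    intro e he v hv
    refine Subgroup.mem_inf.2 ⟨c.norm e he v hv.1, ?_⟩
    rw [Subgroup.mem_centralizer_iff]
    intro y hy
    -- y = e (e⁻¹ y e) e⁻¹
    have hy' : e⁻¹ * y * e ∈ H := by
      have := c.norm e⁻¹ (E.inv_mem he) y hy
      simpa using this
    have h1 := Subgroup.mem_centralizer_iff.1 hv.2 _ hy'
    calc y * (e * v * e⁻¹) = e * ((e⁻¹ * y * e) * v) * e⁻¹ := by group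
      _ = e * (v * (e⁻¹ * y * e)) * e⁻¹ := by rw [h1]
      _ = e * v * e⁻¹ * y := by group
  have hAV : A ≤ Subgroup.normalizer (V : Set G) := by
    intro a ha
    exact Subgroup.mem_normalizer_fintype (fun v hv => hconj a (hA ha) v hv)
  have hAcomm : IsMulCommutative A := ⟨⟨fun a b => Subtype.ext (hAab a a.2 b b.2)⟩⟩
  refine Cfsg.Agent.S0041.result A V c.center_ne_bot hAV ?_ (Or.inl hAcomm)
  intro a ha ha1
  rw [eq_bot_iff]
  intro x hx
  rw [Subgroup.mem_bot]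
  have := Subgroup.mem_centralizer_iff.1 hx.2 a (Set.mem_singleton a)
  exact c.fpf a (hA ha) ha1 x hx.1.1 this

/-- **Structure of a complement inside `Q ⋊ W₂`.**  Let `E` act without fixed points on `H`, let
`E ≤ Q ⊔ W₂` where `Q` is abelian of prime exponent `q = |W₁|`, `W₂` of prime order `p ≠ q`
normalizes `Q`, and `W₁ ≤ E ⊓ Q`.  Then `E = W₁` or `E = W₁ ⊔ W₂^y` for some `y ∈ Q`. -/
theorem eq_of_le_sup [Finite G] (c : FpfOn H E) {W₁ Q W₂ : Subgroup G}
    (hW₁E : W₁ ≤ E) (hq : (Nat.card W₁).Prime) (hp : (Nat.card W₂).Prime)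
    (hpq : Nat.card W₂ ≠ Nat.card W₁)
    (hQab : ∀ a ∈ Q, ∀ b ∈ Q, a * b = b * a) (hQexp : ∀ a ∈ Q, a ^ Nat.card W₁ = 1)
    (hW₁Q : W₁ ≤ Q) (hW₂Q : W₂ ≤ Subgroup.normalizer (Q : Set G))
    (hMsolv : Group.IsSolvable ↥(Q ⊔ W₂)) (hEle : E ≤ Q ⊔ W₂) :
    E = W₁ ∨ ∃ y ∈ Q, E = W₁ ⊔ W₂.map (MulAut.conj y).toMonoidHom := by
  classical
  set q := Nat.card W₁ with hqdef
  set p := Nat.card W₂ with hpdef
  set M : Subgroup G := Q ⊔ W₂ with hM
  have hqF : Fact q.Prime := ⟨hq⟩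
  have hpF : Fact p.Prime := ⟨hp⟩
  -- `Q` is a `q`-group
  have hQp : IsPGroup q Q := by
    intro g
    refine ⟨1, ?_⟩
    rw [pow_one]
    exact Subtype.ext (hQexp g g.2)
  obtain ⟨n, hn⟩ := hQp.exists_card_eq
  have hcopQ : (Nat.card Q).Coprime p := by
    rw [hn]
    exact Nat.Coprime.pow_left n ((Nat.coprime_primes hq hp).2 (Ne.symm hpq))
  have hQW₂ : Q ⊓ W₂ = ⊥ := disjoint_iff.mp (Subgroup.disjoint_of_coprime_natCard hcopQ)
  have hcardM : Nat.card M = Nat.card Q * p :=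
    Cfsg.Agent.Lib.Helper54.card_sup_of_le_normalizer hW₂Q hQW₂
  -- `E ⊓ Q = W₁`
  have hEQ : E ⊓ Q = W₁ := by
    have hcyc : IsCyclic ↥(E ⊓ Q) :=
      c.isCyclic_of_comm (E ⊓ Q) inf_le_left (fun a ha b hb => hQab a ha.2 b hb.2)
    obtain ⟨g, hg⟩ := hcyc.exists_generator
    have hcard : Nat.card ↥(E ⊓ Q) ∣ q := by
      rw [← orderOf_eq_card_of_forall_mem_zpowers hg]
      apply orderOf_dvd_of_pow_eq_one
      exact Subtype.ext (hQexp g g.2.2)
    have hle : W₁ ≤ E ⊓ Q := le_inf hW₁E hW₁Q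
    have hge : Nat.card ↥(E ⊓ Q) ≤ Nat.card W₁ := Nat.le_of_dvd hq.pos hcard
    exact (Subgroup.eq_of_le_of_card_ge hle hge).symm
  -- the index of `E ⊓ Q` in `E` divides `p`
  have hQM : Q ≤ M := le_sup_left
  have hMN : M ≤ Subgroup.normalizer (Q : Set G) := sup_le Subgroup.le_normalizer hW₂Q
  have hQn : (Q.subgroupOf M).Normal := (Subgroup.normal_subgroupOf_iff_le_normalizer hQM).2 hMN
  have hidx : Q.relIndex M = p := by
    have h1 := Cfsg.Agent.Lib.Helper54.card_mul_relIndex hQM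
    rw [hcardM] at h1
    exact Nat.eq_of_mul_eq_mul_left Nat.card_pos h1
  have hdvd : Q.relIndex E ∣ p := by
    have h1 := Subgroup.relIndex_dvd_index_of_normal (Q.subgroupOf M) (E.subgroupOf M)
    rw [Subgroup.relIndex_subgroupOf hEle] at h1
    rw [← hidx]
    exact h1
  have hcardE : Nat.card E = q * Q.relIndex E := by
    have h1 := Cfsg.Agent.Lib.Helper54.card_mul_relIndex (inf_le_left : E ⊓ Q ≤ E)
    rw [inf_comm, Subgroup.inf_relIndex_right, inf_comm, hEQ] at h1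
    exact h1.symm
  rcases (Nat.dvd_prime hp).1 hdvd with h1 | h1
  · -- `|E| = q`
    left
    rw [h1, mul_one] at hcardE
    exact (Subgroup.eq_of_le_of_card_ge hW₁E hcardE.le).symm
  · -- `|E| = q * p`
    right
    rw [h1] at hcardE
    have hpE : p ∣ Nat.card E := hcardE ▸ dvd_mul_left p q
    obtain ⟨t, ht⟩ := exists_prime_orderOf_dvd_card' (G := E) p hpE
    set P₀ : Subgroup G := Subgroup.zpowers (t : G) with hP₀
    have hP₀card : Nat.card P₀ = p := by
      rw [hP₀, Nat.card_zpowers, Subgroup.orderOf_coe, ht]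
    have hP₀E : P₀ ≤ E := by
      rw [hP₀, Subgroup.zpowers_le]; exact t.2
    -- Hall `{p}`-subgroups of `M`
    have hhall : ∀ X : Subgroup G, X ≤ M → Nat.card X = p → IsPiHallOf {p} X M := by
      intro X hXM hXc
      refine ⟨hXM, ?_, ?_⟩
      · intro r hr hrd
        rw [hXc] at hrd
        exact Set.mem_singleton_iff.2 ((Nat.prime_dvd_prime_iff_eq hr hp).1 hrd)
      · intro r hr hrp hrd
        rw [Set.mem_singleton_iff] at hrp
        subst hrp
        have h2 := Cfsg.Agent.Lib.Helper54.card_mul_relIndex hXM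
        rw [hXc, hcardM, mul_comm] at h2
        have h3 : X.relIndex M = Nat.card Q := Nat.eq_of_mul_eq_mul_right hp.pos h2
        rw [h3] at hrd
        exact hp.one_lt.ne' (Nat.Coprime.eq_one_of_dvd hcopQ.symm hrd)
    have hW₂M : W₂ ≤ M := le_sup_right
    have h3745 := Cfsg.Agent.S3745.result (⊥ : Subgroup G) M bot_le
      (by rw [Subgroup.card_bot]; exact Nat.coprime_one_left _) hMsolv {p}
    obtain ⟨m, hm, hmP⟩ := h3745.2.1 W₂ P₀ (hhall W₂ hW₂M rfl) bot_le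
      (hhall P₀ (hP₀E.trans hEle) hP₀card) bot_le
    -- write `m = a * w`
    have hmM : m ∈ ((Q ⊔ W₂ : Subgroup G) : Set G) := hm.1
    rw [Subgroup.coe_mul_of_right_le_normalizer_left Q W₂ hW₂Q] at hmM
    obtain ⟨a, ha, w, hw, rfl⟩ := hmM
    have hP₀eq : P₀ = W₂.map (MulAut.conj a).toMonoidHom := by
      rw [hmP]
      ext x
      constructor
      · rintro ⟨z, hz, rfl⟩
        refine ⟨w * z * w⁻¹, W₂.mul_mem (W₂.mul_mem hw hz) (W₂.inv_mem hw), ?_⟩
        simp only [MulEquiv.coe_toMonoidHom, MulAut.conj_apply]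
        group
      · rintro ⟨z, hz, rfl⟩
        refine ⟨w⁻¹ * z * w, W₂.mul_mem (W₂.mul_mem (W₂.inv_mem hw) hz) hw, ?_⟩
        simp only [MulEquiv.coe_toMonoidHom, MulAut.conj_apply]
        group
    refine ⟨a, ha, ?_⟩
    rw [← hP₀eq]
    have hle : W₁ ⊔ P₀ ≤ E := sup_le hW₁E hP₀E
    have hd1 : q ∣ Nat.card ↥(W₁ ⊔ P₀) := Subgroup.card_dvd_of_le (le_sup_left : W₁ ≤ W₁ ⊔ P₀)
    have hd2 : p ∣ Nat.card ↥(W₁ ⊔ P₀) := by
      rw [← hP₀card]
      exact Subgroup.card_dvd_of_le (le_sup_right : P₀ ≤ W₁ ⊔ P₀)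
    have hd3 : q * p ∣ Nat.card ↥(W₁ ⊔ P₀) :=
      Nat.Coprime.mul_dvd_of_dvd_of_dvd ((Nat.coprime_primes hq hp).2 (Ne.symm hpq)) hd1 hd2
    have hge : Nat.card E ≤ Nat.card ↥(W₁ ⊔ P₀) := by
      rw [hcardE]
      exact Nat.le_of_dvd Nat.card_pos hd3
    exact (Subgroup.eq_of_le_of_card_ge hle hge).symm

end FpfOn

end Cfsg.Agent.Lib.Helper33.PF13
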