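import Mathlib
import Cfsg.Agent.Lib.Helper33.PFThirteenA
import Cfsg.Agent.Lib.Helper33.PFThirteenB
import Cfsg.Agent.Lib.Helper73.PFThirteenM1
import Cfsg.Agent.Lib.Helper52.NilpSub
import Cfsg.Agent.Lib.Helper26.PFEightC
import Cfsg.Agent.Lib.Helper4.PFTypes

/-!
# PROJECT PF, Peterfalvi section 13, group part (C) (helper33)

Peterfalvi (13.15)-type statement (the frozen row S1549, parts (b), (c)), in hypothesis form.
`S` carries type-P data `(W₁, U, W₂)` with `U ≠ 1` abelian and `|W₁| = q` prime, `L ⊇ N_G(U)` is a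
solvable subgroup of odd order which is a Frobenius group with kernel `H = L_F ≠ 1`
(`IsFrobWithFittingHall L`), and `N_G(W₁) = Q W₂` with `Q` elementary abelian of exponent `q`
and `|W₂| = p` prime (S1548).  Then `U ≤ H` and `L = H ⋊ W₁` or `L = H ⋊ (W₁ × W₂^y)`, `y ∈ Q`.
-/

set_option autoImplicit false
set_option linter.unusedSectionVars false

namespace Cfsg.Agent.Lib.Helper33.PF13

open Cfsg Cfsg.Agent.Lib.Helper4.PF Cfsg.Agent.Lib.Helper4

variable {G : Type*} [Group G]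

/-! ### The commutator map of a fixed-point-free element on an abelian group -/

section CommMap

variable [Finite G] {U : Subgroup G} {w : G}

/-- If `w` normalizes the subgroup `U` and centralizes no non-identity element of it, then
a `w`-invariant subgroup `U₀ ≤ U` contains every `u ∈ U` with `w u w⁻¹ u⁻¹ ∈ U₀`. -/
theorem mem_of_comm_mem
    (hw : ∀ u ∈ U, w * u * w⁻¹ ∈ U) (hfpf : ∀ u ∈ U, w * u = u * w → u = 1)
    (U₀ : Subgroup G) (hU₀ : U₀ ≤ U) (hw₀ : ∀ u ∈ U₀, w * u * w⁻¹ ∈ U₀)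
    {u : G} (hu : u ∈ U) (hc : w * u * w⁻¹ * u⁻¹ ∈ U₀) : u ∈ U₀ := by
  classical
  -- injectivity of the commutator map on `U`
  have hinj : ∀ a ∈ U, ∀ b ∈ U, w * a * w⁻¹ * a⁻¹ = w * b * w⁻¹ * b⁻¹ → a = b := by
    intro a ha b hb hab
    have hd : b⁻¹ * a ∈ U := U.mul_mem (U.inv_mem hb) ha
    have h1 : w * (b⁻¹ * a) = (b⁻¹ * a) * w := by
      -- w b⁻¹ a w⁻¹ = (w b w⁻¹)⁻¹ (w a w⁻¹) = b⁻¹ a
      have hwa := hw a ha
      have hwb := hw b hb
      have e1 : w * a * w⁻¹ = w * b * w⁻¹ * b⁻¹ * a := by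
        rw [← hab]; group
      have e2 : w * (b⁻¹ * a) * w⁻¹ = (w * b * w⁻¹)⁻¹ * (w * a * w⁻¹) := by group
      have e3 : w * (b⁻¹ * a) * w⁻¹ = b⁻¹ * a := by
        rw [e2, e1]; group
      calc w * (b⁻¹ * a) = (w * (b⁻¹ * a) * w⁻¹) * w := by group
        _ = (b⁻¹ * a) * w := by rw [e3]
    have h2 := hfpf _ hd h1
    calc a = b * (b⁻¹ * a) := by group
      _ = b := by rw [h2, mul_one]
  -- the commutator map on `U₀`
  let φ : U₀ → U₀ := fun x => ⟨w * x * w⁻¹ * (x : G)⁻¹,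
    U₀.mul_mem (hw₀ x x.2) (U₀.inv_mem x.2)⟩
  have hφinj : Function.Injective φ := by
    intro a b hab
    apply Subtype.ext
    exact hinj a (hU₀ a.2) b (hU₀ b.2) (congrArg Subtype.val hab)
  have hφsurj : Function.Surjective φ := Finite.injective_iff_surjective.1 hφinj
  obtain ⟨x, hx⟩ := hφsurj ⟨_, hc⟩
  have hx' : w * x * w⁻¹ * (x : G)⁻¹ = w * u * w⁻¹ * u⁻¹ := congrArg Subtype.val hx
  have := hinj x (hU₀ x.2) u hu hx'
  rw [← this]
  exact x.2

/-- Surjectivity of the commutator map. -/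
theorem exists_comm_eq
    (hw : ∀ u ∈ U, w * u * w⁻¹ ∈ U) (hfpf : ∀ u ∈ U, w * u = u * w → u = 1)
    {u : G} (hu : u ∈ U) : ∃ x ∈ U, u = w * x * w⁻¹ * x⁻¹ := by
  classical
  let φ : U → U := fun x => ⟨w * x * w⁻¹ * (x : G)⁻¹, U.mul_mem (hw x x.2) (U.inv_mem x.2)⟩
  have hφinj : Function.Injective φ := by
    intro a b hab
    have hab' : w * a * w⁻¹ * (a : G)⁻¹ = w * b * w⁻¹ * (b : G)⁻¹ := congrArg Subtype.val hab
    -- use `mem_of_comm_mem` with `U₀ = ⊥`
    have hd : (b : G)⁻¹ * a ∈ (⊥ : Subgroup G) := by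
      apply mem_of_comm_mem hw hfpf ⊥ bot_le
      · intro x hx
        rw [Subgroup.mem_bot] at hx
        rw [hx, Subgroup.mem_bot]; group
      · exact U.mul_mem (U.inv_mem b.2) a.2
      · rw [Subgroup.mem_bot]
        have e1 : w * a * w⁻¹ = w * b * w⁻¹ * (b : G)⁻¹ * a := by
          rw [← hab']; group
        have e2 : w * ((b : G)⁻¹ * a) * w⁻¹ * ((b : G)⁻¹ * a)⁻¹ =
            (w * b * w⁻¹)⁻¹ * (w * a * w⁻¹) * ((a : G)⁻¹ * b) := by group
        rw [e2, e1]; group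
    rw [Subgroup.mem_bot] at hd
    apply Subtype.ext
    calc (a : G) = b * ((b : G)⁻¹ * a) := by group
      _ = b := by rw [hd, mul_one]
  obtain ⟨x, hx⟩ := (Finite.injective_iff_surjective.1 hφinj) ⟨u, hu⟩
  exact ⟨x, x.2, (congrArg Subtype.val hx).symm⟩

end CommMap

/-! ### A Frobenius group `L` with kernel `H = L_F` -/

section Frob

variable [Finite G] {L : Subgroup G}

/-- `H = L_F` is a Hall subgroup of `L`: `|L| = |H| * i` with `i` prime to `|H|`. -/
theorem exists_card_eq_mul (L : Subgroup G) :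
    ∃ i : ℕ, Nat.card L = Nat.card (fittingHallOf L) * i ∧ (Nat.card (fittingHallOf L)).Coprime i := by
  refine ⟨(fittingHall ↥L).index, ?_, ?_⟩
  · rw [PF9.card_fittingHallOf]
    exact (Subgroup.card_mul_index _).symm
  · rw [PF9.card_fittingHallOf]
    exact Cfsg.Agent.Lib.Helper23.fittingHall_coprime ↥L

theorem le_normalizer_fittingHallOf (L : Subgroup G) :
    L ≤ Subgroup.normalizer (fittingHallOf L : Set G) := by
  intro l hl
  exact Subgroup.mem_normalizer_fintype (fun h hh => PF9.conj_mem_fittingHallOf L hl hh)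

/-- In a Frobenius group `L` with kernel `H`, the elements outside `H` centralize no non-identity
element of `H`. -/
theorem frob_fpf (hFrob : IsFrobWithFittingHall L) {e x : G} (heL : e ∈ L)
    (heH : e ∉ fittingHallOf L) (hx : x ∈ fittingHallOf L) (hex : e * x = x * e) : x = 1 := by
  by_contra hx1
  apply heH
  apply hFrob x hx hx1
  refine Subgroup.mem_inf.2 ⟨heL, ?_⟩
  rw [Subgroup.mem_centralizer_iff]
  intro y hy
  rw [Set.mem_singleton_iff] at hy
  subst hy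
  exact hex.symm

/-- A subgroup `E ≤ L` with `H ⊓ E = ⊥` acts without fixed points on `H`. -/
theorem fpfOn_of_frob (hFrob : IsFrobWithFittingHall L) (hH : fittingHallOf L ≠ ⊥)
    {E : Subgroup G} (hEL : E ≤ L) (hcop : (Nat.card (fittingHallOf L)).Coprime (Nat.card E)) :
    FpfOn (fittingHallOf L) E where
  ne_bot := hH
  nil := PF9.H_isNilpotent L
  norm := fun e he h hh => PF9.conj_mem_fittingHallOf L (hEL he) hh
  cop := hcop
  fpf := by
    intro e he he1 h hh heh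
    have hdisj : fittingHallOf L ⊓ E = ⊥ :=
      disjoint_iff.mp (Subgroup.disjoint_of_coprime_natCard hcop)
    apply frob_fpf hFrob (hEL he) ?_ hh heh
    intro heH
    apply he1
    have : e ∈ fittingHallOf L ⊓ E := Subgroup.mem_inf.2 ⟨heH, he⟩
    rwa [hdisj, Subgroup.mem_bot] at this

end Frob

/-! ### `W₁ ∩ H = 1`, a complement containing `W₁`, and `U ≤ H` -/

section Support

variable [Finite G] {S W₁ U W₂ L : Subgroup G}

theorem orderOf_dvd_card_of_mem {X : Subgroup G} {x : G} (hx : x ∈ X) :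
    orderOf x ∣ Nat.card X := by
  have := orderOf_dvd_natCard (⟨x, hx⟩ : X)
  rwa [Subgroup.orderOf_mk] at this

/-- `W₁` meets `H = L_F` trivially. -/
theorem fittingHallOf_inf_W₁ (hSP : IsTypePWith S W₁ U W₂) (hU : U ≠ ⊥)
    (hq : (Nat.card W₁).Prime) (hNUL : Subgroup.normalizer (U : Set G) ≤ L) :
    fittingHallOf L ⊓ W₁ = ⊥ := by
  by_contra hne
  have hW₁H : W₁ ≤ fittingHallOf L := by
    have hdvd : Nat.card ↥(fittingHallOf L ⊓ W₁) ∣ Nat.card W₁ :=
      Subgroup.card_dvd_of_le inf_le_right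
    rcases (Nat.dvd_prime hq).1 hdvd with h1 | h1
    · exact absurd (Subgroup.card_eq_one.1 h1) hne
    · have := Subgroup.eq_of_le_of_card_ge (inf_le_right : fittingHallOf L ⊓ W₁ ≤ W₁) h1.ge
      rw [← this]
      exact inf_le_left
  have hUL : U ≤ L := Subgroup.le_normalizer.trans hNUL
  obtain ⟨w, hw1⟩ := (Subgroup.ne_bot_iff_exists_ne_one (H := W₁)).1 hSP.W₁_ne
  have hw1' : (w : G) ≠ 1 := fun h0 => hw1 (Subtype.ext h0)
  have hwU : ∀ u ∈ U, (w : G) * u * (w : G)⁻¹ ∈ U := fun u hu =>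
    ((Subgroup.mem_normalizer_iff.1 (hSP.U_normal w.2)) u).1 hu
  have hwfpf : ∀ u ∈ U, (w : G) * u = u * w → u = 1 := fun u hu h =>
    PF9.W₁_fpf_U hSP w.2 hw1' hu h
  apply hU
  rw [eq_bot_iff]
  intro u hu
  rw [Subgroup.mem_bot]
  -- `u ∈ H`
  have huH : u ∈ fittingHallOf L := by
    obtain ⟨x, hx, rfl⟩ := exists_comm_eq hwU hwfpf hu
    have h1 : x * (w : G)⁻¹ * x⁻¹ ∈ fittingHallOf L :=
      PF9.conj_mem_fittingHallOf L (hUL hx) (Subgroup.inv_mem _ (hW₁H w.2))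
    have e : (w : G) * x * (w : G)⁻¹ * x⁻¹ = w * (x * (w : G)⁻¹ * x⁻¹) := by group
    rw [e]
    exact Subgroup.mul_mem _ (hW₁H w.2) h1
  have hcop : (orderOf (w : G)).Coprime (orderOf u) := by
    have h1 := (Cfsg.Agent.Lib.Helper23.typeP_coprime hSP).2
    exact Nat.Coprime.coprime_dvd_left (orderOf_dvd_card_of_mem w.2)
      (Nat.Coprime.coprime_dvd_right (orderOf_dvd_card_of_mem hu) h1)
  exact hwfpf u hu (Cfsg.Agent.Lib.Helper52.comm_of_coprime_of_mem_nilpotent (fittingHallOf L)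
    (PF9.H_isNilpotent L) (hW₁H w.2) huH hcop)

/-- A complement of `H = L_F` in the solvable group `L` containing a given subgroup `W` with
`H ⊓ W = ⊥`. -/
theorem exists_compl_ge (hLsolv : Group.IsSolvable L) {W : Subgroup G} (hWL : W ≤ L)
    (hW : fittingHallOf L ⊓ W = ⊥) :
    ∃ E : Subgroup G, W ≤ E ∧ E ≤ L ∧ (Nat.card (fittingHallOf L)).Coprime (Nat.card E) ∧
      fittingHallOf L ⊔ E = L := by
  classical
  have hcopK := Cfsg.Agent.Lib.Helper23.fittingHall_coprime ↥L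
  obtain ⟨E₀, hE₀⟩ := Subgroup.exists_right_complement'_of_coprime hcopK
  set i := (fittingHall ↥L).index with hi
  have hE₀card : Nat.card E₀ = i := (hE₀.symm.index_eq_card).symm
  have hcardL : Nat.card L = Nat.card (fittingHallOf L) * i := by
    rw [PF9.card_fittingHallOf]
    exact (Subgroup.card_mul_index _).symm
  have hcopH : (Nat.card (fittingHallOf L)).Coprime i := by
    rw [PF9.card_fittingHallOf]; exact hcopK
  have hipos : 0 < i := by
    rcases Nat.eq_zero_or_pos i with h0 | h0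
    · rw [h0, mul_zero] at hcardL
      exact absurd hcardL Nat.card_pos.ne'
    · exact h0
  set E₀' : Subgroup G := E₀.map L.subtype with hE₀'
  have hE₀'card : Nat.card E₀' = i := by
    rw [hE₀', Subgroup.card_map_of_injective L.subtype_injective, hE₀card]
  have hE₀'L : E₀' ≤ L := Subgroup.map_subtype_le _
  let π : Set ℕ := {r | r ∣ i}
  have hhall : IsPiHallOf π E₀' L := by
    refine ⟨hE₀'L, ?_, ?_⟩
    · intro r _ hr
      rw [hE₀'card] at hr
      exact hr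
    · intro r hr hrπ hrd
      have h2 := Cfsg.Agent.Lib.Helper54.card_mul_relIndex hE₀'L
      rw [hE₀'card, hcardL, mul_comm] at h2
      have h3 : E₀'.relIndex L = Nat.card (fittingHallOf L) := Nat.eq_of_mul_eq_mul_right hipos h2
      rw [h3] at hrd
      exact hr.one_lt.ne' (Nat.eq_one_of_dvd_coprimes hcopH hrd hrπ)
  have hWN : W ≤ Subgroup.normalizer (fittingHallOf L : Set G) :=
    hWL.trans (le_normalizer_fittingHallOf L)
  have hWπ : ∀ r : ℕ, r.Prime → r ∣ Nat.card W → r ∈ π := by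
    intro r _ hr
    have h1 : Nat.card ↥(fittingHallOf L ⊔ W) = Nat.card (fittingHallOf L) * Nat.card W :=
      Cfsg.Agent.Lib.Helper54.card_sup_of_le_normalizer hWN hW
    have h2 : Nat.card ↥(fittingHallOf L ⊔ W) ∣ Nat.card L :=
      Subgroup.card_dvd_of_le (sup_le (PF9.fittingHallOf_le L) hWL)
    rw [h1, hcardL] at h2
    have h3 : Nat.card W ∣ i := Nat.dvd_of_mul_dvd_mul_left Nat.card_pos h2
    exact hr.trans h3
  have h3745 := Cfsg.Agent.S3745.result (⊥ : Subgroup G) L bot_le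
    (by rw [Subgroup.card_bot]; exact Nat.coprime_one_left _) hLsolv π
  obtain ⟨E, hE, -, hWE⟩ := h3745.2.2 W hWL bot_le hWπ
  obtain ⟨c, -, hcE⟩ := h3745.2.1 E₀' E hhall bot_le hE bot_le
  have hEcard : Nat.card E = i := by
    rw [hcE, Subgroup.card_map_of_injective (MulAut.conj c).injective, hE₀'card]
  have hEL : E ≤ L := hE.1
  have hcopE : (Nat.card (fittingHallOf L)).Coprime (Nat.card E) := by rw [hEcard]; exact hcopH
  refine ⟨E, hWE, hEL, hcopE, ?_⟩
  have hdisj : fittingHallOf L ⊓ E = ⊥ :=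
    disjoint_iff.mp (Subgroup.disjoint_of_coprime_natCard hcopE)
  have h1 : Nat.card ↥(fittingHallOf L ⊔ E) = Nat.card (fittingHallOf L) * Nat.card E :=
    Cfsg.Agent.Lib.Helper54.card_sup_of_le_normalizer
      (hEL.trans (le_normalizer_fittingHallOf L)) hdisj
  apply Subgroup.eq_of_le_of_card_ge (sup_le (PF9.fittingHallOf_le L) hEL)
  rw [h1, hEcard, hcardL]

end Support

section Main

variable [Finite G] {S T W₁ W₂ U V L : Subgroup G}

/-- `U ≤ H = L_F` (Peterfalvi (13.15)(b)). -/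
theorem U_le_fittingHallOf (hSP : IsTypePWith S W₁ U W₂)
    (hNUL : Subgroup.normalizer (U : Set G) ≤ L)
    (hH : fittingHallOf L ≠ ⊥) (hFrob : IsFrobWithFittingHall L)
    {E : Subgroup G} (hW₁E : W₁ ≤ E) (hEL : E ≤ L)
    (hcop : (Nat.card (fittingHallOf L)).Coprime (Nat.card E))
    (hsup : fittingHallOf L ⊔ E = L) : U ≤ fittingHallOf L := by
  classical
  set H := fittingHallOf L with hHdef
  have c : FpfOn H E := fpfOn_of_frob hFrob hH hEL hcop
  have hUL : U ≤ L := Subgroup.le_normalizer.trans hNUL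
  have hUN : U ≤ Subgroup.normalizer (H : Set G) := hUL.trans (le_normalizer_fittingHallOf L)
  have hEN : E ≤ Subgroup.normalizer (H : Set G) := hEL.trans (le_normalizer_fittingHallOf L)
  by_contra hnot
  obtain ⟨u₀, hu₀, hu₀H⟩ := SetLike.not_le_iff_exists.1 hnot
  set A : Subgroup G := (U ⊔ H) ⊓ E with hA
  -- decomposition of elements of `U ⊔ H`
  have hdecUH : ∀ x ∈ U ⊔ H, ∃ u ∈ U, ∃ h ∈ H, x = u * h := by
    intro x hx
    have hx' : x ∈ ((U ⊔ H : Subgroup G) : Set G) := hx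
    rw [Subgroup.coe_mul_of_left_le_normalizer_right U H hUN] at hx'
    obtain ⟨u, hu, h, hh, rfl⟩ := hx'
    exact ⟨u, hu, h, hh, rfl⟩
  have hA1 : A ≠ ⊥ := by
    have hu₀L : u₀ ∈ ((H ⊔ E : Subgroup G) : Set G) := by
      rw [hsup]; exact hUL hu₀
    rw [Subgroup.coe_mul_of_right_le_normalizer_left H E hEN] at hu₀L
    obtain ⟨h, hh, e, he, hhe⟩ := hu₀L
    replace hhe : h * e = u₀ := hhe
    have he' : e ∈ A := by
      refine Subgroup.mem_inf.2 ⟨?_, he⟩
      have : e = h⁻¹ * u₀ := by rw [← hhe]; group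
      rw [this]
      exact Subgroup.mul_mem _ (Subgroup.mem_sup_right (H.inv_mem hh)) (Subgroup.mem_sup_left hu₀)
    intro h0
    rw [h0, Subgroup.mem_bot] at he'
    apply hu₀H
    rw [← hhe, he', mul_one]
    exact hh
  have hwU : ∀ w ∈ W₁, ∀ u ∈ U, w * u * w⁻¹ ∈ U := fun w hw u hu =>
    ((Subgroup.mem_normalizer_iff.1 (hSP.U_normal hw)) u).1 hu
  have hwH : ∀ w ∈ W₁, ∀ h ∈ H, w * h * w⁻¹ ∈ H := fun w hw h hh =>
    PF9.conj_mem_fittingHallOf L (hEL (hW₁E hw)) hh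
  have hBA : ∀ b ∈ W₁, ∀ a ∈ A, b * a * b⁻¹ ∈ A := by
    intro b hb a ha
    refine Subgroup.mem_inf.2 ⟨?_, E.mul_mem (E.mul_mem (hW₁E hb) ha.2) (E.inv_mem (hW₁E hb))⟩
    obtain ⟨u, hu, h, hh, rfl⟩ := hdecUH a ha.1
    have e : b * (u * h) * b⁻¹ = (b * u * b⁻¹) * (b * h * b⁻¹) := by group
    rw [e]
    exact Subgroup.mul_mem _ (Subgroup.mem_sup_left (hwU b hb u hu))
      (Subgroup.mem_sup_right (hwH b hb h hh))
  have hfpf : ∀ b ∈ W₁, b ≠ 1 → ∀ a ∈ A, b * a = a * b → a = 1 := by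
    intro b hb hb1 a ha hba
    obtain ⟨u, hu, h, hh, rfl⟩ := hdecUH a ha.1
    -- `b u b⁻¹ u⁻¹ ∈ U ⊓ H`
    have hc : b * u * b⁻¹ * u⁻¹ ∈ U ⊓ H := by
      refine Subgroup.mem_inf.2 ⟨U.mul_mem (hwU b hb u hu) (U.inv_mem hu), ?_⟩
      have e1 : b * u * b⁻¹ * u⁻¹ = u * (h * (b * h * b⁻¹)⁻¹) * u⁻¹ := by
        have e2 : b * (u * h) * b⁻¹ = u * h := by rw [hba]; group
        have e3 : b * u * b⁻¹ = u * h * (b * h * b⁻¹)⁻¹ := by
          rw [← e2]; group
        rw [e3]; group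
      rw [e1]
      exact PF9.conj_mem_fittingHallOf L (hUL hu)
        (H.mul_mem hh (H.inv_mem (hwH b hb h hh)))
    have huH : u ∈ U ⊓ H := by
      refine mem_of_comm_mem (hwU b hb) (fun x hx hbx => PF9.W₁_fpf_U hSP hb hb1 hx hbx)
        (U ⊓ H) inf_le_left ?_ hu hc
      intro x hx
      exact Subgroup.mem_inf.2 ⟨hwU b hb x hx.1, hwH b hb x hx.2⟩
    have : u * h ∈ H ⊓ E := Subgroup.mem_inf.2 ⟨H.mul_mem huH.2 hh, ha.2⟩
    rwa [c.inf_eq_bot, Subgroup.mem_bot] at this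
  exact c.no_frob A W₁ inf_le_right hW₁E hA1 hSP.W₁_ne hBA hfpf

/-- The complement `E` normalizes its subgroups of prime order (module M1 of helper73, applied
inside `L`). -/
theorem le_normalizer_of_frob (hH : fittingHallOf L ≠ ⊥) (hFrob : IsFrobWithFittingHall L)
    (hLodd : Odd (Nat.card L)) {E W : Subgroup G} (hEL : E ≤ L)
    (hcop : (Nat.card (fittingHallOf L)).Coprime (Nat.card E))
    (hWE : W ≤ E) (hW : (Nat.card W).Prime) : E ≤ Subgroup.normalizer (W : Set G) := by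
  classical
  have c : FpfOn (fittingHallOf L) E := fpfOn_of_frob hFrob hH hEL hcop
  have hK : fittingHall ↥L ≠ ⊥ := by
    intro h0
    apply hH
    unfold fittingHallOf
    rw [h0, Subgroup.map_bot]
  have hcardE : Nat.card (E.subgroupOf L) = Nat.card E :=
    Nat.card_congr (Subgroup.subgroupOfEquivOfLe hEL).toEquiv
  have hcardW : Nat.card (W.subgroupOf L) = Nat.card W :=
    Nat.card_congr (Subgroup.subgroupOfEquivOfLe (hWE.trans hEL)).toEquiv
  have hoddE : Odd (Nat.card (E.subgroupOf L)) := by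
    rw [hcardE]
    exact Odd.of_dvd_nat hLodd (Subgroup.card_dvd_of_le hEL)
  have hfpf : ∀ e ∈ E.subgroupOf L, e ≠ 1 →
      fittingHall ↥L ⊓ Subgroup.centralizer {e} = ⊥ := by
    intro e he he1
    rw [eq_bot_iff]
    intro x hx
    rw [Subgroup.mem_bot]
    have hxH : (x : G) ∈ fittingHallOf L := ⟨x, hx.1, rfl⟩
    have heE : (e : G) ∈ E := he
    have he1' : (e : G) ≠ 1 := fun h0 => he1 (Subtype.ext h0)
    have hcomm : (e : G) * x = x * e := by
      have := Subgroup.mem_centralizer_iff.1 hx.2 e (Set.mem_singleton e)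
      exact congrArg Subtype.val this
    exact Subtype.ext (c.fpf e heE he1' x hxH hcomm)
  have hM1 := Cfsg.Agent.Lib.Helper73.prime_order_normal_of_fpf (fittingHall ↥L) (E.subgroupOf L)
    hK hfpf hoddE (W.subgroupOf L) (by
      intro x hx
      exact hWE hx) (by rw [hcardW]; exact hW)
  intro e he
  have heL : e ∈ L := hEL he
  have h1 := hM1 (show (⟨e, heL⟩ : L) ∈ E.subgroupOf L from he)
  apply Subgroup.mem_normalizer_fintype
  intro x hx
  have hxL : x ∈ L := hEL (hWE hx)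
  have h2 := ((Subgroup.mem_normalizer_iff.1 h1) ⟨x, hxL⟩).1 hx
  exact h2

/-- **Peterfalvi (13.15)(b),(c)-type statement** (second and third conclusions of the frozen row
S1549), in hypothesis form. -/
theorem typeII_support_structure (hSP : IsTypePWith S W₁ U W₂) (hTP : IsTypePWith T W₂ V W₁)
    (hU : U ≠ ⊥) (hq : (Nat.card W₁).Prime) (hp : (Nat.card W₂).Prime)
    (hQ : IsElementaryAbelian (Nat.card W₁) (fittingHallOf T))
    (hNW₁ : Subgroup.normalizer (W₁ : Set G) = fittingHallOf T ⊔ W₂)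
    (hTsolv : Group.IsSolvable T)
    (hLsolv : Group.IsSolvable L) (hLodd : Odd (Nat.card L))
    (hNUL : Subgroup.normalizer (U : Set G) ≤ L)
    (hH : fittingHallOf L ≠ ⊥) (hFrob : IsFrobWithFittingHall L) :
    U ≤ fittingHallOf L ∧
      ((fittingHallOf L ⊓ W₁ = ⊥ ∧ fittingHallOf L ⊔ W₁ = L) ∨
        ∃ y ∈ fittingHallOf T,
          fittingHallOf L ⊓ (W₁ ⊔ W₂.map (MulAut.conj y).toMonoidHom) = ⊥ ∧
          fittingHallOf L ⊔ (W₁ ⊔ W₂.map (MulAut.conj y).toMonoidHom) = L) := by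
  classical
  have hW₁L : W₁ ≤ L := hSP.U_normal.trans hNUL
  have hHW₁ := fittingHallOf_inf_W₁ hSP hU hq hNUL
  obtain ⟨E, hW₁E, hEL, hcop, hsup⟩ := exists_compl_ge hLsolv hW₁L hHW₁
  have hUH := U_le_fittingHallOf hSP hNUL hH hFrob hW₁E hEL hcop hsup
  have c : FpfOn (fittingHallOf L) E := fpfOn_of_frob hFrob hH hEL hcop
  have hEN : E ≤ fittingHallOf T ⊔ W₂ := by
    rw [← hNW₁]
    exact le_normalizer_of_frob hH hFrob hLodd hEL hcop hW₁E hq
  -- `p ≠ q`
  have hpq : Nat.card W₂ ≠ Nat.card W₁ := by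
    intro h
    have h1 : W₁.relIndex S = Nat.card ↥⁅S, S⁆ :=
      Cfsg.Agent.Lib.Helper26.PFEight.relIndex_of_isComplIn hSP.W₁_compl
    have h2 : Nat.card W₂ ∣ Nat.card ↥⁅S, S⁆ :=
      Subgroup.card_dvd_of_le ((PF9.W₂_le_H hSP).trans (PF9.H_le_der hSP))
    have h3 := hSP.W₁_hall
    rw [h1, ← h] at h3
    exact hp.one_lt.ne' (Nat.Coprime.eq_one_of_dvd h3 h2)
  have hQab : ∀ a ∈ fittingHallOf T, ∀ b ∈ fittingHallOf T, a * b = b * a := by
    intro a ha b hb
    have := hQ.1.is_comm.comm (⟨a, ha⟩ : fittingHallOf T) ⟨b, hb⟩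
    exact congrArg Subtype.val this
  have hW₂T : W₂ ≤ T := PF9.W₁_le hTP
  have hW₂Q : W₂ ≤ Subgroup.normalizer (fittingHallOf T : Set G) :=
    hW₂T.trans (le_normalizer_fittingHallOf T)
  have hMle : fittingHallOf T ⊔ W₂ ≤ T := sup_le (PF9.fittingHallOf_le T) hW₂T
  have hMsolv : Group.IsSolvable ↥(fittingHallOf T ⊔ W₂) :=
    Group.isSolvable_of_isSolvable_injective (Subgroup.inclusion_injective hMle)
  rcases c.eq_of_le_sup hW₁E hq hp hpq hQab hQ.2 (PF9.W₂_le_H hTP) hW₂Q hMsolv hEN with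
    hE | ⟨y, hy, hE⟩
  · refine ⟨hUH, Or.inl ⟨hHW₁, ?_⟩⟩
    rw [← hE]; exact hsup
  · refine ⟨hUH, Or.inr ⟨y, hy, ?_, ?_⟩⟩
    · rw [← hE]; exact c.inf_eq_bot
    · rw [← hE]; exact hsup

end Main

end Cfsg.Agent.Lib.Helper33.PF13
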