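import Mathlib
import Cfsg.Agent.Lib.Helper33.PFThirteenC
import Cfsg.Agent.Lib.Helper59.PFThirteenM2
import Cfsg.Agent.Lib.Helper12.PFThirteenM3
import Cfsg.Agent.Lib.Helper26.PFBookA

/-!
# PROJECT PF, Peterfalvi section 13, group part (D) (helper33)

The frozen row S1549 (Peterfalvi (13.15)-type statement) from the book-form BG data, S1543, S1547
and the theorem that maximal subgroups of Type I are Frobenius groups (Peterfalvi (12.7), the
book form of S1540).
-/

set_option autoImplicit false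
set_option linter.unusedSectionVars false

namespace Cfsg.Agent.Lib.Helper33.PF13

open Cfsg Cfsg.Agent.Lib.Helper4.PF Cfsg.Agent.Lib.Helper4

variable {G : Type*} [Group G]

/-! ### Conjugates -/

theorem conjSub_conjSub (a b : G) (M : Subgroup G) : conjSub a (conjSub b M) = conjSub (a * b) M := by
  unfold conjSub
  rw [Subgroup.map_map]
  congr 1
  ext x
  simp [MulAut.conj_apply, mul_assoc]

theorem conjSub_one (M : Subgroup G) : conjSub 1 M = M := by
  unfold conjSub
  ext x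
  simp

theorem eq_conjSub_inv {a : G} {M N : Subgroup G} (h : M = conjSub a N) : N = conjSub a⁻¹ M := by
  rw [h, conjSub_conjSub, inv_mul_cancel, conjSub_one]

theorem card_conjSub [Finite G] (a : G) (M : Subgroup G) : Nat.card (conjSub a M) = Nat.card M :=
  Subgroup.card_map_of_injective (MulAut.conj a).injective

theorem commutator_conjSub (a : G) (M : Subgroup G) :
    ⁅conjSub a M, conjSub a M⁆ = conjSub a ⁅M, M⁆ := by
  unfold conjSub
  rw [Subgroup.map_commutator]

section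
variable [Finite G]

/-- Complements of `M'` in `M` have the same order. -/
theorem card_eq_of_isComplIn {M A B : Subgroup G} (hA : IsComplIn ⁅M, M⁆ A M)
    (hB : IsComplIn ⁅M, M⁆ B M) : Nat.card A = Nat.card B := by
  have h1 := Cfsg.Agent.Lib.Helper23.card_of_isComplIn hA
  have h2 := Cfsg.Agent.Lib.Helper23.card_of_isComplIn hB
  rw [h1] at h2
  exact Nat.eq_of_mul_eq_mul_left Nat.card_pos h2

/-- Conjugate subgroups have complements of `M'` of the same order. -/
theorem card_compl_eq_of_conj {M N A B : Subgroup G} {a : G} (h : N = conjSub a M)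
    (hA : IsComplIn ⁅M, M⁆ A M) (hB : IsComplIn ⁅N, N⁆ B N) : Nat.card A = Nat.card B := by
  have h1 := Cfsg.Agent.Lib.Helper23.card_of_isComplIn hA
  have h2 := Cfsg.Agent.Lib.Helper23.card_of_isComplIn hB
  have h3 : Nat.card N = Nat.card M := by rw [h, card_conjSub]
  have h4 : Nat.card ↥⁅N, N⁆ = Nat.card ↥⁅M, M⁆ := by
    rw [h, commutator_conjSub, card_conjSub]
  rw [h3, h4, h1] at h2
  exact Nat.eq_of_mul_eq_mul_left Nat.card_pos h2

end

theorem conj_trans {A B C : Subgroup G} {x y : G} (h1 : A = conjSub x C) (h2 : B = conjSub y C) :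
    A = conjSub (x * y⁻¹) B := by
  rw [h1, eq_conjSub_inv h2, conjSub_conjSub]

section
variable [Finite G]

/-- The data of Type II, transferred to given type-P data. -/
theorem typeII_data {S W₁ U W₂ : Subgroup G} (hSsolv : Group.IsSolvable S)
    (hSP : IsTypePWith S W₁ U W₂) (hSII : IsOfTypeII S) :
    U ≠ ⊥ ∧ (Nat.card W₁).Prime ∧ ¬ Subgroup.normalizer (U : Set G) ≤ S := by
  obtain ⟨W₁', U', W₂', hP', hU', hq', -, -, hN', -, -⟩ := hSII
  have hsolv' : Group.IsSolvable ↥⁅S, S⁆ :=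
    Group.isSolvable_of_isSolvable_injective (Subgroup.inclusion_injective (PF9.der_le hSP))
  obtain ⟨c, hc, hcU⟩ := Cfsg.Agent.Lib.Helper26.PFEight.exists_conj_of_typeP hsolv' hSP hP'
  refine ⟨?_, ?_, ?_⟩
  · rintro rfl
    apply hU'
    rw [hcU, Subgroup.map_bot]
  · rw [card_eq_of_isComplIn hSP.W₁_compl hP'.W₁_compl]
    exact hq'
  · intro hN
    apply hN'
    have hU : U = U'.map (MulAut.conj c⁻¹).toMonoidHom := eq_conjSub_inv hcU
    exact Cfsg.Agent.Lib.Helper26.PFEight.normalizer_le_of_conj (S.inv_mem hc) hU hN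

/-- `|W₂|` is prime when `T` is of Type II or III. -/
theorem card_W₂_prime {T W₂ V W₁ : Subgroup G} (hTP : IsTypePWith T W₂ V W₁)
    (h : IsOfTypeII T ∨ IsOfTypeIII T) : (Nat.card W₂).Prime := by
  rcases h with ⟨W₁', U', W₂', hP', -, hq', -⟩ | ⟨W₁', U', W₂', hP', -, hq', -⟩
  · rw [card_eq_of_isComplIn hTP.W₁_compl hP'.W₁_compl]; exact hq'
  · rw [card_eq_of_isComplIn hTP.W₁_compl hP'.W₁_compl]; exact hq'

theorem card_W₂_ne_card_W₁ {S W₁ U W₂ : Subgroup G} (hSP : IsTypePWith S W₁ U W₂)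
    (hp : (Nat.card W₂).Prime) : Nat.card W₂ ≠ Nat.card W₁ := by
  intro h
  have h1 : W₁.relIndex S = Nat.card ↥⁅S, S⁆ :=
    Cfsg.Agent.Lib.Helper26.PFEight.relIndex_of_isComplIn hSP.W₁_compl
  have h2 : Nat.card W₂ ∣ Nat.card ↥⁅S, S⁆ :=
    Subgroup.card_dvd_of_le ((PF9.W₂_le_H hSP).trans (PF9.H_le_der hSP))
  have h3 := hSP.W₁_hall
  rw [h1, ← h] at h3
  exact hp.one_lt.ne' (Nat.Coprime.eq_one_of_dvd h3 h2)

/-- A maximal subgroup conjugate neither to `S` nor to `T` is of Type I (B&G Theorem I in the form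
`BookBGData.pair`). -/
theorem litTypeI_of_pair (h : BookBGData G) {S T W₁ W₂ U V : Subgroup G}
    (hPair : PairHyp S T W₁ W₂ U V) (hpq : Nat.card W₁ ≠ Nat.card W₂) {L : Subgroup G}
    (hL : IsCoatom L) (hS : ∀ g : G, L ≠ conjSub g S) (hT : ∀ g : G, L ≠ conjSub g T) :
    LitTypeI L := by
  have hnotI : ∀ M : Subgroup G, IsTypeIItoV M → ¬ LitTypeI M := fun M hM hI =>
    Cfsg.Agent.Lib.Helper26.PFBook.not_isOfTypeP_of_typeF hI.1
      (Cfsg.Agent.Lib.Helper26.PFBook.isOfTypeP_of_typeIItoV hM)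
  have hSTnc : ∀ x : G, T ≠ conjSub x S := fun x hx =>
    hpq (card_compl_eq_of_conj hx hPair.hSP.W₁_compl hPair.hTP.W₁_compl)
  rcases h.pair with hall | ⟨W₁', W₂', S₀, T₀, -, -, -, -, -, -, -, -, -, hall⟩
  · exact hall L hL
  · rcases hall L hL with hI | ⟨g, hg⟩
    · exact hI
    rcases hall S hPair.hS with hI | ⟨a, ha⟩
    · exact absurd hI (hnotI S hPair.hS25)
    rcases hall T hPair.hT with hI | ⟨b, hb⟩
    · exact absurd hI (hnotI T hPair.hT25)
    exfalso
    rcases hg with hg | hg <;> rcases ha with ha | ha <;> rcases hb with hb | hb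
    · exact hS _ (conj_trans hg ha)
    · exact hS _ (conj_trans hg ha)
    · exact hT _ (conj_trans hg hb)
    · exact hSTnc _ (conj_trans hb ha)
    · exact hSTnc _ (conj_trans hb ha)
    · exact hT _ (conj_trans hg hb)
    · exact hS _ (conj_trans hg ha)
    · exact hS _ (conj_trans hg ha)

/-- **The frozen row S1549** from the book-form B&G data, S1543, S1547 and the theorem that
maximal subgroups of Type I are Frobenius groups with kernel `L_F` (Peterfalvi (12.7)). -/
theorem stmt1549_of (hG : IsMinSimpleOddOrder G) (h : BookBGData G) (h1543 : Stmt1543 G)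
    (h1547 : Stmt1547 G)
    (hfrob : ∀ L : Subgroup G, IsCoatom L → LitTypeI L → IsFrobWithFittingHall L) :
    Stmt1549 G := by
  intro S T W₁ W₂ U V hS hT hSP hTP hST hII hS25 hT25 hSII L hL hNU
  have hsolv : ∀ M : Subgroup G, IsCoatom M → Group.IsSolvable M := fun M hM => hG.2.2.2 M hM.1
  have hST' : T ⊓ S = W₂ ⊔ W₁ := by rw [inf_comm, hST, sup_comm]
  obtain ⟨hT23, -, hEA, -, hTI, hN⟩ :=
    h1543 T S W₂ W₁ V U hT hS hTP hSP hST' hII.symm hT25 hS25
  obtain ⟨hNW₁, hCW₁⟩ :=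
    stmt1548_of h1543 h1547 S T W₁ W₂ U V hS hT hSP hTP hST hII hS25 hT25
  obtain ⟨hU, hq, hNUS⟩ := typeII_data (hsolv S hS) hSP hSII
  have hp := card_W₂_prime hTP hT23
  have hpq := card_W₂_ne_card_W₁ hSP hp
  have hLI : LitTypeI L :=
    litTypeI_of_pair h ⟨hS, hT, hSP, hTP, hST, hII, hS25, hT25⟩ hpq.symm hL
      (fun g => Cfsg.Agent.Lib.Helper59.PFThirteenM2.not_conj_S hSP (hsolv S hS) hNUS L hNU g)
      (fun g => Cfsg.Agent.Lib.Helper12.PFThirteenM3.not_conj_T hSP hTP hST hU hq hTI hN L hNU g)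
  have hH : fittingHallOf L ≠ ⊥ := by
    intro h0
    apply hLI.1.2.2.1
    unfold fittingHallOf at h0
    exact (Subgroup.map_eq_bot_iff_of_injective _ L.subtype_injective).1 h0
  have hFrob := hfrob L hL hLI
  have hLodd : Odd (Nat.card L) := Odd.of_dvd_nat hG.1 (Subgroup.card_subgroup_dvd_card L)
  obtain ⟨h1, h2⟩ := typeII_support_structure hSP hTP hU hq hp hEA (hNW₁.trans hCW₁)
    (hsolv T hT) (hsolv L hL) hLodd hNU hH hFrob
  exact ⟨hFrob, h1, h2⟩

end

end Cfsg.Agent.Lib.Helper33.PF13
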