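import Cfsg.Agent.Lib.Helper33.SecProp

/-!
# Lifting control of strong fusion through a normal `p'`-subgroup (helper33 library)
-/

set_option autoImplicit false

namespace Cfsg.Agent.Lib.Helper33

universe u

section general

variable {G : Type*} [Group G] {p : ℕ}

theorem pGroup_inf_pPrime_eq_bot [Fact p.Prime] [Finite G] {Q K : Subgroup G} (hQ : IsPGroup p Q)
    (hK : (Nat.card K).Coprime p) : Q ⊓ K = ⊥ := by
  obtain ⟨k, hk⟩ := hQ.exists_card_eq
  apply disjoint_iff.mp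
  apply Subgroup.disjoint_of_coprime_natCard
  rw [hk]
  exact (hK.pow_right k).symm

theorem relIndex_sup_pPrime [Fact p.Prime] [Finite G] {Q K : Subgroup G} (hQ : IsPGroup p Q) [K.Normal]
    (hK : (Nat.card K).Coprime p) : Q.relIndex (Q ⊔ K) = Nat.card K := by
  have h1 := Subgroup.relIndex_mul_relIndex (⊥ : Subgroup G) Q (Q ⊔ K) bot_le le_sup_left
  have h2 := Subgroup.relIndex_mul_relIndex (⊥ : Subgroup G) K (Q ⊔ K) bot_le le_sup_right
  rw [Subgroup.relIndex_bot_left, Subgroup.relIndex_bot_left] at h1 h2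
  have h3 : K.relIndex (Q ⊔ K) = K.relIndex Q := Subgroup.relIndex_sup_right Q K
  have h4 : K.relIndex Q = Nat.card Q := by
    rw [← Subgroup.inf_relIndex_right, inf_comm, pGroup_inf_pPrime_eq_bot hQ hK,
      Subgroup.relIndex_bot_left]
  rw [h3, h4] at h2
  have hpos : 0 < Nat.card Q := Nat.card_pos
  have : Nat.card Q * Q.relIndex (Q ⊔ K) = Nat.card Q * Nat.card K := by
    rw [h1, ← h2, mul_comm]
  exact Nat.eq_of_mul_eq_mul_left hpos this

theorem sylIn_sup_pPrime [Fact p.Prime] [Finite G] {Q K : Subgroup G} (hQ : IsPGroup p Q) [K.Normal]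
    (hK : (Nat.card K).Coprime p) : SylIn p Q (Q ⊔ K) := by
  refine ⟨le_sup_left, hQ, ?_⟩
  rw [relIndex_sup_pPrime hQ hK]
  intro h
  have hp : p.Prime := Fact.out
  have := Nat.Coprime.eq_one_of_dvd hK.symm h
  exact hp.one_lt.ne' this

theorem exists_mul_of_mem_sup_normal {Q K : Subgroup G} [K.Normal] {x : G} (hx : x ∈ Q ⊔ K) :
    ∃ q ∈ Q, ∃ k ∈ K, x = q * k := by
  have : x ∈ ((Q ⊔ K : Subgroup G) : Set G) := hx
  rw [Subgroup.mul_normal] at this
  obtain ⟨q, hq, k, hk, rfl⟩ := this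
  exact ⟨q, hq, k, hk, rfl⟩

/-- Frattini-type lifting: if `x` normalizes `V K` (`V` a `p`-group, `K` a normal `p'`-group), then `k x` normalizes
`V` for some `k ∈ K`. -/
theorem exists_mul_mem_normalizer_of_sup [Fact p.Prime] [Finite G] {V K : Subgroup G} (hV : IsPGroup p V)
    [K.Normal] (hK : (Nat.card K).Coprime p) {x : G}
    (hx : x ∈ Subgroup.normalizer ((V ⊔ K : Subgroup G) : Set G)) :
    ∃ k ∈ K, k * x ∈ Subgroup.normalizer (V : Set G) := by
  have hsyl := sylIn_sup_pPrime hV hK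
  have hle : cj x V ≤ V ⊔ K := by
    have := cj_mono (g := x) (le_sup_left : V ≤ V ⊔ K)
    rwa [cj_eq_self_of_mem_normalizer hx] at this
  obtain ⟨l, hl, hlV⟩ := hsyl.exists_cj_le hle (isPGroup_cj hV)
  obtain ⟨v, hv, k, hk, rfl⟩ := exists_mul_of_mem_sup_normal hl
  refine ⟨k, hk, ?_⟩
  rw [mem_normalizer_iff_cj_eq]
  have h1 : cj (v * k * x) V = V := by
    apply Subgroup.eq_of_le_of_card_ge
    · rw [cj_mul]; exact hlV
    · rw [card_cj]
  have h2 : cj (k * x) V = cj v⁻¹ (cj (v * k * x) V) := by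
    rw [← cj_mul]
    congr 1
    group
  rw [h2, h1]
  exact cj_eq_self_of_mem (V.inv_mem hv)

end general

section lift

variable {p : ℕ} {𝓦 : Set (∀ (Q : Type u) [Group Q], Subgroup Q)}

theorem injOn_mk_of_pPrime [Fact p.Prime] {G : Type*} [Group G] [Finite G] (K : Subgroup G) [K.Normal]
    (hK : (Nat.card K).Coprime p) {T : Subgroup G} (hT : IsPGroup p T) :
    ∀ x ∈ T, QuotientGroup.mk' K x = 1 → x = 1 := by
  intro x hx h1
  rw [QuotientGroup.mk'_apply, QuotientGroup.eq_one_iff] at h1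
  have : x ∈ T ⊓ K := ⟨hx, h1⟩
  rw [pGroup_inf_pPrime_eq_bot hT hK] at this
  exact this

/-- lifting one step of a chain from `G ⧸ K` to `G` -/
theorem lift_step_pPrime [Fact p.Prime] (h𝓦 : ∀ W ∈ 𝓦, Cfsg.IsCharPFunctor.{u} p W) {G : Type u}
    [Group G] [Finite G] (K : Subgroup G) [K.Normal] (hK : (Nat.card K).Coprime p) (T : Subgroup G)
    (hT : IsPGroup p T) {B : Set G} (hB : B ⊆ T) {xb : G ⧸ K}
    (hxb : xb ∈ stepSet (indFam 𝓦 (G ⧸ K)) ⊤ (T.map (QuotientGroup.mk' K)))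
    (hlc : lc xb ((QuotientGroup.mk' K) '' B) ⊆ T.map (QuotientGroup.mk' K)) :
    ∃ x ∈ stepSet (indFam 𝓦 G) ⊤ T, QuotientGroup.mk' K x = xb ∧ lc x B ⊆ T := by
  obtain ⟨_, ⟨W, hW, rfl⟩, hx⟩ := hxb
  have hcf := isConjugacyFunctor_inducedFunctor W (h𝓦 W hW) (G := G)
  have hVT : Cfsg.inducedFunctor W T ≤ T := cf_le hcf hT
  have hVp : IsPGroup p (Cfsg.inducedFunctor W T) := hT.to_le hVT
  have e : Cfsg.inducedFunctor W (T.map (QuotientGroup.mk' K)) =
      (Cfsg.inducedFunctor W T).map (QuotientGroup.mk' K) :=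
    inducedFunctor_map_of_injOn W (h𝓦 W hW) (QuotientGroup.mk' K) T hT (injOn_mk_of_pPrime K hK hT)
  obtain ⟨x, rfl⟩ := QuotientGroup.mk'_surjective K xb
  have hxN : x ∈ Subgroup.normalizer ((Cfsg.inducedFunctor W T ⊔ K : Subgroup G) : Set G) := by
    have h1 : x ∈ (Subgroup.normalizer
        (((Cfsg.inducedFunctor W T).map (QuotientGroup.mk' K) : Subgroup (G ⧸ K)) : Set (G ⧸ K))).comap
        (QuotientGroup.mk' K) := by
      rw [← e]; exact hx.2
    have h2 := Subgroup.le_normalizer_comap (QuotientGroup.mk' K) h1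
    rwa [Subgroup.comap_map_eq, QuotientGroup.ker_mk'] at h2
  obtain ⟨k, hk, hkx⟩ := exists_mul_mem_normalizer_of_sup hVp hK hxN
  have hπk : ∀ k' ∈ K, ∀ y : G, QuotientGroup.mk' K (k' * y) = QuotientGroup.mk' K y := by
    intro k' hk' y
    rw [map_mul]
    have : QuotientGroup.mk' K k' = 1 := by
      rw [QuotientGroup.mk'_apply, QuotientGroup.eq_one_iff]; exact hk'
    rw [this, one_mul]
  have hTN : T ≤ Subgroup.normalizer ((Cfsg.inducedFunctor W T : Subgroup G) : Set G) :=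
    Subgroup.le_normalizer.trans (cf_normalizer_le hcf hT)
  have hsylM : SylIn p T
      (Subgroup.normalizer ((Cfsg.inducedFunctor W T : Subgroup G) : Set G) ⊓ (T ⊔ K)) := by
    refine ⟨le_inf hTN le_sup_left, hT, ?_⟩
    have h1 := Subgroup.relIndex_mul_relIndex T
      (Subgroup.normalizer ((Cfsg.inducedFunctor W T : Subgroup G) : Set G) ⊓ (T ⊔ K)) (T ⊔ K)
      (le_inf hTN le_sup_left) inf_le_right
    intro hdvd
    have h2 : p ∣ T.relIndex (T ⊔ K) := by
      rw [← h1]; exact dvd_mul_of_dvd_left hdvd _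
    exact (sylIn_sup_pPrime hT hK).not_dvd h2
  have hBT : Subgroup.closure B ≤ T := (Subgroup.closure_le _).mpr hB
  have hD'N : cj (k * x) (Subgroup.closure B) ≤
      Subgroup.normalizer ((Cfsg.inducedFunctor W T : Subgroup G) : Set G) := by
    have := cj_mono (g := k * x) (hBT.trans hTN)
    rwa [cj_eq_self_of_mem hkx] at this
  have hD'TK : cj (k * x) (Subgroup.closure B) ≤ T ⊔ K := by
    rw [← lc_subset_subgroup_iff]
    rintro _ ⟨b, hb, rfl⟩
    have h1 : QuotientGroup.mk' K (k * x * b * (k * x)⁻¹) ∈ T.map (QuotientGroup.mk' K) := by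
      apply hlc
      refine ⟨QuotientGroup.mk' K b, ⟨b, hb, rfl⟩, ?_⟩
      show QuotientGroup.mk' K x * QuotientGroup.mk' K b * (QuotientGroup.mk' K x)⁻¹ =
        QuotientGroup.mk' K (k * x * b * (k * x)⁻¹)
      rw [← hπk k hk x, ← map_inv, ← map_mul, ← map_mul]
    rw [← Subgroup.mem_comap, Subgroup.comap_map_eq, QuotientGroup.ker_mk'] at h1
    exact h1
  obtain ⟨m, hm, hmD⟩ := hsylM.exists_cj_le (le_inf hD'N hD'TK) (isPGroup_cj (hT.to_le hBT))
  obtain ⟨t, ht, k', hk', rfl⟩ := exists_mul_of_mem_sup_normal hm.2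
  have hk'N : k' ∈ Subgroup.normalizer ((Cfsg.inducedFunctor W T : Subgroup G) : Set G) := by
    have : k' = t⁻¹ * (t * k') := by group
    rw [this]
    exact mul_mem (inv_mem (hTN ht)) hm.1
  refine ⟨k' * (k * x), ⟨_, ⟨W, hW, rfl⟩, ⟨Subgroup.mem_top _, mul_mem hk'N hkx⟩⟩, ?_, ?_⟩
  · rw [hπk k' hk', hπk k hk]
  · rw [lc_subset_subgroup_iff]
    have h1 : cj (k' * (k * x)) (Subgroup.closure B) =
        cj t⁻¹ (cj (t * k') (cj (k * x) (Subgroup.closure B))) := by
      rw [← cj_mul, ← cj_mul]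
      congr 1
      group
    rw [h1]
    have := cj_mono (g := t⁻¹) hmD
    rwa [cj_eq_self_of_mem (T.inv_mem ht)] at this

/-- lifting a chain from `G ⧸ K` to `G` -/
theorem lift_reach_pPrime [Fact p.Prime] (h𝓦 : ∀ W ∈ 𝓦, Cfsg.IsCharPFunctor.{u} p W) {G : Type u}
    [Group G] [Finite G] (K : Subgroup G) [K.Normal] (hK : (Nat.card K).Coprime p) (T : Subgroup G)
    (hT : IsPGroup p T) {A : Set G} (hA : A ⊆ T) {yb : G ⧸ K}
    (h : Reach (stepSet (indFam 𝓦 (G ⧸ K)) ⊤ (T.map (QuotientGroup.mk' K)))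
      (T.map (QuotientGroup.mk' K)) ((QuotientGroup.mk' K) '' A) yb) :
    ∃ y, QuotientGroup.mk' K y = yb ∧ Reach (stepSet (indFam 𝓦 G) ⊤ T) T A y := by
  induction h with
  | refl => exact ⟨1, map_one _, Reach.refl _ _ _⟩
  | @tail b c hb hbc ih =>
    obtain ⟨y', hy', hreach⟩ := ih
    have hB : lc y' A ⊆ T := hreach.lc_subset hA
    have hlc : lc (c * b⁻¹) ((QuotientGroup.mk' K) '' lc y' A) ⊆ T.map (QuotientGroup.mk' K) := by
      rw [← lc_image, hy', ← lc_mul]
      have : c * b⁻¹ * b = c := by group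
      rw [this]
      exact hbc.2
    obtain ⟨x, hxR, hπx, hxB⟩ := lift_step_pPrime h𝓦 K hK T hT hB hbc.1 hlc
    refine ⟨x * y', ?_, ?_⟩
    · rw [map_mul, hπx, hy']; group
    · refine Relation.ReflTransGen.tail hreach ⟨?_, ?_⟩
      · have : x * y' * y'⁻¹ = x := by group
        rw [this]; exact hxR
      · rw [lc_mul]; exact hxB

/-- **Lifting control of strong fusion through a normal `p'`-subgroup.** -/
theorem familyControls_of_quotient_pPrime [Fact p.Prime] (h𝓦 : ∀ W ∈ 𝓦, Cfsg.IsCharPFunctor.{u} p W)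
    {G : Type u} [Group G] [Finite G] (K : Subgroup G) [K.Normal] (hK : (Nat.card K).Coprime p)
    (h : Cfsg.FamilyControlsStrongFusionIn p (indFam 𝓦 (G ⧸ K)) ⊤) :
    Cfsg.FamilyControlsStrongFusionIn p (indFam 𝓦 G) ⊤ := by
  obtain S : Sylow p G := Classical.arbitrary _
  have hT : IsPGroup p (S : Subgroup G) := S.isPGroup'
  have hTb : SylIn p ((S : Subgroup G).map (QuotientGroup.mk' K)) ⊤ := by
    refine ⟨le_top, hT.map _, ?_⟩
    rw [Subgroup.relIndex_top_right]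
    intro hdvd
    exact S.not_dvd_index (dvd_trans hdvd (Subgroup.index_map_dvd _ (QuotientGroup.mk'_surjective _)))
  have hgood := good_of_familyControls (indFam_isConjugacyFunctor 𝓦 h𝓦 (G ⧸ K)) h hTb
  rw [familyControls_iff_good]
  refine ⟨(S : Subgroup G), sylIn_top S, ?_⟩
  intro A g _ hA hgA
  have hAb : (QuotientGroup.mk' K) '' A ⊆ (S : Subgroup G).map (QuotientGroup.mk' K) := by
    rintro _ ⟨a, ha, rfl⟩
    exact Subgroup.mem_map_of_mem _ (hA ha)
  have hgAb : lc (QuotientGroup.mk' K g) ((QuotientGroup.mk' K) '' A) ⊆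
      (S : Subgroup G).map (QuotientGroup.mk' K) := by
    rw [lc_image]
    rintro _ ⟨a, ha, rfl⟩
    exact Subgroup.mem_map_of_mem _ (hgA ha)
  obtain ⟨yb, hreach, hagree⟩ := hgood _ _ (Subgroup.mem_top _) hAb hgAb
  obtain ⟨y, hy, hyreach⟩ := lift_reach_pPrime h𝓦 K hK (S : Subgroup G) hT hA hreach
  refine ⟨y, hyreach, ?_⟩
  intro a ha
  have h1 : y * a * y⁻¹ ∈ (S : Subgroup G) := hyreach.lc_subset hA (conj_mem_lc ha)
  have h2 : g * a * g⁻¹ ∈ (S : Subgroup G) := hgA (conj_mem_lc ha)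
  have h3 : QuotientGroup.mk' K (y * a * y⁻¹) = QuotientGroup.mk' K (g * a * g⁻¹) := by
    have := hagree (QuotientGroup.mk' K a) ⟨a, ha, rfl⟩
    rw [← hy] at this
    simpa only [map_mul, map_inv] using this
  have h4 : (y * a * y⁻¹)⁻¹ * (g * a * g⁻¹) = 1 := by
    apply injOn_mk_of_pPrime K hK hT _ (mul_mem (inv_mem h1) h2)
    rw [map_mul, map_inv, h3, inv_mul_cancel]
  exact inv_mul_eq_one.mp h4

end lift

end Cfsg.Agent.Lib.Helper33
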