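import Cfsg.Agent.S3074
import Cfsg.Prelude.Def_ConjugacyFunctors

/-!
# Fusion in `Qd(p)` is not controlled by the normalizer of a Sylow subgroup (helper33 library)

* `qd_not_control`: no element of the normalizer of the Heisenberg group `U p` in `Qd(p)` conjugates the central element
  `hs 0 0 1` to its `Qd(p)`-conjugate `hs 0 1 0`.
* `exists_sylow_not_control`: the same statement transported to a group isomorphic to `Qd(p)`.
* `kInfLower_eq_top_of_classTwo`: the lower K-infinity subgroup of a group of class at most two is the whole group.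
-/

set_option autoImplicit false

namespace Cfsg.Agent.Lib.Helper33

open scoped commutatorElement

open Cfsg.Agent.S3074 (hs hs_mem hs_mul hs_inv hs_inj hs_coe hs_one U mem_U card_U card_sylow finite_qd isPGroup_U)

universe u

section qd

variable {p : ℕ} [hp : Fact p.Prime]

/-- the rotation `(x, y) ↦ (-y, x)` as an element of `SL₃` -/
def qdRot (p : ℕ) [Fact p.Prime] : Matrix.SpecialLinearGroup (Fin 3) (ZMod p) :=
  ⟨!![0, -1, 0; 1, 0, 0; 0, 0, 1], by simp [Matrix.det_fin_three]⟩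

theorem qdRot_coe :
    ((qdRot p : Matrix.SpecialLinearGroup (Fin 3) (ZMod p)) : Matrix (Fin 3) (Fin 3) (ZMod p)) =
      !![0, -1, 0; 1, 0, 0; 0, 0, 1] := rfl

theorem qdRot_mem : qdRot p ∈ Cfsg.qd p :=
  Subgroup.subset_closure (by simp [qdRot_coe])

theorem qdRot_mul_hs : qdRot p * hs 0 0 1 = hs 0 1 0 * qdRot p := by
  apply Subtype.ext
  rw [Matrix.SpecialLinearGroup.coe_mul, Matrix.SpecialLinearGroup.coe_mul, hs_coe, hs_coe, qdRot_coe]
  ext i j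
  fin_cases i <;> fin_cases j <;> simp [Matrix.mul_apply, Fin.sum_univ_three]

theorem qdRot_conj_hs : qdRot p * hs 0 0 1 * (qdRot p)⁻¹ = hs 0 1 0 := by
  rw [qdRot_mul_hs]
  group

theorem hs_comm_center (a b c d : ZMod p) : hs 0 0 d * hs a b c = hs a b c * hs 0 0 d := by
  rw [hs_mul, hs_mul]
  congr 1 <;> ring

/-- no element of `N(U p)` carries `hs 0 0 1` to `hs 0 1 0` -/
theorem qd_not_control (x : ↥(Cfsg.qd p)) (hx : x ∈ Subgroup.normalizer ((U p : Subgroup ↥(Cfsg.qd p)) : Set ↥(Cfsg.qd p))) :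
    ((x * ⟨hs 0 0 1, hs_mem _ _ _⟩ * x⁻¹ : ↥(Cfsg.qd p)) : Matrix.SpecialLinearGroup (Fin 3) (ZMod p)) ≠ hs 0 1 0 := by
  intro heq
  have hnt : Nontrivial (ZMod p) := ZMod.nontrivial_iff.mpr hp.out.one_lt.ne'
  have hxinv : x⁻¹ ∈ Subgroup.normalizer ((U p : Subgroup ↥(Cfsg.qd p)) : Set ↥(Cfsg.qd p)) := inv_mem hx
  -- `u' := x⁻¹ (hs 1 0 0) x` lies in `U p`
  have hu : (⟨hs 1 0 0, hs_mem _ _ _⟩ : ↥(Cfsg.qd p)) ∈ U p := ⟨1, 0, 0, rfl⟩
  have hu' := (Subgroup.mem_normalizer_iff.mp hxinv _).mp hu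
  rw [inv_inv] at hu'
  obtain ⟨a, b, c, habc⟩ := hu'
  -- `hs 0 0 1` commutes with it
  have h1 : hs 0 0 1 * hs a b c = hs a b c * hs 0 0 1 := hs_comm_center a b c 1
  -- conjugate back
  have h2 : (x * ⟨hs 0 0 1, hs_mem _ _ _⟩ * x⁻¹ : ↥(Cfsg.qd p)) * ⟨hs 1 0 0, hs_mem _ _ _⟩ =
      ⟨hs 1 0 0, hs_mem _ _ _⟩ * (x * ⟨hs 0 0 1, hs_mem _ _ _⟩ * x⁻¹) := by
    have e1 : (⟨hs 1 0 0, hs_mem _ _ _⟩ : ↥(Cfsg.qd p)) =
        x * (x⁻¹ * ⟨hs 1 0 0, hs_mem _ _ _⟩ * x) * x⁻¹ := by group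
    have e2 : (x⁻¹ * ⟨hs 1 0 0, hs_mem _ _ _⟩ * x : ↥(Cfsg.qd p)) = ⟨hs a b c, hs_mem _ _ _⟩ :=
      Subtype.ext habc
    have e3 : (⟨hs 0 0 1, hs_mem _ _ _⟩ : ↥(Cfsg.qd p)) * ⟨hs a b c, hs_mem _ _ _⟩ =
        ⟨hs a b c, hs_mem _ _ _⟩ * ⟨hs 0 0 1, hs_mem _ _ _⟩ := Subtype.ext h1
    rw [e1, e2]
    calc x * ⟨hs 0 0 1, hs_mem _ _ _⟩ * x⁻¹ * (x * ⟨hs a b c, hs_mem _ _ _⟩ * x⁻¹)
        = x * (⟨hs 0 0 1, hs_mem _ _ _⟩ * ⟨hs a b c, hs_mem _ _ _⟩) * x⁻¹ := by group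
      _ = x * (⟨hs a b c, hs_mem _ _ _⟩ * ⟨hs 0 0 1, hs_mem _ _ _⟩) * x⁻¹ := by rw [e3]
      _ = x * ⟨hs a b c, hs_mem _ _ _⟩ * x⁻¹ * (x * ⟨hs 0 0 1, hs_mem _ _ _⟩ * x⁻¹) := by group
  have h3 := congrArg (fun y : ↥(Cfsg.qd p) => (y : Matrix.SpecialLinearGroup (Fin 3) (ZMod p))) h2
  simp only [Subgroup.coe_mul] at h3 heq
  rw [heq] at h3
  rw [hs_mul, hs_mul] at h3
  obtain ⟨-, -, h4⟩ := hs_inj h3
  simp at h4

theorem exists_sylow_eq_U : ∃ Q : Sylow p ↥(Cfsg.qd p), (Q : Subgroup ↥(Cfsg.qd p)) = U p := by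
  have hfin : Finite ↥(Cfsg.qd p) := finite_qd
  obtain ⟨Q, hUQ⟩ := (isPGroup_U (p := p)).exists_le_sylow
  exact ⟨Q, (Subgroup.eq_of_le_of_card_ge hUQ (by rw [card_sylow, card_U])).symm⟩

theorem commutator_hs (a b c a' b' c' : ZMod p) :
    ⁅hs a b c, hs a' b' c'⁆ = hs 0 0 (a * b' - a' * b) := by
  rw [commutatorElement_def, hs_inv, hs_inv, hs_mul, hs_mul, hs_mul]
  congr 1 <;> ring

/-- the transported statement: in a group isomorphic to `Qd(p)` there is a Sylow `p`-subgroup `T` of class at most two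
whose normalizer does not control fusion in `T` -/
theorem exists_sylow_not_control {G' : Type*} [Group G'] (e : G' ≃* ↥(Cfsg.qd p)) :
    ∃ (T : Sylow p G') (a g : G'), (∀ x ∈ (T : Subgroup G'), ∀ y ∈ (T : Subgroup G'), ∀ z ∈ (T : Subgroup G'),
        ⁅x, y⁆ * z = z * ⁅x, y⁆) ∧ a ∈ (T : Subgroup G') ∧ g * a * g⁻¹ ∈ (T : Subgroup G') ∧
      ∀ x ∈ Subgroup.normalizer ((T : Subgroup G') : Set G'), x * a * x⁻¹ ≠ g * a * g⁻¹ := by
  obtain ⟨Q, hQ⟩ := exists_sylow_eq_U (p := p)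
  have hrange : (Q : Subgroup ↥(Cfsg.qd p)) ≤ e.toMonoidHom.range := by
    intro y _
    exact ⟨e.symm y, e.apply_symm_apply y⟩
  have hinj : Function.Injective e.toMonoidHom := e.injective
  set T : Sylow p G' := Q.comapOfInjective e.toMonoidHom hinj hrange with hT
  have hmemT : ∀ y : G', y ∈ (T : Subgroup G') ↔ e y ∈ U p := by
    intro y
    show y ∈ (Q : Subgroup ↥(Cfsg.qd p)).comap e.toMonoidHom ↔ _
    rw [Subgroup.mem_comap, hQ]
    rfl
  refine ⟨T, e.symm ⟨hs 0 0 1, hs_mem _ _ _⟩, e.symm ⟨qdRot p, qdRot_mem⟩, ?_, ?_, ?_, ?_⟩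
  · intro x hx y hy z hz
    apply e.injective
    rw [map_mul, map_mul, map_commutatorElement]
    obtain ⟨a, b, c, hx'⟩ := (hmemT x).mp hx
    obtain ⟨a', b', c', hy'⟩ := (hmemT y).mp hy
    obtain ⟨a'', b'', c'', hz'⟩ := (hmemT z).mp hz
    apply Subtype.ext
    rw [Subgroup.coe_mul, Subgroup.coe_mul]
    have : ((⁅e x, e y⁆ : ↥(Cfsg.qd p)) : Matrix.SpecialLinearGroup (Fin 3) (ZMod p)) =
        ⁅((e x : ↥(Cfsg.qd p)) : Matrix.SpecialLinearGroup (Fin 3) (ZMod p)),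
          ((e y : ↥(Cfsg.qd p)) : Matrix.SpecialLinearGroup (Fin 3) (ZMod p))⁆ := by
      simp [commutatorElement_def]
    rw [this, hx', hy', hz', commutator_hs]
    exact hs_comm_center _ _ _ _
  · rw [hmemT, e.apply_symm_apply]
    exact ⟨0, 0, 1, rfl⟩
  · rw [hmemT, map_mul, map_mul, map_inv, e.apply_symm_apply, e.apply_symm_apply]
    refine ⟨0, 1, 0, ?_⟩
    rw [Subgroup.coe_mul, Subgroup.coe_mul, Subgroup.coe_inv]
    exact qdRot_conj_hs
  · intro x hx heq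
    have hex : e x ∈ Subgroup.normalizer ((U p : Subgroup ↥(Cfsg.qd p)) : Set ↥(Cfsg.qd p)) := by
      rw [Subgroup.mem_normalizer_iff]
      intro y
      have h1 := (Subgroup.mem_normalizer_iff.mp hx) (e.symm y)
      rw [hmemT, hmemT, e.apply_symm_apply, map_mul, map_mul, map_inv, e.apply_symm_apply] at h1
      exact h1
    apply qd_not_control (e x) hex
    have h2 := congrArg e heq
    rw [map_mul, map_mul, map_inv, map_mul, map_mul, map_inv, e.apply_symm_apply, e.apply_symm_apply] at h2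
    rw [h2, Subgroup.coe_mul, Subgroup.coe_mul, Subgroup.coe_inv]
    exact qdRot_conj_hs

end qd

/-- the lower K-infinity subgroup of a group of class at most two is the whole group -/
theorem kInfLower_eq_top_of_classTwo (P : Type u) [Group P]
    (h : ⁅(⊤ : Subgroup P), (⊤ : Subgroup P)⁆ ≤ Subgroup.centralizer ((⊤ : Subgroup P) : Set P)) :
    Cfsg.kInfLower P = ⊤ := by
  rw [eq_top_iff]
  have h1 : (⊤ : Subgroup P) ∈ Cfsg.kLowerStarFamily (Cfsg.kSeqOdd P 0) := by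
    refine ⟨h, ?_, ?_⟩
    · intro x _
      rw [Subgroup.mem_normalizer_iff]
      intro y
      simp
    · intro A _ _ _ _ _
      refine le_inf le_top ?_
      exact (Subgroup.commutator_mono le_rfl le_top).trans h
  have h2 : (⊤ : Subgroup P) ≤ Cfsg.kSeqEven P 0 := le_sSup h1
  exact h2.trans (le_iSup (fun n => Cfsg.kSeqEven P n) 0)

end Cfsg.Agent.Lib.Helper33
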