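import Mathlib
import Cfsg.Prelude.Def_ConjugacyFunctors
import Cfsg.Agent.S1975

/-!
# Transport of the K-sequence families along injective homomorphisms (helper33 library)
-/

set_option autoImplicit false

namespace Cfsg.Agent.Lib.Helper33

variable {H P : Type*} [Group H] [Group P]

/-- `Z(B)` as a subgroup of the ambient group -/
abbrev zc (B : Subgroup P) : Subgroup P := B ⊓ Subgroup.centralizer (B : Set P)

theorem zc_map {f : H →* P} (hf : Function.Injective f) (B : Subgroup H) :
    (B ⊓ Subgroup.centralizer (B : Set H)).map f = B.map f ⊓ Subgroup.centralizer ((B.map f : Subgroup P) : Set P) := by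
  ext x
  constructor
  · rintro ⟨y, hy, rfl⟩
    rw [Subgroup.coe_inf, Set.mem_inter_iff] at hy
    refine Subgroup.mem_inf.mpr ⟨Subgroup.mem_map_of_mem f hy.1, ?_⟩
    rw [Subgroup.mem_centralizer_iff]
    rintro _ ⟨b, hb, rfl⟩
    have := (Subgroup.mem_centralizer_iff.mp hy.2) b hb
    rw [← map_mul, ← map_mul, this]
  · intro hx
    obtain ⟨⟨y, hy, rfl⟩, hc⟩ := Subgroup.mem_inf.mp hx
    refine ⟨y, Subgroup.mem_inf.mpr ⟨hy, ?_⟩, rfl⟩
    rw [Subgroup.mem_centralizer_iff]
    intro b hb
    apply hf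
    rw [map_mul, map_mul]
    exact (Subgroup.mem_centralizer_iff.mp hc) (f b) (Subgroup.mem_map_of_mem f hb)

theorem classTwo_map_iff {f : H →* P} (hf : Function.Injective f) (B : Subgroup H) :
    B ∈ Cfsg.classTwoSubgroups H ↔ B.map f ∈ Cfsg.classTwoSubgroups P := by
  unfold Cfsg.classTwoSubgroups
  simp only [Set.mem_ofPred_eq]
  rw [← Subgroup.commutator_eq_bot_iff_le_centralizer, ← Subgroup.commutator_eq_bot_iff_le_centralizer,
    ← Subgroup.map_commutator, ← Subgroup.map_commutator, Subgroup.map_eq_bot_iff_of_injective _ hf]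

theorem upper_map_iff {f : H →* P} (hf : Function.Injective f) (B R : Subgroup H) :
    B ∈ Cfsg.kUpperStarFamily R ↔ B.map f ∈ Cfsg.kUpperStarFamily (R.map f) := by
  unfold Cfsg.kUpperStarFamily
  simp only [Set.mem_ofPred_eq]
  rw [← classTwo_map_iff hf, ← zc_map hf, ← Subgroup.map_commutator,
    Subgroup.map_le_map_iff_of_injective hf]

theorem le_normalizer_map_iff {f : H →* P} (hf : Function.Injective f) (B R : Subgroup H) :
    R ≤ Subgroup.normalizer (B : Set H) ↔ R.map f ≤ Subgroup.normalizer ((B.map f : Subgroup P) : Set P) := by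
  rw [Subgroup.le_normalizer_iff_commutator_le_right, Subgroup.le_normalizer_iff_commutator_le_right,
    ← Subgroup.map_commutator, Subgroup.map_le_map_iff_of_injective hf]

theorem lower_map_iff {f : H →* P} (hf : Function.Injective f) (B R : Subgroup H) :
    B ∈ Cfsg.kLowerStarFamily R ↔ B.map f ∈ Cfsg.kLowerStarFamily (R.map f) := by
  unfold Cfsg.kLowerStarFamily
  simp only [Set.mem_ofPred_eq]
  rw [← classTwo_map_iff hf, ← le_normalizer_map_iff hf]
  refine and_congr_right (fun _ => and_congr_right (fun _ => ?_))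
  constructor
  · intro h A hA hAR hBA h1 h2
    have hAr : A ≤ f.range := hAR.trans (Subgroup.map_le_range f R)
    have hAe : (A.comap f).map f = A := Subgroup.map_comap_eq_self hAr
    rw [← hAe] at hA hAR hBA h1 h2 ⊢
    rw [← classTwo_map_iff hf] at hA
    rw [Subgroup.map_le_map_iff_of_injective hf] at hAR
    rw [← le_normalizer_map_iff hf] at hBA
    rw [← Subgroup.map_commutator, ← Subgroup.map_commutator, Subgroup.map_eq_bot_iff_of_injective _ hf] at h1
    rw [← zc_map hf, ← Subgroup.map_commutator, ← Subgroup.map_commutator,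
      Subgroup.map_eq_bot_iff_of_injective _ hf] at h2
    rw [← zc_map hf, ← Subgroup.map_commutator, Subgroup.map_le_map_iff_of_injective hf]
    exact h _ hA hAR hBA h1 h2
  · intro h A hA hAR hBA h1 h2
    have := h (A.map f) ((classTwo_map_iff hf A).mp hA) (Subgroup.map_mono hAR)
      ((le_normalizer_map_iff hf A B).mp hBA)
      (by rw [← Subgroup.map_commutator, ← Subgroup.map_commutator, h1, Subgroup.map_bot])
      (by rw [← zc_map hf, ← Subgroup.map_commutator, ← Subgroup.map_commutator, h2, Subgroup.map_bot])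
    rwa [← zc_map hf, ← Subgroup.map_commutator, Subgroup.map_le_map_iff_of_injective hf] at this

/-- the K-sequence of a subgroup `Q`, computed inside the ambient group -/
def relOdd (Q : Subgroup P) : ℕ → Subgroup P
  | 0 => Q
  | n + 1 => sSup {B | B ∈ Cfsg.kUpperStarFamily (sSup {B | B ∈ Cfsg.kLowerStarFamily (relOdd Q n) ∧ B ≤ Q}) ∧ B ≤ Q}

def relEven (Q : Subgroup P) (n : ℕ) : Subgroup P :=
  sSup {B | B ∈ Cfsg.kLowerStarFamily (relOdd Q n) ∧ B ≤ Q}

theorem relOdd_succ (Q : Subgroup P) (n : ℕ) :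
    relOdd Q (n + 1) = sSup {B | B ∈ Cfsg.kUpperStarFamily (relEven Q n) ∧ B ≤ Q} := rfl

theorem map_sSup_family {f : H →* P} (hf : Function.Injective f) (𝒦 : Set (Subgroup H)) (𝒦' : Set (Subgroup P))
    (h : ∀ B : Subgroup H, B ∈ 𝒦 ↔ B.map f ∈ 𝒦') :
    (sSup 𝒦).map f = sSup {B | B ∈ 𝒦' ∧ B ≤ f.range} := by
  rw [(Subgroup.gc_map_comap f).l_sSup]
  apply le_antisymm
  · apply iSup₂_le
    intro B hB
    exact le_sSup ⟨(h B).mp hB, Subgroup.map_le_range f B⟩
  · apply sSup_le
    rintro B ⟨hB, hBr⟩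
    have hBe : (B.comap f).map f = B := Subgroup.map_comap_eq_self hBr
    rw [← hBe] at hB ⊢
    exact le_iSup₂ (f := fun (B : Subgroup H) (_ : B ∈ 𝒦) => B.map f) (B.comap f) ((h _).mpr hB)

theorem kSeq_map {f : H →* P} (hf : Function.Injective f) (n : ℕ) :
    (Cfsg.kSeqOdd H n).map f = relOdd f.range n ∧ (Cfsg.kSeqEven H n).map f = relEven f.range n := by
  induction n with
  | zero =>
    have h0 : (Cfsg.kSeqOdd H 0).map f = relOdd f.range 0 := by
      simp [Cfsg.kSeqOdd, relOdd, MonoidHom.range_eq_map]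
    refine ⟨h0, ?_⟩
    unfold Cfsg.kSeqEven relEven
    rw [map_sSup_family hf _ (Cfsg.kLowerStarFamily (relOdd f.range 0))]
    intro B
    rw [← h0]
    exact lower_map_iff hf B _
  | succ n ih =>
    have h1 : (Cfsg.kSeqOdd H (n + 1)).map f = relOdd f.range (n + 1) := by
      rw [relOdd_succ, ← ih.2]
      have : Cfsg.kSeqOdd H (n + 1) = sSup (Cfsg.kUpperStarFamily (Cfsg.kSeqEven H n)) := rfl
      rw [this, map_sSup_family hf _ (Cfsg.kUpperStarFamily ((Cfsg.kSeqEven H n).map f))]
      intro B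
      exact upper_map_iff hf B _
    refine ⟨h1, ?_⟩
    unfold Cfsg.kSeqEven relEven
    rw [map_sSup_family hf _ (Cfsg.kLowerStarFamily (relOdd f.range (n + 1)))]
    intro B
    rw [← h1]
    exact lower_map_iff hf B _

end Cfsg.Agent.Lib.Helper33
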