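import Mathlib
import Cfsg.Prelude.Def_PLocal

/-!
# A critical-type subgroup of a normal nilpotent subgroup (helper33 library)

`exists_critical`: if `Q` is a normal nilpotent subgroup of the finite group `X`, there is `A ≤ Q`, normal in `X`, of class at
most two, with `[Q, A] ≤ Z(A)` and `C_Q(A) ≤ A` (Thompson's critical subgroup without the exponent condition).
-/

set_option autoImplicit false

namespace Cfsg.Agent.Lib.Helper33

open scoped commutatorElement

variable {X : Type*} [Group X]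

theorem iterCommutator_le_lowerCentralSeries {N Q : Subgroup X} (h : N ≤ Q) (k : ℕ) :
    Cfsg.iterCommutator N Q k ≤ Q.lowerCentralSeries k := by
  induction k with
  | zero => exact h
  | succ k ih => exact Subgroup.commutator_mono ih le_rfl

theorem exists_iterCommutator_eq_bot {N Q : Subgroup X} [Group.IsNilpotent ↥Q] (h : N ≤ Q) :
    ∃ k, Cfsg.iterCommutator N Q k = ⊥ := by
  obtain ⟨n, hn⟩ := (Subgroup.isNilpotent_iff_lowerCentralSeries (S := Q)).mp inferInstance
  exact ⟨n, le_bot_iff.mp ((iterCommutator_le_lowerCentralSeries h n).trans hn.le)⟩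

theorem iterCommutator_le_of_normal {N Q : Subgroup X} [N.Normal] (k : ℕ) :
    Cfsg.iterCommutator N Q k ≤ N := by
  induction k with
  | zero => exact le_rfl
  | succ k ih => exact (Subgroup.commutator_mono ih le_rfl).trans (Subgroup.commutator_le_left N Q)

/-- the elements commuting with `Q` modulo the normal subgroup `M` -/
def centMod (M Q : Subgroup X) [M.Normal] : Subgroup X :=
  (Subgroup.centralizer ((Q.map (QuotientGroup.mk' M) : Subgroup (X ⧸ M)) : Set (X ⧸ M))).comap (QuotientGroup.mk' M)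

theorem mem_centMod {M Q : Subgroup X} [M.Normal] {x : X} :
    x ∈ centMod M Q ↔ ∀ y ∈ Q, ⁅x, y⁆ ∈ M := by
  unfold centMod
  rw [Subgroup.mem_comap, Subgroup.mem_centralizer_iff]
  constructor
  · intro h y hy
    have := h _ (Subgroup.mem_map_of_mem _ hy)
    rw [← QuotientGroup.eq_one_iff, commutatorElement_def]
    simp only [QuotientGroup.mk'_apply] at this
    rw [QuotientGroup.mk_mul, QuotientGroup.mk_mul, QuotientGroup.mk_mul, QuotientGroup.mk_inv, QuotientGroup.mk_inv,
      ← this]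
    group
  · rintro h _ ⟨y, hy, rfl⟩
    have := h y hy
    rw [← QuotientGroup.eq_one_iff, commutatorElement_def, QuotientGroup.mk_mul, QuotientGroup.mk_mul,
      QuotientGroup.mk_mul, QuotientGroup.mk_inv, QuotientGroup.mk_inv] at this
    simp only [QuotientGroup.mk'_apply]
    have e : (y : X ⧸ M) * (x : X ⧸ M) = ((x : X ⧸ M) * (y : X ⧸ M) * (x : X ⧸ M)⁻¹ * (y : X ⧸ M)⁻¹)⁻¹ * ((x : X ⧸ M) * (y : X ⧸ M)) := by
      group
    rw [e, this]
    simp

instance centMod_normal (M Q : Subgroup X) [M.Normal] [Q.Normal] : (centMod M Q).Normal := by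
  unfold centMod
  have : (Q.map (QuotientGroup.mk' M)).Normal :=
    Subgroup.Normal.map inferInstance _ (QuotientGroup.mk'_surjective M)
  exact Subgroup.Normal.comap inferInstance _

theorem exists_critical [Finite X] (Q : Subgroup X) [Q.Normal] [Group.IsNilpotent ↥Q] :
    ∃ A : Subgroup X, A.Normal ∧ A ≤ Q ∧ ⁅A, A⁆ ≤ Subgroup.centralizer (A : Set X) ∧
      ⁅Q, A⁆ ≤ A ⊓ Subgroup.centralizer (A : Set X) ∧ Q ⊓ Subgroup.centralizer (A : Set X) ≤ A := by
  classical
  -- a maximal normal abelian subgroup of `X` inside `Q`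
  let 𝒮 : Set (Subgroup X) := {M | M.Normal ∧ M ≤ Q ∧ ⁅M, M⁆ = ⊥}
  have h𝒮fin : 𝒮.Finite := Set.toFinite _
  have h𝒮ne : 𝒮.Nonempty := ⟨⊥, inferInstance, bot_le, by simp⟩
  obtain ⟨M, hM𝒮, hMmax⟩ := h𝒮fin.exists_maximal h𝒮ne
  obtain ⟨hMn, hMQ, hMab⟩ := hM𝒮
  have hMcent : M ≤ Subgroup.centralizer (M : Set X) :=
    Subgroup.commutator_eq_bot_iff_le_centralizer.mp hMab
  set A : Subgroup X := (Q ⊓ Subgroup.centralizer (M : Set X)) ⊓ centMod M Q with hA
  have hAn : A.Normal := inferInstance
  have hAQ : A ≤ Q := inf_le_left.trans inf_le_left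
  have hAcM : A ≤ Subgroup.centralizer (M : Set X) := inf_le_left.trans inf_le_right
  have hMA : M ≤ A := by
    refine le_inf (le_inf hMQ hMcent) ?_
    intro m hm
    rw [mem_centMod]
    intro y _
    rw [commutatorElement_def]
    have h1 : y * m⁻¹ * y⁻¹ ∈ M := hMn.conj_mem _ (M.inv_mem hm) y
    have : m * y * m⁻¹ * y⁻¹ = m * (y * m⁻¹ * y⁻¹) := by group
    rw [this]
    exact M.mul_mem hm h1
  have hQA : ⁅Q, A⁆ ≤ M := by
    rw [Subgroup.commutator_comm, Subgroup.commutator_le]
    intro a ha y hy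
    exact mem_centMod.mp ha.2 y hy
  have hMcA : M ≤ Subgroup.centralizer (A : Set X) := by
    rw [← Subgroup.commutator_eq_bot_iff_le_centralizer, Subgroup.commutator_comm,
      Subgroup.commutator_eq_bot_iff_le_centralizer]
    exact hAcM
  have hMZ : M ≤ A ⊓ Subgroup.centralizer (A : Set X) := le_inf hMA hMcA
  -- `Z(A) = M` by maximality
  have hZM : A ⊓ Subgroup.centralizer (A : Set X) = M := by
    have hZn : (A ⊓ Subgroup.centralizer (A : Set X)).Normal := inferInstance
    have hZab : ⁅A ⊓ Subgroup.centralizer (A : Set X), A ⊓ Subgroup.centralizer (A : Set X)⁆ = ⊥ := by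
      rw [Subgroup.commutator_eq_bot_iff_le_centralizer]
      exact inf_le_right.trans (Subgroup.centralizer_le (by
        intro x hx
        exact hx.1))
    have hmem : A ⊓ Subgroup.centralizer (A : Set X) ∈ 𝒮 := ⟨hZn, inf_le_left.trans hAQ, hZab⟩
    exact le_antisymm (hMmax hmem hMZ) hMZ
  refine ⟨A, hAn, hAQ, ?_, hQA.trans hMZ, ?_⟩
  · exact (Subgroup.commutator_mono hAQ le_rfl).trans (hQA.trans hMcA)
  · -- `C_Q(A) ≤ A`
    set N : Subgroup X := Q ⊓ Subgroup.centralizer (A : Set X) with hN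
    have hNn : N.Normal := inferInstance
    by_contra hNA
    have hNM : ¬ N ≤ M := fun h => hNA (h.trans hMA)
    obtain ⟨k0, hk0⟩ := exists_iterCommutator_eq_bot (N := N) (Q := Q) inf_le_left
    have hex : ∃ k, Cfsg.iterCommutator N Q k ≤ M := ⟨k0, hk0.le.trans bot_le⟩
    set k := Nat.find hex with hk
    have hkM : Cfsg.iterCommutator N Q k ≤ M := Nat.find_spec hex
    have hkpos : k ≠ 0 := by
      intro h0
      rw [h0] at hkM
      exact hNM hkM
    obtain ⟨j, hj⟩ := Nat.exists_eq_succ_of_ne_zero hkpos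
    have hjM : ¬ Cfsg.iterCommutator N Q j ≤ M := Nat.find_min hex (by omega)
    obtain ⟨x, hxj, hxM⟩ := SetLike.not_le_iff_exists.mp hjM
    have hxN : x ∈ N := iterCommutator_le_of_normal j hxj
    have hxA : x ∈ A := by
      refine Subgroup.mem_inf.mpr ⟨Subgroup.mem_inf.mpr ⟨hxN.1, ?_⟩, ?_⟩
      · exact (Subgroup.centralizer_le (show (M : Set X) ⊆ A from hMA)) hxN.2
      · rw [mem_centMod]
        intro y hy
        apply hkM
        rw [hj]
        exact Subgroup.commutator_mem_commutator hxj hy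
    have : x ∈ A ⊓ Subgroup.centralizer (A : Set X) := Subgroup.mem_inf.mpr ⟨hxA, hxN.2⟩
    rw [hZM] at this
    exact hxM this

end Cfsg.Agent.Lib.Helper33
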