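import Cfsg.Agent.Lib.Helper33.TransferControl

/-!
# Isomorphism-invariant `p`-group functors on sections (helper33 library)

* `inducedFunctor_map_equiv`, `isConjugacyFunctor_inducedFunctor`
* `controlsTransferIn_top_of_mulEquiv`: transport of control of transfer along an isomorphism
* `SecCtl p W G`: `W` controls transfer in every section of `G` (intrinsic form), with
  `secCtl_of_sections`, `SecCtl.subgroup`, `SecCtl.quotient`, `SecCtl.self`.
-/

set_option autoImplicit false

namespace Cfsg.Agent.Lib.Helper33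

universe u

open scoped commutatorElement

section induced

variable {p : ℕ} (W : ∀ (Q : Type u) [Group Q], Subgroup Q)

theorem inducedFunctor_map_equiv (hW : Cfsg.IsCharPFunctor.{u} p W) {X Y : Type u} [Group X] [Group Y]
    [Finite X] (e : X ≃* Y) (T : Subgroup X) (hT : IsPGroup p T) :
    Cfsg.inducedFunctor W (T.map e.toMonoidHom) = (Cfsg.inducedFunctor W T).map e.toMonoidHom := by
  unfold Cfsg.inducedFunctor
  have h := hW.2 ↥T ↥(T.map e.toMonoidHom) hT (e.subgroupMap T)
  rw [← h, Subgroup.map_map, Subgroup.map_map]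
  congr 1

theorem isConjugacyFunctor_inducedFunctor (hW : Cfsg.IsCharPFunctor.{u} p W) {G : Type u} [Group G]
    [Finite G] : Cfsg.IsConjugacyFunctor p (Cfsg.inducedFunctor (G := G) W) := by
  intro P hP
  refine ⟨?_, ?_, ?_⟩
  · unfold Cfsg.inducedFunctor
    exact Subgroup.map_subtype_le _
  · intro hne
    unfold Cfsg.inducedFunctor
    rw [Ne, Subgroup.map_eq_bot_iff_of_injective _ P.subtype_injective]
    have : Nontrivial ↥P := (Subgroup.nontrivial_iff_ne_bot P).mpr hne
    exact hW.1 ↥P hP this
  · intro g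
    exact inducedFunctor_map_equiv W hW (MulAut.conj g) P hP

end induced

section transport

variable {p : ℕ} (W : ∀ (Q : Type u) [Group Q], Subgroup Q)

/-- Control of transfer by `W` in the whole group, for a given Sylow subgroup, in `focalTerm` form. -/
theorem focal_eq_of_controlsTransfer [Fact p.Prime] {G : Type*} [Group G] [Finite G]
    {Wf : Subgroup G → Subgroup G} (hWf : Cfsg.IsConjugacyFunctor p Wf) {H : Subgroup G}
    (hctl : Cfsg.ControlsTransferIn p Wf H) {T : Subgroup G} (hT : SylIn p T H) :
    T ⊓ ⁅H, H⁆ = focalTerm Wf H T := by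
  obtain ⟨T₀, h1, h2, h3, heq⟩ := hctl
  have hT₀ : SylIn p T₀ H := ⟨h1, h2, h3⟩
  obtain ⟨u, hu, huT⟩ := hT.exists_cj_eq hT₀
  have h4 := congrArg (cj u) heq
  rw [cj_inf, cj_commutator, cj_eq_self_of_mem hu, huT] at h4
  rw [h4]
  have h5 := cj_focalTerm hWf hT₀.isPGroup hu
  unfold focalTerm at h5
  rw [h5, huT]
  rfl

theorem controlsTransferIn_top_of_mulEquiv (hW : Cfsg.IsCharPFunctor.{u} p W) {X Y : Type u} [Group X]
    [Group Y] [Finite X] (e : X ≃* Y)
    (h : Cfsg.ControlsTransferIn p (Cfsg.inducedFunctor (G := X) W) ⊤) :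
    Cfsg.ControlsTransferIn p (Cfsg.inducedFunctor (G := Y) W) ⊤ := by
  obtain ⟨T, -, hT, hidx, heq⟩ := h
  refine ⟨T.map e.toMonoidHom, le_top, hT.map _, ?_, ?_⟩
  · rw [Subgroup.relIndex_top_right] at hidx ⊢
    have h0 : (Subgroup.map e.toMonoidHom T).index = T.index := Subgroup.index_map_equiv T e
    rwa [h0]
  · have hinj : Function.Injective e.toMonoidHom := e.injective
    have htop : (⊤ : Subgroup X).map e.toMonoidHom = ⊤ :=
      Subgroup.map_top_of_surjective _ e.surjective
    have h1 := congrArg (Subgroup.map e.toMonoidHom) heq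
    rw [Subgroup.map_inf _ _ _ hinj, Subgroup.map_inf _ _ _ hinj, Subgroup.map_commutator,
      Subgroup.map_commutator, Subgroup.map_inf _ _ _ hinj, htop,
      Subgroup.map_equiv_normalizer_eq, ← inducedFunctor_map_equiv W hW e T hT] at h1
    exact h1

end transport

section secctl

variable (p : ℕ) (W : ∀ (Q : Type u) [Group Q], Subgroup Q)

/-- `W` controls transfer in every section of `G`: for every subgroup `K` of `G` and every surjection of `K` onto a
group `Y` (in the same universe), `W` controls transfer in `Y`. -/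
def SecCtl (G : Type u) [Group G] : Prop :=
  ∀ (K : Subgroup G) (Y : Type u) [Group Y] (φ : ↥K →* Y), Function.Surjective φ →
    Cfsg.ControlsTransferIn p (Cfsg.inducedFunctor (G := Y) W) ⊤

variable {p} {W}

theorem secCtl_of_sections (hW : Cfsg.IsCharPFunctor.{u} p W) {G : Type u} [Group G] [Finite G]
    (hctl : ∀ (K R : Subgroup G) [_hR : (R.subgroupOf K).Normal],
      Cfsg.ControlsTransferIn p (Cfsg.inducedFunctor (G := (↥K ⧸ R.subgroupOf K)) W) ⊤) :
    SecCtl p W G := by
  intro K Y _ φ hφ
  have hR : (φ.ker.map K.subtype).subgroupOf K = φ.ker :=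
    Subgroup.comap_map_eq_self_of_injective K.subtype_injective φ.ker
  have : ((φ.ker.map K.subtype).subgroupOf K).Normal := by rw [hR]; infer_instance
  have h1 := hctl K (φ.ker.map K.subtype)
  exact controlsTransferIn_top_of_mulEquiv W hW
    ((QuotientGroup.quotientMulEquivOfEq hR).trans (QuotientGroup.quotientKerEquivOfSurjective φ hφ)) h1

theorem SecCtl.self {G : Type u} [Group G] (h : SecCtl p W G) :
    Cfsg.ControlsTransferIn p (Cfsg.inducedFunctor (G := G) W) ⊤ :=
  h ⊤ G (Subgroup.topEquiv (G := G)).toMonoidHom (Subgroup.topEquiv (G := G)).surjective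

theorem SecCtl.subgroup {G : Type u} [Group G] (h : SecCtl p W G) (N : Subgroup G) : SecCtl p W ↥N := by
  intro K Y _ φ hφ
  exact h (K.map N.subtype) Y
    (φ.comp (K.equivMapOfInjective N.subtype N.subtype_injective).symm.toMonoidHom)
    (hφ.comp (K.equivMapOfInjective N.subtype N.subtype_injective).symm.surjective)

theorem SecCtl.quotient {G : Type u} [Group G] (h : SecCtl p W G) (M : Subgroup G) [M.Normal] :
    SecCtl p W (G ⧸ M) := by
  intro K Y _ φ hφ
  exact h (K.comap (QuotientGroup.mk' M)) Y (φ.comp ((QuotientGroup.mk' M).subgroupComap K))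
    (hφ.comp ((QuotientGroup.mk' M).subgroupComap_surjective_of_surjective K
      (QuotientGroup.mk'_surjective M)))

end secctl

end Cfsg.Agent.Lib.Helper33
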