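import Cfsg.Agent.Lib.Helper33.FusionControl2
import Cfsg.Agent.Lib.Helper33.Sections

/-!
# Transport of control of strong fusion along injective homomorphisms (helper33 library)
-/

set_option autoImplicit false

namespace Cfsg.Agent.Lib.Helper33

universe u

section basics

variable {X Y : Type*} [Group X] [Group Y]

theorem lc_image (f : X →* Y) (g : X) (A : Set X) : lc (f g) (f '' A) = f '' (lc g A) := by
  unfold lc
  rw [Set.image_image, Set.image_image]
  apply Set.image_congr
  intro a _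
  simp

theorem Reach.map {R : Set X} {T : Subgroup X} {A : Set X} {g : X} (f : X →* Y) {R' : Set Y}
    (hR : ∀ x ∈ R, f x ∈ R') (h : Reach R T A g) : Reach R' (T.map f) (f '' A) (f g) := by
  have : Relation.ReflTransGen (FStep R' (T.map f) (f '' A)) (f 1) (f g) := by
    refine Relation.ReflTransGen.lift f ?_ _ _ h
    intro a b hab
    refine ⟨?_, ?_⟩
    · have : f b * (f a)⁻¹ = f (b * a⁻¹) := by simp
      rw [this]
      exact hR _ hab.1
    · rw [lc_image]
      rintro _ ⟨x, hx, rfl⟩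
      exact Subgroup.mem_map_of_mem f (hab.2 hx)
  rwa [map_one] at this

theorem Good.map {R : Set X} {T : Subgroup X} {A : Set X} {g : X} (f : X →* Y) {R' : Set Y}
    (hR : ∀ x ∈ R, f x ∈ R') (h : Good R T A g) : Good R' (T.map f) (f '' A) (f g) := by
  obtain ⟨g', h1, h2⟩ := h
  refine ⟨f g', h1.map f hR, ?_⟩
  rintro _ ⟨a, ha, rfl⟩
  rw [← map_inv, ← map_mul, ← map_mul, h2 a ha]
  simp

end basics

section induced

variable {p : ℕ} (W : ∀ (Q : Type u) [Group Q], Subgroup Q)

/-- `W(f(T)) = f(W(T))` for a homomorphism `f` injective on the finite `p`-group `T`. -/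
theorem inducedFunctor_map_of_injOn (hW : Cfsg.IsCharPFunctor.{u} p W) {X Y : Type u} [Group X] [Group Y]
    [Finite X] (f : X →* Y) (T : Subgroup X) (hT : IsPGroup p T) (hinj : ∀ x ∈ T, f x = 1 → x = 1) :
    Cfsg.inducedFunctor W (T.map f) = (Cfsg.inducedFunctor W T).map f := by
  have hbij : Function.Bijective (f.subgroupMap T) := by
    refine ⟨?_, f.subgroupMap_surjective T⟩
    rw [injective_iff_map_eq_one]
    intro x hx
    have h1 : f x.1 = 1 := by
      have := congrArg Subtype.val hx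
      simpa using this
    exact Subtype.ext (hinj x.1 x.2 h1)
  unfold Cfsg.inducedFunctor
  have h := hW.2 ↥T ↥(T.map f) hT (MulEquiv.ofBijective (f.subgroupMap T) hbij)
  rw [← h, Subgroup.map_map, Subgroup.map_map]
  congr 1

end induced

section family

variable {p : ℕ} (𝓦 : Set (∀ (Q : Type u) [Group Q], Subgroup Q))

/-- the family of conjugacy functors on `G` induced by a set of group functors -/
def indFam (G : Type u) [Group G] : Set (Subgroup G → Subgroup G) :=
  (fun W => Cfsg.inducedFunctor (G := G) W) '' 𝓦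

theorem indFam_isConjugacyFunctor (h𝓦 : ∀ W ∈ 𝓦, Cfsg.IsCharPFunctor.{u} p W) (G : Type u) [Group G]
    [Finite G] : ∀ Wf ∈ indFam 𝓦 G, Cfsg.IsConjugacyFunctor p Wf := by
  rintro _ ⟨W, hW, rfl⟩
  exact isConjugacyFunctor_inducedFunctor W (h𝓦 W hW)

variable {𝓦}

/-- Control of strong fusion in the group `X` gives control of strong fusion in the image of an injective
homomorphism `X →* Y`. -/
theorem familyControls_range_of_injective [Fact p.Prime] (h𝓦 : ∀ W ∈ 𝓦, Cfsg.IsCharPFunctor.{u} p W)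
    {X Y : Type u} [Group X] [Group Y] [Finite X] (f : X →* Y) (hf : Function.Injective f)
    (h : Cfsg.FamilyControlsStrongFusionIn p (indFam 𝓦 X) ⊤) :
    Cfsg.FamilyControlsStrongFusionIn p (indFam 𝓦 Y) f.range := by
  rw [familyControls_iff_good] at h ⊢
  obtain ⟨T, hT, hgood⟩ := h
  refine ⟨T.map f, ⟨?_, hT.isPGroup.map f, ?_⟩, ?_⟩
  · rw [MonoidHom.range_eq_map]
    exact Subgroup.map_mono le_top
  · rw [MonoidHom.range_eq_map, Subgroup.relIndex_map_map_of_injective _ _ hf]
    exact hT.not_dvd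
  · rintro A' _ ⟨h, rfl⟩ hA' hhA'
    have hmem : ∀ a : X, f a ∈ T.map f → a ∈ T := by
      intro a ha
      obtain ⟨b, hb, hba⟩ := ha
      rwa [← hf hba]
    have hA'eq : f '' (f ⁻¹' A') = A' := by
      apply Set.image_preimage_eq_of_subset
      intro y hy
      obtain ⟨b, -, hb⟩ := hA' hy
      exact ⟨b, hb⟩
    have hA : f ⁻¹' A' ⊆ T := fun a ha => hmem a (hA' ha)
    have hhA : lc h (f ⁻¹' A') ⊆ T := by
      rintro _ ⟨a, ha, rfl⟩
      apply hmem
      apply hhA'
      refine ⟨f a, ha, ?_⟩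
      simp
    have h1 := hgood (f ⁻¹' A') h (Subgroup.mem_top h) hA hhA
    have h2 := h1.map f (R' := stepSet (indFam 𝓦 Y) f.range (T.map f)) (by
      rintro x ⟨_, ⟨W, hW, rfl⟩, hx⟩
      refine ⟨_, ⟨W, hW, rfl⟩, ?_⟩
      refine ⟨⟨x, rfl⟩, ?_⟩
      have e := inducedFunctor_map_of_injOn W (h𝓦 W hW) f T hT.isPGroup
        (fun a _ ha => hf (ha.trans (map_one f).symm))
      show f x ∈ Subgroup.normalizer ((Cfsg.inducedFunctor W (T.map f) : Subgroup Y) : Set Y)
      rw [e]
      exact Subgroup.le_normalizer_map f (Subgroup.mem_map_of_mem f hx.2))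
    rwa [hA'eq] at h2

theorem familyControls_subgroup_of_top [Fact p.Prime] (h𝓦 : ∀ W ∈ 𝓦, Cfsg.IsCharPFunctor.{u} p W)
    {G : Type u} [Group G] [Finite G] (H : Subgroup G)
    (h : Cfsg.FamilyControlsStrongFusionIn p (indFam 𝓦 ↥H) ⊤) :
    Cfsg.FamilyControlsStrongFusionIn p (indFam 𝓦 G) H := by
  have := familyControls_range_of_injective h𝓦 H.subtype H.subtype_injective h
  rwa [Subgroup.range_subtype] at this

theorem familyControls_top_of_mulEquiv [Fact p.Prime] (h𝓦 : ∀ W ∈ 𝓦, Cfsg.IsCharPFunctor.{u} p W)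
    {X Y : Type u} [Group X] [Group Y] [Finite X] (e : X ≃* Y)
    (h : Cfsg.FamilyControlsStrongFusionIn p (indFam 𝓦 X) ⊤) :
    Cfsg.FamilyControlsStrongFusionIn p (indFam 𝓦 Y) ⊤ := by
  have := familyControls_range_of_injective h𝓦 e.toMonoidHom e.injective h
  rwa [MonoidHom.range_eq_top.mpr e.surjective] at this

end family

end Cfsg.Agent.Lib.Helper33
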