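import Cfsg.Agent.Lib.Helper33.KInfFunctor
import Cfsg.Agent.Lib.Helper33.FusionTransport
import Cfsg.Agent.S1979

/-!
# The K-infinity subgroups of a Sylow subgroup versus a normal `p`-subgroup (helper33 library)

If `A ≤ Q` is a normal subgroup of class at most two with `[Q, A] ≤ Z(A)`, and every subgroup `B` of the `p`-group `P` with
`[A, B, B, B] = 1` and `[Z(A), B, B] = 1` lies in `Q`, then all terms of the K-sequence of `P` lie in `Q`
(`kSeq_le_of_hyp`), hence `K_∞(P) = K_∞(Q)` and `K^∞(P) = K^∞(Q)`.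
-/

set_option autoImplicit false

namespace Cfsg.Agent.Lib.Helper33

universe u

section abstract

variable {P : Type*} [Group P]

theorem kSeq_le_of_hyp (Q A : Subgroup P) [hAn : A.Normal] (hAQ : A ≤ Q)
    (hA2 : ⁅A, A⁆ ≤ Subgroup.centralizer (A : Set P))
    (hQA : ⁅Q, A⁆ ≤ A ⊓ Subgroup.centralizer (A : Set P))
    (H : ∀ B : Subgroup P, ⁅⁅⁅A, B⁆, B⁆, B⁆ = ⊥ → ⁅⁅A ⊓ Subgroup.centralizer (A : Set P), B⁆, B⁆ = ⊥ → B ≤ Q) :
    ∀ n : ℕ, Cfsg.kSeqEven P n ≤ Q ∧ Cfsg.kSeqOdd P (n + 1) ≤ Q := by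
  set Z : Subgroup P := A ⊓ Subgroup.centralizer (A : Set P) with hZ
  have hZn : Z.Normal := inferInstance
  have hZZ : ⁅Z, Z⁆ = ⊥ := by
    rw [Subgroup.commutator_eq_bot_iff_le_centralizer]
    exact inf_le_right.trans (Subgroup.centralizer_le (fun x hx => hx.1))
  have hAtop : Subgroup.normalizer (A : Set P) = ⊤ := Subgroup.normalizer_eq_top_iff.mpr hAn
  have hZtop : Subgroup.normalizer (Z : Set P) = ⊤ := Subgroup.normalizer_eq_top_iff.mpr hZn
  have F1 : A ∈ Cfsg.classTwoSubgroups P := hA2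
  have F2 : ∀ R : Subgroup P, R ≤ Q → A ∈ Cfsg.kUpperStarFamily R := by
    intro R hR
    refine ⟨F1, ?_⟩
    rw [Subgroup.commutator_comm]
    exact (Subgroup.commutator_mono hR le_rfl).trans hQA
  have F3 : ∀ R : Subgroup P, A ∈ Cfsg.kLowerStarFamily R := by
    intro R
    refine ⟨F1, by rw [hAtop]; exact le_top, ?_⟩
    intro A' hA' _ hAA' _ h2
    have h3 : ⁅A, A'⁆ ≤ A' := Subgroup.le_normalizer_iff_commutator_le_right.mp hAA'
    have hA'Q : A' ≤ Q := by
      apply H A' _ h2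
      rw [eq_bot_iff]
      calc ⁅⁅⁅A, A'⁆, A'⁆, A'⁆ ≤ ⁅⁅A', A'⁆, A'⁆ :=
            Subgroup.commutator_mono (Subgroup.commutator_mono h3 le_rfl) le_rfl
        _ = ⊥ := Subgroup.commutator_eq_bot_iff_le_centralizer.mpr hA'
    rw [Subgroup.commutator_comm]
    exact (Subgroup.commutator_mono hA'Q le_rfl).trans hQA
  have F4 : ∀ R : Subgroup P, A ≤ R → ∀ B ∈ Cfsg.kLowerStarFamily R, B ≤ Q := by
    intro R hAR B hB
    obtain ⟨hB2, hRB, hcond⟩ := hB
    have h3 : ⁅A, B⁆ ≤ B := Subgroup.le_normalizer_iff_commutator_le_right.mp (hAR.trans hRB)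
    apply H B
    · rw [eq_bot_iff]
      calc ⁅⁅⁅A, B⁆, B⁆, B⁆ ≤ ⁅⁅B, B⁆, B⁆ :=
            Subgroup.commutator_mono (Subgroup.commutator_mono h3 le_rfl) le_rfl
        _ = ⊥ := Subgroup.commutator_eq_bot_iff_le_centralizer.mpr hB2
    · have h4 := hcond Z (by
          show ⁅Z, Z⁆ ≤ _
          rw [hZZ]; exact bot_le) (inf_le_left.trans hAR) (by rw [hZtop]; exact le_top)
        (by rw [hZZ]; simp)
        (by
          rw [eq_bot_iff, ← hZZ]
          exact Subgroup.commutator_mono (Subgroup.commutator_le_right _ Z) le_rfl)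
      rw [eq_bot_iff, Subgroup.commutator_comm Z B]
      calc ⁅⁅B, Z⁆, B⁆ ≤ ⁅Subgroup.centralizer (B : Set P), B⁆ :=
            Subgroup.commutator_mono (h4.trans inf_le_right) le_rfl
        _ = ⊥ := Subgroup.commutator_eq_bot_iff_le_centralizer.mpr le_rfl
  have F5 : ∀ E : Subgroup P, A ≤ E → ∀ B ∈ Cfsg.kUpperStarFamily E, B ≤ Q := by
    intro E hAE B hB
    obtain ⟨_, hBE⟩ := hB
    have h5 : ⁅⁅A, B⁆, B⁆ = ⊥ := by
      rw [eq_bot_iff, Subgroup.commutator_comm A B]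
      calc ⁅⁅B, A⁆, B⁆ ≤ ⁅Subgroup.centralizer (B : Set P), B⁆ :=
            Subgroup.commutator_mono (((Subgroup.commutator_mono le_rfl hAE).trans hBE).trans inf_le_right) le_rfl
        _ = ⊥ := Subgroup.commutator_eq_bot_iff_le_centralizer.mpr le_rfl
    apply H B
    · rw [h5]; simp
    · rw [eq_bot_iff, ← h5]
      exact Subgroup.commutator_mono (Subgroup.commutator_mono inf_le_left le_rfl) le_rfl
  have step : ∀ n : ℕ, A ≤ Cfsg.kSeqOdd P n → Cfsg.kSeqEven P n ≤ Q ∧ Cfsg.kSeqOdd P (n + 1) ≤ Q := by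
    intro n hAn'
    have hE : Cfsg.kSeqEven P n ≤ Q := sSup_le (fun B hB => F4 _ hAn' B hB)
    have hAE : A ≤ Cfsg.kSeqEven P n := le_sSup (F3 _)
    exact ⟨hE, sSup_le (fun B hB => F5 _ hAE B hB)⟩
  intro n
  induction n with
  | zero => exact step 0 (by simp [Cfsg.kSeqOdd])
  | succ n ih =>
    apply step (n + 1)
    exact le_sSup (F2 _ ih.1)

end abstract

section concrete

variable {X : Type u} [Group X] [Finite X] {p : ℕ} [Fact p.Prime]

theorem normal_inducedFunctor_of_normal {W : ∀ (Q : Type u) [Group Q], Subgroup Q}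
    (hW : Cfsg.IsCharPFunctor.{u} p W) (Q : Subgroup X) [hQn : Q.Normal] (hQ : IsPGroup p Q) :
    (Cfsg.inducedFunctor W Q).Normal := by
  have hcf := isConjugacyFunctor_inducedFunctor W hW (G := X)
  refine ⟨fun x hx g => ?_⟩
  have h1 := (hcf Q hQ).2.2 g
  have h2 : Q.map (MulAut.conj g).toMonoidHom = Q := Subgroup.Normal.map_conj_eq (H := Q) g
  rw [h2] at h1
  rw [h1]
  exact ⟨x, hx, rfl⟩

/-- If one of the K-infinity subgroups of the Sylow subgroup `T` is not normal in `X`, some subgroup `B ≤ T` not inside the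
normal `p`-subgroup `Q` acts on `A` with `[A, B, B, B] = 1` and `[Z(A), B, B] = 1`. -/
theorem exists_bad_subgroup (T : Sylow p X) (Q A : Subgroup X) [hQn : Q.Normal] [hAn : A.Normal]
    (hQT : Q ≤ (T : Subgroup X)) (hAQ : A ≤ Q)
    (hA2 : ⁅A, A⁆ ≤ Subgroup.centralizer (A : Set X))
    (hQA : ⁅Q, A⁆ ≤ A ⊓ Subgroup.centralizer (A : Set X))
    (hK : ¬ (Cfsg.inducedFunctor Cfsg.kInfLower (T : Subgroup X)).Normal ∨
      ¬ (Cfsg.inducedFunctor Cfsg.kInfUpper (T : Subgroup X)).Normal) :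
    ∃ B : Subgroup X, B ≤ (T : Subgroup X) ∧ ¬ B ≤ Q ∧ ⁅⁅⁅A, B⁆, B⁆, B⁆ = ⊥ ∧
      ⁅⁅A ⊓ Subgroup.centralizer (A : Set X), B⁆, B⁆ = ⊥ := by
  by_contra hcon
  push Not at hcon
  have hTp : IsPGroup p (T : Subgroup X) := T.isPGroup'
  have hQp : IsPGroup p Q := hTp.to_le hQT
  set Q' : Subgroup ↥(T : Subgroup X) := Q.subgroupOf (T : Subgroup X) with hQ'
  set A' : Subgroup ↥(T : Subgroup X) := A.subgroupOf (T : Subgroup X) with hA'
  have hinj : Function.Injective (T : Subgroup X).subtype := Subgroup.subtype_injective _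
  have hQ'map : Q'.map (T : Subgroup X).subtype = Q := Subgroup.map_subgroupOf_eq_of_le hQT
  have hA'map : A'.map (T : Subgroup X).subtype = A := Subgroup.map_subgroupOf_eq_of_le (hAQ.trans hQT)
  have hA'n : A'.Normal := Subgroup.Normal.subgroupOf hAn _
  have hA'Q' : A' ≤ Q' := by
    rw [← Subgroup.map_le_map_iff_of_injective hinj, hQ'map, hA'map]; exact hAQ
  have hA'2 : ⁅A', A'⁆ ≤ Subgroup.centralizer (A' : Set ↥(T : Subgroup X)) := by
    have := (classTwo_map_iff hinj A').mpr (by rw [hA'map]; exact hA2)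
    exact this
  have hQ'A' : ⁅Q', A'⁆ ≤ A' ⊓ Subgroup.centralizer (A' : Set ↥(T : Subgroup X)) := by
    rw [← Subgroup.map_le_map_iff_of_injective hinj, zc_map hinj, Subgroup.map_commutator, hQ'map, hA'map]
    exact hQA
  have Hyp : ∀ B : Subgroup ↥(T : Subgroup X), ⁅⁅⁅A', B⁆, B⁆, B⁆ = ⊥ →
      ⁅⁅A' ⊓ Subgroup.centralizer (A' : Set ↥(T : Subgroup X)), B⁆, B⁆ = ⊥ → B ≤ Q' := by
    intro B h1 h2
    rw [← Subgroup.map_le_map_iff_of_injective hinj, hQ'map]
    by_contra hBQ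
    refine hcon (B.map (T : Subgroup X).subtype) (Subgroup.map_subtype_le B) hBQ ?_ ?_
    · rw [← hA'map, ← Subgroup.map_commutator, ← Subgroup.map_commutator, ← Subgroup.map_commutator, h1,
        Subgroup.map_bot]
    · rw [← hA'map, ← zc_map hinj, ← Subgroup.map_commutator, ← Subgroup.map_commutator, h2, Subgroup.map_bot]
  have hseq := kSeq_le_of_hyp Q' A' hA'Q' hA'2 hQ'A' Hyp
  have hTp' : IsPGroup p ↥(T : Subgroup X) := hTp
  obtain ⟨hlow, hupp⟩ := Cfsg.Agent.S1979.result hTp' Q' hseq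
  have hQ'p : IsPGroup p Q' := hTp'.to_subgroup Q'
  have key : ∀ W : ∀ (R : Type u) [Group R], Subgroup R, Cfsg.IsCharPFunctor.{u} p W →
      (W ↥Q').map Q'.subtype = W ↥(T : Subgroup X) → (Cfsg.inducedFunctor W (T : Subgroup X)).Normal := by
    intro W hW heq
    have h1 := inducedFunctor_map_of_injOn W hW (T : Subgroup X).subtype Q' hQ'p
      (fun x _ hx => hinj (by simpa using hx))
    rw [hQ'map] at h1
    have h2 : Cfsg.inducedFunctor W (T : Subgroup X) = Cfsg.inducedFunctor W Q := by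
      rw [h1]
      unfold Cfsg.inducedFunctor
      rw [heq]
    rw [h2]
    exact normal_inducedFunctor_of_normal hW Q hQp
  rcases hK with hK | hK
  · exact hK (key _ (isCharPFunctor_kInfLower p) hlow)
  · exact hK (key _ (isCharPFunctor_kInfUpper p) hupp)

end concrete

end Cfsg.Agent.Lib.Helper33
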