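import Cfsg.Agent.Lib.Helper33.EngelTrace

/-!
# The structure of a minimal failure of control of transfer (helper33 library)

`minimal_failure_structure`: if a nonempty family of isomorphism-invariant `p`-group functors controls transfer in all proper
subgroups and all proper quotients of `G` but not in `G`, then `G` is constrained, the normalizer `M` of `D ∩ O_p(G)` (`D` the
subgroup generated by the focal terms) is the unique maximal subgroup containing `S`, `[O_p(G), M] ≤ O_p(G) ∩ M' ≤ O_p(G) ∩ D`,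
and every element of `S` outside `O_p(G)` fails the `(p-1)`-Engel condition on some chief factor inside `O_p(G)`.
-/

set_option autoImplicit false

namespace Cfsg.Agent.Lib.Helper33

universe u

open scoped commutatorElement

open Cfsg

variable {p : ℕ} {𝓦 : Set (∀ (Q : Type u) [Group Q], Subgroup Q)}

/-- the inductive step of `familyControlsTransfer_of_secProp`, with explicit hypotheses -/
theorem familyControlsTransfer_step [hp : Fact p.Prime] (h𝓦 : ∀ W ∈ 𝓦, Cfsg.IsCharPFunctor.{u} p W)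
    {G : Type u} [Group G] [Finite G]
    (IHsub : ∀ H : Subgroup G, H ≠ ⊤ → Cfsg.FamilyControlsTransferIn p (indFam 𝓦 G) H)
    (IHquot : ∀ (M : Subgroup G) [M.Normal], M ≠ ⊥ →
      Cfsg.FamilyControlsTransferIn p (indFam 𝓦 (G ⧸ M)) ⊤)
    (hself : Constrained p G → ∃ T : Subgroup G, SylIn p T ⊤ ∧
      Cfsg.pCore p G ⊓ commutator G ≤ ⨆ W' ∈ indFam 𝓦 G, focalTerm W' ⊤ T) :
    Cfsg.FamilyControlsTransferIn p (indFam 𝓦 G) ⊤ := by
  have hPn : (Cfsg.pCore p G).Normal := Subgroup.sSup_normal _ (fun _ h => h.1)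
  have hPmax : ∀ N : Subgroup G, N.Normal → IsPGroup p N → N ≤ Cfsg.pCore p G :=
    fun N hN hNp => Cfsg.Agent.Lib.Helper76.le_pCore p N hN hNp
  have hKn : (Cfsg.pPrimeCore p G).Normal := Subgroup.sSup_normal _ (fun _ h => h.1)
  have hK : (Nat.card (Cfsg.pPrimeCore p G)).Coprime p := Cfsg.Agent.Lib.Helper76.pPrimeCore_coprime p
  have hKmax : ∀ N : Subgroup G, N.Normal → (Nat.card N).Coprime p → N ≤ Cfsg.pPrimeCore p G :=
    fun N hN hNp => Cfsg.Agent.Lib.Helper76.le_pPrimeCore p N hN hNp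
  have hcfG := indFam_isConjugacyFunctor 𝓦 h𝓦 G
  have K1 : ∀ (S : Sylow p G) (X : Subgroup G), (S : Subgroup G) ≤ Subgroup.normalizer (X : Set G) →
      Subgroup.normalizer (X : Set G) ≠ ⊤ →
      (S : Subgroup G) ⊓ ⁅Subgroup.normalizer (X : Set G), Subgroup.normalizer (X : Set G)⁆ ≤
        ⨆ W' ∈ indFam 𝓦 G, focalTerm W' ⊤ (S : Subgroup G) :=
    fun S X hSN hne => inf_commutator_le_of_controls hcfG S _ hSN (IHsub _ hne)
  by_cases hcon : Constrained p (G ⧸ Cfsg.pPrimeCore p G)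
  · by_cases hK0 : Cfsg.pPrimeCore p G = ⊥
    · have hconG : Constrained p G :=
        constrained_of_mulEquiv
          ((QuotientGroup.quotientMulEquivOfEq hK0).trans QuotientGroup.quotientBot) hcon
      obtain ⟨T, hT, hle⟩ := hself hconG
      have hPS : Cfsg.pCore p G ≤ T := Cfsg.Agent.Lib.Helper76.pCore_le_sylow p hT.toSylowTop
      rw [familyControlsTransferIn_top_iff_le]
      refine ⟨T, hT, ?_⟩
      by_cases hSP : T ≤ Cfsg.pCore p G
      · exact (inf_le_inf_right _ hSP).trans hle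
      · have hP0 : Cfsg.pCore p G ≠ ⊥ := by
          intro h0
          apply hSP
          intro t _
          apply hconG
          rw [h0, Subgroup.mem_centralizer_iff]
          intro x hx
          have : x = 1 := hx
          rw [this, one_mul, mul_one]
        have H1 := IHquot (Cfsg.pCore p G) hP0
        have hK2 := inf_commutator_le_sup_of_quot h𝓦 hT.toSylowTop (Cfsg.pCore p G) hPS hPmax hSP H1 _
          (fun X _ hSN hne => K1 hT.toSylowTop X hSN hne)
        exact inf_commutator_le_of_sup T (Cfsg.pCore p G) _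
          (biSup_focalTerm_le_commutator (indFam 𝓦 G) ⊤ T) hK2 hle
    · exact familyControlsTransfer_of_quotient_pPrime h𝓦 _ hK (IHquot _ hK0)
  · obtain S : Sylow p G := Classical.arbitrary _
    have hPS : Cfsg.pCore p G ≤ (S : Subgroup G) := Cfsg.Agent.Lib.Helper76.pCore_le_sylow p S
    have hc : ¬ ((S : Subgroup G) ⊓ Subgroup.centralizer ((Cfsg.pCore p G : Subgroup G) : Set G) ≤
        Cfsg.pCore p G) :=
      fun hc => hcon (constrained_quotient_of_normal_centric S (Cfsg.pCore p G) hPS hc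
        (Cfsg.pPrimeCore p G) hK hKmax)
    by_cases hP1 : Cfsg.pCore p G = ⊥
    · rw [familyControlsTransferIn_top_iff_le]
      refine ⟨(S : Subgroup G), sylIn_top S, ?_⟩
      refine focal_le_of_local S (indFam 𝓦 G) hcfG (⨆ W' ∈ indFam 𝓦 G, focalTerm W' ⊤ (S : Subgroup G))
        (fun W hW => le_iSup₂ (f := fun W (_ : W ∈ indFam 𝓦 G) => focalTerm W ⊤ (S : Subgroup G)) W hW)
        Set.univ ?_ ?_
      · intro Q hQ
        obtain ⟨g, hle, hfn⟩ := exists_fullyNormalized_cj S hQ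
        exact ⟨cj g Q, trivial, ⟨g, rfl⟩, hle, hfn⟩
      · intro U _ hUne hUS _
        apply IHsub
        intro htop
        have hUn : U.Normal := Subgroup.normalizer_eq_top_iff.mp htop
        have := hPmax U hUn (S.isPGroup'.to_le hUS)
        rw [hP1] at this
        exact hUne (le_bot_iff.mp this)
    · have hStop : (S : Subgroup G) ≠ ⊤ := by
        intro htop
        apply hc
        refine inf_le_left.trans (hPmax _ ?_ S.isPGroup')
        rw [htop]
        infer_instance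
      have hSD : ⁅(S : Subgroup G), (S : Subgroup G)⁆ ≤ ⨆ W' ∈ indFam 𝓦 G, focalTerm W' ⊤ (S : Subgroup G) := by
        have h1 := inf_commutator_le_of_controls hcfG S (S : Subgroup G) le_rfl (IHsub _ hStop)
        exact (le_inf (Subgroup.commutator_le_self _) le_rfl).trans h1
      exact familyControlsTransfer_of_pQuot h𝓦 S (Cfsg.pCore p G) hPS hPmax hc hSD (IHquot _ hP1)
        (fun X _ _ hne => IHsub _ hne)

open scoped IsMulCommutative in
/-- **Structure of a minimal failure of control of transfer.** -/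
theorem minimal_failure_structure [hp : Fact p.Prime] (h𝓦 : ∀ W ∈ 𝓦, Cfsg.IsCharPFunctor.{u} p W)
    (hne : 𝓦.Nonempty) {G : Type u} [Group G] [Finite G]
    (IHsub : ∀ H : Subgroup G, H ≠ ⊤ → Cfsg.FamilyControlsTransferIn p (indFam 𝓦 G) H)
    (IHquot : ∀ (M : Subgroup G) [M.Normal], M ≠ ⊥ →
      Cfsg.FamilyControlsTransferIn p (indFam 𝓦 (G ⧸ M)) ⊤)
    (hG : ¬ Cfsg.FamilyControlsTransferIn p (indFam 𝓦 G) ⊤) (S : Sylow p G)
    (D M : Subgroup G) (hD : D = ⨆ W' ∈ indFam 𝓦 G, focalTerm W' ⊤ (S : Subgroup G))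
    (hM : M = Subgroup.normalizer ((D ⊓ Cfsg.pCore p G : Subgroup G) : Set G)) :
    Constrained p G ∧ (M ≠ ⊤ ∧ ∀ H : Subgroup G, (S : Subgroup G) ≤ H → H ≠ ⊤ → H ≤ M) ∧
      (⁅Cfsg.pCore p G, M⁆ ≤ Cfsg.pCore p G ⊓ ⁅M, M⁆ ∧ Cfsg.pCore p G ⊓ ⁅M, M⁆ ≤ Cfsg.pCore p G ⊓ D) ∧
      ∀ u : G, u ∈ (S : Subgroup G) → u ∉ Cfsg.pCore p G → ∃ U V : Subgroup G, Cfsg.IsChiefFactor U V ∧
        U ≤ Cfsg.pCore p G ∧ ¬ Cfsg.iterCommutator U (Subgroup.zpowers u) (p - 1) ≤ V := by
  classical
  have hPn : (Cfsg.pCore p G).Normal := Subgroup.sSup_normal _ (fun _ h => h.1)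
  have hPmax : ∀ N : Subgroup G, N.Normal → IsPGroup p N → N ≤ Cfsg.pCore p G :=
    fun N hN hNp => Cfsg.Agent.Lib.Helper76.le_pCore p N hN hNp
  have hPS : Cfsg.pCore p G ≤ (S : Subgroup G) := Cfsg.Agent.Lib.Helper76.pCore_le_sylow p S
  have hSp : IsPGroup p (S : Subgroup G) := S.isPGroup'
  have hcfG := indFam_isConjugacyFunctor 𝓦 h𝓦 G
  -- Step 1
  have key : ¬ (Constrained p G → Cfsg.pCore p G ⊓ commutator G ≤ D) := by
    intro h
    apply hG
    apply familyControlsTransfer_step h𝓦 IHsub IHquot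
    intro hc
    exact ⟨(S : Subgroup G), sylIn_top S, hD ▸ h hc⟩
  have hconG : Constrained p G := by
    by_contra hc
    exact key (fun h => absurd h hc)
  have hPD : ¬ (Cfsg.pCore p G ⊓ commutator G ≤ D) := fun h => key (fun _ => h)
  -- focal terms
  have hterm : ∀ W ∈ 𝓦, focalTerm (Cfsg.inducedFunctor (G := G) W) ⊤ (S : Subgroup G) ≤ D := by
    intro W hW
    rw [hD]
    exact le_biSup (fun W' => focalTerm W' ⊤ (S : Subgroup G)) (⟨W, hW, rfl⟩ : _ ∈ indFam 𝓦 G)
  have hSNW : ∀ W ∈ 𝓦, (S : Subgroup G) ≤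
      Subgroup.normalizer ((Cfsg.inducedFunctor (G := G) W (S : Subgroup G) : Subgroup G) : Set G) := by
    intro W hW
    exact Subgroup.le_normalizer.trans
      (cf_normalizer_le (isConjugacyFunctor_inducedFunctor W (h𝓦 W hW) (G := G)) hSp)
  obtain ⟨W₀, hW₀⟩ := hne
  have hSD : ⁅(S : Subgroup G), (S : Subgroup G)⁆ ≤ D := by
    refine le_trans ?_ (hterm W₀ hW₀)
    unfold focalTerm
    rw [top_inf_eq]
    exact le_inf (Subgroup.commutator_le_self _)
      (Subgroup.commutator_mono (hSNW W₀ hW₀) (hSNW W₀ hW₀))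
  have hNtop : ∀ W ∈ 𝓦,
      Subgroup.normalizer ((Cfsg.inducedFunctor (G := G) W (S : Subgroup G) : Subgroup G) : Set G) ≠ ⊤ := by
    intro W hW htop
    apply hG
    rw [familyControlsTransferIn_top_iff_le]
    refine ⟨(S : Subgroup G), sylIn_top S, ?_⟩
    rw [← hD]
    refine le_trans ?_ (hterm W hW)
    unfold focalTerm
    rw [htop, top_inf_eq, commutator_def]
  have hNStop : Subgroup.normalizer (((S : Subgroup G) : Subgroup G) : Set G) ≠ ⊤ := by
    intro htop
    apply hNtop W₀ hW₀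
    have := cf_normalizer_le (isConjugacyFunctor_inducedFunctor W₀ (h𝓦 W₀ hW₀) (G := G)) hSp
    rw [htop] at this
    exact top_le_iff.mp this
  have hStop : (S : Subgroup G) ≠ ⊤ := by
    intro htop
    apply hNStop
    exact top_le_iff.mp (htop ▸ Subgroup.le_normalizer)
  have hHD : ∀ H : Subgroup G, (S : Subgroup G) ≤ H → H ≠ ⊤ → (S : Subgroup G) ⊓ ⁅H, H⁆ ≤ D := by
    intro H hSH hHtop
    rw [hD]
    exact inf_commutator_le_of_controls hcfG S H hSH (IHsub H hHtop)
  -- commutators with `P`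
  have hcommP : ∀ H : Subgroup G, (S : Subgroup G) ≤ H → H ≠ ⊤ → ∀ h ∈ H, ∀ x ∈ Cfsg.pCore p G,
      h * x * h⁻¹ * x⁻¹ ∈ D ⊓ Cfsg.pCore p G := by
    intro H hSH hHtop h hh x hx
    have h1 : h * x * h⁻¹ * x⁻¹ ∈ Cfsg.pCore p G := mul_mem (hPn.conj_mem x hx h) (inv_mem hx)
    have h2 : h * x * h⁻¹ * x⁻¹ ∈ ⁅H, H⁆ := by
      have e : h * x * h⁻¹ * x⁻¹ = ⁅h, x⁆ := by rw [commutatorElement_def]
      rw [e]
      exact Subgroup.commutator_mem_commutator hh (hSH (hPS hx))
    have h3 : h * x * h⁻¹ * x⁻¹ ∈ (S : Subgroup G) ⊓ ⁅H, H⁆ := Subgroup.mem_inf.mpr ⟨hPS h1, h2⟩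
    exact Subgroup.mem_inf.mpr ⟨hHD H hSH hHtop h3, h1⟩
  have hmax : ∀ H : Subgroup G, (S : Subgroup G) ≤ H → H ≠ ⊤ → H ≤ M := by
    intro H hSH hHtop
    have hfwd : ∀ h ∈ H, ∀ x ∈ D ⊓ Cfsg.pCore p G, h * x * h⁻¹ ∈ D ⊓ Cfsg.pCore p G := by
      intro h hh x hx
      have h1 := hcommP H hSH hHtop h hh x hx.2
      have e : h * x * h⁻¹ = (h * x * h⁻¹ * x⁻¹) * x := by group
      rw [e]
      exact mul_mem h1 hx
    intro h hh
    rw [hM, Subgroup.mem_normalizer_iff]
    intro x
    constructor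
    · exact hfwd h hh x
    · intro hx
      have := hfwd h⁻¹ (inv_mem hh) _ hx
      have e : h⁻¹ * (h * x * h⁻¹) * h⁻¹⁻¹ = x := by group
      rwa [e] at this
  have hSM : (S : Subgroup G) ≤ M := hmax _ le_rfl hStop
  -- `M ≠ ⊤`
  have hMtop : M ≠ ⊤ := by
    intro htop
    have hP₀n : (D ⊓ Cfsg.pCore p G).Normal := by
      rw [hM] at htop
      exact Subgroup.normalizer_eq_top_iff.mp htop
    set Cs : Subgroup G := (Subgroup.centralizer
      (((Cfsg.pCore p G).map (QuotientGroup.mk' (D ⊓ Cfsg.pCore p G)) :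
        Subgroup (G ⧸ (D ⊓ Cfsg.pCore p G))) : Set (G ⧸ (D ⊓ Cfsg.pCore p G)))).comap
      (QuotientGroup.mk' (D ⊓ Cfsg.pCore p G)) with hCs
    have hPbn : ((Cfsg.pCore p G).map (QuotientGroup.mk' (D ⊓ Cfsg.pCore p G))).Normal :=
      hPn.map _ (QuotientGroup.mk'_surjective _)
    have hCbn : (Subgroup.centralizer
      (((Cfsg.pCore p G).map (QuotientGroup.mk' (D ⊓ Cfsg.pCore p G)) :
        Subgroup (G ⧸ (D ⊓ Cfsg.pCore p G))) : Set (G ⧸ (D ⊓ Cfsg.pCore p G)))).Normal :=
      Subgroup.normal_centralizer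
    have hCsn : Cs.Normal := hCbn.comap _
    have hmemCs : ∀ g : G, g ∈ Cs ↔ ∀ x ∈ Cfsg.pCore p G, g * x * g⁻¹ * x⁻¹ ∈ D ⊓ Cfsg.pCore p G := by
      intro g
      rw [hCs, Subgroup.mem_comap, Subgroup.mem_centralizer_iff]
      constructor
      · intro h x hx
        have h1 := h _ (Subgroup.mem_map_of_mem _ hx)
        rw [← QuotientGroup.eq_one_iff, ← QuotientGroup.mk'_apply, map_mul, map_mul, map_mul, map_inv,
          map_inv, ← h1]
        group
      · rintro h _ ⟨x, hx, rfl⟩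
        have h1 := h x hx
        rw [← QuotientGroup.eq_one_iff, ← QuotientGroup.mk'_apply, map_mul, map_mul, map_mul, map_inv,
          map_inv] at h1
        calc QuotientGroup.mk' (D ⊓ Cfsg.pCore p G) x * QuotientGroup.mk' (D ⊓ Cfsg.pCore p G) g
            = (QuotientGroup.mk' (D ⊓ Cfsg.pCore p G) g * QuotientGroup.mk' (D ⊓ Cfsg.pCore p G) x *
                (QuotientGroup.mk' (D ⊓ Cfsg.pCore p G) g)⁻¹ *
                (QuotientGroup.mk' (D ⊓ Cfsg.pCore p G) x)⁻¹)⁻¹ *
              (QuotientGroup.mk' (D ⊓ Cfsg.pCore p G) g * QuotientGroup.mk' (D ⊓ Cfsg.pCore p G) x) := by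
              group
          _ = QuotientGroup.mk' (D ⊓ Cfsg.pCore p G) g * QuotientGroup.mk' (D ⊓ Cfsg.pCore p G) x := by
              rw [h1, inv_one, one_mul]
    have hHCs : ∀ H : Subgroup G, (S : Subgroup G) ≤ H → H ≠ ⊤ → H ≤ Cs := by
      intro H hSH hHtop h hh
      rw [hmemCs]
      exact hcommP H hSH hHtop h hh
    have hCstop : Cs ≠ ⊤ := by
      intro hCtop
      apply hPD
      apply normal_inf_commutator_le S (Cfsg.pCore p G) hPS D hSD
      intro x hx g
      have hg : g⁻¹ ∈ Cs := by rw [hCtop]; exact Subgroup.mem_top _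
      have h1 := (hmemCs g⁻¹).mp hg x hx
      have h2 := hP₀n.conj_mem _ h1 x⁻¹
      have e : x⁻¹ * (g⁻¹ * x * g⁻¹⁻¹ * x⁻¹) * x⁻¹⁻¹ = x⁻¹ * (g⁻¹ * x * g) := by group
      rw [e] at h2
      exact h2.1
    have hSCs : (S : Subgroup G) ≤ Cs := hHCs _ le_rfl hStop
    have hNSCs : Subgroup.normalizer (((S : Subgroup G) : Subgroup G) : Set G) ≤ Cs :=
      hHCs _ Subgroup.le_normalizer hNStop
    apply hCstop
    rw [eq_top_iff]
    intro g _
    have hle : cj g (S : Subgroup G) ≤ Cs := by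
      have h1 := cj_mono (g := g) hSCs
      have h2 : g ∈ Subgroup.normalizer (Cs : Set G) := by
        rw [Subgroup.normalizer_eq_top_iff.mpr hCsn]; exact Subgroup.mem_top g
      rwa [cj_eq_self_of_mem_normalizer h2] at h1
    obtain ⟨c, hc, hcle⟩ := (sylIn_of_sylow_le S hSCs).exists_cj_le hle (isPGroup_cj hSp)
    have hcg : c * g ∈ Subgroup.normalizer (((S : Subgroup G) : Subgroup G) : Set G) := by
      rw [mem_normalizer_iff_cj_eq, cj_mul]
      apply Subgroup.eq_of_le_of_card_ge hcle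
      rw [card_cj, card_cj]
    have e : g = c⁻¹ * (c * g) := by group
    rw [e]
    exact mul_mem (inv_mem hc) (hNSCs hcg)
  refine ⟨hconG, ⟨hMtop, hmax⟩, ⟨?_, ?_⟩, ?_⟩
  · exact le_inf (Subgroup.commutator_le_left _ _) (Subgroup.commutator_mono (hPS.trans hSM) le_rfl)
  · intro x hx
    exact Subgroup.mem_inf.mpr ⟨hx.1, hHD M hSM hMtop (Subgroup.mem_inf.mpr ⟨hPS hx.1, hx.2⟩)⟩
  · intro u huS huP
    by_contra hcon
    push Not at hcon
    -- the chief factor
    set C := (Cfsg.pCore p G ⊓ commutator G ⊓ D).normalCore with hC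
    have hCn : C.Normal := Subgroup.normalCore_normal _
    have hCle : C ≤ Cfsg.pCore p G ⊓ commutator G ⊓ D := Subgroup.normalCore_le _
    have hcomn : (commutator G).Normal := inferInstance
    have hPGn : (Cfsg.pCore p G ⊓ commutator G).Normal := inferInstance
    have hex : ∃ n : ℕ, ∃ N : Subgroup G, (N.Normal ∧ C < N ∧ N ≤ Cfsg.pCore p G ⊓ commutator G) ∧
        Nat.card N = n := by
      refine ⟨_, Cfsg.pCore p G ⊓ commutator G, ⟨hPGn, ?_, le_rfl⟩, rfl⟩
      refine lt_of_le_of_ne (hCle.trans inf_le_left) ?_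
      intro heq
      apply hPD
      rw [← heq]
      exact hCle.trans inf_le_right
    obtain ⟨E, ⟨hEn, hCE, hEle⟩, hEcard⟩ := Nat.find_spec hex
    have hEmin : ∀ N : Subgroup G, N.Normal → C < N → N ≤ Cfsg.pCore p G ⊓ commutator G →
        Nat.card E ≤ Nat.card N := by
      intro N hN hCN hNle
      rw [hEcard]
      exact Nat.find_min' hex ⟨N, ⟨hN, hCN, hNle⟩, rfl⟩
    have hchief : Cfsg.IsChiefFactor E C := by
      refine ⟨hCE, hEn, hCn, ?_⟩
      intro N hN hCN hNE
      by_cases hNC : N = C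
      · exact Or.inl hNC
      · right
        have hlt : C < N := lt_of_le_of_ne hCN (Ne.symm hNC)
        exact Subgroup.eq_of_le_of_card_ge hNE (hEmin N hN hlt (hNE.trans hEle))
    have hEP : E ≤ Cfsg.pCore p G := hEle.trans inf_le_left
    have hES : E ≤ (S : Subgroup G) := hEP.trans hPS
    have hEG : E ≤ commutator G := hEle.trans inf_le_right
    have hED : ¬ E ≤ D := by
      intro hED
      have h1 : E ≤ C := by
        rw [hC, Subgroup.normal_le_normalCore]
        exact le_inf hEle hED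
      exact absurd (le_antisymm h1 hCE.le) hCE.ne'
    -- the homomorphism
    have hcomm : commutator ↥(S : Subgroup G) ≤ D.subgroupOf (S : Subgroup G) := by
      intro y hy
      rw [Subgroup.mem_subgroupOf]
      apply hSD
      rw [← Subgroup.map_subtype_commutator]
      exact ⟨y, hy, rfl⟩
    have hDn : (D.subgroupOf (S : Subgroup G)).Normal := by
      constructor
      intro d hd s
      have h1 : s * d * s⁻¹ * d⁻¹ ∈ D.subgroupOf (S : Subgroup G) := by
        apply hcomm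
        exact Subgroup.commutator_mem_commutator (Subgroup.mem_top s) (Subgroup.mem_top d)
      have e : s * d * s⁻¹ = (s * d * s⁻¹ * d⁻¹) * d := by group
      rw [e]
      exact mul_mem h1 hd
    have hQc : IsMulCommutative (↥(S : Subgroup G) ⧸ D.subgroupOf (S : Subgroup G)) :=
      Subgroup.Normal.quotient_commutative_iff_commutator_le.mpr hcomm
    refine no_engel_of_trace S M E C hSM hmax hchief hES hEG
      (QuotientGroup.mk' (D.subgroupOf (S : Subgroup G))) ?_ ?_ ?_ u huS ?_ (hcon E C hchief hEP)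
    · intro y hy m hm h1 h2
      symm
      rw [QuotientGroup.mk'_apply, QuotientGroup.mk'_apply, QuotientGroup.eq, Subgroup.mem_subgroupOf]
      show y⁻¹ * (m⁻¹ * y * m) ∈ D
      apply hHD M hSM hMtop
      refine Subgroup.mem_inf.mpr ⟨mul_mem (inv_mem h2) h1, ?_⟩
      have e : y⁻¹ * (m⁻¹ * y * m) = ⁅y⁻¹, m⁻¹⁆ := by rw [commutatorElement_def]; group
      rw [e]
      exact Subgroup.commutator_mem_commutator (inv_mem (hSM h2)) (inv_mem hm)
    · intro c hc h
      rw [QuotientGroup.mk'_apply, QuotientGroup.eq_one_iff, Subgroup.mem_subgroupOf]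
      exact (hCle hc).2
    · by_contra hall
      push Not at hall
      apply hED
      intro x hx
      have := hall x hx
      rw [QuotientGroup.mk'_apply, QuotientGroup.eq_one_iff, Subgroup.mem_subgroupOf] at this
      exact this
    · intro N hN hNp huN
      exact huP (hPmax N hN hNp huN)

end Cfsg.Agent.Lib.Helper33
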