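import Cfsg.Agent.Lib.Helper33.KInfChief
import Cfsg.Agent.Lib.Helper33.KInfLocal
import Cfsg.Agent.S1972

/-!
# Glauberman's K-infinity theorem: the local statement and control of transfer (helper33 library)

`kInf_local`: if `K_∞(T)` or `K^∞(T)` is not normal in the finite group `Y` (`T` a Sylow `p`-subgroup), some subgroup
`B ≤ T`, `B ≰ O_p(Y)`, satisfies `[U, B; 4] ≤ V` for every chief factor `U/V` of `Y` inside `O_p(Y)` and
`[Z(O_p(Y)), B, B] = 1`.

`controlsTransfer_kInfLower`, `controlsTransfer_kInfUpper`: for `p ≥ 5` the K-infinity subgroups control transfer in every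
finite group.
-/

set_option autoImplicit false

namespace Cfsg.Agent.Lib.Helper33

universe u

open Cfsg

theorem kInf_local {Y : Type u} [Group Y] [Finite Y] {p : ℕ} [Fact p.Prime] (T : Sylow p Y)
    (hK : ¬ (Cfsg.inducedFunctor Cfsg.kInfLower (T : Subgroup Y)).Normal ∨
      ¬ (Cfsg.inducedFunctor Cfsg.kInfUpper (T : Subgroup Y)).Normal) :
    ∃ B : Subgroup Y, B ≤ (T : Subgroup Y) ∧ ¬ B ≤ Cfsg.pCore p Y ∧
      (∀ U V : Subgroup Y, IsChiefFactor U V → U ≤ Cfsg.pCore p Y → iterCommutator U B 4 ≤ V) ∧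
      ⁅⁅Cfsg.pCore p Y ⊓ Subgroup.centralizer ((Cfsg.pCore p Y : Subgroup Y) : Set Y), B⁆, B⁆ = ⊥ := by
  have hQn : (Cfsg.pCore p Y).Normal := Subgroup.sSup_normal _ (fun _ h => h.1)
  have hQT : Cfsg.pCore p Y ≤ (T : Subgroup Y) := Cfsg.Agent.Lib.Helper76.pCore_le_sylow p T
  have hQp : IsPGroup p (Cfsg.pCore p Y) := T.isPGroup'.to_le hQT
  have hQnil : Group.IsNilpotent ↥(Cfsg.pCore p Y) := hQp.isNilpotent
  obtain ⟨A, hAn, hAQ, hA2, hQA, hcent⟩ := exists_critical (Cfsg.pCore p Y)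
  obtain ⟨B, hBT, hBQ, h3, h2⟩ := exists_bad_subgroup T (Cfsg.pCore p Y) A hQT hAQ hA2 hQA hK
  refine ⟨B, hBT, hBQ, chief_engel4 (Cfsg.pCore p Y) A B hAQ hQA hcent h3 h2, ?_⟩
  rw [eq_bot_iff, ← h2]
  have hle : Cfsg.pCore p Y ⊓ Subgroup.centralizer ((Cfsg.pCore p Y : Subgroup Y) : Set Y) ≤
      A ⊓ Subgroup.centralizer (A : Set Y) := by
    have h1 : Cfsg.pCore p Y ⊓ Subgroup.centralizer ((Cfsg.pCore p Y : Subgroup Y) : Set Y) ≤
        Subgroup.centralizer (A : Set Y) := inf_le_right.trans (Subgroup.centralizer_le hAQ)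
    exact le_inf ((le_inf inf_le_left h1).trans hcent) h1
  exact Subgroup.commutator_mono (Subgroup.commutator_mono hle le_rfl) le_rfl

/-- the element form used by the transfer theorems -/
theorem kInf_local_element {Y : Type u} [Group Y] [Finite Y] {p : ℕ} [Fact p.Prime] (hp : 5 ≤ p) (T : Sylow p Y)
    (hK : ¬ (Cfsg.inducedFunctor Cfsg.kInfLower (T : Subgroup Y)).Normal ∨
      ¬ (Cfsg.inducedFunctor Cfsg.kInfUpper (T : Subgroup Y)).Normal) :
    ∃ g : Y, g ∈ (T : Subgroup Y) ∧ g ∉ Cfsg.pCore p Y ∧ ∀ U V : Subgroup Y, IsChiefFactor U V →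
      U ≤ Cfsg.pCore p Y → iterCommutator U (Subgroup.zpowers g) (p - 1) ≤ V := by
  obtain ⟨B, hBT, hBQ, h4, _⟩ := kInf_local T hK
  obtain ⟨g, hgB, hgQ⟩ := SetLike.not_le_iff_exists.mp hBQ
  refine ⟨g, hBT hgB, hgQ, ?_⟩
  intro U V hUV hUQ
  have hUn : U.Normal := hUV.2.1
  have h1 : iterCommutator U (Subgroup.zpowers g) (p - 1) ≤ iterCommutator U (Subgroup.zpowers g) 4 :=
    iter_antitone (le_normalizer_of_normal' U _) (by omega)
  exact (h1.trans (iter_mono le_rfl ((Subgroup.zpowers_le).mpr hgB) 4)).trans (h4 U V hUV hUQ)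

theorem controlsTransfer_of_local {p : ℕ} [Fact p.Prime] (W : ∀ (Q : Type u) [Group Q], Subgroup Q)
    (hW : Cfsg.IsCharPFunctor.{u} p W)
    (hloc : ∀ (Y : Type u) [Group Y] [Finite Y] (T : Sylow p Y),
      ¬ (Cfsg.inducedFunctor W (T : Subgroup Y)).Normal →
      ∃ g : Y, g ∈ (T : Subgroup Y) ∧ g ∉ Cfsg.pCore p Y ∧ ∀ U V : Subgroup Y, IsChiefFactor U V →
        U ≤ Cfsg.pCore p Y → iterCommutator U (Subgroup.zpowers g) (p - 1) ≤ V)
    (G : Type u) [Group G] [Finite G] :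
    Cfsg.ControlsTransferIn p (Cfsg.inducedFunctor (G := G) W) ⊤ := by
  have h𝓦 : ∀ W' ∈ ({W} : Set (∀ (Q : Type u) [Group Q], Subgroup Q)), Cfsg.IsCharPFunctor.{u} p W' := by
    intro W' hW'
    rw [Set.mem_singleton_iff.mp hW']
    exact hW
  have hnorm : ((⊥ : Subgroup G).subgroupOf ⊤).Normal := by
    rw [Subgroup.bot_subgroupOf]; infer_instance
  have h1 := Cfsg.Agent.S1972.result (G := G) W hW (fun K R _ _ T hT => hloc _ T hT) ⊤ ⊥
  rw [← familyControlsTransferIn_singleton, ← indFam_singleton] at h1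
  have e : (↥(⊤ : Subgroup G) ⧸ (⊥ : Subgroup G).subgroupOf ⊤) ≃* G :=
    ((QuotientGroup.quotientMulEquivOfEq (Subgroup.bot_subgroupOf ⊤)).trans
      (QuotientGroup.quotientBot (G := ↥(⊤ : Subgroup G)))).trans Subgroup.topEquiv
  have h2 := familyControlsTransfer_top_of_mulEquiv h𝓦 e h1
  rwa [indFam_singleton, familyControlsTransferIn_singleton] at h2

theorem controlsTransfer_kInfLower {p : ℕ} [Fact p.Prime] (hp : 5 ≤ p) (G : Type u) [Group G] [Finite G] :
    Cfsg.ControlsTransferIn p (Cfsg.inducedFunctor (G := G) Cfsg.kInfLower) ⊤ :=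
  controlsTransfer_of_local _ (isCharPFunctor_kInfLower p)
    (fun _ _ _ T hT => kInf_local_element hp T (Or.inl hT)) G

theorem controlsTransfer_kInfUpper {p : ℕ} [Fact p.Prime] (hp : 5 ≤ p) (G : Type u) [Group G] [Finite G] :
    Cfsg.ControlsTransferIn p (Cfsg.inducedFunctor (G := G) Cfsg.kInfUpper) ⊤ :=
  controlsTransfer_of_local _ (isCharPFunctor_kInfUpper p)
    (fun _ _ _ T hT => kInf_local_element hp T (Or.inr hT)) G

end Cfsg.Agent.Lib.Helper33
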