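import Cfsg.Agent.Lib.Helper33.PPrimeLift
import Cfsg.Agent.Lib.Helper33.TransferControl2

/-!
# A group with a normal centric `p`-subgroup is constrained modulo its `p'`-core (helper33 library)
-/

set_option autoImplicit false

namespace Cfsg.Agent.Lib.Helper33

universe u

variable {p : ℕ}

/-- A finite group whose Sylow `p`-subgroup `P` is central has a normal subgroup `K₁` of order prime to `p` with
`G = K₁ P`, containing all elements of order prime to `p`. -/
theorem exists_normal_pComplement_of_central_sylow [hp : Fact p.Prime] {C : Type*} [Group C] [Finite C]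
    (P : Sylow p C) (hP : (P : Subgroup C) ≤ Subgroup.center C) :
    ∃ K₁ : Subgroup C, K₁.Normal ∧ (Nat.card K₁).Coprime p ∧
      (∀ c : C, ∃ k ∈ K₁, ∃ z ∈ (P : Subgroup C), c = k * z) ∧
      ∀ c : C, (orderOf c).Coprime p → c ∈ K₁ := by
  have hP' : Subgroup.normalizer ((P : Subgroup C) : Set C) ≤
      Subgroup.centralizer ((P : Subgroup C) : Set C) := by
    intro g _
    rw [Subgroup.mem_centralizer_iff]
    intro x hx
    exact (Subgroup.mem_center_iff.mp (hP hx) g).symm
  have hcomp : Subgroup.IsComplement' (MonoidHom.transferSylow P hP').ker (P : Subgroup C) :=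
    MonoidHom.ker_transferSylow_isComplement' P hP'
  have hKn : (MonoidHom.transferSylow P hP').ker.Normal := inferInstance
  have hcard : (Nat.card (MonoidHom.transferSylow P hP').ker).Coprime p := by
    have h1 : Nat.card (MonoidHom.transferSylow P hP').ker = (P : Subgroup C).index :=
      hcomp.index_eq_card.symm
    rw [h1]
    exact ((Nat.Prime.coprime_iff_not_dvd hp.out).mpr P.not_dvd_index).symm
  refine ⟨(MonoidHom.transferSylow P hP').ker, hKn, hcard, ?_, ?_⟩
  · intro c
    obtain ⟨⟨k, z⟩, hkz⟩ := hcomp.2 c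
    exact ⟨k.1, k.2, z.1, z.2, hkz.symm⟩
  · intro g hg
    have hidx : (MonoidHom.transferSylow P hP').ker.index = Nat.card (P : Subgroup C) :=
      hcomp.symm.index_eq_card
    obtain ⟨n, hn⟩ := P.isPGroup'.exists_card_eq
    have hq : IsPGroup p (C ⧸ (MonoidHom.transferSylow P hP').ker) :=
      IsPGroup.of_card (n := n) (by rw [← Subgroup.index_eq_card, hidx, hn])
    obtain ⟨k, hk⟩ := hq (QuotientGroup.mk g)
    have h1 : orderOf (QuotientGroup.mk g : C ⧸ (MonoidHom.transferSylow P hP').ker) ∣ p ^ k :=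
      orderOf_dvd_of_pow_eq_one hk
    have h2 : orderOf (QuotientGroup.mk g : C ⧸ (MonoidHom.transferSylow P hP').ker) ∣ orderOf g :=
      orderOf_map_dvd (QuotientGroup.mk' _) g
    have h3 : Nat.Coprime (orderOf g) (p ^ k) := Nat.Coprime.pow_right k hg
    have h4 : orderOf (QuotientGroup.mk g : C ⧸ (MonoidHom.transferSylow P hP').ker) = 1 :=
      Nat.eq_one_of_dvd_coprimes h3 h2 h1
    rw [orderOf_eq_one_iff, QuotientGroup.eq_one_iff] at h4
    exact h4

/-- If `G` has a normal `p`-subgroup `U ≤ S` with `C_S(U) ≤ U` and `K` is the largest normal `p'`-subgroup of `G`,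
then `G ⧸ K` is constrained: `C(O_p(G ⧸ K)) ≤ O_p(G ⧸ K)`. -/
theorem constrained_quotient_of_normal_centric [hp : Fact p.Prime] {G : Type u} [Group G] [Finite G]
    (S : Sylow p G) (U : Subgroup G) [hUn : U.Normal] (hUS : U ≤ (S : Subgroup G))
    (hcent : (S : Subgroup G) ⊓ Subgroup.centralizer (U : Set G) ≤ U)
    (K : Subgroup G) [K.Normal] (hK : (Nat.card K).Coprime p)
    (hKmax : ∀ N : Subgroup G, N.Normal → (Nat.card N).Coprime p → N ≤ K) :
    Constrained p (G ⧸ K) := by
  have hCn : (Subgroup.centralizer (U : Set G)).Normal := Subgroup.normal_centralizer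
  have hUp : IsPGroup p U := S.isPGroup'.to_le hUS
  have hfn : FullyNormalized p (S : Subgroup G) U := by
    unfold FullyNormalized
    rw [Subgroup.normalizer_eq_top (H := U), inf_top_eq, Subgroup.relIndex_top_right]
    exact S.not_dvd_index
  have hZsyl := hfn.sylIn_centralizer
  have hPcent : (hZsyl.toSylow : Subgroup ↥(Subgroup.centralizer (U : Set G))) ≤
      Subgroup.center ↥(Subgroup.centralizer (U : Set G)) := by
    intro z hz
    rw [hZsyl.coe_toSylow, Subgroup.mem_subgroupOf] at hz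
    have hzU : z.1 ∈ U := hcent hz
    rw [Subgroup.mem_center_iff]
    intro c
    apply Subtype.ext
    exact ((Subgroup.mem_centralizer_iff.mp c.2) z.1 hzU).symm
  obtain ⟨K₁, hK₁n, hK₁c, hdec, hpel⟩ := exists_normal_pComplement_of_central_sylow hZsyl.toSylow hPcent
  have hK₀n : (K₁.map (Subgroup.centralizer (U : Set G)).subtype).Normal := by
    constructor
    rintro _ ⟨k, hk, rfl⟩ g
    have hmem : g * k.1 * g⁻¹ ∈ Subgroup.centralizer (U : Set G) := hCn.conj_mem _ k.2 g
    refine ⟨⟨g * k.1 * g⁻¹, hmem⟩, ?_, rfl⟩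
    apply hpel
    have h1 : orderOf (⟨g * k.1 * g⁻¹, hmem⟩ : ↥(Subgroup.centralizer (U : Set G))) = orderOf k := by
      rw [← orderOf_injective (Subgroup.centralizer (U : Set G)).subtype Subtype.val_injective,
        ← orderOf_injective (Subgroup.centralizer (U : Set G)).subtype Subtype.val_injective k]
      exact orderOf_injective (MulAut.conj g).toMonoidHom (MulAut.conj g).injective k.1
    rw [h1]
    have h2 : orderOf (⟨k, hk⟩ : ↥K₁) = orderOf k :=
      (orderOf_injective K₁.subtype Subtype.val_injective ⟨k, hk⟩).symm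
    rw [← h2]
    exact Nat.Coprime.coprime_dvd_left (orderOf_dvd_natCard _) hK₁c
  have hK₀c : (Nat.card (K₁.map (Subgroup.centralizer (U : Set G)).subtype)).Coprime p := by
    rw [Nat.card_congr (K₁.equivMapOfInjective _ Subtype.val_injective).symm.toEquiv]
    exact hK₁c
  have hK₀K := hKmax _ hK₀n hK₀c
  have hπK : ∀ k' ∈ K, QuotientGroup.mk' K k' = 1 := by
    intro k' hk'
    rw [QuotientGroup.mk'_apply, QuotientGroup.eq_one_iff]; exact hk'
  have hUb : U.map (QuotientGroup.mk' K) ≤ Cfsg.pCore p (G ⧸ K) :=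
    le_sSup ⟨hUn.map _ (QuotientGroup.mk'_surjective K), hUp.map _⟩
  intro yb hyb
  obtain ⟨y, rfl⟩ := QuotientGroup.mk'_surjective K yb
  have hyC : y ∈ Subgroup.centralizer (U : Set G) := by
    rw [Subgroup.mem_centralizer_iff]
    intro u hu
    have h1 := (Subgroup.mem_centralizer_iff.mp hyb) (QuotientGroup.mk' K u)
      (hUb (Subgroup.mem_map_of_mem _ hu))
    have h2 : y * u * y⁻¹ * u⁻¹ ∈ K := by
      rw [← QuotientGroup.eq_one_iff, ← QuotientGroup.mk'_apply]
      simp only [map_mul, map_inv]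
      rw [← h1]
      group
    have h3 : y * u * y⁻¹ * u⁻¹ ∈ U := mul_mem (hUn.conj_mem u hu y) (inv_mem hu)
    have h4 : y * u * y⁻¹ * u⁻¹ ∈ U ⊓ K := ⟨h3, h2⟩
    rw [pGroup_inf_pPrime_eq_bot hUp hK, Subgroup.mem_bot] at h4
    calc u * y = (y * u * y⁻¹ * u⁻¹)⁻¹ * (y * u) := by group
      _ = y * u := by rw [h4]; group
  obtain ⟨k, hk, z, hz, hyz⟩ := hdec ⟨y, hyC⟩
  rw [hZsyl.coe_toSylow, Subgroup.mem_subgroupOf] at hz
  have hyz' : y = k.1 * z.1 := congrArg Subtype.val hyz
  have hkK : k.1 ∈ K := hK₀K ⟨k, hk, rfl⟩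
  have : QuotientGroup.mk' K y = QuotientGroup.mk' K z.1 := by
    rw [hyz', map_mul, hπK _ hkK, one_mul]
  rw [this]
  exact hUb (Subgroup.mem_map_of_mem _ (hcent hz))

end Cfsg.Agent.Lib.Helper33
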