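/-
Helper33, module BP-[INST-STAROF] of helper16's cut of BP-[L4-INST] (project BP, helper92): `IsStar` for the
local system `locSysOf` gives the layer-5 interface `IsStarOf`.  `_of` form: the statements of [INST-BR1]
and [INST-BR2] are hypotheses.
-/
import Mathlib
import Cfsg.Agent.Lib.Helper16.BPInstDefs
import Cfsg.Agent.Lib.Helper16.BPNilDefs
import Cfsg.Agent.Lib.Helper16.BPNorm
import Cfsg.Agent.Lib.Helper16.BPInstFus
import Cfsg.Agent.Lib.Helper16.NormConj

set_option autoImplicit false
set_option linter.unusedSectionVars false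
set_option linter.unusedVariables false
set_option linter.style.haveILetI false

namespace Cfsg.Agent.Lib.Helper33.BP

open Cfsg Cfsg.Agent.Lib.Helper16 Cfsg.Agent.Lib.Helper16.BP Cfsg.Agent.Lib.Helper78
  Cfsg.Agent.Lib.Helper92.BP

universe u

variable {G : Type u} [Group G] [Fintype G] {M : Ideal AlgInt} {p : ℕ} [Fact p.Prime]
  {B : Set (IrrCharacter G)} {P : Subgroup G}
  {e : Set (IrrCharacter (Subgroup.centralizer (P : Set G)))}

/-- the value of `locSysOf` at `(<v>, f)` below `(P, e)` -/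
theorem locSysOf_eq_self (hM : IsPModular p M) (hPe : IsBrauerPair p M P e) {η : P → ℂ}
    (hη : IsFusionStable p M P e η) {v : G} (hv : v ∈ P) {f : Set (IrrCharacter (locC v))}
    (hle : SubpairLE p M (Subgroup.zpowers v) f P e) :
    locSysOf p M P e η (Subgroup.zpowers v) f v = η ⟨v, hv⟩ := by
  have h1 : Relation.ReflTransGen (NormalSubpairRel p M)
      (conjPair 1 (⟨Subgroup.zpowers v, f⟩ : BrauerPairIdx G)) ⟨P, e⟩ := by
    rw [conjPair_one]
    exact hle
  have h2 : SubpairLE p M ((Subgroup.zpowers v).map (MulAut.conj (1 : G)).toMonoidHom)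
      (conjBlock (Subgroup.zpowers v) 1 f) P e := h1
  have hmem : (1 : G) * v * (1 : G)⁻¹ ∈ P := by
    rw [one_mul, inv_one, mul_one]
    exact hv
  rw [locSysOf_eq hM hPe hη h2 (Subgroup.mem_zpowers v) hmem]
  congr 1
  apply Subtype.ext
  show (1 : G) * v * (1 : G)⁻¹ = v
  rw [one_mul, inv_one, mul_one]

/-- BP-[INST-STAROF], with the statements of [INST-BR1] and [INST-BR2] as hypotheses -/
theorem isStarOf_of_isStar_of [hMp : M.IsPrime] (hM : IsPModular p M)
    (hPe : IsBrauerPair p M P e)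
    {η : P → ℂ} (hη : IsFusionStable p M P e η) {χ θ : G → ℂ} (hχ : IsClassFunction G χ)
    (hstar : IsStar M p (locSysOf p M P e η) χ θ)
    (hBR1 : ∀ (u : G), (∃ k : ℕ, orderOf u = p ^ k) → ∀ s : locC u,
      ThetaQ M (locSysOf p M P e η) χ (Subgroup.zpowers u) u
          (MonoidAlgebra.of (localSubring M) G (s : G)) =
        ∑ᶠ f ∈ {f : Set (IrrCharacter (locC u)) | IsPBlock M f},
          locSysOf p M P e η (Subgroup.zpowers u) f u *
            blockPart f (fun c : locC u => χ (u * (c : G))) s)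
    (hBR2 : ∀ (v : G) (ϑ Θ : locC v → ℂ) (a : Set (IrrCharacter (locC v)) → ℂ),
      (∀ c : locC v, ¬ p ∣ orderOf c →
        Θ c = ∑ᶠ f ∈ {f : Set (IrrCharacter (locC v)) | IsPBlock M f}, a f * blockPart f ϑ c) →
      ∀ {f' : Set (IrrCharacter (locC v))}, IsPBlock M f' → ∀ s : locC v, ¬ p ∣ orderOf s →
        blockPart f' Θ s = a f' * blockPart f' ϑ s) :
    IsStarOf p M P e η χ θ := by
  intro v hv f hle s hs
  have hf : IsBrauerPair p M (Subgroup.zpowers v) f := Cfsg.Agent.S4655.le_pair_left hle hPe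
  have hvp : ∃ k : ℕ, orderOf v = p ^ k := by
    have h1 := hPe.1
    obtain ⟨k, hk⟩ := (IsPGroup.iff_orderOf.mp h1) ⟨v, hv⟩
    refine ⟨k, ?_⟩
    rw [← hk, Subgroup.orderOf_mk]
  have key := hBR2 v (fun c : locC v => χ (v * (c : G))) (fun c : locC v => θ (v * (c : G)))
    (fun f' => locSysOf p M P e η (Subgroup.zpowers v) f' v) (by
      intro c hc
      have hc' : ¬ p ∣ orderOf (c : G) := by
        rwa [Subgroup.orderOf_coe]
      have hcomm : Commute v (c : G) := by
        have := c.2
        rw [Subgroup.mem_centralizer_iff] at this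
        exact this v (Subgroup.mem_zpowers v)
      show θ (v * (c : G)) = _
      rw [hstar v (c : G) hvp hc' hcomm, hBR1 v hvp c]) hf.2 s hs
  rw [key, locSysOf_eq_self hM hPe hη hv hle]

end Cfsg.Agent.Lib.Helper33.BP
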