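/-
Helper33, module BP-[INST-STAROF] of helper16's cut of BP-[L4-INST] (project BP, helper92), EXACT statement:
`IsStar` for the local system `locSysOf` gives the layer-5 interface `IsStarOf`.
-/
import Mathlib
import Cfsg.Agent.Lib.Helper33.BPInstStarOf
import Cfsg.Agent.Lib.Helper77.BPInstBr1
import Cfsg.Agent.Lib.Helper78.BPInstBr2

set_option autoImplicit false
set_option linter.unusedSectionVars false
set_option linter.unusedVariables false
set_option linter.style.haveILetI false

namespace Cfsg.Agent.Lib.Helper33.BP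

open Cfsg Cfsg.Agent.Lib.Helper16 Cfsg.Agent.Lib.Helper16.BP Cfsg.Agent.Lib.Helper78
  Cfsg.Agent.Lib.Helper92.BP

universe u

variable {G : Type u} [Group G] [Fintype G] {M : Ideal AlgInt} {p : ℕ} [Fact p.Prime]
  {B : Set (IrrCharacter G)} {P : Subgroup G}
  {e : Set (IrrCharacter (Subgroup.centralizer (P : Set G)))}

/-- BP-[INST-STAROF] : `IsStar` for `locSysOf` gives the layer-5 interface `IsStarOf` -/
theorem isStarOf_of_isStar [hMp : M.IsPrime] (hM : IsPModular p M) (hPe : IsBrauerPair p M P e)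
    {η : P → ℂ} (hη : IsFusionStable p M P e η) {χ θ : G → ℂ} (hχ : IsClassFunction G χ)
    (hstar : IsStar M p (locSysOf p M P e η) χ θ) : IsStarOf p M P e η χ θ := by
  apply isStarOf_of_isStar_of hM hPe hη hχ hstar
  · intro u hu s
    exact Cfsg.Agent.Lib.Helper77.BP.thetaQ_of_eq_sum_blockPart hM _ hχ hu s
  · intro v ϑ Θ a hΘ f' hf' s hs
    haveI : Fintype (locC v) := Fintype.ofFinite _
    exact Cfsg.Agent.Lib.Helper78.BP.blockPart_eq_of_regular_eq hM ϑ Θ a hΘ hf' s hs

end Cfsg.Agent.Lib.Helper33.BP
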