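/-
Helper33, module BP-[L4-TH] of helper92's project BP (Broué–Puig, layer 4): the twisted trace form
`ThetaQ` is additive, a trace form on `Rm[C_G(Q)]`, `G`-equivariant, and reduces to a single term on
elements lying in a block.
-/
import Mathlib
import Cfsg.Agent.Lib.Helper92.BPTheta
import Cfsg.Agent.Lib.Helper51.BPEv
import Cfsg.Agent.Lib.Helper16.Osima
import Cfsg.Agent.Lib.Helper16.PairConj
import Cfsg.Agent.Lib.Helper16.PairRestrict
import Cfsg.Agent.Lib.Helper77.BPBlockD1
import Cfsg.Agent.Lib.Helper78.BPDict2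

set_option autoImplicit false
set_option linter.unusedSectionVars false
set_option linter.unusedVariables false
set_option linter.style.haveILetI false

namespace Cfsg.Agent.Lib.Helper33.BP

open Cfsg Cfsg.Agent.Lib.Helper16 Cfsg.Agent.Lib.Helper92.BP

variable {G : Type*} [Group G] [Finite G] {p : ℕ} [Fact p.Prime] {M : Ideal AlgInt}
  [hMp : M.IsPrime]

/-- the set of blocks of a finite group is finite -/
theorem finite_blocks (H : Type*) [Group H] [Finite H] :
    {f : Set (IrrCharacter H) | IsPBlock M f}.Finite := by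
  haveI : Finite (IrrCharacter H) := finite_irrCharacter
  exact Set.toFinite _

theorem evAt_add' {R : Type*} [CommRing R] [Algebra R ℂ] (χ : G → ℂ) (u : G)
    (a b : MonoidAlgebra R G) : evAt χ u (a + b) = evAt χ u a + evAt χ u b := by
  unfold evAt
  exact Cfsg.Agent.Lib.Helper51.BP.ev_add _ a b

theorem evAt_zero' {R : Type*} [CommRing R] [Algebra R ℂ] (χ : G → ℂ) (u : G) :
    evAt χ u (0 : MonoidAlgebra R G) = 0 := by
  unfold evAt
  exact Cfsg.Agent.Lib.Helper51.BP.ev_zero _

/-- BP-[L4-TH] : `Θ` is additive -/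
theorem thetaQ_add (μ : LocSys G) (χ : G → ℂ) (Q : Subgroup G) (u : G)
    (a b : MonoidAlgebra (localSubring M) G) :
    ThetaQ M μ χ Q u (a + b) = ThetaQ M μ χ Q u a + ThetaQ M μ χ Q u b := by
  unfold ThetaQ
  rw [← finsum_mem_add_distrib (finite_blocks _)]
  apply finsum_mem_congr rfl
  intro f hf
  rw [add_mul, evAt_add', mul_add]

theorem thetaQ_zero (μ : LocSys G) (χ : G → ℂ) (Q : Subgroup G) (u : G) :
    ThetaQ M μ χ Q u 0 = 0 := by
  unfold ThetaQ
  apply finsum_mem_eq_zero_of_forall_eq_zero
  intro f hf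
  rw [zero_mul, evAt_zero', mul_zero]

theorem thetaQ_sum {ι : Type*} (s : Finset ι) (μ : LocSys G) (χ : G → ℂ) (Q : Subgroup G)
    (u : G) (a : ι → MonoidAlgebra (localSubring M) G) :
    ThetaQ M μ χ Q u (∑ i ∈ s, a i) = ∑ i ∈ s, ThetaQ M μ χ Q u (a i) := by
  classical
  induction s using Finset.induction_on with
  | empty => rw [Finset.sum_empty, Finset.sum_empty, thetaQ_zero]
  | insert i s hi ih => rw [Finset.sum_insert hi, Finset.sum_insert hi, thetaQ_add, ih]

/-- an element of `Q` commutes with the image of `R[C_G(Q)]` -/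
theorem of_mul_incl_comm {R : Type*} [CommRing R] {Q : Subgroup G} {u : G} (hu : u ∈ Q)
    (z : MonoidAlgebra R (Subgroup.centralizer (Q : Set G))) :
    MonoidAlgebra.of R G u * incl R _ z = incl R _ z * MonoidAlgebra.of R G u := by
  induction z using MonoidAlgebra.induction_linear with
  | zero => rw [map_zero, mul_zero, zero_mul]
  | add x y hx hy => rw [map_add, mul_add, add_mul, hx, hy]
  | single c r =>
    have h1 : incl R (Subgroup.centralizer (Q : Set G)) (MonoidAlgebra.single c r) =
        MonoidAlgebra.single (c : G) r := by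
      unfold incl
      simp [MonoidAlgebra.mapDomainRingHom]
    rw [h1, MonoidAlgebra.of_apply, MonoidAlgebra.single_mul_single,
      MonoidAlgebra.single_mul_single, one_mul, mul_one]
    have h2 : u * (c : G) = (c : G) * u := by
      have := c.2
      rw [Subgroup.mem_centralizer_iff] at this
      exact this u hu
    rw [h2]

/-- BP-[L4-TH] : `Θ` is a trace form on `Rm[C_G(Q)]` (`u ∈ Q`) -/
theorem thetaQ_mul_comm (hM : IsPModular p M) (μ : LocSys G) {χ : G → ℂ}
    (hχ : IsClassFunction G χ) {Q : Subgroup G} {u : G} (hu : u ∈ Q)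
    {x y : MonoidAlgebra (localSubring M) G}
    (hx : x ∈ Set.range (incl (localSubring M) (Subgroup.centralizer (Q : Set G))))
    (hy : y ∈ Set.range (incl (localSubring M) (Subgroup.centralizer (Q : Set G)))) :
    ThetaQ M μ χ Q u (x * y) = ThetaQ M μ χ Q u (y * x) := by
  classical
  haveI : Fintype (Subgroup.centralizer (Q : Set G)) := Fintype.ofFinite _
  obtain ⟨x', rfl⟩ := hx
  obtain ⟨y', rfl⟩ := hy
  unfold ThetaQ
  apply finsum_mem_congr rfl
  intro f hf
  have hf' : IsPBlock M f := hf
  congr 1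
  set E := blockIdemR M f with hE
  set I := incl (localSubring M) (Subgroup.centralizer (Q : Set G)) with hI
  have hc : ∀ b, b * E = E * b := Cfsg.Agent.Lib.Helper77.BP.blockIdemR_central hf'
  have h1 : I x' * I y' * I E = I x' * I (y' * E) := by rw [map_mul, mul_assoc]
  have h2 : I y' * I x' * I E = I (y' * E) * I x' := by
    rw [mul_assoc, ← map_mul, hc x', map_mul, ← mul_assoc, ← map_mul]
  rw [h1, h2]
  exact Cfsg.Agent.Lib.Helper51.BP.evAt_mul_comm χ hχ u _ _ (of_mul_incl_comm hu _)

/-- BP-[L4-TH] : if `a` lies in the block `f` then only the `f`-term of `Θ` survives -/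
theorem thetaQ_of_mul_blockIdem (hM : IsPModular p M) (μ : LocSys G) (χ : G → ℂ)
    {Q : Subgroup G} {u : G} {f : Set (IrrCharacter (Subgroup.centralizer (Q : Set G)))}
    (hf : IsPBlock M f) {a : MonoidAlgebra (localSubring M) G}
    (ha : a * incl (localSubring M) _ (blockIdemR M f) = a) :
    ThetaQ M μ χ Q u a = μ Q f u * evAt χ u a := by
  classical
  haveI : Fintype (Subgroup.centralizer (Q : Set G)) := Fintype.ofFinite _
  unfold ThetaQ
  rw [finsum_eq_single _ f]
  · have hf2 : f ∈ {f : Set (IrrCharacter (Subgroup.centralizer (Q : Set G))) | IsPBlock M f} := hf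
    rw [finsum_eq_if, if_pos hf2, ha]
  · intro f' hne
    rcases Classical.em (f' ∈ {f : Set (IrrCharacter (Subgroup.centralizer (Q : Set G))) |
      IsPBlock M f}) with hf' | hf'
    · have hf'' : IsPBlock M f' := hf'
      have h0 : a * incl (localSubring M) _ (blockIdemR M f') = 0 := by
        rw [← ha, mul_assoc, ← map_mul,
          Cfsg.Agent.Lib.Helper77.BP.blockIdemR_orth hf hf'' (Ne.symm hne), map_zero, mul_zero]
      rw [finsum_eq_if, if_pos hf', h0, evAt_zero', mul_zero]
    · rw [finsum_eq_if, if_neg hf']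

end Cfsg.Agent.Lib.Helper33.BP
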