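/-
Helper33, module BP-[L4-TH] of helper92's project BP (Broué–Puig, layer 4), last part: the twisted trace
form `ThetaQ` is `G`-equivariant.
-/
import Mathlib
import Cfsg.Agent.Lib.Helper33.BPThetaQ
import Cfsg.Agent.Lib.Helper16.BrauerOver

set_option autoImplicit false
set_option linter.unusedSectionVars false
set_option linter.unusedVariables false
set_option linter.style.haveILetI false

namespace Cfsg.Agent.Lib.Helper33.BP

open Cfsg Cfsg.Agent.Lib.Helper16 Cfsg.Agent.Lib.Helper92.BP

variable {G : Type*} [Group G] [Finite G] {p : ℕ} [Fact p.Prime] {M : Ideal AlgInt}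
  [hMp : M.IsPrime]

/-- conjugation of blocks is a bijection between the blocks of `C_G(Q)` and those of `C_G(Q^g)` -/
theorem bijOn_conjBlock (Q : Subgroup G) (g : G) :
    Set.BijOn (conjBlock Q g)
      {f : Set (IrrCharacter (Subgroup.centralizer (Q : Set G))) | IsPBlock M f}
      {f : Set (IrrCharacter (Subgroup.centralizer
        ((Q.map (MulAut.conj g).toMonoidHom : Subgroup G) : Set G))) | IsPBlock M f} := by
  refine ⟨?_, ?_, ?_⟩
  · intro f hf
    have hf' : IsPBlock M f := hf
    show IsPBlock M (conjBlock Q g f)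
    rw [conjBlock_eq_pullBlock]
    exact isPBlock_pullBlock _ hf'
  · intro f₁ _ f₂ _ h
    rw [conjBlock_eq_pullBlock, conjBlock_eq_pullBlock] at h
    have h2 := congrArg (pullBlock (conjCent Q g).symm) h
    rwa [pullBlock_symm_pullBlock, pullBlock_symm_pullBlock] at h2
  · intro f' hf'
    have hf'' : IsPBlock M f' := hf'
    refine ⟨pullBlock (conjCent Q g).symm f', ?_, ?_⟩
    · exact isPBlock_pullBlock _ hf''
    · rw [conjBlock_eq_pullBlock, pullBlock_pullBlock_symm]

/-- BP-[L4-TH] : `Θ` is `G`-equivariant -/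
theorem thetaQ_conj (hM : IsPModular p M) {μ : LocSys G} (hμ : IsLocalSystem p M μ)
    {χ : G → ℂ} (hχ : IsClassFunction G χ) {Q : Subgroup G} (hQ : IsPGroup p Q) (g : G)
    {u : G} (hu : u ∈ Q) (a : MonoidAlgebra (localSubring M) G) :
    ThetaQ M μ χ (Q.map (MulAut.conj g).toMonoidHom) (g * u * g⁻¹) (conj (localSubring M) g a) =
      ThetaQ M μ χ Q u a := by
  unfold ThetaQ
  symm
  apply finsum_mem_eq_of_bijOn (conjBlock Q g) (bijOn_conjBlock Q g)
  intro f hf
  have hf' : IsPBlock M f := hf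
  rw [hμ.1 Q f g u ⟨hQ, hf'⟩ hu,
    ← Cfsg.Agent.Lib.Helper78.BP.conj_incl_blockIdemR hM Q g hf',
    ← Cfsg.Agent.Lib.Helper40.BP.conj_mul,
    Cfsg.Agent.Lib.Helper51.BP.evAt_conj χ hχ]

end Cfsg.Agent.Lib.Helper33.BP
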