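/-
Helper33, module BP-[L4-C1] of helper92's project BP (Broué–Puig, layer 4): CLAIM is additive on
orthogonal idempotents of `A^Q`.
-/
import Mathlib
import Cfsg.Agent.Lib.Helper33.BPThetaQ
import Cfsg.Agent.Lib.Helper86.BPLift
import Cfsg.Agent.Lib.Helper3.BPLocal
import Cfsg.Agent.Lib.Helper52.BPD0
import Cfsg.Agent.Lib.Helper23.BPBrMul
import Cfsg.Agent.Lib.Helper40.BPBr1
import Cfsg.Agent.Lib.Helper40.BPConj
import Cfsg.Agent.Lib.Helper44.BPBr5
import Cfsg.Agent.Lib.Helper80.CharBasic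

set_option autoImplicit false
set_option linter.unusedSectionVars false
set_option linter.unusedVariables false
set_option linter.style.haveILetI false

namespace Cfsg.Agent.Lib.Helper33.BP

open Cfsg Cfsg.Agent.Lib.Helper16 Cfsg.Agent.Lib.Helper92.BP

variable {G : Type*} [Group G] [Finite G] {p : ℕ} [Fact p.Prime] {M : Ideal AlgInt}
  [hMp : M.IsPrime]

/-- the sum of two generalized characters is a generalized character -/
theorem isGeneralizedCharacter_add' {H : Type*} [Group H] {a b : H → ℂ}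
    (ha : IsGeneralizedCharacter H a) (hb : IsGeneralizedCharacter H b) :
    IsGeneralizedCharacter H (a + b) := by
  obtain ⟨χ1, ψ1, h1, h2, rfl⟩ := ha
  obtain ⟨χ2, ψ2, h3, h4, rfl⟩ := hb
  exact ⟨χ1 + χ2, ψ1 + ψ2, Cfsg.Agent.Lib.Helper80.isCharacter_add h1 h3,
    Cfsg.Agent.Lib.Helper80.isCharacter_add h2 h4, by abel⟩

/-- `Br_Q` on `R[C_G(Q)]` is the reduction of coefficients -/
theorem br_incl {R : Type*} [CommRing R] [IsLocalRing R] (Q : Subgroup G)
    (a : MonoidAlgebra R (Subgroup.centralizer (Q : Set G))) :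
    br R Q (incl R _ a) = red R _ a :=
  Cfsg.Agent.Lib.Helper44.BP.br_mapDomain Q a

/-- BP-[L4-C1] : CLAIM is additive on orthogonal idempotents -/
theorem claimFor_add (hM : IsPModular p M) {μ : LocSys G} (hμ : IsLocalSystem p M μ)
    {χ : G → ℂ} (hχ : IsCharacter G χ) {Q : Subgroup G} (hQ : IsPGroup p Q)
    {c₁ c₂ : MonoidAlgebra (localSubring M) G} (h₁ : c₁ ∈ fixedAlg (localSubring M) Q)
    (h₂ : c₂ ∈ fixedAlg (localSubring M) Q) (hi₁ : IsIdempotentElem c₁)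
    (hi₂ : IsIdempotentElem c₂) (horth : Orth c₁ c₂) (H₁ : ClaimFor M μ χ Q c₁)
    (H₂ : ClaimFor M μ χ Q c₂) : ClaimFor M μ χ Q (c₁ + c₂) := by
  haveI : CharP (IsLocalRing.ResidueField (localSubring M)) p :=
    Cfsg.Agent.Lib.Helper52.BP.charP_residueField hM
  have hR := Cfsg.Agent.Lib.Helper3.BP.monicSplits_localSubring M
  obtain ⟨ψ₁, hψ₁, hc₁⟩ := H₁
  obtain ⟨ψ₂, hψ₂, hc₂⟩ := H₂
  refine ⟨ψ₁ + ψ₂, isGeneralizedCharacter_add' hψ₁ hψ₂, ?_⟩
  intro u a ha hai hbr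
  obtain ⟨a', rfl⟩ := ha
  have hUQ : Subgroup.zpowers (u : G) ≤ Q := by
    rw [Subgroup.zpowers_le]
    exact u.2
  have hUp : IsPGroup p (Subgroup.zpowers (u : G)) := hQ.to_le hUQ
  have hfix : fixedAlg (localSubring M) Q ≤ fixedAlg (localSubring M) (Subgroup.zpowers (u : G)) :=
    Cfsg.Agent.Lib.Helper40.BP.fixedAlg_anti hUQ
  have hmul : ∀ {x y : MonoidAlgebra (localSubring M) G}, x ∈ fixedAlg (localSubring M) Q →
      y ∈ fixedAlg (localSubring M) Q →
      br (localSubring M) (Subgroup.zpowers (u : G)) (x * y) = br (localSubring M) (Subgroup.zpowers (u : G)) x * br (localSubring M) (Subgroup.zpowers (u : G)) y :=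
    fun hx hy => Cfsg.Agent.Lib.Helper23.BP.br_mul (R := localSubring M) hUp (hfix hx) (hfix hy)
  set y₁ := br (localSubring M) (Subgroup.zpowers (u : G)) c₁ with hy₁
  set y₂ := br (localSubring M) (Subgroup.zpowers (u : G)) c₂ with hy₂
  have hy11 : y₁ * y₁ = y₁ := by rw [hy₁, ← hmul h₁ h₁, hi₁.eq]
  have hy22 : y₂ * y₂ = y₂ := by rw [hy₂, ← hmul h₂ h₂, hi₂.eq]
  have hy12 : y₁ * y₂ = 0 := by
    rw [hy₁, hy₂, ← hmul h₁ h₂, horth.1, Cfsg.Agent.Lib.Helper40.BP.br_zero]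
  have hy21 : y₂ * y₁ = 0 := by
    rw [hy₁, hy₂, ← hmul h₂ h₁, horth.2, Cfsg.Agent.Lib.Helper40.BP.br_zero]
  have hred : red (localSubring M) _ a' = y₁ + y₂ := by
    rw [← br_incl, hbr, Cfsg.Agent.Lib.Helper40.BP.br_add]
  have hai' : IsIdempotentElem a' := by
    have hinj : Function.Injective (incl (localSubring M) (Subgroup.centralizer ((Subgroup.zpowers (u : G) : Subgroup G) : Set G))) := by
      unfold incl
      exact MonoidAlgebra.mapDomain_injective Subtype.val_injective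
    apply hinj
    rw [map_mul]
    exact hai
  have hle : IdemLE y₁ (red (localSubring M) _ a') := by
    refine ⟨hy11, ?_, ?_⟩
    · rw [hred, add_mul, hy11, hy21, add_zero]
    · rw [hred, mul_add, hy11, hy12, add_zero]
  obtain ⟨a₁, ⟨ha₁i, haa₁, ha₁a⟩, hra₁⟩ :=
    Cfsg.Agent.Lib.Helper86.BP.exists_idemLE_red_eq hR a' hai' y₁ hle
  have ha₂i : IsIdempotentElem (a' - a₁) := by
    show (a' - a₁) * (a' - a₁) = a' - a₁
    rw [sub_mul, mul_sub, mul_sub, hai'.eq, haa₁, ha₁a, ha₁i.eq]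
    abel
  have hra₂ : red (localSubring M) _ (a' - a₁) = y₂ := by
    rw [map_sub, hred, hra₁, add_sub_cancel_left]
  set I := incl (localSubring M) (Subgroup.centralizer ((Subgroup.zpowers (u : G) : Subgroup G) : Set G)) with hI
  have e₁ := hc₁ u (I a₁) ⟨a₁, rfl⟩ (by
      show I a₁ * I a₁ = I a₁
      rw [← map_mul, ha₁i.eq]) (by rw [hI, br_incl, hra₁])
  have e₂ := hc₂ u (I (a' - a₁)) ⟨_, rfl⟩ (by
      show I (a' - a₁) * I (a' - a₁) = I (a' - a₁)
      rw [← map_mul, ha₂i.eq]) (by rw [hI, br_incl, hra₂])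
  rw [Pi.add_apply, e₁, e₂, ← thetaQ_add, ← map_add, add_sub_cancel]

end Cfsg.Agent.Lib.Helper33.BP
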