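/-
Helper33, module BP-[D4] of helper92's project BP (Brauer pairs, layer 2d): the Brauer image `Br_P(i)`
of a local primitive idempotent `i` of `A^P` (`A = Rm[G]`, `P` a `p`-group) lies in a block of
`k[C_G(P)]`.  `_of` form: the facts [D1] on the block idempotents of `k[C_G(P)]` (idempotent, central,
sum `1`) and the statement of [U-PRIMBR] for `Q = P` are hypotheses.
-/
import Mathlib
import Cfsg.Agent.Lib.Helper92.BPBlock
import Cfsg.Agent.Lib.Helper23.BPBrMul

set_option autoImplicit false
set_option linter.unusedSectionVars false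
set_option linter.unusedVariables false
set_option linter.style.haveILetI false

namespace Cfsg.Agent.Lib.Helper33.BP

open Cfsg Cfsg.Agent.Lib.Helper16 Cfsg.Agent.Lib.Helper92.BP

section Abstract

variable {Λ : Type*} [Ring Λ]

/-- an idempotent `y ≠ 0` which cannot be split by central idempotents of a family with sum `1` lies
below one member of the family -/
theorem exists_mul_eq_of_finsum_eq_one {ι : Type*} (S : Set ι) (b : ι → Λ) (y : Λ) (hy0 : y ≠ 0)
    (hsum : ∑ᶠ f ∈ S, b f = 1) (hsplit : ∀ f ∈ S, y * b f = 0 ∨ y * b f = y) :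
    ∃ f ∈ S, y * b f = y := by
  by_contra hno
  push Not at hno
  have hzero : ∀ f ∈ S, y * b f = 0 := by
    intro f hf
    rcases hsplit f hf with h | h
    · exact h
    · exact absurd h (hno f hf)
  apply hy0
  by_cases hfin : (S ∩ Function.support b).Finite
  · have h1 := AddMonoidHom.map_finsum_mem' (AddMonoidHom.mulLeft y) hfin
    rw [hsum] at h1
    simp only [AddMonoidHom.coe_mulLeft, mul_one] at h1
    rw [h1]
    apply finsum_mem_eq_zero_of_forall_eq_zero
    intro f hf
    exact hzero f hf
  · have h1 := finsum_mem_eq_zero_of_infinite hfin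
    rw [hsum] at h1
    calc y = y * 1 := (mul_one y).symm
      _ = y * 0 := by rw [h1]
      _ = 0 := mul_zero y

/-- splitting an idempotent by a central idempotent -/
theorem split_by_central {y b : Λ} (hy : IsIdempotentElem y) (hb : IsIdempotentElem b)
    (hbc : ∀ x : Λ, b * x = x * b) :
    IsIdempotentElem (y * b) ∧ IsIdempotentElem (y * (1 - b)) ∧ (y * b) * (y * (1 - b)) = 0 ∧
      (y * (1 - b)) * (y * b) = 0 ∧ y * b + y * (1 - b) = y := by
  have hy' : y * y = y := hy
  have hb' : b * b = b := hb
  have hyb : b * y = y * b := hbc y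
  have e1 : (y * b) * (y * b) = y * b := by
    calc (y * b) * (y * b) = y * (b * y) * b := by noncomm_ring
      _ = y * (y * b) * b := by rw [hyb]
      _ = (y * y) * (b * b) := by noncomm_ring
      _ = y * b := by rw [hy', hb']
  have e2 : (y * (1 - b)) * (y * (1 - b)) = y * (1 - b) := by
    have h1 : (1 - b) * y = y * (1 - b) := by rw [sub_mul, mul_sub, one_mul, mul_one, hyb]
    have h2 : (1 - b) * (1 - b) = 1 - b := by
      rw [sub_mul, mul_sub, mul_sub, one_mul, mul_one, one_mul, hb']; abel
    calc (y * (1 - b)) * (y * (1 - b)) = y * ((1 - b) * y) * (1 - b) := by noncomm_ring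
      _ = y * (y * (1 - b)) * (1 - b) := by rw [h1]
      _ = (y * y) * ((1 - b) * (1 - b)) := by noncomm_ring
      _ = y * (1 - b) := by rw [hy', h2]
  have h3 : b * (1 - b) = 0 := by rw [mul_sub, mul_one, hb', sub_self]
  have h4 : (1 - b) * b = 0 := by rw [sub_mul, one_mul, hb', sub_self]
  refine ⟨e1, e2, ?_, ?_, ?_⟩
  · calc (y * b) * (y * (1 - b)) = y * (b * y) * (1 - b) := by noncomm_ring
      _ = y * (y * b) * (1 - b) := by rw [hyb]
      _ = y * y * (b * (1 - b)) := by noncomm_ring
      _ = 0 := by rw [h3, mul_zero]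
  · have h1 : (1 - b) * y = y * (1 - b) := by rw [sub_mul, mul_sub, one_mul, mul_one, hyb]
    calc (y * (1 - b)) * (y * b) = y * ((1 - b) * y) * b := by noncomm_ring
      _ = y * (y * (1 - b)) * b := by rw [h1]
      _ = y * y * ((1 - b) * b) := by noncomm_ring
      _ = 0 := by rw [h4, mul_zero]
  · rw [← mul_add, add_sub_cancel, mul_one]

end Abstract

variable {G : Type*} [Group G] [Finite G] {p : ℕ} [Fact p.Prime] {M : Ideal AlgInt}
  [hMp : M.IsPrime]

/-- BP-[D4], with [D0], [D1] and [U-PRIMBR] (for `Q = P`) as hypotheses -/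
theorem exists_block_of_localPrim_of [CharP (IsLocalRing.ResidueField (localSubring M)) p]
    {P : Subgroup G} (hP : IsPGroup p P)
    {i : MonoidAlgebra (localSubring M) G} (hi : IsLocalPrim (localSubring M) P i)
    (hidem : ∀ f : Set (IrrCharacter (Subgroup.centralizer (P : Set G))), IsPBlock M f →
      IsIdempotentElem (blockIdemK M f))
    (hcentral : ∀ f : Set (IrrCharacter (Subgroup.centralizer (P : Set G))), IsPBlock M f →
      ∀ y, blockIdemK M f * y = y * blockIdemK M f)
    (hsum : ∑ᶠ f ∈ {f : Set (IrrCharacter (Subgroup.centralizer (P : Set G))) | IsPBlock M f},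
      blockIdemK M f = 1)
    (hprim : ∀ y₁ y₂ : MonoidAlgebra (IsLocalRing.ResidueField (localSubring M))
        (Subgroup.centralizer (P : Set G)),
      IsIdempotentElem y₁ → IsIdempotentElem y₂ → y₁ * y₂ = 0 → y₂ * y₁ = 0 →
      y₁ + y₂ = br (localSubring M) P i →
      (∀ u ∈ P, ∀ z z' : Subgroup.centralizer (P : Set G),
        (z' : G) = u * (z : G) * u⁻¹ → y₁.coeff z' = y₁.coeff z) → y₁ = 0 ∨ y₂ = 0) :
    ∃ e : Set (IrrCharacter (Subgroup.centralizer (P : Set G))), IsPBlock M e ∧
      br (localSubring M) P i * blockIdemK M e = br (localSubring M) P i := by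
  obtain ⟨⟨hmem, hprimI⟩, hne⟩ := hi
  have hii : i * i = i := by
    have := hprimI.1
    exact congrArg Subtype.val this
  have hy : IsIdempotentElem (br (localSubring M) P i) := by
    have := Cfsg.Agent.Lib.Helper23.BP.br_mul (R := localSubring M) hP hmem hmem
    rw [hii] at this
    exact this.symm
  obtain ⟨e, he, hee⟩ := exists_mul_eq_of_finsum_eq_one
    {f : Set (IrrCharacter (Subgroup.centralizer (P : Set G))) | IsPBlock M f}
    (fun f => blockIdemK M f) (br (localSubring M) P i) hne hsum (by
      intro f hf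
      obtain ⟨h1, h2, h3, h4, h5⟩ := split_by_central hy (hidem f hf) (hcentral f hf)
      rcases hprim _ _ h1 h2 h3 h4 h5 (by
        intro u hu z z' hzz'
        have hz : (z' : G) = (z : G) := by
          rw [hzz']
          have := z.2
          rw [Subgroup.mem_centralizer_iff] at this
          have h6 := this u hu
          rw [h6, mul_inv_cancel_right]
        rw [Subtype.ext hz]) with h | h
      · exact Or.inl h
      · right
        have h6 : br (localSubring M) P i * (1 - blockIdemK M f) = 0 := h
        rw [mul_sub, mul_one, sub_eq_zero] at h6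
        exact h6.symm)
  exact ⟨e, he, hee⟩

end Cfsg.Agent.Lib.Helper33.BP
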