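/-
Helper33, module BP-[D4] of helper92's project BP, EXACT statement: the Brauer image `Br_P(i)` of a local
primitive idempotent `i` of `A^P` lies in a block of `k[C_G(P)]`.
-/
import Mathlib
import Cfsg.Agent.Lib.Helper33.BPD4
import Cfsg.Agent.Lib.Helper52.BPD0
import Cfsg.Agent.Lib.Helper52.BPPrimBr
import Cfsg.Agent.Lib.Helper77.BPBlockD1
import Cfsg.Agent.Lib.Helper3.BPLocal

set_option autoImplicit false
set_option linter.unusedSectionVars false
set_option linter.unusedVariables false
set_option linter.style.haveILetI false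

namespace Cfsg.Agent.Lib.Helper33.BP

open Cfsg Cfsg.Agent.Lib.Helper16 Cfsg.Agent.Lib.Helper92.BP

variable {G : Type*} [Group G] [Finite G] {p : ℕ} [Fact p.Prime] {M : Ideal AlgInt}
  [hMp : M.IsPrime]

/-- BP-[D4] : the Brauer image of a local primitive idempotent lies in a block of `k[C_G(P)]` -/
theorem exists_block_of_localPrim (hM : IsPModular p M) {P : Subgroup G} (hP : IsPGroup p P)
    {i : MonoidAlgebra (localSubring M) G} (hi : IsLocalPrim (localSubring M) P i) :
    ∃ e : Set (IrrCharacter (Subgroup.centralizer (P : Set G))), IsPBlock M e ∧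
      br (localSubring M) P i * blockIdemK M e = br (localSubring M) P i := by
  haveI : CharP (IsLocalRing.ResidueField (localSubring M)) p :=
    Cfsg.Agent.Lib.Helper52.BP.charP_residueField hM
  exact exists_block_of_localPrim_of hP hi
    (fun f hf => Cfsg.Agent.Lib.Helper77.BP.blockIdemK_idem hM hf)
    (fun f hf y => Cfsg.Agent.Lib.Helper77.BP.blockIdemK_central hM hf y)
    (Cfsg.Agent.Lib.Helper77.BP.sum_blockIdemK hM)
    (fun y₁ y₂ h₁ h₂ h12 h21 hs hfix =>
      Cfsg.Agent.Lib.Helper52.BP.br_prim_of_fixed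
        (Cfsg.Agent.Lib.Helper3.BP.monicSplits_localSubring M) hP le_rfl Subgroup.le_normalizer
        hi.1 y₁ y₂ h₁ h₂ h12 h21 hs hfix)

end Cfsg.Agent.Lib.Helper33.BP
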