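import Cfsg.Agent.Lib.Helper33.Alperin
import Cfsg.Prelude.Def_ConjugacyFunctors

/-!
# Conjugation families (helper33 library)

`RChain 𝓕 A g`: the element `g` is a product `x₁ ⋯ xₙ` with `xᵢ ∈ N_G(Tᵢ)`, `Tᵢ ∈ 𝓕`, such that
`A ⊆ T₁` and `(x₁ ⋯ xᵢ)⁻¹ A (x₁ ⋯ xᵢ) ⊆ Tᵢ₊₁`: the inductive form of the chain condition in
`Cfsg.IsConjugationFamily`.
-/

set_option autoImplicit false

namespace Cfsg.Agent.Lib.Helper33

variable {G : Type*} [Group G] {p : ℕ}

/-- right conjugation of a set: `g⁻¹ A g` -/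
def rc (g : G) (A : Set G) : Set G := (fun a => g⁻¹ * a * g) '' A

theorem rc_def (g : G) (A : Set G) : rc g A = (fun a => g⁻¹ * a * g) '' A := rfl

theorem mem_rc {g x : G} {A : Set G} : x ∈ rc g A ↔ g * x * g⁻¹ ∈ A := by
  unfold rc
  constructor
  · rintro ⟨a, ha, rfl⟩
    simpa [mul_assoc] using ha
  · intro h
    exact ⟨g * x * g⁻¹, h, by group⟩

theorem rc_one (A : Set G) : rc 1 A = A := by
  ext x; simp [mem_rc]

theorem rc_mul (g h : G) (A : Set G) : rc (g * h) A = rc h (rc g A) := by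
  ext x; simp [mem_rc, mul_assoc]

theorem rc_mono {g : G} {A B : Set G} (h : A ⊆ B) : rc g A ⊆ rc g B := Set.image_mono h

theorem rc_inv_rc (g : G) (A : Set G) : rc g⁻¹ (rc g A) = A := by
  rw [← rc_mul]; simp [rc_one]

theorem rc_coe_subgroup (g : G) (P : Subgroup G) : rc g (P : Set G) = ((cj g⁻¹ P : Subgroup G) : Set G) := by
  ext x
  rw [mem_rc, SetLike.mem_coe, SetLike.mem_coe, mem_cj]
  simp

theorem rc_subset_of_mem_normalizer {x : G} {T : Subgroup G} {A : Set G}
    (hx : x ∈ Subgroup.normalizer (T : Set G)) (hA : A ⊆ T) : rc x A ⊆ T := by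
  intro y hy
  rw [mem_rc] at hy
  have h1 := hA hy
  have h2 : x⁻¹ ∈ Subgroup.normalizer (T : Set G) := inv_mem hx
  rw [Subgroup.mem_normalizer_iff] at h2
  have := (h2 (x * y * x⁻¹)).mp h1
  simpa [mul_assoc] using this

/-- chains of right conjugations through normalizers of members of `𝓕` -/
inductive RChain (𝓕 : Set (Subgroup G)) : Set G → G → Prop
  | nil (A : Set G) : RChain 𝓕 A 1
  | cons (A : Set G) (T : Subgroup G) (x g : G) : T ∈ 𝓕 → x ∈ Subgroup.normalizer (T : Set G) →
      A ⊆ T → RChain 𝓕 (rc x A) g → RChain 𝓕 A (x * g)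

theorem RChain.mono {𝓕 : Set (Subgroup G)} {A : Set G} {g : G} (h : RChain 𝓕 A g) :
    ∀ {A' : Set G}, A' ⊆ A → RChain 𝓕 A' g := by
  induction h with
  | nil A => intro A' _; exact RChain.nil A'
  | cons A T x g hT hx hA _ ih =>
    intro A' hA'
    exact RChain.cons A' T x g hT hx (hA'.trans hA) (ih (rc_mono hA'))

theorem RChain.single {𝓕 : Set (Subgroup G)} {A : Set G} {T : Subgroup G} {x : G} (hT : T ∈ 𝓕)
    (hx : x ∈ Subgroup.normalizer (T : Set G)) (hA : A ⊆ T) : RChain 𝓕 A x := by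
  have := RChain.cons A T x 1 hT hx hA (RChain.nil _)
  simpa using this

theorem RChain.comp {𝓕 : Set (Subgroup G)} {A : Set G} {g : G} (h : RChain 𝓕 A g) :
    ∀ {k : G}, RChain 𝓕 (rc g A) k → RChain 𝓕 A (g * k) := by
  induction h with
  | nil A => intro k hk; rw [rc_one] at hk; simpa using hk
  | cons A T x g hT hx hA _ ih =>
    intro k hk
    rw [rc_mul] at hk
    rw [mul_assoc]
    exact RChain.cons A T x (g * k) hT hx hA (ih hk)

theorem RChain.inv {𝓕 : Set (Subgroup G)} {A : Set G} {g : G} (h : RChain 𝓕 A g) :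
    RChain 𝓕 (rc g A) g⁻¹ := by
  induction h with
  | nil A => rw [rc_one]; simpa using RChain.nil A
  | cons A T x g hT hx hA _ ih =>
    -- ih : RChain (rc g (rc x A)) g⁻¹ ; want RChain (rc (x*g) A) (x*g)⁻¹
    rw [rc_mul, mul_inv_rev]
    apply ih.comp
    rw [rc_inv_rc]
    exact RChain.single hT (inv_mem hx) (rc_subset_of_mem_normalizer hx hA)

/-- An `RChain` yields the data required by `Cfsg.IsConjugationFamily`. -/
theorem RChain.exists_family_data {𝓕 : Set (Subgroup G)} {A : Set G} {g : G} (h : RChain 𝓕 A g) :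
    ∃ (n : ℕ) (T : Fin n → Subgroup G) (x : Fin n → G), (List.ofFn x).prod = g ∧
      (∀ i, T i ∈ 𝓕) ∧ (∀ i, x i ∈ Subgroup.normalizer ((T i : Subgroup G) : Set G)) ∧
      (∀ h : 0 < n, A ⊆ T ⟨0, h⟩) ∧
      ∀ (i : Fin n) (h : i.val + 1 < n),
        (fun a => (((List.ofFn x).take (i.val + 1)).prod)⁻¹ * a * ((List.ofFn x).take (i.val + 1)).prod) '' A ⊆
          T ⟨i.val + 1, h⟩ := by
  induction h with
  | nil A =>
    exact ⟨0, Fin.elim0, Fin.elim0, by simp, fun i => i.elim0, fun i => i.elim0,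
      fun h => absurd h (lt_irrefl 0), fun i => i.elim0⟩
  | cons A T x g hT hx hA _ ih =>
    obtain ⟨n, T', x', hprod, hT', hx', h0, hi⟩ := ih
    refine ⟨n + 1, Fin.cons T T', Fin.cons x x', ?_, ?_, ?_, ?_, ?_⟩
    · simp [List.ofFn_succ, hprod]
    · intro i
      refine Fin.cases ?_ (fun j => ?_) i
      · simpa using hT
      · simpa using hT' j
    · intro i
      refine Fin.cases ?_ (fun j => ?_) i
      · simpa using hx
      · simpa using hx' j
    · intro _
      exact hA
    · rintro ⟨i, hin⟩ hlt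
      simp only at hlt
      have hlist : List.ofFn (Fin.cons x x' : Fin (n + 1) → G) = x :: List.ofFn x' := by
        simp [List.ofFn_succ]
      rw [hlist, List.take_succ_cons, List.prod_cons]
      change rc (x * ((List.ofFn x').take i).prod) A ⊆ T' ⟨i, by omega⟩
      rw [rc_mul]
      cases i with
      | zero =>
        simp only [List.take_zero, List.prod_nil, rc_one]
        exact h0 (by omega)
      | succ j =>
        exact hi ⟨j, by omega⟩ (by simp only; omega)

/-- `𝓕` is a conjugation family as soon as all conjugations between subsets of `S` are `RChain`s. -/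
theorem isConjugationFamily_of_rchain {𝓕 : Set (Subgroup G)} {S : Subgroup G}
    (h1 : ∀ T ∈ 𝓕, T ≤ S)
    (h2 : ∀ (A : Set G) (g : G), A.Nonempty → A ⊆ S → rc g A ⊆ S → RChain 𝓕 A g) :
    Cfsg.IsConjugationFamily 𝓕 S := by
  refine ⟨h1, ?_⟩
  intro A g hne hA hAg
  exact (h2 A g hne hA hAg).exists_family_data

/-- Alperin's theorem in Goldschmidt's form, for an arbitrary family containing a fully normalized
conjugate of every subgroup of `S`. -/
theorem rchain_of_fullyNormalized_family [Fact p.Prime] [Finite G] (S : Sylow p G)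
    (𝓕 : Set (Subgroup G))
    (h𝓕 : ∀ P : Subgroup G, P ≤ (S : Subgroup G) →
      ∃ U ∈ 𝓕, (∃ g : G, cj g P = U) ∧ U ≤ (S : Subgroup G) ∧ FullyNormalized p (S : Subgroup G) U)
    (A : Set G) (g : G) (hA : A ⊆ (S : Subgroup G)) (hAg : rc g A ⊆ (S : Subgroup G)) :
    RChain 𝓕 A g := by
  have key := alperin_induction S (fun P g => RChain 𝓕 (P : Set G) g⁻¹) 𝓕 h𝓕
    (by
      intro P g h _ _ _ h1 h2
      rw [mul_inv_rev]
      apply h1.comp
      rwa [rc_coe_subgroup, inv_inv])
    (by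
      intro P P' g hle _ _ h1
      exact h1.mono hle)
    (by
      intro P g _ _ h1
      have := h1.inv
      rw [rc_coe_subgroup, inv_inv] at this
      rw [inv_inv]
      exact this)
    (by
      intro U hU _ _ _ g hg
      exact RChain.single hU (inv_mem hg) le_rfl)
  have hP : Subgroup.closure A ≤ (S : Subgroup G) := (Subgroup.closure_le _).mpr hA
  have hPg : cj g⁻¹ (Subgroup.closure A) ≤ (S : Subgroup G) := by
    rw [cj_closure, Subgroup.closure_le]
    have : (fun a => g⁻¹ * a * g⁻¹⁻¹) '' A = rc g A := by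
      simp [rc]
    rw [this]; exact hAg
  have := key (Subgroup.closure A) hP g⁻¹ hPg
  simp only [inv_inv] at this
  exact this.mono Subgroup.subset_closure

end Cfsg.Agent.Lib.Helper33
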