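import Mathlib

/-!
# REEW-[W-GL7] (helper61's project REEW): the centraliser in `GL₇(q)` of an element of prime order
`p ∣ q² - q + 1` is commutative.

Proof: `ord_p(q) = 6`; `V = ker (X - 1) ⊕ ker Φ_p(X)`; orbit counting gives `dim ker (X - 1) = 1` and
that every nonzero `X`-invariant subspace of `ker Φ_p(X)` is everything; so on each of the two
components every commuting matrix acts as a polynomial in `X`.
-/

set_option autoImplicit false
set_option linter.style.haveILetI false
set_option linter.unusedSectionVars false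

namespace Cfsg.Agent.Lib.Helper33.ReeW

open Polynomial

/-- arithmetic: `ord_p(q) = 6`. -/
theorem modEq_six_of_pow_modEq (q p : ℕ) [Fact p.Prime] (hp2 : p ≠ 2) (h1 : p ∣ q ^ 3 + 1)
    (h2 : ¬ p ∣ q + 1) (a b : ℕ) (h : q ^ a ≡ q ^ b [MOD p]) : a ≡ b [MOD 6] := by
  have hp : p.Prime := Fact.out
  have hx3 : (q : ZMod p) ^ 3 = -1 := by
    have : ((q ^ 3 + 1 : ℕ) : ZMod p) = 0 := (ZMod.natCast_eq_zero_iff _ _).2 h1
    push_cast at this
    linear_combination this
  have hx1 : (q : ZMod p) ≠ -1 := by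
    intro h
    apply h2
    rw [← ZMod.natCast_eq_zero_iff]
    push_cast
    rw [h]; ring
  have h2ne : (2 : ZMod p) ≠ 0 := by
    intro h
    have h' : ((2 : ℕ) : ZMod p) = 0 := by exact_mod_cast h
    rw [ZMod.natCast_eq_zero_iff] at h'
    exact hp2 ((Nat.prime_dvd_prime_iff_eq hp Nat.prime_two).1 h')
  have hx0 : (q : ZMod p) ≠ 0 := by
    intro h
    rw [h] at hx3
    have : (1 : ZMod p) = 0 := by
      have h0 : (0 : ZMod p) ^ 3 = 0 := by simp
      rw [h0] at hx3
      linear_combination hx3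
    exact one_ne_zero this
  set u : (ZMod p)ˣ := Units.mk0 _ hx0 with hu
  have hu3 : u ^ 3 = -1 := by
    apply Units.ext
    simp [hu, hx3]
  have hu6 : u ^ 6 = 1 := by
    have : u ^ 6 = (u ^ 3) ^ 2 := by rw [← pow_mul]
    rw [this, hu3]; simp
  have hne1 : (-1 : (ZMod p)ˣ) ≠ 1 := by
    intro h
    have : (-1 : ZMod p) = 1 := by simpa using congrArg Units.val h
    apply h2ne
    linear_combination -this
  have hord : orderOf u = 6 := by
    have hd : orderOf u ∣ 6 := orderOf_dvd_of_pow_eq_one hu6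
    have hmem : orderOf u ∈ Nat.divisors 6 := Nat.mem_divisors.2 ⟨hd, by norm_num⟩
    have hdiv : Nat.divisors 6 = {1, 2, 3, 6} := by decide
    rw [hdiv] at hmem
    simp only [Finset.mem_insert, Finset.mem_singleton] at hmem
    rcases hmem with h | h | h | h
    · exfalso
      have := pow_orderOf_eq_one u
      rw [h, pow_one] at this
      rw [this, one_pow] at hu3
      exact hne1 hu3.symm
    · exfalso
      have := pow_orderOf_eq_one u
      rw [h] at this
      have h3 : u ^ 3 = u := by
        have : u ^ 3 = u ^ 2 * u := by rw [pow_succ]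
        rw [this, ‹u ^ 2 = 1›, one_mul]
      rw [h3] at hu3
      apply hx1
      have := congrArg Units.val hu3
      simpa [hu] using this
    · exfalso
      have := pow_orderOf_eq_one u
      rw [h] at this
      rw [this] at hu3
      exact hne1 hu3.symm
    · exact h
  have hpow : u ^ a = u ^ b := by
    apply Units.ext
    have := (ZMod.natCast_eq_natCast_iff _ _ _).2 h
    push_cast at this
    simpa [hu] using this
  rw [pow_eq_pow_iff_modEq, hord] at hpow
  exact hpow

/-- orbit counting for a linear map of order dividing `p` on a finite vector space. -/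
theorem card_modEq_fixed {K M : Type*} [Field K] [Fintype K] [AddCommGroup M] [Module K M]
    [FiniteDimensional K M] (p : ℕ) [Fact p.Prime] (g : M →ₗ[K] M) (hg : g ^ p = 1) :
    Fintype.card K ^ Module.finrank K M ≡
      Fintype.card K ^ Module.finrank K (LinearMap.ker (g - 1)) [MOD p] := by
  classical
  haveI : Finite M := Module.finite_of_finite K
  haveI : Fintype M := Fintype.ofFinite M
  let F : Function.End M := fun x => g x
  have hFk : ∀ k : ℕ, F ^ k = fun x => (g ^ k) x := by
    intro k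
    induction k with
    | zero => rfl
    | succ k ih =>
      rw [pow_succ, ih]
      funext x
      change (g ^ k) (g x) = (g ^ (k + 1)) x
      rw [pow_succ]; rfl
  have hF : F ^ p ^ 1 = 1 := by
    rw [pow_one, hFk, hg]; rfl
  have h := Equiv.Perm.card_fixedPoints_modEq (p := p) (n := 1) hF
  have e : ↥(Function.fixedPoints F) ≃ ↥(LinearMap.ker (g - 1)) :=
    Equiv.subtypeEquivRight (fun x => by
      simp [Function.mem_fixedPoints, Function.IsFixedPt, F, sub_eq_zero])
  rw [← Nat.card_eq_fintype_card (α := K), ← Module.natCard_eq_pow_finrank,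
    ← Module.natCard_eq_pow_finrank, ← Nat.card_congr e, Nat.card_eq_fintype_card,
    Nat.card_eq_fintype_card]
  exact h

section cyc
variable {K : Type*} [Field K] {V : Type*} [AddCommGroup V] [Module K V]

theorem commute_aeval_right (g f : V →ₗ[K] V) (h : Commute g f) (P : K[X]) :
    Commute g (aeval f P) := by
  induction P using Polynomial.induction_on' with
  | add p q hp hq => rw [map_add]; exact hp.add_right hq
  | monomial k a =>
    rw [aeval_monomial]
    exact (Algebra.commute_algebraMap_right a g).mul_right (h.pow_right k)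

/-- the cyclic submodule `K[f] w`. -/
noncomputable def cyc (f : V →ₗ[K] V) (w : V) : Submodule K V :=
  LinearMap.range ((LinearMap.applyₗ w : (V →ₗ[K] V) →ₗ[K] V) ∘ₗ
    ((aeval f : K[X] →ₐ[K] (V →ₗ[K] V)).toLinearMap))

theorem mem_cyc (f : V →ₗ[K] V) (w x : V) : x ∈ cyc f w ↔ ∃ P : K[X], aeval f P w = x := by
  unfold cyc
  rw [LinearMap.mem_range]
  rfl

theorem self_mem_cyc (f : V →ₗ[K] V) (w : V) : w ∈ cyc f w :=
  (mem_cyc f w w).2 ⟨1, by simp⟩

theorem map_mem_cyc (f : V →ₗ[K] V) (w x : V) (hx : x ∈ cyc f w) : f x ∈ cyc f w := by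
  obtain ⟨P, rfl⟩ := (mem_cyc f w x).1 hx
  refine (mem_cyc f w _).2 ⟨X * P, ?_⟩
  rw [map_mul, aeval_X, Module.End.mul_apply]

theorem comm_of_mem_cyc (f g h : V →ₗ[K] V) (hg : Commute g f) (hh : Commute h f) (w : V)
    (hgw : g w ∈ cyc f w) (hhw : h w ∈ cyc f w) : g (h w) = h (g w) := by
  obtain ⟨P, hP⟩ := (mem_cyc f w _).1 hgw
  obtain ⟨Q, hQ⟩ := (mem_cyc f w _).1 hhw
  have e1 : g (aeval f Q w) = aeval f Q (g w) := by
    have := (commute_aeval_right g f hg Q).eq
    exact congrArg (fun φ : V →ₗ[K] V => φ w) this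
  have e2 : h (aeval f P w) = aeval f P (h w) := by
    have := (commute_aeval_right h f hh P).eq
    exact congrArg (fun φ : V →ₗ[K] V => φ w) this
  rw [← hQ, e1, ← hP, e2, ← hQ, ← Module.End.mul_apply, ← Module.End.mul_apply, ← map_mul,
    ← map_mul, mul_comm]

end cyc

section main
variable {K : Type*} [Field K] [Fintype K] {V : Type*} [AddCommGroup V] [Module K V]
  [FiniteDimensional K V]

theorem commute_of_commute_end (p : ℕ) [Fact p.Prime] (hp2 : p ≠ 2)
    (h1 : p ∣ Fintype.card K ^ 3 + 1) (h2 : ¬ p ∣ Fintype.card K + 1)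
    (hV : Module.finrank K V = 7)
    (f : V →ₗ[K] V) (hfp : f ^ p = 1) (hf1 : f ≠ 1) (g h : V →ₗ[K] V)
    (hg : Commute g f) (hh : Commute h f) : g * h = h * g := by
  classical
  have hp : p.Prime := Fact.out
  set q := Fintype.card K with hq
  -- `p ≠ 0` in `K`
  have hpK : (p : K) ≠ 0 := by
    intro h0
    obtain ⟨c, hc⟩ := h1
    have hq0 : ((q : ℕ) : K) = 0 := FiniteField.cast_card_eq_zero K
    have := congrArg (Nat.cast : ℕ → K) hc
    push_cast at this
    rw [hq0, h0] at this
    simp at this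
  -- coprimality
  have hfac : (X - C (1 : K)) * cyclotomic p K = X ^ p - 1 := by
    rw [mul_comm, C_1]
    exact cyclotomic_prime_mul_X_sub_one K p
  have hcop : IsCoprime (X - C (1 : K)) (cyclotomic p K) := by
    rw [(irreducible_X_sub_C (1 : K)).coprime_iff_not_dvd, dvd_iff_isRoot, IsRoot.def,
      eval_one_cyclotomic_prime]
    exact hpK
  have hae1 : aeval f (X - C (1 : K)) = f - 1 := by simp
  set V₁ := LinearMap.ker (aeval f (X - C (1 : K))) with hV₁
  set W := LinearMap.ker (aeval f (cyclotomic p K)) with hW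
  have hsup : V₁ ⊔ W = ⊤ := by
    rw [hV₁, hW, sup_ker_aeval_eq_ker_aeval_mul_of_coprime f hcop, hfac]
    simp [hfp]
  have hdisj : Disjoint V₁ W := disjoint_ker_aeval_of_isCoprime f hcop
  have hdim : Module.finrank K V₁ + Module.finrank K W = 7 := by
    have := Submodule.finrank_sup_add_finrank_inf_eq V₁ W
    rw [hsup, hdisj.eq_bot, finrank_top, finrank_bot, hV] at this
    omega
  have hmemV₁ : ∀ x, x ∈ V₁ ↔ f x = x := by
    intro x
    rw [hV₁, LinearMap.mem_ker, hae1, LinearMap.sub_apply, Module.End.one_apply, sub_eq_zero]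
  have hd1 : Module.finrank K V₁ = 1 := by
    have h := card_modEq_fixed p f hfp
    rw [hV, ← hae1] at h
    have h6 := modEq_six_of_pow_modEq q p hp2 h1 h2 _ _ h
    have hle : Module.finrank K V₁ ≤ 7 := by omega
    have hne : Module.finrank K V₁ ≠ 7 := by
      intro h7
      apply hf1
      have : V₁ = ⊤ := Submodule.eq_top_of_finrank_eq (by rw [h7, hV])
      rw [hV₁, LinearMap.ker_eq_top, hae1, sub_eq_zero] at this
      exact this
    change 7 % 6 = Module.finrank K V₁ % 6 at h6
    omega
  have hdW : Module.finrank K W = 6 := by omega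
  -- aeval maps preserve `W`
  have hWinv : ∀ (φ : V →ₗ[K] V), Commute φ f → ∀ x ∈ W, φ x ∈ W := by
    intro φ hφ x hx
    rw [hW, LinearMap.mem_ker] at hx ⊢
    have := (commute_aeval_right φ f hφ (cyclotomic p K)).eq
    have := congrArg (fun ψ : V →ₗ[K] V => ψ x) this
    simp only [Module.End.mul_apply] at this
    rw [← this, hx, map_zero]
  have hV₁inv : ∀ (φ : V →ₗ[K] V), Commute φ f → ∀ x ∈ V₁, φ x ∈ V₁ := by
    intro φ hφ x hx
    rw [hmemV₁] at hx ⊢
    have := congrArg (fun ψ : V →ₗ[K] V => ψ x) hφ.eq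
    simp only [Module.End.mul_apply] at this
    rw [← this, hx]
  -- cyclic submodules inside `W`
  have hcycW : ∀ w ∈ W, w ≠ 0 → cyc f w = W := by
    intro w hw hw0
    have hUW : cyc f w ≤ W := by
      intro x hx
      obtain ⟨P, rfl⟩ := (mem_cyc f w x).1 hx
      exact hWinv _ (commute_aeval_right f f (Commute.refl f) P).symm w hw
    have hU : ∀ x ∈ cyc f w, f x ∈ cyc f w := map_mem_cyc f w
    have hfU : (f.restrict hU) ^ p = 1 := by
      rw [Module.End.pow_restrict]
      apply LinearMap.ext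
      intro x
      apply Subtype.ext
      simp [LinearMap.restrict_apply, hfp]
    have hker : LinearMap.ker (f.restrict hU - 1) = ⊥ := by
      rw [LinearMap.ker_eq_bot']
      intro x hx
      have hx' : f x.1 = x.1 := by
        have := congrArg Subtype.val hx
        simpa [LinearMap.restrict_apply, sub_eq_zero] using this
      have h1 : x.1 ∈ V₁ := (hmemV₁ _).2 hx'
      have h2 : x.1 ∈ W := hUW x.2
      have : x.1 ∈ V₁ ⊓ W := ⟨h1, h2⟩
      rw [hdisj.eq_bot, Submodule.mem_bot] at this
      exact Subtype.ext this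
    have h := card_modEq_fixed p (f.restrict hU) hfU
    rw [hker, finrank_bot] at h
    have h6 := modEq_six_of_pow_modEq q p hp2 h1 h2 _ _ h
    have hpos : 0 < Module.finrank K (cyc f w) := by
      rw [Module.finrank_pos_iff_exists_ne_zero]
      exact ⟨⟨w, self_mem_cyc f w⟩, fun h => hw0 (congrArg Subtype.val h)⟩
    have hle : Module.finrank K (cyc f w) ≤ Module.finrank K W := Submodule.finrank_mono hUW
    change Module.finrank K (cyc f w) % 6 = 0 % 6 at h6
    exact Submodule.eq_of_le_of_finrank_eq hUW (by omega)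
  -- every commuting map sends `w` into `cyc f w` on the two components
  have hA : ∀ (φ : V →ₗ[K] V), Commute φ f → ∀ w ∈ V₁, φ w ∈ cyc f w := by
    intro φ hφ w hw
    by_cases hw0 : w = 0
    · rw [hw0, map_zero]; exact Submodule.zero_mem _
    · have hne : (⟨w, hw⟩ : V₁) ≠ 0 := fun h => hw0 (congrArg Subtype.val h)
      obtain ⟨c, hc⟩ := (finrank_eq_one_iff_of_nonzero' (⟨w, hw⟩ : V₁) hne).1 hd1
        ⟨φ w, hV₁inv φ hφ w hw⟩
      have hc' : c • w = φ w := congrArg Subtype.val hc
      refine (mem_cyc f w _).2 ⟨C c, ?_⟩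
      rw [aeval_C, ← hc']
      simp
  have hB : ∀ (φ : V →ₗ[K] V), Commute φ f → ∀ w ∈ W, φ w ∈ cyc f w := by
    intro φ hφ w hw
    by_cases hw0 : w = 0
    · rw [hw0, map_zero]; exact Submodule.zero_mem _
    · rw [hcycW w hw hw0]
      exact hWinv φ hφ w hw
  apply LinearMap.ext
  intro v
  have hv : v ∈ V₁ ⊔ W := by rw [hsup]; trivial
  obtain ⟨a, ha, b, hb, rfl⟩ := Submodule.mem_sup.1 hv
  simp only [Module.End.mul_apply, map_add]
  rw [comm_of_mem_cyc f g h hg hh a (hA g hg a ha) (hA h hh a ha),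
    comm_of_mem_cyc f g h hg hh b (hB g hg b hb) (hB h hh b hb)]

end main


/-- **[W-GL7]**: the centraliser in `GL₇(q)` of an element of prime order `p ∣ q² - q + 1`
(`p ∣ q³ + 1`, `p ∤ q + 1`, `p` odd) is commutative. -/
theorem commute_of_commute_GL7 {K : Type*} [Field K] [Fintype K] (p : ℕ) [Fact p.Prime] (hp2 : p ≠ 2)
    (h1 : p ∣ Fintype.card K ^ 3 + 1) (h2 : ¬ p ∣ Fintype.card K + 1)
    (X : GL (Fin 7) K) (hX : orderOf X = p) (Y Z : GL (Fin 7) K) (hY : Y * X = X * Y) (hZ : Z * X = X * Z) :
    Y * Z = Z * Y := by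
  classical
  have hp : p.Prime := Fact.out
  let T := (Matrix.toLinAlgEquiv' : Matrix (Fin 7) (Fin 7) K ≃ₐ[K] _)
  have hXp : (X : Matrix (Fin 7) (Fin 7) K) ^ p = 1 := by
    rw [← Units.val_pow_eq_pow_val, ← hX, pow_orderOf_eq_one]; rfl
  have hX1 : (X : Matrix (Fin 7) (Fin 7) K) ≠ 1 := by
    intro h
    have : X = 1 := Units.ext h
    rw [this, orderOf_one] at hX
    exact hp.one_lt.ne hX
  have hfp : (T X.1) ^ p = 1 := by rw [← map_pow, hXp, map_one]
  have hf1 : T X.1 ≠ 1 := by
    intro h
    apply hX1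
    apply T.injective
    rw [h, map_one]
  have hg : Commute (T Y.1) (T X.1) := by
    change T Y.1 * T X.1 = T X.1 * T Y.1
    rw [← map_mul, ← map_mul]
    exact congrArg T (congrArg Units.val hY)
  have hh : Commute (T Z.1) (T X.1) := by
    change T Z.1 * T X.1 = T X.1 * T Z.1
    rw [← map_mul, ← map_mul]
    exact congrArg T (congrArg Units.val hZ)
  have key := commute_of_commute_end p hp2 h1 h2 (by simp) (T X.1) hfp hf1 (T Y.1) (T Z.1) hg hh
  rw [← map_mul, ← map_mul] at key
  exact Units.ext (T.injective key)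

end Cfsg.Agent.Lib.Helper33.ReeW
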