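import Cfsg.Agent.Lib.Helper33.SecProp
import Cfsg.Agent.Lib.Helper76.PCore
import Cfsg.Prelude.Def_LocalEven

/-!
# `p`-stability of all sections, in elementary form (helper33 library)

* `ECN p X`: whenever `g` acts quadratically on a normal `p`-subgroup `P` of `X`, the normal closure of `g` acts on `P` as a
  `p`-group (every element has a `p`-power centralizing `P`).
* `ecn_of_nps`: normalizer-`p`-stability gives `ECN`; `ecn_of_mulEquiv`; `secProp_ecn_of_hst`.
* `eptop_of_secProp`: the form used in applications, for a normal section `E / D`.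
* `ep_of_secProp`: the same inside a subgroup `H`.
-/

set_option autoImplicit false

namespace Cfsg.Agent.Lib.Helper33

universe u

open scoped commutatorElement

/-- elementary form of `p`-stability for normal `p`-subgroups -/
def ECN (p : ℕ) : ∀ (X : Type u) [Group X], Prop := fun X _ =>
  ∀ P : Subgroup X, P.Normal → IsPGroup p P → ∀ g : X,
    ⁅⁅P, Subgroup.zpowers g⁆, Subgroup.zpowers g⁆ = ⊥ →
    ∀ y ∈ Subgroup.normalClosure ({g} : Set X), ∃ k : ℕ, y ^ p ^ k ∈ Subgroup.centralizer (P : Set X)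

variable {p : ℕ}

theorem ecn_of_nps [Fact p.Prime] {X : Type u} [Group X] (h : Cfsg.IsNormalizerPStable p X) : ECN p X := by
  intro P hPn hPp g hquad y hy
  have hN : Subgroup.normalizer (P : Set X) = ⊤ := Subgroup.normalizer_eq_top_iff.mpr hPn
  have hg : g ∈ Subgroup.normalizer (P : Set X) := by rw [hN]; exact Subgroup.mem_top g
  have h1 := h P hPp g hg hquad
  set N : Subgroup X := Subgroup.normalizer (P : Set X) with hNdef
  set C : Subgroup ↥N := (Subgroup.centralizer (P : Set X)).subgroupOf N with hCdef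
  have hcoreN : (Cfsg.pCore p (↥N ⧸ C)).Normal := Subgroup.sSup_normal _ (fun _ h => h.1)
  set M : Subgroup ↥N := (Cfsg.pCore p (↥N ⧸ C)).comap (QuotientGroup.mk' C) with hMdef
  have hMn : M.Normal := Subgroup.Normal.comap hcoreN _
  have hM'n : (M.map N.subtype).Normal := by
    refine ⟨fun m hm x => ?_⟩
    obtain ⟨m0, hm0, rfl⟩ := hm
    have hx : x ∈ N := by rw [hN]; exact Subgroup.mem_top x
    exact ⟨⟨x, hx⟩ * m0 * ⟨x, hx⟩⁻¹, hMn.conj_mem m0 hm0 ⟨x, hx⟩, rfl⟩
  have hgM : ({g} : Set X) ⊆ ((M.map N.subtype : Subgroup X) : Set X) := by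
    intro x hx
    rw [Set.mem_singleton_iff.mp hx]
    exact ⟨⟨g, hg⟩, h1, rfl⟩
  have hyM := Subgroup.normalClosure_le_normal hgM hy
  obtain ⟨y0, hy0, rfl⟩ := hyM
  have hcp : IsPGroup p (Cfsg.pCore p (↥N ⧸ C)) := Cfsg.Agent.Lib.Helper76.pCore_isPGroup p
  obtain ⟨k, hk⟩ := hcp ⟨QuotientGroup.mk' C y0, hy0⟩
  refine ⟨k, ?_⟩
  have h2 : (QuotientGroup.mk' C y0) ^ p ^ k = 1 := by
    have := congrArg Subtype.val hk
    simpa using this
  rw [← map_pow, QuotientGroup.mk'_apply, QuotientGroup.eq_one_iff] at h2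
  have h3 : ((y0 ^ p ^ k : ↥N) : X) ∈ Subgroup.centralizer (P : Set X) := Subgroup.mem_subgroupOf.mp h2
  simpa using h3

theorem ecn_of_mulEquiv {X Y : Type u} [Group X] [Group Y] (e : X ≃* Y) (h : ECN p X) : ECN p Y := by
  intro P hPn hPp g hquad y hy
  have hinj : Function.Injective e.toMonoidHom := e.injective
  have hPmap : (P.comap e.toMonoidHom).map e.toMonoidHom = P :=
    Subgroup.map_comap_eq_self_of_surjective e.surjective P
  have hzmap : (Subgroup.zpowers (e.symm g)).map e.toMonoidHom = Subgroup.zpowers g := by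
    rw [MonoidHom.map_zpowers]
    simp
  have hquad' : ⁅⁅P.comap e.toMonoidHom, Subgroup.zpowers (e.symm g)⁆, Subgroup.zpowers (e.symm g)⁆ = ⊥ := by
    rw [← Subgroup.map_eq_bot_iff_of_injective _ hinj, Subgroup.map_commutator, Subgroup.map_commutator, hPmap,
      hzmap]
    exact hquad
  have hy' : e.symm y ∈ Subgroup.normalClosure ({e.symm g} : Set X) := by
    have h1 := Subgroup.map_normalClosure ({g} : Set Y) e.symm.toMonoidHom e.symm.surjective
    rw [Set.image_singleton] at h1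
    have h2 : e.symm.toMonoidHom y ∈ (Subgroup.normalClosure ({g} : Set Y)).map e.symm.toMonoidHom :=
      Subgroup.mem_map_of_mem _ hy
    rw [h1] at h2
    exact h2
  obtain ⟨k, hk⟩ := h (P.comap e.toMonoidHom) (hPn.comap _) (hPp.comap_of_injective _ hinj) (e.symm g) hquad'
    (e.symm y) hy'
  refine ⟨k, ?_⟩
  rw [Subgroup.mem_centralizer_iff] at hk ⊢
  intro x hx
  have hx' : e.symm x ∈ P.comap e.toMonoidHom := by
    rw [Subgroup.mem_comap]
    simpa using hx
  have h1 := hk (e.symm x) hx'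
  have h2 := congrArg e h1
  simpa using h2

theorem secProp_ecn_of_hst [Fact p.Prime] {G : Type u} [Group G] [Finite G]
    (hst : ∀ (K R : Subgroup G) [_hR : (R.subgroupOf K).Normal], Cfsg.IsNormalizerPStable p (↥K ⧸ R.subgroupOf K)) :
    SecProp (ECN p) G :=
  secProp_of_sections (fun _ _ _ _ _ e h => ecn_of_mulEquiv e h) (fun K R _ => ecn_of_nps (hst K R))

/-- the form used in applications: a normal section `E / D` on which `g` acts quadratically -/
theorem eptop_of_secProp {Y : Type u} [Group Y] (h : SecProp (ECN p) Y) (D E : Subgroup Y) [hDn : D.Normal]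
    [hEn : E.Normal] (hpow : ∀ e ∈ E, ∃ k : ℕ, e ^ p ^ k ∈ D) (g : Y)
    (hq : ⁅⁅E, Subgroup.zpowers g⁆, Subgroup.zpowers g⁆ ≤ D) :
    ∀ x ∈ Subgroup.normalClosure ({g} : Set Y), ∃ k : ℕ, ⁅E, Subgroup.zpowers (x ^ p ^ k)⁆ ≤ D := by
  intro x hx
  have hX : ECN p (Y ⧸ D) := (h.quotient D).self
  set π : Y →* Y ⧸ D := QuotientGroup.mk' D with hπ
  have hπs : Function.Surjective π := QuotientGroup.mk'_surjective D
  have hPn : (E.map π).Normal := Subgroup.Normal.map hEn π hπs
  have hPp : IsPGroup p (E.map π) := by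
    rintro ⟨q, e, he, rfl⟩
    obtain ⟨k, hk⟩ := hpow e he
    refine ⟨k, ?_⟩
    apply Subtype.ext
    show (π e) ^ p ^ k = 1
    rw [← map_pow, hπ, QuotientGroup.mk'_apply, QuotientGroup.eq_one_iff]
    exact hk
  have hquad : ⁅⁅E.map π, Subgroup.zpowers (π g)⁆, Subgroup.zpowers (π g)⁆ = ⊥ := by
    rw [← MonoidHom.map_zpowers, ← Subgroup.map_commutator, ← Subgroup.map_commutator, eq_bot_iff]
    calc (⁅⁅E, Subgroup.zpowers g⁆, Subgroup.zpowers g⁆).map π ≤ D.map π := Subgroup.map_mono hq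
      _ = ⊥ := QuotientGroup.map_mk'_self D
  have hx' : π x ∈ Subgroup.normalClosure ({π g} : Set (Y ⧸ D)) := by
    have h1 := Subgroup.map_normalClosure ({g} : Set Y) π hπs
    rw [Set.image_singleton] at h1
    rw [← h1]
    exact Subgroup.mem_map_of_mem _ hx
  obtain ⟨k, hk⟩ := hX (E.map π) hPn hPp (π g) hquad (π x) hx'
  refine ⟨k, ?_⟩
  rw [Subgroup.commutator_le]
  intro e he z hz
  have hz' : π z ∈ Subgroup.centralizer ((E.map π : Subgroup (Y ⧸ D)) : Set (Y ⧸ D)) := by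
    obtain ⟨n, rfl⟩ := Subgroup.mem_zpowers_iff.mp hz
    rw [map_zpow, map_pow]
    exact Subgroup.zpow_mem _ hk n
  have hcomm := (Subgroup.mem_centralizer_iff.mp hz') (π e) (Subgroup.mem_map_of_mem _ he)
  rw [← QuotientGroup.eq_one_iff, commutatorElement_def]
  have : π (e * z * e⁻¹ * z⁻¹) = 1 := by
    rw [map_mul, map_mul, map_mul, map_inv, map_inv, hcomm]
    group
  exact this

/-- the same inside a subgroup `H` normalizing `D ≤ E ≤ H` -/
theorem ep_of_secProp {Y : Type u} [Group Y] (h : SecProp (ECN p) Y) (H D E : Subgroup Y) (hDE : D ≤ E) (hEH : E ≤ H)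
    (hHD : H ≤ Subgroup.normalizer (D : Set Y)) (hHE : H ≤ Subgroup.normalizer (E : Set Y))
    (hpow : ∀ e ∈ E, ∃ k : ℕ, e ^ p ^ k ∈ D) (g : Y) (hg : g ∈ H)
    (hq : ⁅⁅E, Subgroup.zpowers g⁆, Subgroup.zpowers g⁆ ≤ D) :
    ∀ x ∈ Subgroup.normalClosure ({(⟨g, hg⟩ : ↥H)} : Set ↥H),
      ∃ k : ℕ, ⁅E, Subgroup.zpowers ((x : Y) ^ p ^ k)⁆ ≤ D := by
  intro x hx
  have hinj : Function.Injective H.subtype := H.subtype_injective
  have hDn : (D.subgroupOf H).Normal := (Subgroup.normal_subgroupOf_iff_le_normalizer (hDE.trans hEH)).mpr hHD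
  have hEn : (E.subgroupOf H).Normal := (Subgroup.normal_subgroupOf_iff_le_normalizer hEH).mpr hHE
  have hDmap : (D.subgroupOf H).map H.subtype = D := Subgroup.map_subgroupOf_eq_of_le (hDE.trans hEH)
  have hEmap : (E.subgroupOf H).map H.subtype = E := Subgroup.map_subgroupOf_eq_of_le hEH
  have hpow' : ∀ e ∈ E.subgroupOf H, ∃ k : ℕ, e ^ p ^ k ∈ D.subgroupOf H := by
    intro e he
    obtain ⟨k, hk⟩ := hpow (e : Y) (Subgroup.mem_subgroupOf.mp he)
    exact ⟨k, by rw [Subgroup.mem_subgroupOf]; simpa using hk⟩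
  have hq' : ⁅⁅E.subgroupOf H, Subgroup.zpowers (⟨g, hg⟩ : ↥H)⁆, Subgroup.zpowers (⟨g, hg⟩ : ↥H)⁆ ≤
      D.subgroupOf H := by
    rw [← Subgroup.map_le_map_iff_of_injective hinj, Subgroup.map_commutator, Subgroup.map_commutator, hEmap,
      hDmap, MonoidHom.map_zpowers]
    exact hq
  obtain ⟨k, hk⟩ := eptop_of_secProp (h.subgroup H) (D.subgroupOf H) (E.subgroupOf H) hpow' ⟨g, hg⟩ hq' x hx
  refine ⟨k, ?_⟩
  have h1 := Subgroup.map_mono (f := H.subtype) hk
  rw [Subgroup.map_commutator, hEmap, hDmap, MonoidHom.map_zpowers] at h1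
  simpa using h1

end Cfsg.Agent.Lib.Helper33
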