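import Mathlib
import Cfsg.Prelude.Def_Transfer
import Cfsg.Prelude.Def_CaseTheorems
import Cfsg.Prelude.Def_Perm
import Cfsg.Agent.Lib.Helper2.SafDefs

/-!
# SAF-[EMB] (helper2's project SAF, S4025): `exists_embedding`

An affine package whose linear part is semilinear over a field structure on `W` embeds `Q` into the
one-dimensional semi-affine group of the field.
-/

set_option autoImplicit false

namespace Cfsg.Agent.Lib.Helper33.Saf

open Cfsg Cfsg.Agent.Lib.Helper2.Saf

universe u

theorem exists_embedding {p : ℕ} [Fact p.Prime] {Q : Type u} [Group Q] [Finite Q]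
    {W : Type u} [AddCommGroup W] [Module (ZMod p) W] {A : Type u} [Group A] (pk : AffPkg p Q W A)
    {F : Type} [Field F] [Fintype F] (e : W ≃+ F)
    (hsl : ∀ a : A, ∃ (α : F) (σ : F ≃+* F), ∀ w : W, e (pk.ρ a w) = α * σ (e w)) :
    (∃ f : Q →* semiaffineGroup F, Function.Injective f) ∧
      ((∀ a : A, ∃ α : F, ∀ w : W, e (pk.ρ a w) = α * e w) →
        ∃ f : Q →* affineGroup F, Function.Injective f) := by
  classical
  -- transport of permutations along `e`
  let Φ : Equiv.Perm W ≃* Equiv.Perm F := Equiv.permCongrHom e.toEquiv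
  let g : Q →* Equiv.Perm F := Φ.toMonoidHom.comp pk.π
  have hg_inj : Function.Injective g := by
    intro q₁ q₂ h
    exact pk.π_inj (Φ.injective h)
  have hg_apply : ∀ (q : Q) (x : F), g q x = e (pk.π q (e.symm x)) := by
    intro q x
    rfl
  -- the multiplier is non-zero
  have hα : ∀ (a : A) (α : F) (σ : F → F), (∀ w : W, e (pk.ρ a w) = α * σ (e w)) → α ≠ 0 := by
    intro a α σ h hα0
    have h1 : e (pk.ρ a (e.symm 1)) = 0 := by rw [h, hα0, zero_mul]
    have h2 : pk.ρ a (e.symm 1) = 0 := by
      have := congrArg e.symm h1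
      simpa using this
    have h3 : e.symm 1 = 0 := by
      have : pk.ρ a (e.symm 1) = pk.ρ a 0 := by rw [h2, map_zero]
      exact (pk.ρ a).injective this
    have h4 : (1 : F) = 0 := by
      have := congrArg e h3
      simpa using this
    exact one_ne_zero h4
  constructor
  · have hmem : ∀ q : Q, g q ∈ semiaffineGroup F := by
      intro q
      obtain ⟨a, w, hq⟩ := pk.π_mem q
      obtain ⟨α, σ, hσ⟩ := hsl a
      have hα0 := hα a α σ hσ
      refine ⟨Units.mk0 α hα0, e w, σ, fun x => ?_⟩
      rw [hg_apply, hq, map_add, hσ, AddEquiv.apply_symm_apply, Units.val_mk0]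
    refine ⟨g.codRestrict (semiaffineGroup F) hmem, ?_⟩
    intro q₁ q₂ h
    apply hg_inj
    exact congrArg Subtype.val h
  · intro hlin
    have hmem : ∀ q : Q, g q ∈ affineGroup F := by
      intro q
      obtain ⟨a, w, hq⟩ := pk.π_mem q
      obtain ⟨α, hσ⟩ := hlin a
      have hα0 := hα a α id hσ
      refine ⟨Units.mk0 α hα0, e w, fun x => ?_⟩
      rw [hg_apply, hq, map_add, hσ, AddEquiv.apply_symm_apply, Units.val_mk0]
    refine ⟨g.codRestrict (affineGroup F) hmem, ?_⟩
    intro q₁ q₂ h
    apply hg_inj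
    exact congrArg Subtype.val h

end Cfsg.Agent.Lib.Helper33.Saf
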