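import Mathlib
import Cfsg.Prelude.Def_Transfer
import Cfsg.Prelude.Def_CaseTheorems
import Cfsg.Prelude.Def_Perm
import Cfsg.Agent.Lib.Helper2.SafDefs

/-!
# SAF-[ORD] (helper2's project SAF, S4025): `card_dvd_of_semilinear`

A finite group of semilinear maps `w ↦ α σ(w)` of a field `F` with `|F| = p ^ n`, `|Aut F| = n`, has order dividing
`n (p ^ n - 1)`; if its order is prime to `n` it consists of multiplications.
-/

set_option autoImplicit false
set_option linter.unusedSectionVars false

namespace Cfsg.Agent.Lib.Helper33.Saf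

open Cfsg Cfsg.Agent.Lib.Helper2.Saf

universe u

variable {p : ℕ} [Fact p.Prime] {W : Type u} [AddCommGroup W] [Module (ZMod p) W] [Finite W]

theorem card_dvd_of_semilinear (H : Subgroup (W ≃ₗ[ZMod p] W)) [Finite H]
    (n : ℕ) (hn : n ≠ 0) (hW : Nat.card W = p ^ n)
    {F : Type} [Field F] [Fintype F] (e : W ≃+ F) (haut : Nat.card (F ≃+* F) = n)
    (hsl : ∀ h ∈ H, ∃ (α : F) (σ : F ≃+* F), ∀ w : W, e (h w) = α * σ (e w)) :
    Nat.card H ∣ n * (p ^ n - 1) ∧
      ((Nat.card H).Coprime n → ∀ h ∈ H, ∃ α : F, ∀ w : W, e (h w) = α * e w) := by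
  classical
  have hsl' : ∀ h : H, ∃ (α : F) (σ : F ≃+* F), ∀ w : W,
      e ((h : W ≃ₗ[ZMod p] W) w) = α * σ (e w) := fun h => hsl h h.2
  choose α σ hασ using hsl'
  -- evaluation at `e.symm 1`
  have hα1 : ∀ h : H, e ((h : W ≃ₗ[ZMod p] W) (e.symm 1)) = α h := by
    intro h
    rw [hασ, AddEquiv.apply_symm_apply, map_one, mul_one]
  have hα0 : ∀ h : H, α h ≠ 0 := by
    intro h h0
    have h1 : e ((h : W ≃ₗ[ZMod p] W) (e.symm 1)) = 0 := by rw [hα1, h0]
    have h2 : (h : W ≃ₗ[ZMod p] W) (e.symm 1) = 0 := by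
      have := congrArg e.symm h1
      rwa [AddEquiv.symm_apply_apply, map_zero] at this
    have h3 : e.symm 1 = 0 := by
      have : (h : W ≃ₗ[ZMod p] W) (e.symm 1) = (h : W ≃ₗ[ZMod p] W) 0 := by rw [h2, map_zero]
      exact (h : W ≃ₗ[ZMod p] W).injective this
    have h4 : (1 : F) = 0 := by
      have := congrArg e h3
      rwa [AddEquiv.apply_symm_apply, map_zero] at this
    exact one_ne_zero h4
  -- uniqueness
  have huniq : ∀ (h : H) (a : F) (τ : F ≃+* F),
      (∀ w : W, e ((h : W ≃ₗ[ZMod p] W) w) = a * τ (e w)) → a = α h ∧ τ = σ h := by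
    intro h a τ hτ
    have ha : a = α h := by
      rw [← hα1 h, hτ, AddEquiv.apply_symm_apply, map_one, mul_one]
    refine ⟨ha, ?_⟩
    apply RingEquiv.ext
    intro x
    have h1 := hτ (e.symm x)
    rw [hασ, AddEquiv.apply_symm_apply, ha] at h1
    exact (mul_left_cancel₀ (hα0 h) h1).symm
  -- multiplicativity
  have hmul : ∀ h h' : H, α (h * h') = α h * σ h (α h') ∧ σ (h * h') = σ h * σ h' := by
    intro h h'
    have := huniq (h * h') (α h * σ h (α h')) (σ h * σ h') (by
      intro w
      have : ((h * h' : H) : W ≃ₗ[ZMod p] W) w = (h : W ≃ₗ[ZMod p] W) ((h' : W ≃ₗ[ZMod p] W) w) := rfl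
      rw [this, hασ, hασ, map_mul, RingAut.mul_apply, mul_assoc])
    exact ⟨this.1.symm, this.2.symm⟩
  have hone : α (1 : H) = 1 ∧ σ (1 : H) = 1 := by
    have := huniq 1 1 1 (by
      intro w
      have : ((1 : H) : W ≃ₗ[ZMod p] W) w = w := rfl
      rw [this, RingAut.one_apply, one_mul])
    exact ⟨this.1.symm, this.2.symm⟩
  let s : H →* (F ≃+* F) :=
    { toFun := σ
      map_one' := hone.2
      map_mul' := fun h h' => (hmul h h').2 }
  have hs : ∀ h : H, s h = σ h := fun _ => rfl
  -- the kernel embeds into `Fˣ`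
  have hker : ∀ h : s.ker, σ h.1 = 1 := fun h => h.2
  let t : s.ker →* Fˣ :=
    { toFun := fun h => Units.mk0 (α h.1) (hα0 _)
      map_one' := by
        apply Units.ext
        exact hone.1
      map_mul' := by
        intro h h'
        apply Units.ext
        have := (hmul h.1 h'.1).1
        rw [hker h, RingAut.one_apply] at this
        exact this }
  have ht_inj : Function.Injective t := by
    intro h h' hh
    have hα : α h.1 = α h'.1 := congrArg Units.val hh
    apply Subtype.ext
    apply Subtype.ext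
    apply LinearEquiv.ext
    intro w
    apply e.injective
    rw [hασ, hασ, hker h, hker h', hα]
  have hcardF : Nat.card F = p ^ n := by
    rw [← hW]
    exact Nat.card_congr e.toEquiv.symm
  have hkerdvd : Nat.card s.ker ∣ p ^ n - 1 := by
    have := Subgroup.card_dvd_of_injective t ht_inj
    rwa [Nat.card_units, hcardF] at this
  have hrangedvd : Nat.card s.range ∣ n := by
    have := Subgroup.card_subgroup_dvd_card s.range
    rwa [haut] at this
  have hcardH : Nat.card s.ker * Nat.card s.range = Nat.card H := by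
    rw [← Subgroup.index_ker]
    exact Subgroup.card_mul_index s.ker
  constructor
  · rw [← hcardH, mul_comm n]
    exact Nat.mul_dvd_mul hkerdvd hrangedvd
  · intro hcop h hh
    have h1 : Nat.card s.range ∣ Nat.card H := ⟨Nat.card s.ker, by rw [← hcardH, mul_comm]⟩
    have h2 : Nat.card s.range = 1 := Nat.eq_one_of_dvd_coprimes hcop h1 hrangedvd
    have h3 : s.range = ⊥ := Subgroup.card_eq_one.1 h2
    have h4 : σ ⟨h, hh⟩ = 1 := by
      have : s ⟨h, hh⟩ ∈ s.range := ⟨_, rfl⟩
      rw [h3, Subgroup.mem_bot] at this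
      exact this
    refine ⟨α ⟨h, hh⟩, fun w => ?_⟩
    have := hασ ⟨h, hh⟩ w
    rw [h4, RingAut.one_apply] at this
    exact this

end Cfsg.Agent.Lib.Helper33.Saf
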