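/-
Helper33, module ASCHSP-[TR-KIT] of helper23's project ASCHSP (S5662, symplectic Aschbacher theorem): transport
of the subgroups of `GL ι F` used in the geometric classes along a reindexing `e : ι ≃ κ`.
-/
import Mathlib
import Cfsg.Prelude.Def_GeometricClasses
import Cfsg.Agent.Lib.Helper99.AschDefs
import Cfsg.Agent.Lib.Helper23.AschSpDefs

set_option autoImplicit false
set_option linter.unusedSectionVars false
set_option linter.unusedVariables false

namespace Cfsg.Agent.Lib.Helper33.AschSpTrKit

open Cfsg Cfsg.Geo Cfsg.Agent.Lib.Helper99.Asch Cfsg.Agent.Lib.Helper23.AschSp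
open scoped MatrixGroups Matrix Kronecker

variable {F : Type*} [Field F]
variable {ι κ : Type} [Fintype ι] [DecidableEq ι] [Fintype κ] [DecidableEq κ] (e : ι ≃ κ)

theorem coe_glReindex' (g : GL ι F) :
    ((glReindex e g : GL κ F) : Matrix κ κ F) = Matrix.reindex e e (g : Matrix ι ι F) := rfl

theorem glReindex_symm_apply (g : GL κ F) : glReindex e (glReindex e.symm g) = g := by
  apply Units.ext
  rw [coe_glReindex', coe_glReindex']
  ext i j
  simp

theorem glReindex_apply_symm (g : GL ι F) : glReindex e.symm (glReindex e g) = g := by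
  apply Units.ext
  rw [coe_glReindex', coe_glReindex']
  ext i j
  simp

/-- the basic criterion: `S.map (glReindex e) = T` as soon as `glReindex e g ∈ T ↔ g ∈ S` -/
theorem map_eq_of_iff (S : Subgroup (GL ι F)) (T : Subgroup (GL κ F))
    (h : ∀ g : GL ι F, glReindex e g ∈ T ↔ g ∈ S) :
    S.map (glReindex e).toMonoidHom = T := by
  apply le_antisymm
  · rintro _ ⟨g, hg, rfl⟩
    exact (h g).mpr hg
  · intro g' hg'
    refine ⟨glReindex e.symm g', ?_, glReindex_symm_apply e g'⟩
    have h1 : glReindex e.symm g' ∈ S := by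
      rw [← h, glReindex_symm_apply]
      exact hg'
    exact h1

theorem mulVec_glReindex (g : GL ι F) (v : κ → F) :
    ((glReindex e g : GL κ F) : Matrix κ κ F) *ᵥ v = ((g : Matrix ι ι F) *ᵥ (v ∘ e)) ∘ e.symm := by
  rw [coe_glReindex']
  show ((g : Matrix ι ι F).submatrix e.symm e.symm) *ᵥ v = _
  rw [Matrix.submatrix_mulVec_equiv]
  rfl

theorem mulVec_glReindex_comp (g : GL ι F) (v : κ → F) :
    (((glReindex e g : GL κ F) : Matrix κ κ F) *ᵥ v) ∘ e = (g : Matrix ι ι F) *ᵥ (v ∘ e) := by
  rw [mulVec_glReindex]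
  funext i
  simp

theorem comp_symm_comp (u : ι → F) : (u ∘ e.symm) ∘ e = u := by
  funext i
  simp

end Cfsg.Agent.Lib.Helper33.AschSpTrKit

namespace Cfsg.Agent.Lib.Helper23.AschSp

open Cfsg Cfsg.Geo Cfsg.Agent.Lib.Helper99.Asch Cfsg.Agent.Lib.Helper33.AschSpTrKit
open scoped MatrixGroups Matrix Kronecker

variable {n m : ℕ} {F : Type*} [Field F] [Fintype F] {f : (Fin n → F) → (Fin n → F) → F}

section transport

variable {ι κ : Type} [Fintype ι] [DecidableEq ι] [Fintype κ] [DecidableEq κ] (e : ι ≃ κ)

theorem glReindex_mulVec (g : GL ι F) (v : κ → F) :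
    ((glReindex e g : GL κ F) : Matrix κ κ F) *ᵥ v = ((g : Matrix ι ι F) *ᵥ (v ∘ e)) ∘ e.symm :=
  mulVec_glReindex e g v

theorem map_isoGL (f : (ι → F) → (ι → F) → F) :
    (isoGL f).map (glReindex e).toMonoidHom = isoGL (formReindex e f) := by
  apply map_eq_of_iff
  intro g
  rw [mem_isoGL, mem_isoGL]
  constructor
  · intro h u v
    have := h (u ∘ e.symm) (v ∘ e.symm)
    unfold formReindex at this
    rw [mulVec_glReindex_comp, mulVec_glReindex_comp, comp_symm_comp, comp_symm_comp] at this
    exact this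
  · intro h u v
    unfold formReindex
    rw [mulVec_glReindex_comp, mulVec_glReindex_comp]
    exact h _ _

theorem map_similarityGroup (f : (ι → F) → (ι → F) → F) :
    (similarityGroup f).map (glReindex e).toMonoidHom = similarityGroup (formReindex e f) := by
  apply map_eq_of_iff
  intro g
  constructor
  · rintro ⟨c, h⟩
    refine ⟨c, fun u v => ?_⟩
    have := h (u ∘ e.symm) (v ∘ e.symm)
    unfold formReindex at this
    rw [mulVec_glReindex_comp, mulVec_glReindex_comp, comp_symm_comp, comp_symm_comp] at this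
    exact this
  · rintro ⟨c, h⟩
    refine ⟨c, fun u v => ?_⟩
    unfold formReindex
    rw [mulVec_glReindex_comp, mulVec_glReindex_comp]
    exact h _ _

theorem map_quadSimilarityGroup (Q : (ι → F) → F) :
    (quadSimilarityGroup Q).map (glReindex e).toMonoidHom =
      quadSimilarityGroup (fun v : κ → F => Q (v ∘ e)) := by
  apply map_eq_of_iff
  intro g
  constructor
  · rintro ⟨c, h⟩
    refine ⟨c, fun v => ?_⟩
    have := h (v ∘ e.symm)
    simp only at this
    rw [mulVec_glReindex_comp, comp_symm_comp] at this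
    exact this
  · rintro ⟨c, h⟩
    refine ⟨c, fun v => ?_⟩
    show Q ((((glReindex e g : GL κ F) : Matrix κ κ F) *ᵥ v) ∘ e) = (c : F) * Q (v ∘ e)
    rw [mulVec_glReindex_comp]
    exact h _

theorem map_scalars : (scalars ι F).map (glReindex e).toMonoidHom = scalars κ F := by
  apply map_eq_of_iff
  intro g
  rw [mem_scalars_iff, mem_scalars_iff]
  constructor
  · rintro ⟨c, hc⟩
    refine ⟨c, ?_⟩
    rw [coe_glReindex'] at hc
    ext i j
    have := congrFun (congrFun hc (e i)) (e j)
    simp only [Matrix.reindex_apply, Matrix.submatrix_apply, Equiv.symm_apply_apply,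
      Matrix.smul_apply, smul_eq_mul] at this
    rw [this, Matrix.smul_apply, smul_eq_mul, Matrix.one_apply, Matrix.one_apply]
    simp only [EmbeddingLike.apply_eq_iff_eq]
  · rintro ⟨c, hc⟩
    refine ⟨c, ?_⟩
    rw [coe_glReindex', hc]
    ext i j
    simp only [Matrix.reindex_apply, Matrix.submatrix_apply, Matrix.smul_apply, smul_eq_mul,
      Matrix.one_apply]
    simp only [EmbeddingLike.apply_eq_iff_eq]

theorem mem_map_funCongrLeft (W : Submodule F (ι → F)) (v : κ → F) :
    v ∈ W.map (LinearEquiv.funCongrLeft F F e.symm).toLinearMap ↔ v ∘ e ∈ W := by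
  constructor
  · rintro ⟨w, hw, rfl⟩
    have : ((LinearEquiv.funCongrLeft F F e.symm).toLinearMap w) ∘ e = w := by
      funext i
      simp [LinearEquiv.funCongrLeft]
    rw [this]
    exact hw
  · intro h
    refine ⟨v ∘ e, h, ?_⟩
    funext k
    simp [LinearEquiv.funCongrLeft]

theorem map_subspaceStabilizer (W : Submodule F (ι → F)) :
    (subspaceStabilizer W).map (glReindex e).toMonoidHom =
      subspaceStabilizer (W.map (LinearEquiv.funCongrLeft F F e.symm).toLinearMap) := by
  apply map_eq_of_iff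
  intro g
  constructor
  · intro h v
    have := h (v ∘ e.symm)
    show v ∈ (W : Set (ι → F)) ↔ (g : Matrix ι ι F) *ᵥ v ∈ (W : Set (ι → F))
    simp only [SetLike.mem_coe] at this ⊢
    rw [mem_map_funCongrLeft, mem_map_funCongrLeft] at this
    have h2 : ((glToMat κ F) (glReindex e g) *ᵥ (v ∘ e.symm)) ∘ e = (g : Matrix ι ι F) *ᵥ v := by
      show (((glReindex e g : GL κ F) : Matrix κ κ F) *ᵥ (v ∘ e.symm)) ∘ e = _
      rw [mulVec_glReindex_comp, comp_symm_comp]
    rw [h2, comp_symm_comp] at this
    exact this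
  · intro h v
    show v ∈ ((W.map (LinearEquiv.funCongrLeft F F e.symm).toLinearMap : Submodule F (κ → F)) :
      Set (κ → F)) ↔ ((glReindex e g : GL κ F) : Matrix κ κ F) *ᵥ v ∈
      ((W.map (LinearEquiv.funCongrLeft F F e.symm).toLinearMap : Submodule F (κ → F)) :
      Set (κ → F))
    simp only [SetLike.mem_coe]
    rw [mem_map_funCongrLeft, mem_map_funCongrLeft, mulVec_glReindex_comp]
    exact h (v ∘ e)


/-- `toLin'` of a reindexed matrix is conjugate to `toLin'` of the matrix -/
theorem map_map_toLin_glReindex (g : GL ι F) (W : Submodule F (ι → F)) :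
    (W.map (LinearEquiv.funCongrLeft F F e.symm).toLinearMap).map
        (Matrix.toLin' ((glReindex e g : GL κ F) : Matrix κ κ F)) =
      (W.map (Matrix.toLin' (g : Matrix ι ι F))).map
        (LinearEquiv.funCongrLeft F F e.symm).toLinearMap := by
  rw [← Submodule.map_comp, ← Submodule.map_comp]
  congr 1
  apply LinearMap.ext
  intro v
  simp only [LinearMap.comp_apply, LinearEquiv.coe_coe, Matrix.toLin'_apply]
  rw [mulVec_glReindex]
  have h1 : ((LinearEquiv.funCongrLeft F F e.symm : (ι → F) ≃ₗ[F] (κ → F)) v) ∘ e = v := by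
    funext i
    simp [LinearEquiv.funCongrLeft]
  rw [h1]
  funext k
  simp [LinearEquiv.funCongrLeft]

theorem map_decompositionStabilizer {t : ℕ} (D : Fin t → Submodule F (ι → F)) :
    (decompositionStabilizer D).map (glReindex e).toMonoidHom =
      decompositionStabilizer (fun i => (D i).map (LinearEquiv.funCongrLeft F F e.symm).toLinearMap) := by
  apply map_eq_of_iff
  intro g
  have hinj : Function.Injective (Submodule.map
      (LinearEquiv.funCongrLeft F F e.symm : (ι → F) ≃ₗ[F] (κ → F)).toLinearMap) :=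
    Submodule.map_injective_of_injective (LinearEquiv.injective _)
  constructor
  · rintro ⟨σ, hσ⟩
    refine ⟨σ, fun i => ?_⟩
    have := hσ i
    simp only at this
    rw [map_map_toLin_glReindex] at this
    exact hinj this
  · rintro ⟨σ, hσ⟩
    refine ⟨σ, fun i => ?_⟩
    show ((D i).map (LinearEquiv.funCongrLeft F F e.symm).toLinearMap).map
        (Matrix.toLin' ((glReindex e g : GL κ F) : Matrix κ κ F)) =
      (D (σ i)).map (LinearEquiv.funCongrLeft F F e.symm).toLinearMap
    rw [map_map_toLin_glReindex, hσ i]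

theorem map_subalgebraNormalizer (K : Subalgebra F (Matrix ι ι F)) :
    (subalgebraNormalizer K).map (glReindex e).toMonoidHom =
      subalgebraNormalizer (K.map (Matrix.reindexAlgEquiv F F e).toAlgHom) := by
  apply map_eq_of_iff
  intro g
  have hmem : ∀ k : Matrix ι ι F, Matrix.reindexAlgEquiv F F e k ∈
      K.map (Matrix.reindexAlgEquiv F F e).toAlgHom ↔ k ∈ K := by
    intro k
    constructor
    · rintro ⟨k₀, hk₀, hk⟩
      have : k₀ = k := (Matrix.reindexAlgEquiv F F e).injective hk
      rw [← this]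
      exact hk₀
    · intro hk
      exact ⟨k, hk, rfl⟩
  have hconj : ∀ k : Matrix ι ι F,
      ((glReindex e g : GL κ F) : Matrix κ κ F) * Matrix.reindexAlgEquiv F F e k *
        (((glReindex e g)⁻¹ : GL κ F) : Matrix κ κ F) =
      Matrix.reindexAlgEquiv F F e ((g : Matrix ι ι F) * k * ((g⁻¹ : GL ι F) : Matrix ι ι F)) := by
    intro k
    rw [← map_inv, map_mul, map_mul]
    rfl
  constructor
  · intro h k
    have := h (Matrix.reindexAlgEquiv F F e k)
    rw [hconj, hmem, hmem] at this
    exact this
  · intro h k'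
    obtain ⟨k, rfl⟩ := (Matrix.reindexAlgEquiv F F e).surjective k'
    rw [hconj, hmem, hmem]
    exact h k

theorem map_subgroupNormalizer (R : Subgroup (GL ι F)) :
    (subgroupNormalizer R).map (glReindex e).toMonoidHom =
      subgroupNormalizer (R.map (glReindex e).toMonoidHom) :=
  Subgroup.map_equiv_normalizer_eq R (glReindex e)

theorem matrixSet_map (R : Subgroup (GL ι F)) :
    matrixSet (R.map (glReindex e).toMonoidHom) = (Matrix.reindex e e) '' matrixSet R := by
  ext M
  constructor
  · rintro ⟨_, ⟨g, hg, rfl⟩, rfl⟩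
    exact ⟨(g : Matrix ι ι F), ⟨g, hg, rfl⟩, rfl⟩
  · rintro ⟨_, ⟨g, hg, rfl⟩, rfl⟩
    exact ⟨glReindex e g, ⟨g, hg, rfl⟩, rfl⟩


/-- transport of a conjugated subgroup -/
theorem map_conj_map (X : Subgroup (GL ι F)) (P : GL ι F) :
    (X.map (MulAut.conj P).toMonoidHom).map (glReindex e).toMonoidHom =
      (X.map (glReindex e).toMonoidHom).map (MulAut.conj (glReindex e P)).toMonoidHom := by
  rw [Subgroup.map_map, Subgroup.map_map]
  congr 1
  ext x : 1
  simp only [MonoidHom.comp_apply, MulEquiv.coe_toMonoidHom, MulAut.conj_apply, map_mul, map_inv]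

/-- the matrices with entries in a subfield are transported to the matrices with entries in the subfield -/
theorem map_range_map_subtype (F₀ : Subfield F) :
    ((Matrix.GeneralLinearGroup.map (F₀.subtype : F₀ →+* F)).range : Subgroup (GL ι F)).map
        (glReindex e).toMonoidHom =
      (Matrix.GeneralLinearGroup.map (F₀.subtype : F₀ →+* F)).range := by
  have key : ∀ {ι' κ' : Type} [Fintype ι'] [DecidableEq ι'] [Fintype κ'] [DecidableEq κ']
      (e' : ι' ≃ κ') (a : GL ι' F₀),
      glReindex e' (Matrix.GeneralLinearGroup.map (F₀.subtype : F₀ →+* F) a) =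
        Matrix.GeneralLinearGroup.map (F₀.subtype : F₀ →+* F) (glReindex e' a) := by
    intro ι' κ' _ _ _ _ e' a
    apply Units.ext
    ext i j
    rfl
  apply le_antisymm
  · rintro _ ⟨_, ⟨a, rfl⟩, rfl⟩
    exact ⟨glReindex e a, (key e a).symm⟩
  · rintro _ ⟨a', rfl⟩
    refine ⟨Matrix.GeneralLinearGroup.map (F₀.subtype : F₀ →+* F) (glReindex e.symm a'), ⟨_, rfl⟩, ?_⟩
    show glReindex e (Matrix.GeneralLinearGroup.map (F₀.subtype : F₀ →+* F) (glReindex e.symm a')) = _
    rw [key e, glReindex_symm_apply]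

theorem map_subfieldSubgroup (F₀ : Subfield F) (P : GL ι F) :
    (subfieldSubgroup F₀ P).map (glReindex e).toMonoidHom = subfieldSubgroup F₀ (glReindex e P) := by
  unfold subfieldSubgroup
  rw [map_conj_map, Subgroup.map_sup, map_scalars, map_range_map_subtype]

theorem glReindex_comp_glReindex {μ' : Type} [Fintype μ'] [DecidableEq μ'] (e₁ : μ' ≃ ι) :
    (glReindex e).toMonoidHom.comp (glReindex e₁ : GL μ' F ≃* GL ι F).toMonoidHom =
      (glReindex (e₁.trans e) : GL μ' F ≃* GL κ F).toMonoidHom := by
  ext g : 1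
  apply Units.ext
  ext i j
  rfl

theorem map_tensorProductSubgroup (n₁ n₂ : ℕ) (idx : ι ≃ Fin n₁ × Fin n₂) (P : GL ι F) :
    (tensorProductSubgroup n₁ n₂ idx P).map (glReindex e).toMonoidHom =
      tensorProductSubgroup n₁ n₂ (e.symm.trans idx) (glReindex e P) := by
  unfold tensorProductSubgroup
  rw [map_conj_map]
  congr 1
  rw [Subgroup.map_map, glReindex_comp_glReindex]
  rfl

theorem map_tensorWreathSubgroup (k t : ℕ) (idx : ι ≃ (Fin t → Fin k)) (P : GL ι F) :
    (tensorWreathSubgroup k t idx P).map (glReindex e).toMonoidHom =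
      tensorWreathSubgroup k t (e.symm.trans idx) (glReindex e P) := by
  unfold tensorWreathSubgroup
  rw [map_conj_map]
  congr 1
  rw [Subgroup.map_map, glReindex_comp_glReindex]
  rfl

/-- one direction of the transport of absolute irreducibility -/
theorem actsAbsolutelyIrreducibly_reindex_of {ι' κ' : Type} [Fintype ι'] [DecidableEq ι'] [Fintype κ']
    [DecidableEq κ'] (e' : ι' ≃ κ') (S : Set (Matrix ι' ι' F)) (h : ActsAbsolutelyIrreducibly S) :
    ActsAbsolutelyIrreducibly ((Matrix.reindex e' e') '' S) := by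
  obtain ⟨hirr, hcomm⟩ := h
  set L : (ι' → F) ≃ₗ[F] (κ' → F) := LinearEquiv.funCongrLeft F F e'.symm with hL
  have hLs : ∀ (s : Matrix ι' ι' F) (w : ι' → F), L (s *ᵥ w) = (Matrix.reindex e' e' s) *ᵥ (L w) := by
    intro s w
    show _ = (s.submatrix e'.symm e'.symm) *ᵥ (L w)
    rw [Matrix.submatrix_mulVec_equiv]
    funext k
    have h1 : (L w) ∘ (e'.symm.symm) = w := by
      funext i
      simp [hL, LinearEquiv.funCongrLeft]
    rw [h1]
    simp [hL, LinearEquiv.funCongrLeft]
  constructor
  · intro W' hW'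
    have hW : ∀ s ∈ S, (W'.comap L.toLinearMap).map (Matrix.toLin' s) ≤ W'.comap L.toLinearMap := by
      intro s hs
      rintro _ ⟨w, hw, rfl⟩
      have hw : L w ∈ W' := hw
      rw [Submodule.mem_comap, Matrix.toLin'_apply]
      show L (s *ᵥ w) ∈ W'
      rw [hLs]
      apply hW' (Matrix.reindex e' e' s) ⟨s, hs, rfl⟩
      exact ⟨L w, hw, by rw [Matrix.toLin'_apply]⟩
    have hmc : (W'.comap L.toLinearMap).map L.toLinearMap = W' :=
      Submodule.map_comap_eq_of_surjective L.surjective W'
    rcases hirr _ hW with h0 | h1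
    · left
      rw [← hmc, h0, Submodule.map_bot]
    · right
      rw [← hmc, h1, Submodule.map_top, LinearMap.range_eq_top]
      exact L.surjective
  · intro M' hM'
    obtain ⟨M, rfl⟩ := (Matrix.reindexAlgEquiv F F e').surjective M'
    have hM : ∀ s ∈ S, M * s = s * M := by
      intro s hs
      have := hM' (Matrix.reindex e' e' s) ⟨s, hs, rfl⟩
      have h2 : Matrix.reindexAlgEquiv F F e' (M * s) = Matrix.reindexAlgEquiv F F e' (s * M) := by
        rw [map_mul, map_mul]
        exact this
      exact (Matrix.reindexAlgEquiv F F e').injective h2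
    obtain ⟨c, rfl⟩ := hcomm M hM
    exact ⟨c, by rw [map_smul, map_one]⟩

theorem actsAbsolutelyIrreducibly_reindex (S : Set (Matrix ι ι F)) :
    ActsAbsolutelyIrreducibly ((Matrix.reindex e e) '' S) ↔ ActsAbsolutelyIrreducibly S := by
  constructor
  · intro h
    have h1 := actsAbsolutelyIrreducibly_reindex_of e.symm _ h
    have h2 : (Matrix.reindex e.symm e.symm) '' ((Matrix.reindex e e) '' S) = S := by
      rw [Set.image_image]
      have : ∀ x : Matrix ι ι F, Matrix.reindex e.symm e.symm (Matrix.reindex e e x) = x := by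
        intro x
        ext i j
        simp
      simp only [this, Set.image_id']
    rw [h2] at h1
    exact h1
  · exact actsAbsolutelyIrreducibly_reindex_of e S

end transport

end Cfsg.Agent.Lib.Helper23.AschSp
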