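/-
Helper33, modules ASCHSP-[C3A] and ASCHSP-[C3B] of helper23's project ASCHSP (S5662): a normalised field
subalgebra which is self-adjoint (resp. adjoint-closed, quadratic, not self-adjoint, `|F|` odd) puts `H` in class 3.
`_of` forms: the statements `adj_spec` / `adj_unique` of ASCHSP-[ADJ] are hypotheses.
-/
import Mathlib
import Cfsg.Prelude.Def_GeometricClasses
import Cfsg.Agent.Lib.Helper99.AschDefs
import Cfsg.Agent.Lib.Helper23.AschSpDefs

set_option autoImplicit false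
set_option linter.unusedSectionVars false
set_option linter.unusedVariables false

namespace Cfsg.Agent.Lib.Helper33.AschSpC3AB

open Cfsg Cfsg.Geo Cfsg.Agent.Lib.Helper99.Asch Cfsg.Agent.Lib.Helper23.AschSp
open scoped MatrixGroups Matrix Kronecker

variable {n m : ℕ} {F : Type*} [Field F] [Fintype F] {f : (Fin n → F) → (Fin n → F) → F}

/-- a subgroup normalising a subalgebra elementwise lies in its normaliser -/
theorem le_subalgebraNormalizer (H : Subgroup (GL (Fin n) F))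
    (K' : Subalgebra F (Matrix (Fin n) (Fin n) F))
    (hnorm : ∀ h ∈ H, ∀ k ∈ K',
      (h : Matrix (Fin n) (Fin n) F) * k * ((h⁻¹ : GL (Fin n) F) : Matrix (Fin n) (Fin n) F) ∈ K') :
    H ≤ subalgebraNormalizer K' := by
  intro h hh k
  constructor
  · intro hk
    exact hnorm h hh k hk
  · intro hk
    have h1 := hnorm h⁻¹ (H.inv_mem hh) _ hk
    rw [inv_inv] at h1
    have h2 : ((h⁻¹ : GL (Fin n) F) : Matrix (Fin n) (Fin n) F) *
        ((h : Matrix (Fin n) (Fin n) F) * k * ((h⁻¹ : GL (Fin n) F) : Matrix (Fin n) (Fin n) F)) *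
        (h : Matrix (Fin n) (Fin n) F) = k := by
      have e1 : ((h⁻¹ : GL (Fin n) F) : Matrix (Fin n) (Fin n) F) * (h : Matrix (Fin n) (Fin n) F) = 1 := by
        rw [← Units.val_mul, inv_mul_cancel, Units.val_one]
      calc ((h⁻¹ : GL (Fin n) F) : Matrix (Fin n) (Fin n) F) *
          ((h : Matrix (Fin n) (Fin n) F) * k * ((h⁻¹ : GL (Fin n) F) : Matrix (Fin n) (Fin n) F)) *
          (h : Matrix (Fin n) (Fin n) F)
          = (((h⁻¹ : GL (Fin n) F) : Matrix (Fin n) (Fin n) F) * (h : Matrix (Fin n) (Fin n) F)) * k *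
            (((h⁻¹ : GL (Fin n) F) : Matrix (Fin n) (Fin n) F) * (h : Matrix (Fin n) (Fin n) F)) := by
            simp only [mul_assoc]
        _ = k := by rw [e1, one_mul, mul_one]
    rw [h2] at h1
    exact h1

/-- ASCHSP-[C3A], with `adj_spec` as a hypothesis -/
theorem sgeo_of_selfAdjoint_field_of
    (hspec : ∀ (k : Matrix (Fin n) (Fin n) F) (u v : Fin n → F),
      f (k *ᵥ u) v = f u (adjMat f k *ᵥ v))
    (H : Subgroup (GL (Fin n) F)) (hH : H ≤ isoGL f)
    (r : ℕ) (hr : r.Prime) (K' : Subalgebra F (Matrix (Fin n) (Fin n) F)) (hK' : IsFieldSubalgebra r K')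
    (hnorm : ∀ h ∈ H, ∀ k ∈ K',
      (h : Matrix (Fin n) (Fin n) F) * k * ((h⁻¹ : GL (Fin n) F) : Matrix (Fin n) (Fin n) F) ∈ K')
    (hself : ∀ k ∈ K', adjMat f k = k) (halt : ∀ k ∈ K', ∀ v, f (k *ᵥ v) v = 0) : SGeo m f H := by
  refine SGeo.of_c3s (M := subalgebraNormalizer K' ⊓ isoGL f)
    ⟨r, K', hr, hK', ?_, halt, rfl⟩ (le_inf (le_subalgebraNormalizer H K' hnorm) hH)
  intro k hk u v
  rw [hspec k u v, hself k hk]

/-- ASCHSP-[C3B], with `adj_spec` and `adj_unique` as hypotheses -/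
theorem sgeo_of_adjointClosed_quadratic_odd_of
    (hspec : ∀ (k : Matrix (Fin n) (Fin n) F) (u v : Fin n → F),
      f (k *ᵥ u) v = f u (adjMat f k *ᵥ v))
    (huniq : ∀ k k' : Matrix (Fin n) (Fin n) F,
      (∀ u v, f (k *ᵥ u) v = f u (k' *ᵥ v)) → k' = adjMat f k)
    (hodd : Odd (Fintype.card F))
    (H : Subgroup (GL (Fin n) F)) (hH : H ≤ isoGL f)
    (K' : Subalgebra F (Matrix (Fin n) (Fin n) F)) (hK' : IsFieldSubalgebra 2 K')
    (hnorm : ∀ h ∈ H, ∀ k ∈ K',
      (h : Matrix (Fin n) (Fin n) F) * k * ((h⁻¹ : GL (Fin n) F) : Matrix (Fin n) (Fin n) F) ∈ K')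
    (hadj : ∀ k ∈ K', adjMat f k ∈ K') (hns : ∃ k ∈ K', adjMat f k ≠ k) : SGeo m f H := by
  refine SGeo.of_c3u (M := subalgebraNormalizer K' ⊓ isoGL f)
    ⟨K', hodd, hK', ?_, ?_, rfl⟩ (le_inf (le_subalgebraNormalizer H K' hnorm) hH)
  · intro k hk
    exact ⟨adjMat f k, hadj k hk, fun u v => hspec k u v⟩
  · intro hsa
    obtain ⟨k, hk, hne⟩ := hns
    exact hne (huniq k k (hsa k hk)).symm

end Cfsg.Agent.Lib.Helper33.AschSpC3AB
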