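/-
Helper33, modules ASCHSP-[C3A] and ASCHSP-[C3B] of helper23's project ASCHSP (S5662), EXACT sheet statements.
-/
import Mathlib
import Cfsg.Agent.Lib.Helper33.AschSpC3AB
import Cfsg.Agent.Lib.Helper69.AschSpAdj

set_option autoImplicit false

namespace Cfsg.Agent.Lib.Helper23.AschSp

open Cfsg Cfsg.Geo Cfsg.Agent.Lib.Helper99.Asch
open scoped MatrixGroups Matrix Kronecker

variable {n m : ℕ} {F : Type*} [Field F] [Fintype F] {f : (Fin n → F) → (Fin n → F) → F}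

/-- ASCHSP-[C3A] -/
theorem sgeo_of_selfAdjoint_field (hf : IsSymplecticForm f) (H : Subgroup (GL (Fin n) F)) (hH : H ≤ isoGL f)
    (r : ℕ) (hr : r.Prime) (K' : Subalgebra F (Matrix (Fin n) (Fin n) F)) (hK' : IsFieldSubalgebra r K')
    (hnorm : ∀ h ∈ H, ∀ k ∈ K',
      (h : Matrix (Fin n) (Fin n) F) * k * ((h⁻¹ : GL (Fin n) F) : Matrix (Fin n) (Fin n) F) ∈ K')
    (hself : ∀ k ∈ K', adjMat f k = k) (halt : ∀ k ∈ K', ∀ v, f (k *ᵥ v) v = 0) : SGeo m f H :=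
  Cfsg.Agent.Lib.Helper33.AschSpC3AB.sgeo_of_selfAdjoint_field_of (adj_spec hf) H hH r hr K' hK' hnorm
    hself halt

/-- ASCHSP-[C3B] -/
theorem sgeo_of_adjointClosed_quadratic_odd (hf : IsSymplecticForm f) (hodd : Odd (Fintype.card F))
    (H : Subgroup (GL (Fin n) F)) (hH : H ≤ isoGL f)
    (K' : Subalgebra F (Matrix (Fin n) (Fin n) F)) (hK' : IsFieldSubalgebra 2 K')
    (hnorm : ∀ h ∈ H, ∀ k ∈ K',
      (h : Matrix (Fin n) (Fin n) F) * k * ((h⁻¹ : GL (Fin n) F) : Matrix (Fin n) (Fin n) F) ∈ K')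
    (hadj : ∀ k ∈ K', adjMat f k ∈ K') (hns : ∃ k ∈ K', adjMat f k ≠ k) : SGeo m f H :=
  Cfsg.Agent.Lib.Helper33.AschSpC3AB.sgeo_of_adjointClosed_quadratic_odd_of (adj_spec hf) (adj_unique hf)
    hodd H hH K' hK' hnorm hadj hns

end Cfsg.Agent.Lib.Helper23.AschSp
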