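/-
Helper33, module ASCHSP-[STD] of helper23's project ASCHSP (S5662, symplectic Aschbacher theorem): the standard
symplectic form is a symplectic form, and symplectic forms transport along reindexing.
-/
import Mathlib
import Cfsg.Prelude.Def_GeometricClasses
import Cfsg.Agent.Lib.Helper99.AschDefs
import Cfsg.Agent.Lib.Helper23.AschSpDefs
import Cfsg.Agent.Lib.Helper5.Symplectic

set_option autoImplicit false
set_option linter.unusedSectionVars false
set_option linter.unusedVariables false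

namespace Cfsg.Agent.Lib.Helper23.AschSp

open Cfsg Cfsg.Geo Cfsg.Agent.Lib.Helper99.Asch
open scoped MatrixGroups Matrix Kronecker

variable {n m : ℕ} {F : Type*} [Field F] [Fintype F] {f : (Fin n → F) → (Fin n → F) → F}

/-- ASCHSP-[STD] : the standard symplectic form is a non-degenerate symplectic form -/
theorem isSymplecticForm_sympForm (m : ℕ) : IsSymplecticForm (sympForm m F) := by
  have hdef : ∀ u v : Fin m ⊕ Fin m → F, sympForm m F u v =
      Cfsg.Agent.Lib.Helper5.sympForm (Fin m) F u v := fun u v => rfl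
  have hskew : ∀ v w : Fin m ⊕ Fin m → F, sympForm m F v w = - sympForm m F w v := by
    intro v w
    rw [hdef, hdef, Cfsg.Agent.Lib.Helper5.sympForm_swap w v]
  refine ⟨⟨?_, ?_, ?_, ?_⟩, hskew, ?_, ?_⟩
  · intro x y v
    rw [hdef, hdef, hdef, Cfsg.Agent.Lib.Helper5.sympForm_add_left]
  · intro c x v
    rw [hdef, hdef, Cfsg.Agent.Lib.Helper5.sympForm_smul_left]
  · intro v x y
    rw [hdef, hdef, hdef, Cfsg.Agent.Lib.Helper5.sympForm_add_right]
  · intro c v x
    rw [hdef, hdef, Cfsg.Agent.Lib.Helper5.sympForm_smul_right]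
  · intro v
    rw [hdef, Cfsg.Agent.Lib.Helper5.sympForm_self]
  · intro v hv
    have hJv : Matrix.J (Fin m) F *ᵥ v ≠ 0 := by
      intro h0
      apply hv
      have h1 : (Matrix.J (Fin m) F * Matrix.J (Fin m) F) *ᵥ v = 0 := by
        rw [← Matrix.mulVec_mulVec, h0, Matrix.mulVec_zero]
      rw [Matrix.J_squared, Matrix.neg_mulVec, Matrix.one_mulVec, neg_eq_zero] at h1
      exact h1
    obtain ⟨i, hi⟩ : ∃ i, (Matrix.J (Fin m) F *ᵥ v) i ≠ 0 := by
      by_contra hcon
      push Not at hcon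
      exact hJv (funext hcon)
    have hx : sympForm m F (Pi.single i 1) v ≠ 0 := by
      show (Pi.single i (1 : F)) ⬝ᵥ (Matrix.J (Fin m) F *ᵥ v) ≠ 0
      rw [single_dotProduct, one_mul]
      exact hi
    refine ⟨⟨Pi.single i 1, hx⟩, ⟨Pi.single i 1, ?_⟩⟩
    rw [hskew]
    exact neg_ne_zero.mpr hx

/-- ASCHSP-[STD] : symplectic forms transport along a reindexing -/
theorem isSymplecticForm_formReindex {ι κ : Type} [Fintype ι] [DecidableEq ι] [Fintype κ]
    [DecidableEq κ] (e : ι ≃ κ)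
    (f : (ι → F) → (ι → F) → F) (hf : IsSymplecticForm f) : IsSymplecticForm (formReindex e f) := by
  obtain ⟨⟨h1, h2, h3, h4⟩, hskew, halt, hnd⟩ := hf
  refine ⟨⟨?_, ?_, ?_, ?_⟩, ?_, ?_, ?_⟩
  · intro x y v
    exact h1 (x ∘ e) (y ∘ e) (v ∘ e)
  · intro c x v
    exact h2 c (x ∘ e) (v ∘ e)
  · intro v x y
    exact h3 (v ∘ e) (x ∘ e) (y ∘ e)
  · intro c v x
    exact h4 c (v ∘ e) (x ∘ e)
  · intro v w
    exact hskew (v ∘ e) (w ∘ e)
  · intro v
    exact halt (v ∘ e)
  · intro v hv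
    have hve : v ∘ e ≠ 0 := by
      intro h0
      apply hv
      funext k
      have := congrFun h0 (e.symm k)
      simpa using this
    obtain ⟨⟨x, hx⟩, ⟨y, hy⟩⟩ := hnd (v ∘ e) hve
    have hxe : (x ∘ e.symm) ∘ e = x := by
      funext i
      simp
    have hye : (y ∘ e.symm) ∘ e = y := by
      funext i
      simp
    refine ⟨⟨x ∘ e.symm, ?_⟩, ⟨y ∘ e.symm, ?_⟩⟩
    · show f ((x ∘ e.symm) ∘ e) (v ∘ e) ≠ 0
      rw [hxe]
      exact hx
    · show f (v ∘ e) ((y ∘ e.symm) ∘ e) ≠ 0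
      rw [hye]
      exact hy

end Cfsg.Agent.Lib.Helper23.AschSp
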