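/-
helper33: S2202 module [A3] (helper32's sheet #4377): cyclic / normal Sylow 2-subgroups pull back
from the quotient by a normal subgroup of odd order.
-/
import Mathlib
import Cfsg.Agent.Lib.Helper32.AbCentDefs

set_option autoImplicit false
set_option linter.unusedSectionVars false

namespace Cfsg.Agent.Lib.Helper33.AbCent

open Cfsg Cfsg.Agent.Lib.Helper32.AbCent

variable {G : Type*} [Group G] [Finite G] {H M : Subgroup G}

/-- A Sylow 2-subgroup meets a subgroup of odd order trivially. -/
theorem sylow_inf_odd_eq_bot (K : Subgroup G) (hK : Odd (Nat.card K)) (P : Sylow 2 G) :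
    (P : Subgroup G) ⊓ K = ⊥ := by
  rw [← disjoint_iff]
  apply Subgroup.disjoint_of_coprime_natCard
  obtain ⟨n, hn⟩ := IsPGroup.iff_card.mp P.2
  rw [hn]
  exact Nat.Coprime.pow_left n (Nat.coprime_two_left.mpr hK)

/-- [A3] -/
theorem sylow_transfer_quotient (K : Subgroup G) [K.Normal] (hK : Odd (Nat.card K)) :
    ((∀ P : Sylow 2 (G ⧸ K), IsCyclic ↥P) → ∀ P : Sylow 2 G, IsCyclic ↥P) ∧
    ((∀ P : Sylow 2 (G ⧸ K), (P : Subgroup (G ⧸ K)).Normal) →
      (∀ T : Sylow 2 G, K ≤ Subgroup.centralizer ((T : Subgroup G) : Set G)) → ∀ P : Sylow 2 G, (P : Subgroup G).Normal) := by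
  have hsurj : Function.Surjective (QuotientGroup.mk' K) := QuotientGroup.mk'_surjective K
  refine ⟨?_, ?_⟩
  · intro hcyc P
    let Q : Sylow 2 (G ⧸ K) := P.mapSurjective hsurj
    have hQ : (Q : Subgroup (G ⧸ K)) = (P : Subgroup G).map (QuotientGroup.mk' K) :=
      Sylow.coe_mapSurjective hsurj P
    have := hcyc Q
    let f : (P : Subgroup G) →* (Q : Subgroup (G ⧸ K)) :=
      { toFun := fun x => ⟨QuotientGroup.mk' K x.1, by
          rw [hQ]; exact ⟨x.1, x.2, rfl⟩⟩
        map_one' := by apply Subtype.ext; simp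
        map_mul' := by intro x y; apply Subtype.ext; simp }
    have hf : Function.Injective f := by
      rw [injective_iff_map_eq_one]
      intro x hx
      have hx' : QuotientGroup.mk' K x.1 = 1 := congrArg Subtype.val hx
      have hxK : x.1 ∈ K := by
        rwa [QuotientGroup.mk'_apply, QuotientGroup.eq_one_iff] at hx'
      have : x.1 ∈ (P : Subgroup G) ⊓ K := ⟨x.2, hxK⟩
      rw [sylow_inf_odd_eq_bot K hK P, Subgroup.mem_bot] at this
      exact Subtype.ext this
    exact isCyclic_of_injective f hf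
  · intro hnorm hcent P
    let Q : Sylow 2 (G ⧸ K) := P.mapSurjective hsurj
    have hQ : (Q : Subgroup (G ⧸ K)) = (P : Subgroup G).map (QuotientGroup.mk' K) :=
      Sylow.coe_mapSurjective hsurj P
    have hQn : (Q : Subgroup (G ⧸ K)).Normal := hnorm Q
    let N : Subgroup G := (Q : Subgroup (G ⧸ K)).comap (QuotientGroup.mk' K)
    have hNn : N.Normal := hQn.comap _
    have hN : N = (P : Subgroup G) ⊔ K := by
      show (Q : Subgroup (G ⧸ K)).comap (QuotientGroup.mk' K) = _
      rw [hQ, Subgroup.comap_map_eq, QuotientGroup.ker_mk']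
    have hPN : (P : Subgroup G) ≤ N := by rw [hN]; exact le_sup_left
    have hfr : Subgroup.normalizer ((P : Subgroup G) : Set G) ⊔ N = ⊤ :=
      Sylow.normalizer_sup_eq_top' P hPN
    have hNle : N ≤ Subgroup.normalizer ((P : Subgroup G) : Set G) := by
      rw [hN]
      exact sup_le Subgroup.le_normalizer
        ((hcent P).trans (Subgroup.centralizer_le_normalizer _))
    rw [sup_of_le_left hNle] at hfr
    exact Subgroup.normalizer_eq_top_iff.mp hfr

end Cfsg.Agent.Lib.Helper33.AbCent
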