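/-
helper33: S2202 modules [II-2] and [II-3] (helper32's sheet #4377): involutions of `SL(2, F)`
in characteristic 2 are conjugate, and `SL(2, F)`, `|F| > 2`, is not the product of a subgroup of
odd order and the centralizer of an involution.
-/
import Mathlib
import Cfsg.Agent.Lib.Helper53.SL2Unipotent

set_option autoImplicit false
set_option linter.unusedSectionVars false

namespace Cfsg.Agent.Lib.Helper33.AbCent

open Cfsg Matrix Cfsg.Agent.Lib.Helper53
open scoped MatrixGroups

section General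

variable {F : Type*} [Field F]

/-- The diagonal matrix `diag(a, a⁻¹)`. -/
def dg (a : F) (ha : a ≠ 0) : SL(2, F) :=
  ⟨!![a, 0; 0, a⁻¹], by simp [Matrix.det_fin_two, ha]⟩

theorem dg_val (a : F) (ha : a ≠ 0) : (dg a ha).1 = !![a, 0; 0, a⁻¹] := rfl

theorem dg_conj_unitri (a : F) (ha : a ≠ 0) (c : F) :
    dg a ha * unitri c * (dg a ha)⁻¹ = unitri (a ^ 2 * c) := by
  rw [mul_inv_eq_iff_eq_mul]
  have := mul_unitri_of_lower_zero (dg a ha) (by simp [dg_val]) c
  simpa [dg_val] using this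

end General

section CharTwo

variable {F : Type*} [Field F] [Fintype F] [CharP F 2]

theorem exists_sq_eq (x : F) : ∃ a : F, a ^ 2 = x := by
  obtain ⟨a, ha⟩ := (bijective_frobenius F 2).surjective x
  exact ⟨a, by simpa [frobenius_def] using ha⟩

theorem sq_of_orderOf_two {g : SL(2, F)} (hg : orderOf g = 2) : g ^ (2 ^ 1) = 1 ∧ g ≠ 1 := by
  refine ⟨?_, ?_⟩
  · rw [pow_one]
    have := pow_orderOf_eq_one g
    rwa [hg] at this
  · rintro rfl
    rw [orderOf_one] at hg
    omega

/-- [II-2] -/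
theorem sl2_involutions_conj {F : Type*} [Field F] [Fintype F] [CharP F 2]
    (s t : SL(2, F)) (hs : orderOf s = 2) (ht : orderOf t = 2) : ∃ g : SL(2, F), g * s * g⁻¹ = t := by
  obtain ⟨hs2, hs1⟩ := sq_of_orderOf_two hs
  obtain ⟨ht2, ht1⟩ := sq_of_orderOf_two ht
  obtain ⟨P, c, hc, hP⟩ := exists_conj_eq_unitri 2 s 1 hs2 hs1
  obtain ⟨Q, c', hc', hQ⟩ := exists_conj_eq_unitri 2 t 1 ht2 ht1
  obtain ⟨a, ha⟩ := exists_sq_eq (c' / c)
  have ha0 : a ≠ 0 := by
    rintro rfl
    have : c' / c ≠ 0 := div_ne_zero hc' hc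
    apply this
    rw [← ha]
    simp
  refine ⟨Q⁻¹ * dg a ha0 * P, ?_⟩
  have h1 : dg a ha0 * unitri c * (dg a ha0)⁻¹ = unitri c' := by
    rw [dg_conj_unitri, ha]
    congr 1
    field_simp
  have ht' : t = Q⁻¹ * unitri c' * Q := by
    rw [← hQ]; group
  rw [ht', ← h1, ← hP]
  group

/-- In characteristic 2 the centralizer of a nontrivial upper unitriangular element consists of
upper unitriangular elements. -/
theorem eq_unitri_of_commute {c : F} (hc : c ≠ 0) (g : SL(2, F))
    (h : g * unitri c = unitri c * g) : g = unitri (g.1 0 1) := by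
  obtain ⟨h10, h00⟩ := commute_unitri hc g h
  have h2 : (2 : F) = 0 := CharTwo.two_eq_zero
  have hdet := sl2_det g
  have hsq : (g.1 0 0 - 1) ^ 2 = 0 := by
    rw [h10, mul_zero, sub_zero, ← h00] at hdet
    linear_combination hdet + (1 - g.1 0 0) * h2
  have h1 : g.1 0 0 = 1 := sub_eq_zero.mp (pow_eq_zero_iff two_ne_zero |>.mp hsq)
  apply sl2_ext
  · rw [h1]; simp [unitri_val]
  · simp [unitri_val]
  · rw [h10]; simp [unitri_val]
  · rw [← h00, h1]; simp [unitri_val]

theorem eq_one_of_sq_of_odd {G : Type*} [Group G] (X : Subgroup G) (hX : Odd (Nat.card X))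
    {g : G} (hg : g ∈ X) (h2 : g * g = 1) : g = 1 := by
  have h1 : orderOf (⟨g, hg⟩ : X) ∣ Nat.card X := orderOf_dvd_natCard _
  have h3 : orderOf (⟨g, hg⟩ : X) ∣ 2 := by
    apply orderOf_dvd_of_pow_eq_one
    apply Subtype.ext
    simp [pow_two, h2]
  have h4 : orderOf (⟨g, hg⟩ : X) = 1 := by
    have hc : Nat.Coprime (Nat.card X) 2 := Nat.Coprime.symm (Nat.coprime_two_left.mpr hX)
    exact Nat.eq_one_of_dvd_coprimes hc h1 h3
  have := orderOf_eq_one_iff.mp h4
  exact congrArg Subtype.val this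

/-- The key step of [II-3]. -/
theorem key_step {c₀ : F} (hc₀ : c₀ ≠ 0) (X : Subgroup SL(2, F)) (hX : Odd (Nat.card X))
    (hfac : ∀ g : SL(2, F), ∃ x ∈ X, ∃ c : SL(2, F), c * unitri c₀ = unitri c₀ * c ∧ g = x * c)
    (x : SL(2, F)) (hx : x ∈ X) (hx10 : x.1 1 0 = 0) (hlam : x.1 0 0 ^ 2 ≠ 1)
    (w : SL(2, F)) (hw2 : w * w = 1) (hw1 : w ≠ 1) (hwx : x * w * x = w) : False := by
  obtain ⟨x'', hx'', c, hc, hwc⟩ := hfac w⁻¹
  have hcu := eq_unitri_of_commute hc₀ c hc
  set f : F := c.1 0 1 with hf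
  -- w = unitri (-f) * x''⁻¹
  have hw : w = unitri (-f) * x''⁻¹ := by
    have : w = (x'' * c)⁻¹ := by rw [← hwc, inv_inv]
    rw [this, _root_.mul_inv_rev, hcu, unitri_inv]
  -- w⁻¹ x w = x⁻¹
  have hinv : w⁻¹ * x * w = x⁻¹ := by
    apply eq_inv_of_mul_eq_one_left
    rw [mul_assoc, mul_assoc, ← mul_assoc x w x, hwx, inv_mul_cancel]
  -- (unitri f) * x * unitri (-f) ∈ X
  have h1 : unitri f * x * unitri (-f) ∈ X := by
    have : unitri f * x * unitri (-f) = x''⁻¹ * x⁻¹ * x'' := by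
      rw [← hinv, hw, _root_.mul_inv_rev, unitri_inv, inv_inv, neg_neg]
      group
    rw [this]
    exact X.mul_mem (X.mul_mem (X.inv_mem hx'') (X.inv_mem hx)) hx''
  -- hence a unitriangular element of X
  have h2 : unitri f * x * unitri (-f) * x⁻¹ ∈ X := X.mul_mem h1 (X.inv_mem hx)
  have h3 : unitri f * x * unitri (-f) * x⁻¹ = unitri (f - x.1 0 0 ^ 2 * f) := by
    rw [mul_inv_eq_iff_eq_mul, mul_assoc, mul_unitri_of_lower_zero x hx10, ← mul_assoc, unitri_mul]
    congr 2
    ring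
  rw [h3] at h2
  have h4 : unitri (f - x.1 0 0 ^ 2 * f) = 1 := by
    apply eq_one_of_sq_of_odd X hX h2
    rw [unitri_mul]
    have h2' : (2 : F) = 0 := CharTwo.two_eq_zero
    rw [unitri_eq_one_iff]
    linear_combination (f - x.1 0 0 ^ 2 * f) * h2'
  rw [unitri_eq_one_iff] at h4
  have hf0 : f = 0 := by
    have : (1 - x.1 0 0 ^ 2) * f = 0 := by linear_combination h4
    rcases mul_eq_zero.mp this with h | h
    · exact absurd (sub_eq_zero.mp h).symm hlam
    · exact h
  have hwX : w ∈ X := by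
    rw [hw, hf0, neg_zero, unitri_zero, one_mul]
    exact X.inv_mem hx''
  exact hw1 (eq_one_of_sq_of_odd X hX hwX hw2)

/-- [II-3] for `t` upper unitriangular. -/
theorem no_odd_factorization_unitri (hF : 2 < Fintype.card F) {c₀ : F} (hc₀ : c₀ ≠ 0)
    (X : Subgroup SL(2, F)) (hX : Odd (Nat.card X))
    (hfac : ∀ g : SL(2, F), ∃ x ∈ X, ∃ c : SL(2, F), c * unitri c₀ = unitri c₀ * c ∧ g = x * c) :
    False := by
  classical
  have h2 : (2 : F) = 0 := CharTwo.two_eq_zero
  -- an element different from 0 and 1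
  obtain ⟨lam, hl0, hl1⟩ : ∃ lam : F, lam ≠ 0 ∧ lam ≠ 1 := by
    by_contra hcon
    push Not at hcon
    have hsub : (Finset.univ : Finset F) ⊆ {0, 1} := by
      intro a _
      by_cases ha : a = 0
      · simp [ha]
      · simp [hcon a ha]
    have := Finset.card_le_card hsub
    have h3 : ({0, 1} : Finset F).card ≤ 2 := Finset.card_le_two
    rw [Finset.card_univ] at this
    omega
  have hlsq : lam ^ 2 ≠ 1 := by
    intro h
    apply hl1
    have : (lam - 1) ^ 2 = 0 := by linear_combination h + (1 - lam) * h2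
    exact sub_eq_zero.mp (pow_eq_zero_iff two_ne_zero |>.mp this)
  obtain ⟨x, hx, c, hc, hxc⟩ := hfac (dg lam hl0)
  have hcu := eq_unitri_of_commute hc₀ c hc
  set e : F := c.1 0 1 with he
  have hxe : x = dg lam hl0 * unitri (-e) := by
    rw [hxc, hcu, mul_assoc, unitri_mul, add_neg_cancel, unitri_zero, mul_one]
  have hx00 : x.1 0 0 = lam := by
    rw [hxe, sl2_mul_val]; simp [dg_val, unitri_val]
  have hx10 : x.1 1 0 = 0 := by
    rw [hxe, sl2_mul_val]; simp [dg_val, unitri_val]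
  have hx11 : x.1 1 1 = lam⁻¹ := by
    rw [hxe, sl2_mul_val]; simp [dg_val, unitri_val]
  have hlm : lam * lam⁻¹ = 1 := mul_inv_cancel₀ hl0
  set b : F := x.1 0 1 with hb
  set mu : F := lam⁻¹ with hmu
  have hlam' : x.1 0 0 ^ 2 ≠ 1 := by rw [hx00]; exact hlsq
  by_cases hb0 : b = 0
  · -- the antidiagonal involution
    let w : SL(2, F) := ⟨!![0, 1; 1, 0], by
      rw [Matrix.det_fin_two]; simp; linear_combination (-1 : F) * h2⟩
    have hwval : w.1 = !![0, 1; 1, 0] := rfl
    refine key_step hc₀ X hX hfac x hx hx10 hlam' w ?_ ?_ ?_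
    · apply sl2_ext <;> simp [sl2_mul_val, hwval]
    · intro h
      have := congrArg (fun m : SL(2, F) => m.1 1 0) h
      simp [hwval] at this
    · apply sl2_ext
      · simp only [sl2_mul_val, hwval]; simp [hx10, ← hb, hb0]
      · simp only [sl2_mul_val, hwval]; simp [hx10, ← hb, hb0, hx00, hx11, hlm]
      · simp only [sl2_mul_val, hwval]; simp [hx10, ← hb, hb0, hx00, hx11]
        rw [mul_comm]; exact hlm
      · simp only [sl2_mul_val, hwval]; simp [hx10, ← hb, hb0]
  · -- a lower unitriangular involution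
    have hbg : b * ((lam + mu) / b) = lam + mu := by field_simp
    set gam : F := (lam + mu) / b with hgam
    let w : SL(2, F) := ⟨!![1, 0; gam, 1], by rw [Matrix.det_fin_two]; simp⟩
    have hwval : w.1 = !![1, 0; gam, 1] := rfl
    refine key_step hc₀ X hX hfac x hx hx10 hlam' w ?_ ?_ ?_
    · apply sl2_ext
      · simp [sl2_mul_val, hwval]
      · simp [sl2_mul_val, hwval]
      · simp only [sl2_mul_val, hwval]; simp
        linear_combination gam * h2
      · simp [sl2_mul_val, hwval]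
    · intro h
      have h10 := congrArg (fun m : SL(2, F) => m.1 1 0) h
      simp [hwval] at h10
      -- gam = 0 gives lam + mu = 0
      have h5 : lam + mu = 0 := by rw [← hbg, h10, mul_zero]
      apply hlsq
      linear_combination lam * h5 - hlm - h2
    · apply sl2_ext
      · simp only [sl2_mul_val, hwval]; simp [hx10, ← hb, hx00, hx11]
        linear_combination lam * hbg + hlm + lam ^ 2 * h2
      · simp only [sl2_mul_val, hwval]; simp [hx10, ← hb, hx00, hx11]
        linear_combination b * hbg + (lam * b + b * mu) * h2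
      · simp only [sl2_mul_val, hwval]; simp [hx10, ← hb, hx00, hx11]
        linear_combination gam * hlm
      · simp only [sl2_mul_val, hwval]; simp [hx10, ← hb, hx00, hx11]
        linear_combination mu * hbg + hlm + mu ^ 2 * h2

/-- [II-3] -/
theorem sl2_no_odd_factorization {F : Type*} [Field F] [Fintype F] [CharP F 2]
    (hF : 2 < Fintype.card F) (t : SL(2, F)) (ht : orderOf t = 2) (X : Subgroup SL(2, F)) (hX : Odd (Nat.card X))
    (hfac : ∀ g : SL(2, F), ∃ x ∈ X, ∃ c : SL(2, F), c * t = t * c ∧ g = x * c) : False := by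
  obtain ⟨ht2, ht1⟩ := sq_of_orderOf_two ht
  obtain ⟨P, c₀, hc₀, hP⟩ := exists_conj_eq_unitri 2 t 1 ht2 ht1
  let φ : SL(2, F) ≃* SL(2, F) := MulAut.conj P
  have hφ : ∀ g, φ g = P * g * P⁻¹ := fun g => rfl
  refine no_odd_factorization_unitri hF hc₀ (X.map φ.toMonoidHom) ?_ ?_
  · have : Nat.card (X.map φ.toMonoidHom) = Nat.card X :=
      Nat.card_congr (X.equivMapOfInjective φ.toMonoidHom φ.injective).symm.toEquiv
    rw [this]; exact hX
  · intro g
    obtain ⟨x, hx, c, hc, hg⟩ := hfac (P⁻¹ * g * P)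
    refine ⟨P * x * P⁻¹, ⟨x, hx, rfl⟩, P * c * P⁻¹, ?_, ?_⟩
    · rw [← hP]
      have : P * c * P⁻¹ * (P * t * P⁻¹) = P * (c * t) * P⁻¹ := by group
      rw [this, hc]; group
    · have : g = P * (P⁻¹ * g * P) * P⁻¹ := by group
      rw [this, hg]; group

end CharTwo

end Cfsg.Agent.Lib.Helper33.AbCent
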