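/-
helper33: S2202 module [I-3b] (helper32's sheet #4377): a family of subgroups of the same order
meeting pairwise trivially inside a set `Y` gives a lower bound for `|Y|`.
-/
import Mathlib
import Cfsg.Agent.Lib.Helper32.AbCentDefs

set_option autoImplicit false
set_option linter.unusedSectionVars false

namespace Cfsg.Agent.Lib.Helper33.AbCent

open Cfsg Cfsg.Agent.Lib.Helper32.AbCent

variable {G : Type*} [Group G] [Finite G] {H M : Subgroup G}

/-- [I-3b] -/
theorem card_spread {ι : Type*} [Fintype ι] (A : ι → Subgroup G) (Y : Set G) (f : ℕ)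
    (hcard : ∀ i, Nat.card (A i) = f) (hsub : ∀ i, ((A i : Subgroup G) : Set G) ⊆ Y)
    (hdisj : ∀ i j, i ≠ j → A i ⊓ A j = ⊥) (h1 : (1 : G) ∈ Y) :
    Fintype.card ι * (f - 1) + 1 ≤ Nat.card Y := by
  classical
  have : Fintype G := Fintype.ofFinite G
  let Yf : Finset G := Finset.univ.filter (fun g => g ∈ Y)
  let S : ι → Finset G := fun i => (Finset.univ.filter (fun g => g ∈ A i)).erase 1
  have hYf : Yf.card = Nat.card Y := by
    rw [Nat.card_eq_fintype_card, Fintype.card_subtype]
  have hS : ∀ i, (S i).card = f - 1 := by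
    intro i
    have h1i : (1 : G) ∈ Finset.univ.filter (fun g => g ∈ A i) := by simp [(A i).one_mem]
    rw [Finset.card_erase_of_mem h1i, ← hcard i, Nat.card_eq_fintype_card, Fintype.card_subtype]
  have hdis : ∀ i ∈ (Finset.univ : Finset ι), ∀ j ∈ (Finset.univ : Finset ι), i ≠ j →
      Disjoint (S i) (S j) := by
    intro i _ j _ hij
    rw [Finset.disjoint_left]
    intro g hgi hgj
    simp only [S, Finset.mem_erase, Finset.mem_filter, Finset.mem_univ, true_and] at hgi hgj
    have : g ∈ A i ⊓ A j := ⟨hgi.2, hgj.2⟩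
    rw [hdisj i j hij, Subgroup.mem_bot] at this
    exact hgi.1 this
  have hU : ((Finset.univ : Finset ι).biUnion S).card = Fintype.card ι * (f - 1) := by
    rw [Finset.card_biUnion hdis, Finset.sum_congr rfl (fun i _ => hS i), Finset.sum_const,
      Finset.card_univ, smul_eq_mul]
  have hsubU : (Finset.univ : Finset ι).biUnion S ⊆ Yf.erase 1 := by
    intro g hg
    rw [Finset.mem_biUnion] at hg
    obtain ⟨i, _, hgi⟩ := hg
    simp only [S, Finset.mem_erase, Finset.mem_filter, Finset.mem_univ, true_and] at hgi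
    simp only [Yf, Finset.mem_erase, Finset.mem_filter, Finset.mem_univ, true_and]
    exact ⟨hgi.1, hsub i hgi.2⟩
  have h1Y : (1 : G) ∈ Yf := by simp [Yf, h1]
  have hle := Finset.card_le_card hsubU
  rw [hU, Finset.card_erase_of_mem h1Y, hYf] at hle
  have hpos : 0 < Yf.card := Finset.card_pos.mpr ⟨1, h1Y⟩
  rw [hYf] at hpos
  omega

end Cfsg.Agent.Lib.Helper33.AbCent
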