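import Cfsg.Agent.Lib.Helper33.SylIn

/-!
# An induction principle in the style of Alperin's fusion theorem (helper33 library)
-/

set_option autoImplicit false

namespace Cfsg.Agent.Lib.Helper33

variable {G : Type*} [Group G] {p : ℕ}

/-- Alperin-style induction. `Φ P g` is a property of the conjugation map `P → g P g⁻¹` (for `P ≤ S`,
`g P g⁻¹ ≤ S`) which is closed under composition, restriction and inverses. If every subgroup of `S`
has a fully normalized conjugate in `𝓕`, and `Φ U g` holds for `U ∈ 𝓕` fully normalized and `g ∈ N_G(U)`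
(assuming `Φ` for all strictly larger subgroups of `S`), then `Φ` holds always. -/
theorem alperin_induction [Fact p.Prime] [Finite G] (S : Sylow p G)
    (Φ : Subgroup G → G → Prop) (𝓕 : Set (Subgroup G))
    (h𝓕 : ∀ P : Subgroup G, P ≤ (S : Subgroup G) →
      ∃ U ∈ 𝓕, (∃ g : G, cj g P = U) ∧ U ≤ (S : Subgroup G) ∧ FullyNormalized p (S : Subgroup G) U)
    (comp : ∀ (P : Subgroup G) (g h : G), P ≤ (S : Subgroup G) → cj g P ≤ (S : Subgroup G) →
      cj h (cj g P) ≤ (S : Subgroup G) → Φ P g → Φ (cj g P) h → Φ P (h * g))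
    (res : ∀ (P P' : Subgroup G) (g : G), P' ≤ P → P ≤ (S : Subgroup G) → cj g P ≤ (S : Subgroup G) →
      Φ P g → Φ P' g)
    (inv : ∀ (P : Subgroup G) (g : G), P ≤ (S : Subgroup G) → cj g P ≤ (S : Subgroup G) →
      Φ P g → Φ (cj g P) g⁻¹)
    (loc : ∀ U ∈ 𝓕, U ≤ (S : Subgroup G) → FullyNormalized p (S : Subgroup G) U →
      (∀ P : Subgroup G, P ≤ (S : Subgroup G) → Nat.card U < Nat.card P →
        ∀ g, cj g P ≤ (S : Subgroup G) → Φ P g) →
      ∀ g ∈ Subgroup.normalizer (U : Set G), Φ U g) :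
    ∀ P : Subgroup G, P ≤ (S : Subgroup G) → ∀ g, cj g P ≤ (S : Subgroup G) → Φ P g := by
  intro P
  induction' hn : Nat.card (S : Subgroup G) - Nat.card P using Nat.strong_induction_on with n ih generalizing P
  intro hP g hQ
  -- the induction hypothesis in usable form
  have IH : ∀ P' : Subgroup G, P' ≤ (S : Subgroup G) → Nat.card P < Nat.card P' →
      ∀ g, cj g P' ≤ (S : Subgroup G) → Φ P' g := by
    intro P' hP' hlt g' hg'
    have hle : Nat.card P' ≤ Nat.card (S : Subgroup G) := Subgroup.card_le_of_le hP'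
    exact ih (Nat.card (S : Subgroup G) - Nat.card P') (by omega) P' rfl hP' g' hg'
  obtain ⟨U, hU𝓕, ⟨u, huP⟩, hUS, hUfn⟩ := h𝓕 P hP
  have hcardU : Nat.card U = Nat.card P := by rw [← huP, card_cj]
  have hlocU : ∀ y ∈ Subgroup.normalizer (U : Set G), Φ U y := by
    apply loc U hU𝓕 hUS hUfn
    intro P' hP' hlt
    exact IH P' hP' (hcardU ▸ hlt)
  by_cases hPS : P = (S : Subgroup G)
  · -- P = S
    have hUeq : U = P := by
      rw [hPS]
      apply Subgroup.eq_of_le_of_card_ge hUS
      rw [hcardU, hPS]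
    have hg : cj g P = P := by
      rw [hPS]
      apply Subgroup.eq_of_le_of_card_ge (hPS ▸ hQ)
      rw [card_cj]
    rw [← hUeq]
    apply hlocU
    rw [hUeq]
    exact mem_normalizer_iff_cj_eq.mpr hg
  · -- P < S
    set Q := cj g P with hQdef
    have hQne : Q ≠ (S : Subgroup G) := by
      intro h
      apply hPS
      apply Subgroup.eq_of_le_of_card_ge hP
      rw [← h, hQdef, card_cj]
    obtain ⟨k, hkP, hkN⟩ := exists_cj_normalizer_le S hUfn u huP
    have huQ : cj (u * g⁻¹) Q = U := by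
      rw [hQdef, cj_mul, cj_inv_cj, huP]
    obtain ⟨k', hk'Q, hk'N⟩ := exists_cj_normalizer_le S hUfn (u * g⁻¹) huQ
    -- Φ P k
    have hΦk : Φ P k := by
      apply res ((S : Subgroup G) ⊓ Subgroup.normalizer (P : Set G)) P k
        (le_inf hP Subgroup.le_normalizer) inf_le_left (hkN.trans inf_le_left)
      exact IH _ inf_le_left (card_lt_card_normalizer_inf S hP hPS) k (hkN.trans inf_le_left)
    have hΦk' : Φ Q k' := by
      apply res ((S : Subgroup G) ⊓ Subgroup.normalizer (Q : Set G)) Q k'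
        (le_inf hQ Subgroup.le_normalizer) inf_le_left (hk'N.trans inf_le_left)
      have hcQ : Nat.card P < Nat.card ((S : Subgroup G) ⊓ Subgroup.normalizer (Q : Set G) : Subgroup G) := by
        have := card_lt_card_normalizer_inf S hQ hQne
        rwa [hQdef, card_cj] at this
      exact IH _ inf_le_left hcQ k' (hk'N.trans inf_le_left)
    have hΦk'inv : Φ U k'⁻¹ := by
      have := inv Q k' hQ (hk'Q ▸ hUS) hΦk'
      rwa [hk'Q] at this
    -- the middle element
    have hy : k' * g * k⁻¹ ∈ Subgroup.normalizer (U : Set G) := by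
      rw [mem_normalizer_iff_cj_eq, cj_mul, cj_mul]
      have : cj k⁻¹ U = P := by rw [← hkP, cj_inv_cj]
      rw [this, ← hQdef, hk'Q]
    have hΦy : Φ U (k' * g * k⁻¹) := hlocU _ hy
    have hyU : cj (k' * g * k⁻¹) U = U := mem_normalizer_iff_cj_eq.mp hy
    -- compose
    have h1 : Φ P (k' * g * k⁻¹ * k) := by
      apply comp P k (k' * g * k⁻¹) hP (hkP ▸ hUS)
      · rw [hkP, hyU]; exact hUS
      · exact hΦk
      · rw [hkP]; exact hΦy
    have h2 : cj (k' * g * k⁻¹ * k) P = U := by
      rw [cj_mul, hkP, hyU]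
    have h3 : Φ P (k'⁻¹ * (k' * g * k⁻¹ * k)) := by
      apply comp P (k' * g * k⁻¹ * k) k'⁻¹ hP (h2 ▸ hUS)
      · rw [h2, ← hk'Q, cj_inv_cj]; exact hQ
      · exact h1
      · rw [h2]; exact hΦk'inv
    have : k'⁻¹ * (k' * g * k⁻¹ * k) = g := by group
    rwa [this] at h3

end Cfsg.Agent.Lib.Helper33
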