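import Cfsg.Agent.Lib.Helper33.NoSL2Aut
import Cfsg.Agent.Lib.Helper33.PStableSec

/-!
# Groups whose automizers of `p`-subgroups do not involve `SL₂(p)` (helper33 library)

`AutSL2Free p G`: for no `p`-subgroup `Q` does `N_G(Q)/C_G(Q)` have a section isomorphic to `SL₂(p)`.
This passes to all sections of `G` and gives the elementary `p`-stability property `ECN` in all sections.
-/

set_option autoImplicit false

namespace Cfsg.Agent.Lib.Helper33

open Cfsg Cfsg.Agent.Lib.Helper11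
open scoped commutatorElement

universe u

/-- for no `p`-subgroup `Q` does `N_G(Q)/C_G(Q)` have a section isomorphic to `SL₂(p)` -/
def AutSL2Free (p : ℕ) (G : Type*) [Group G] : Prop :=
  ∀ Q : Subgroup G, IsPGroup p ↥Q → ¬ ∃ (H K : Subgroup G) (_ : (K.subgroupOf H).Normal),
    Subgroup.centralizer (Q : Set G) ≤ K ∧ K ≤ H ∧ H ≤ Subgroup.normalizer (Q : Set G) ∧
    Nonempty ((↥H ⧸ K.subgroupOf H) ≃* Matrix.SpecialLinearGroup (Fin 2) (ZMod p))

/-- a subgroup `D` of `N_G(Q)` cannot map onto `SL₂(p)` with `C_D(Q)` in the kernel -/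
theorem AutSL2Free.not_surjective {p : ℕ} {G : Type*} [Group G] (h : AutSL2Free p G) (Q : Subgroup G)
    (hQ : IsPGroup p ↥Q) (D : Subgroup G) (hDN : D ≤ Subgroup.normalizer (Q : Set G))
    (f : ↥D →* Matrix.SpecialLinearGroup (Fin 2) (ZMod p)) (hf : Function.Surjective f)
    (hker : ∀ d : ↥D, (d : G) ∈ Subgroup.centralizer (Q : Set G) → f d = 1) : False := by
  apply h Q hQ
  set N : Subgroup G := Subgroup.normalizer (Q : Set G) with hN
  set Cn : Subgroup ↥N := (Subgroup.centralizer (Q : Set G)).subgroupOf N with hCn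
  have hCnn : Cn.Normal := Subgroup.normal_subgroupOf_centralizer_normalizer _
  set D1 : Subgroup ↥N := D.subgroupOf N with hD1
  let ι1 : ↥D1 ≃* ↥D := Subgroup.subgroupOfEquivOfLe hDN
  let f1 : ↥D1 →* Matrix.SpecialLinearGroup (Fin 2) (ZMod p) := f.comp ι1.toMonoidHom
  have hf1 : Function.Surjective f1 := hf.comp ι1.surjective
  have hk1 : Cn.subgroupOf D1 ≤ f1.ker := by
    intro x hx
    rw [MonoidHom.mem_ker]
    apply hker
    exact hx
  let f2 : ↥D1 ⧸ Cn.subgroupOf D1 →* Matrix.SpecialLinearGroup (Fin 2) (ZMod p) :=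
    QuotientGroup.lift _ f1 hk1
  have hf2 : Function.Surjective f2 := by
    intro t
    obtain ⟨d, hd⟩ := hf1 t
    exact ⟨QuotientGroup.mk d, by rw [QuotientGroup.lift_mk]; exact hd⟩
  let e := QuotientGroup.quotientInfEquivProdNormalQuotient D1 Cn
  obtain ⟨H1, hH1⟩ : ∃ H1 : Subgroup ↥N, H1 = D1 ⊔ Cn := ⟨_, rfl⟩
  rw [← hH1] at e
  let F : ↥H1 →* Matrix.SpecialLinearGroup (Fin 2) (ZMod p) :=
    (f2.comp e.symm.toMonoidHom).comp (QuotientGroup.mk' (Cn.subgroupOf H1))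
  have hF : Function.Surjective F :=
    (hf2.comp e.symm.surjective).comp (QuotientGroup.mk'_surjective _)
  have hFC : ∀ z : ↥H1, (z : ↥N) ∈ Cn → F z = 1 := by
    intro z hz
    have h1 : QuotientGroup.mk' (Cn.subgroupOf H1) z = 1 := by
      rw [QuotientGroup.mk'_apply, QuotientGroup.eq_one_iff]
      exact hz
    show (f2.comp e.symm.toMonoidHom) (QuotientGroup.mk' _ z) = 1
    rw [h1, map_one]
  set H : Subgroup G := H1.map N.subtype with hH
  let ι : ↥H1 ≃* ↥H := H1.equivMapOfInjective N.subtype N.subtype_injective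
  let F' : ↥H →* Matrix.SpecialLinearGroup (Fin 2) (ZMod p) := F.comp ι.symm.toMonoidHom
  have hF' : Function.Surjective F' := hF.comp ι.symm.surjective
  set K : Subgroup G := F'.ker.map H.subtype with hK
  have hKH : K.subgroupOf H = F'.ker :=
    Subgroup.comap_map_eq_self_of_injective H.subtype_injective F'.ker
  have hKn : (K.subgroupOf H).Normal := by rw [hKH]; infer_instance
  refine ⟨H, K, hKn, ?_, ?_, ?_, ?_⟩
  · intro c hc
    have hcN : c ∈ N := Subgroup.centralizer_le_normalizer _ hc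
    have hcCn : (⟨c, hcN⟩ : ↥N) ∈ Cn := hc
    have hcH1 : (⟨c, hcN⟩ : ↥N) ∈ H1 := by rw [hH1]; exact Subgroup.mem_sup_right hcCn
    refine ⟨ι ⟨⟨c, hcN⟩, hcH1⟩, ?_, rfl⟩
    rw [SetLike.mem_coe, MonoidHom.mem_ker]
    show F (ι.symm (ι _)) = 1
    rw [MulEquiv.symm_apply_apply]
    exact hFC ⟨⟨c, hcN⟩, hcH1⟩ hcCn
  · rintro _ ⟨x, _, rfl⟩
    exact x.2
  · rintro _ ⟨x, _, rfl⟩
    exact x.2
  · exact ⟨(QuotientGroup.quotientMulEquivOfEq hKH).trans
      (QuotientGroup.quotientKerEquivOfSurjective F' hF')⟩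

/-- the automizer of a normal `p`-subgroup of a section of `G` does not involve `SL₂(p)` -/
theorem AutSL2Free.not_involvesSL2_section {p : ℕ} [Fact p.Prime] {G : Type u} [Group G] [Finite G]
    (h : AutSL2Free p G) (K : Subgroup G) {Y : Type u} [Group Y] (φ : ↥K →* Y)
    (hφ : Function.Surjective φ) (P : Subgroup Y) [hPn : P.Normal] (hP : IsPGroup p P) :
    ¬ InvolvesSL2 p (Y ⧸ Subgroup.centralizer (P : Set Y)) := by
  rintro ⟨D0, f0, hf0⟩
  set Pt : Subgroup ↥K := P.comap φ with hPt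
  have hPtn : Pt.Normal := hPn.comap φ
  obtain ⟨Q0⟩ : Nonempty (Sylow p ↥Pt) := inferInstance
  set Q1 : Subgroup ↥K := (Q0 : Subgroup ↥Pt).map Pt.subtype with hQ1
  set Q : Subgroup G := Q1.map K.subtype with hQ
  have hQ1p : IsPGroup p Q1 := Q0.isPGroup'.map _
  have hQp : IsPGroup p Q := hQ1p.map _
  -- `φ(Q1) = P`
  have hQ1P : ∀ y ∈ P, ∃ q ∈ Q1, φ q = y := by
    intro y hy
    have hψ : Function.Surjective (φ.subgroupComap P) :=
      φ.subgroupComap_surjective_of_surjective P hφ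
    have htop : ((Q0.mapSurjective hψ : Sylow p ↥P) : Subgroup ↥P) = ⊤ :=
      ((Q0.mapSurjective hψ).is_maximal' (Q := ⊤) (IsPGroup.of_injective hP (⊤ : Subgroup ↥P).subtype
        Subtype.val_injective) le_top).symm
    have hy' : (⟨y, hy⟩ : ↥P) ∈ ((Q0.mapSurjective hψ : Sylow p ↥P) : Subgroup ↥P) := by
      rw [htop]; trivial
    rw [Sylow.coe_mapSurjective] at hy'
    obtain ⟨q0, hq0, hq0y⟩ := hy'
    refine ⟨q0.1, ⟨q0, hq0, rfl⟩, ?_⟩
    have := congrArg Subtype.val hq0y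
    exact this
  -- Frattini
  have hfr : Subgroup.normalizer (Q1 : Set ↥K) ⊔ Pt = ⊤ := Sylow.normalizer_sup_eq_top Q0
  have hsurjN : ∀ y : Y, ∃ n ∈ Subgroup.normalizer (Q1 : Set ↥K), φ n = y := by
    intro y
    obtain ⟨k, rfl⟩ := hφ y
    have hk : k ∈ Subgroup.normalizer (Q1 : Set ↥K) ⊔ Pt := by rw [hfr]; trivial
    obtain ⟨n, hn, t, ht, rfl⟩ := Subgroup.mem_sup_of_normal_right.mp hk
    obtain ⟨q, hq, hqt⟩ := hQ1P (φ t) ht
    refine ⟨n * q, mul_mem hn (Subgroup.le_normalizer hq), ?_⟩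
    rw [map_mul, map_mul, hqt]
  set C : Subgroup Y := Subgroup.centralizer (P : Set Y) with hC
  obtain ⟨θ, hθ⟩ : ∃ θ : ↥K →* Y ⧸ C, θ = (QuotientGroup.mk' C).comp φ := ⟨_, rfl⟩
  set D' : Subgroup ↥K := D0.comap θ ⊓ Subgroup.normalizer (Q1 : Set ↥K) with hD'
  set D : Subgroup G := D'.map K.subtype with hD
  let ιD : ↥D' ≃* ↥D := D'.equivMapOfInjective K.subtype K.subtype_injective
  let g1 : ↥D' →* ↥D0 := (θ.subgroupComap D0).comp (Subgroup.inclusion inf_le_left)
  let f : ↥D →* Matrix.SpecialLinearGroup (Fin 2) (ZMod p) := (f0.comp g1).comp ιD.symm.toMonoidHom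
  refine h.not_surjective Q hQp D ?_ f ?_ ?_
  · -- `D ≤ N_G(Q)`
    rintro _ ⟨k, hk, rfl⟩
    exact Subgroup.le_normalizer_map K.subtype ⟨k, hk.2, rfl⟩
  · -- surjective
    intro t
    obtain ⟨d0, hd0⟩ := hf0 t
    obtain ⟨y, hy⟩ := QuotientGroup.mk'_surjective C d0.1
    obtain ⟨n, hn, hny⟩ := hsurjN y
    have hθn : θ n = d0.1 := by rw [hθ, MonoidHom.comp_apply, hny, hy]
    have hnD' : n ∈ D' := ⟨by show θ n ∈ D0; rw [hθn]; exact d0.2, hn⟩
    refine ⟨ιD ⟨n, hnD'⟩, ?_⟩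
    show f0 (g1 (ιD.symm (ιD ⟨n, hnD'⟩))) = t
    rw [MulEquiv.symm_apply_apply]
    have : g1 ⟨n, hnD'⟩ = d0 := Subtype.ext hθn
    rw [this, hd0]
  · -- the centralizer of `Q` is in the kernel
    intro d hd
    obtain ⟨k, hk, hkd⟩ := d.2
    have hιk : ιD ⟨k, hk⟩ = d := Subtype.ext hkd
    have hkc : φ k ∈ C := by
      rw [hC, Subgroup.mem_centralizer_iff]
      intro y hy
      obtain ⟨q, hq, rfl⟩ := hQ1P y hy
      have hqQ : (q : G) ∈ Q := ⟨q, hq, rfl⟩
      have h1 := (Subgroup.mem_centralizer_iff.mp hd) (q : G) hqQ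
      rw [← hkd] at h1
      have h2 : q * k = k * q := Subtype.ext h1
      rw [← map_mul, ← map_mul, h2]
    have hg1 : g1 ⟨k, hk⟩ = 1 := by
      apply Subtype.ext
      show θ k = 1
      rw [hθ, MonoidHom.comp_apply, QuotientGroup.mk'_apply, QuotientGroup.eq_one_iff]
      exact hkc
    show f0 (g1 (ιD.symm d)) = 1
    rw [← hιk, MulEquiv.symm_apply_apply, hg1, map_one]

/-- `AutSL2Free` gives the elementary `p`-stability property in every section. -/
theorem secProp_ecn_of_autSL2Free {p : ℕ} [Fact p.Prime] (hp : p ≠ 2) {G : Type u} [Group G] [Finite G]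
    (h : AutSL2Free p G) : SecProp (ECN p) G := by
  intro K Y _ φ hφ
  have : Finite Y := Finite.of_surjective φ hφ
  intro P hPn hPp g hquad y hy
  have := hPn
  exact exists_pow_mem_centralizer_of_autNoSL2 hp P (h.not_involvesSL2_section K φ hφ P hPp) hPp g hquad y hy

end Cfsg.Agent.Lib.Helper33
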