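import Mathlib
import Cfsg.Agent.Lib.Helper37.B2Iso.Defs

/-!
# Project B2ISO (S1083), module [R-KER1] (helper33, for helper37)

A `5 × 5` matrix commuting with all root elements `T_{e_a, e_b}` (valid `(a,b)`) is scalar.
-/

set_option autoImplicit false

namespace Cfsg.Agent.Lib.Helper33.B2Iso

open Matrix Cfsg.Lie Cfsg.Agent.Lib.Helper37.B2Iso

variable {F : Type*} [Field F]

set_option maxHeartbeats 1600000 in
/-- the root element with parameter `1` (entrywise check) -/
theorem TM_eV_one (a b : I5) (h : Valid a b) :
    TM (eV a : I5 → F) (eV b) = 1 + rA a b + rB a b := by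
  ext i j
  revert h
  fin_cases a <;> fin_cases b <;> intro h <;>
    first
    | (exfalso; revert h; decide)
    | (fin_cases i <;> fin_cases j <;>
        simp [TM, rA, rB, bv, Qr, eV, vecMulVec_apply, Pi.single_apply, opp] <;> ring)

theorem mul_single_entry (g : Matrix I5 I5 F) (a b i j : I5) :
    (g * Matrix.single a b (1 : F)) i j = if j = b then g i a else 0 := by
  split_ifs with h
  · subst h
    rw [Matrix.mul_single_apply_same, mul_one]
  · exact Matrix.mul_single_apply_of_ne (1 : F) a b i j h g

theorem single_mul_entry (g : Matrix I5 I5 F) (a b i j : I5) :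
    (Matrix.single a b (1 : F) * g) i j = if i = a then g b j else 0 := by
  split_ifs with h
  · subst h
    rw [Matrix.single_mul_apply_same, one_mul]
  · exact Matrix.single_mul_apply_of_ne (1 : F) a b i j h g

/-- `g` commutes with the nilpotent part -/
theorem commute_X (g : Matrix I5 I5 F) (a b : I5) (hv : Valid a b)
    (h : g * TM (eV a) (eV b) = TM (eV a) (eV b) * g) :
    g * (rA a b + rB a b) = (rA a b + rB a b) * g := by
  rw [TM_eV_one a b hv, add_assoc, Matrix.mul_add, Matrix.add_mul, Matrix.mul_one,
    Matrix.one_mul] at h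
  exact add_left_cancel h

/-- entrywise form for a long root (`b` hyperbolic) -/
theorem entry_long (g : Matrix I5 I5 F) (a b : I5) (hv : Valid a b) (hb : IsHyp b)
    (h : g * TM (eV a) (eV b) = TM (eV a) (eV b) * g) (i j : I5) :
    (if j = opp a then g i b else 0) - (if j = opp b then g i a else 0)
      = (if i = b then g (opp a) j else 0) - (if i = a then g (opp b) j else 0) := by
  have h1 := commute_X g a b hv h
  have hbz : ¬ b = zI := hb
  have := congrFun (congrFun h1 i) j
  unfold rA rB at this
  rw [if_neg hbz, if_neg hbz, add_zero, one_smul, Matrix.mul_sub, Matrix.sub_mul,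
    Matrix.sub_apply, Matrix.sub_apply, mul_single_entry, mul_single_entry, single_mul_entry,
    single_mul_entry] at this
  exact this

/-- entrywise form for a short root (`b = e_0`) -/
theorem entry_short (g : Matrix I5 I5 F) (a : I5) (hv : Valid a zI)
    (h : g * TM (eV a) (eV zI) = TM (eV a) (eV zI) * g) (i j : I5) :
    (if j = opp a then g i zI else 0) - 2 * (if j = zI then g i a else 0)
        - (if j = opp a then g i a else 0)
      = (if i = zI then g (opp a) j else 0) - 2 * (if i = a then g zI j else 0)
        - (if i = a then g (opp a) j else 0) := by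
  have h1 := commute_X g a zI hv h
  have := congrFun (congrFun h1 i) j
  unfold rA rB at this
  have hz : opp zI = zI := rfl
  rw [if_pos rfl, if_pos rfl, hz] at this
  simp only [Matrix.mul_add, Matrix.add_mul, Matrix.mul_sub, Matrix.sub_mul, Matrix.mul_neg,
    Matrix.neg_mul, Matrix.mul_smul, Matrix.smul_mul, Matrix.add_apply, Matrix.sub_apply,
    Matrix.neg_apply, Matrix.smul_apply, mul_single_entry, single_mul_entry, smul_eq_mul] at this
  linear_combination this

theorem exists_long : ∀ b : I5, IsHyp b → ∀ i : I5, i ≠ b →
    ∃ a, Valid a b ∧ i ≠ a := by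
  decide

theorem exists_long' : ∀ b : I5, IsHyp b → ∃ a, Valid a b := by
  decide

theorem exists_short : ∀ i : I5, i ≠ zI → ∃ a, Valid a zI ∧ i ≠ a := by
  decide

/-- a matrix commuting with all root elements `T_{e_a, e_b}` is scalar -/
theorem scalar_of_commute (g : Matrix I5 I5 F)
    (h : ∀ a b, Valid a b → g * TM (eV a) (eV b) = TM (eV a) (eV b) * g) :
    ∃ c : F, g = c • (1 : Matrix I5 I5 F) := by
  -- off-diagonal entries in hyperbolic columns vanish
  have hoff : ∀ b : I5, IsHyp b → ∀ i : I5, i ≠ b → g i b = 0 := by
    intro b hb i hib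
    obtain ⟨a, hab, hia⟩ := exists_long b hb i hib
    have e := entry_long g a b hab hb (h a b hab) i (opp a)
    have h1 : ¬ opp a = opp b := fun e => hab.2.1 (by rw [← opp_opp b, ← e, opp_opp])
    have h2 : ¬ i = b := hib
    have h3 : ¬ i = a := hia
    simpa [h1, h2, h3] using e
  -- diagonal entries: `g b b = g a' a'` for valid long pairs
  have hdiag : ∀ a b : I5, Valid a b → IsHyp b → g b b = g (opp a) (opp a) := by
    intro a b hab hb
    have e := entry_long g a b hab hb (h a b hab) b (opp a)
    have h1 : ¬ opp a = opp b := fun e => hab.2.1 (by rw [← opp_opp b, ← e, opp_opp])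
    have h3 : ¬ b = a := hab.2.1
    simpa [h1, h3] using e
  -- all hyperbolic diagonal entries agree with the one at `e_1`
  have hhyp : ∀ b : I5, IsHyp b → g b b = g (eI 0) (eI 0) := by
    have e1 := hdiag (fI 0) (eI 1) (by decide) (by decide)
    have e2 := hdiag (eI 0) (eI 1) (by decide) (by decide)
    have e3 := hdiag (fI 0) (fI 1) (by decide) (by decide)
    have o1 : opp (fI 0) = eI 0 := rfl
    have o2 : opp (eI 0) = fI 0 := rfl
    rw [o1] at e1 e3
    rw [o2] at e2
    intro b hb
    revert hb
    fin_cases b
    · intro hb; exact absurd rfl hb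
    · intro _; rfl
    · intro _; exact e1
    · intro _; exact e2.symm.trans e1
    · intro _; exact e3
  -- the column `e_0`
  have hz0 : ∀ i : I5, i ≠ zI → g i zI = 0 := by
    intro i hi
    obtain ⟨a, ha, hia⟩ := exists_short i hi
    have e := entry_short g a ha (h a zI ha) i (opp a)
    have haz : IsHyp a := ha.1
    have h1 : ¬ opp a = zI := fun e => haz (by rw [← opp_opp a, e]; rfl)
    have h2 : ¬ i = zI := hi
    have h3 : ¬ i = a := hia
    have h4 : g i a = 0 := hoff a haz i hia
    simpa [h1, h2, h3, h4] using e
  have hzz : g zI zI = g (eI 0) (eI 0) := by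
    have ha : Valid (fI 0) zI := by decide
    have e := entry_short g (fI 0) ha (h _ zI ha) zI (opp (fI 0))
    have o1 : opp (fI 0) = eI 0 := rfl
    rw [o1] at e
    have h4 : g zI (fI 0) = 0 := hoff (fI 0) (by decide) zI (by decide)
    have h1 : ¬ (eI 0 : I5) = zI := by decide
    have h2 : ¬ (zI : I5) = fI 0 := by decide
    simpa [h1, h2, h4] using e
  refine ⟨g (eI 0) (eI 0), ?_⟩
  ext i j
  by_cases hij : i = j
  · subst hij
    by_cases hi : i = zI
    · subst hi
      simp [hzz]
    · simp [hhyp i hi]
  · have : g i j = 0 := by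
      by_cases hj : j = zI
      · subst hj
        exact hz0 i hij
      · exact hoff j hj i hij
    simp [hij, this]

end Cfsg.Agent.Lib.Helper33.B2Iso
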