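import Mathlib
import Cfsg.Agent.Lib.Helper37.B2Iso.Defs

/-!
# Project B2ISO (S1083), module [R-TAB]: the entries of `chevB2.xMat` as polynomials in `t`
(helper33, for helper37; adapted from helper89's `D4IsoRTab`)
-/

set_option autoImplicit false

namespace Cfsg.Agent.Lib.Helper33.B2Iso

open Matrix Cfsg.Lie Cfsg.Agent.Lib.Helper37.B2Iso

/-- every chain of `B₂` has length at most two -/
theorem chain_size : ∀ r < 8, ∀ e ∈ (chevB2.chain.getD r #[]).toList, e.2.size ≤ 2 := by
  decide +kernel

theorem chain_size' (r : ℕ) : ∀ e ∈ (chevB2.chain.getD r #[]).toList, e.2.size ≤ 2 := by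
  by_cases hr : r < 8
  · exact chain_size r hr
  · intro e he
    exfalso
    have hsz : chevB2.chain.size = 8 := by decide
    have h1 : chevB2.chain.getD r #[] = #[] := by
      unfold Array.getD
      rw [dif_neg (by rw [hsz]; exact hr)]
    rw [h1] at he
    simp at he

variable {F : Type*} [Field F]

theorem chain_exp (r s u : ℕ) : ∀ km ∈ chevB2.chainCoeff r s u, km.1 = 1 ∨ km.1 = 2 := by
  intro km hkm
  unfold ChevalleyDatum.chainCoeff at hkm
  simp only [List.mem_flatMap, List.mem_map, List.mem_filter] at hkm
  obtain ⟨e, ⟨he, -⟩, q, ⟨hq, -⟩, rfl⟩ := hkm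
  have h1 := chain_size' r e he
  have h2 := List.snd_lt_of_mem_zipIdx hq
  rw [Array.length_toList] at h2
  show q.2 + 1 = 1 ∨ q.2 + 1 = 2
  omega

theorem sum_chain (l : List (ℕ × ℤ)) (hall : ∀ km ∈ l, km.1 = 1 ∨ km.1 = 2) (t : F) :
    (l.map fun km => ((km.2 : ℤ) : F) * t ^ km.1).sum =
      t * ((((l.filter fun km => km.1 = 1).map fun km => km.2).sum : ℤ) : F) +
      t ^ 2 * ((((l.filter fun km => km.1 = 2).map fun km => km.2).sum : ℤ) : F) := by
  induction l with
  | nil => simp
  | cons a l ih =>
    have ha := hall a (List.mem_cons_self)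
    have hl : ∀ km ∈ l, km.1 = 1 ∨ km.1 = 2 := fun km hkm => hall km (List.mem_cons_of_mem _ hkm)
    rw [List.map_cons, List.sum_cons, ih hl]
    rcases ha with ha | ha
    · have h1 : (a :: l).filter (fun km => km.1 = 1) = a :: l.filter (fun km => km.1 = 1) := by
        rw [List.filter_cons_of_pos]; simp [ha]
      have h2 : (a :: l).filter (fun km => km.1 = 2) = l.filter (fun km => km.1 = 2) := by
        rw [List.filter_cons_of_neg]; simp [ha]
      rw [h1, h2, List.map_cons, List.sum_cons, ha, pow_one, Int.cast_add]
      ring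
    · have h1 : (a :: l).filter (fun km => km.1 = 1) = l.filter (fun km => km.1 = 1) := by
        rw [List.filter_cons_of_neg]; simp [ha]
      have h2 : (a :: l).filter (fun km => km.1 = 2) = a :: l.filter (fun km => km.1 = 2) := by
        rw [List.filter_cons_of_pos]; simp [ha]
      rw [h1, h2, List.map_cons, List.sum_cons, ha, Int.cast_add]
      ring

/-! ## [R-TAB] the entries of `xMat` as polynomials in `t` -/
theorem xMat_eq (r : Fin chevB2.nroots) (t : F) (i j : chevB2.Idx) :
    chevB2.xMat F r t i j =
      (if i = j then 1 else 0) + t * ((m1Z r i j : ℤ) : F) + t ^ 2 * ((m2Z r i j : ℤ) : F) := by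
  unfold ChevalleyDatum.xMat
  rw [Matrix.of_apply]
  rcases j with c | s
  · -- column `h_{p_c}`
    rcases i with i' | u
    · simp only [m1Z, m2Z, Sum.inl.injEq]
      simp
    · simp only [m1Z, m2Z]
      by_cases hur : u = r
      · have hv : u.val = r.val := by rw [hur]
        simp [hur]
        ring
      · have hv : ¬ u.val = r.val := fun h => hur (Fin.ext h)
        simp [hur, hv]
  · -- column `e_s`
    by_cases hsr : s = r
    · have hv : s.val = r.val := by rw [hsr]
      rcases i with i' | u
      · simp [m1Z, m2Z, hsr]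
      · simp [m1Z, m2Z, hsr]
    · have hv : ¬ s.val = r.val := fun h => hsr (Fin.ext h)
      by_cases hneg : s.val = chevB2.negIdx.getD r.val 0
      · rcases i with i' | u
        · simp only [m1Z, m2Z, if_neg hsr, if_neg hv, if_pos hneg]
          simp
          ring
        · simp only [m1Z, m2Z, if_neg hsr, if_neg hv, if_pos hneg]
          by_cases hus : u = s
          · have hv2 : u.val = s.val := by rw [hus]
            simp [hus]
          · have hv2 : ¬ u.val = s.val := fun h => hus (Fin.ext h)
            by_cases hur : u = r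
            · subst hur
              simp [hus, hv2]
            · have hv3 : ¬ u.val = r.val := fun h => hur (Fin.ext h)
              simp [hus, hv2, hur, hv3]
      · rcases i with i' | u
        · simp only [m1Z, m2Z, if_neg hsr, if_neg hv, if_neg hneg]
          simp
        · simp only [m1Z, m2Z, if_neg hsr, if_neg hv, if_neg hneg]
          rw [sum_chain _ (chain_exp r.val s.val u.val) t]
          simp [Sum.inr.injEq]
          ring

end Cfsg.Agent.Lib.Helper33.B2Iso
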