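import Mathlib
import Cfsg.Agent.Lib.Helper75.BrauerHalfC

set_option autoImplicit false
set_option linter.unusedSectionVars false

/-!
# S4503 module [BH-SSUM] (helper33, for helper75)

The family `S = {ζ (ψ₀ ^ m) : m ∈ N_G(P)}` of exceptional characters: all `Theta`-parts of its sum
are `[θ' ∈ orbit θ] * etaN ψ₀ y`.
-/

namespace Cfsg.Agent.Lib.Helper33.BH

open Cfsg Cfsg.Agent.Lib.Helper78 Cfsg.Agent.Lib.Helper16 Cfsg.Agent.Lib.Helper3.DefOneGen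
  Cfsg.Agent.Lib.Helper75.McKayOne Cfsg.Agent.Lib.Helper75.BrauerHalf
open scoped ComplexConjugate IsMulCommutative

universe u

variable {G : Type u} [Group G] [Fintype G] {p : ℕ} [hp : Fact p.Prime] (P : Sylow p G)
  (hP : Nat.card P = p)
variable [Fintype ↥(Subgroup.centralizer ((P : Subgroup G) : Set G))] [Fintype ↥(P : Subgroup G)]
  [IsMulCommutative ↥(P : Subgroup G)] [Fintype (↥(P : Subgroup G) →* ℂˣ)]
  [Fintype ↥(Subgroup.normalizer ((P : Subgroup G) : Set G))]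
variable {M : Ideal AlgInt}

local notation "CP" => Subgroup.centralizer ((P : Subgroup G) : Set G)
local notation "NP" => Subgroup.normalizer ((P : Subgroup G) : Set G)

attribute [local instance] nAct

/-- The `T`-conjugacy relation on the dual of `P`, in the literal form of `main_aux_gen`. -/
def Rel (T : Subgroup G) (ψ ψ' : ↥(P : Subgroup G) →* ℂˣ) : Prop :=
  ∃ n : G, n ∈ T ∧ ∀ w w' : ↥(P : Subgroup G), (w' : G) = n * (w : G) * n⁻¹ → ψ' w' = ψ w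

theorem Rel.mono {T T' : Subgroup G} (h : T ≤ T') {ψ ψ' : ↥(P : Subgroup G) →* ℂˣ}
    (hr : Rel P T ψ ψ') : Rel P T' ψ ψ' := by
  obtain ⟨n, hn, h1⟩ := hr
  exact ⟨n, h hn, h1⟩

theorem Rel.symm {T : Subgroup G} {ψ ψ' : ↥(P : Subgroup G) →* ℂˣ}
    (hr : Rel P T ψ ψ') : Rel P T ψ' ψ := by
  obtain ⟨n, hn, h1⟩ := hr
  refine ⟨n⁻¹, inv_mem hn, ?_⟩
  intro w w' hw
  refine (h1 w' w ?_).symm
  rw [hw]
  group

theorem rel_normalizer_iff (ψ ψ' : ↥(P : Subgroup G) →* ℂˣ) :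
    Rel P NP ψ ψ' ↔ ∃ m : ↥NP, dualTwist m ψ' = ψ := by
  constructor
  · rintro ⟨n, hn, h⟩
    refine ⟨⟨n, hn⟩, ?_⟩
    ext y
    rw [dualTwist_apply]
    exact congrArg _ (h y ((⟨n, hn⟩ : ↥NP) • y) rfl)
  · rintro ⟨m, rfl⟩
    refine ⟨(m : G), m.2, ?_⟩
    intro w w' hw
    rw [dualTwist_apply]
    congr 1
    exact Subtype.ext hw

theorem Rel.trans_normalizer {ψ ψ' ψ'' : ↥(P : Subgroup G) →* ℂˣ}
    (h : Rel P NP ψ ψ') (h' : Rel P NP ψ' ψ'') : Rel P NP ψ ψ'' := by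
  rw [rel_normalizer_iff] at h h' ⊢
  obtain ⟨n, hn⟩ := h
  obtain ⟨n', hn'⟩ := h'
  exact ⟨n' * n, by rw [dualTwist_mul, hn', hn]⟩

theorem Rel.ne_one {T : Subgroup G} (hTN : T ≤ NP) {ψ ψ' : ↥(P : Subgroup G) →* ℂˣ}
    (hr : Rel P T ψ ψ') (hψ : ψ ≠ 1) : ψ' ≠ 1 := by
  obtain ⟨m, hm⟩ := (rel_normalizer_iff P ψ ψ').mp (hr.mono P hTN)
  intro h1
  apply hψ
  rw [← hm, h1, dualTwist_triv]

include hP in
open scoped Classical in
/-- Every `T`-class of nonprincipal characters of `P` has `|T : C_G(P)|` elements. -/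
theorem card_rel_class (T : Subgroup G) (hTN : T ≤ NP)
    {ψ : ↥(P : Subgroup G) →* ℂˣ} (hψ : ψ ≠ 1) :
    (Finset.univ.filter (fun ψ' : ↥(P : Subgroup G) →* ℂˣ => Rel P T ψ ψ')).card =
      (CP).relIndex T := by
  have hfinT : Fintype ↥T := Fintype.ofFinite _
  let instT : MulDistribMulAction ↥T ↥(P : Subgroup G) :=
    MulDistribMulAction.compHom ↥(P : Subgroup G) (Subgroup.inclusion hTN)
  have hsmul : ∀ (n : ↥T) (y : ↥(P : Subgroup G)),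
      ((n • y : ↥(P : Subgroup G)) : G) = (n : G) * (y : G) * (n : G)⁻¹ := fun _ _ => rfl
  obtain ⟨S, hSdef⟩ : ∃ S : Subgroup ↥T, S = (CP).subgroupOf T := ⟨_, rfl⟩
  have hS : ∀ y : ↥(P : Subgroup G), y ≠ 1 → ∀ n : ↥T, n • y = y ↔ n ∈ S := by
    intro y hy n
    have hy1 : (y : G) ≠ 1 := fun h => hy (Subtype.ext h)
    rw [hSdef, Subgroup.mem_subgroupOf, mem_centralizer_iff_commute hP y.2 hy1]
    constructor
    · intro h
      have h' : (n : G) * (y : G) * (n : G)⁻¹ = (y : G) := by rw [← hsmul, h]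
      exact (mul_inv_eq_iff_eq_mul.mp h').symm
    · intro h
      apply Subtype.ext
      rw [hsmul]
      exact mul_inv_eq_iff_eq_mul.mpr h.eq.symm
  have h1 := card_dualRel_class S hS hψ
  have h2 := Subgroup.card_mul_index S
  have h3 : S.index = (CP).relIndex T := by rw [hSdef]; rfl
  have hfilter : (Finset.univ.filter (fun ψ' : ↥(P : Subgroup G) →* ℂˣ => Rel P T ψ ψ')) =
      (Finset.univ.filter (fun ψ' : ↥(P : Subgroup G) →* ℂˣ => dualRel ↥T ψ ψ')) := by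
    ext ψ'
    simp only [Finset.mem_filter, Finset.mem_univ, true_and]
    constructor
    · rintro ⟨n, hn, h⟩
      exact ⟨⟨n, hn⟩, fun y => h y ((⟨n, hn⟩ : ↥T) • y) (hsmul _ _)⟩
    · rintro ⟨n, h⟩
      refine ⟨(n : G), n.2, ?_⟩
      intro w w' hw
      have : w' = n • w := Subtype.ext (hw.trans (hsmul n w).symm)
      rw [this]
      exact h w
  rw [hfilter]
  have hSpos : 0 < Nat.card S := Nat.card_pos
  rw [← Nat.card_eq_fintype_card, ← h2, h3, mul_comm] at h1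
  exact Nat.eq_of_mul_eq_mul_left hSpos h1

open scoped Classical in
/-- `etaN` is invariant under `N_G(P)`. -/
theorem etaN_smul' (ψ₀ : ↥(P : Subgroup G) →* ℂˣ) (m : ↥NP) (y : ↥(P : Subgroup G)) :
    etaN P ψ₀ (m • y) = etaN P ψ₀ y := by
  unfold etaN
  apply Finset.sum_bij (fun ψ' _ => dualTwist m ψ')
  · intro ψ' hψ'
    simp only [Finset.mem_filter, Finset.mem_univ, true_and] at hψ' ⊢
    obtain ⟨k, rfl⟩ := hψ'
    exact ⟨k * m, dualTwist_mul k m ψ₀⟩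
  · intro a _ b _ hab
    have := congrArg (dualTwist m⁻¹) hab
    rwa [dualTwist_inv_cancel, dualTwist_inv_cancel] at this
  · intro ψ' hψ'
    simp only [Finset.mem_filter, Finset.mem_univ, true_and] at hψ' ⊢
    obtain ⟨k, rfl⟩ := hψ'
    refine ⟨dualTwist m⁻¹ (dualTwist k ψ₀), ⟨k * m⁻¹, dualTwist_mul k m⁻¹ ψ₀⟩, ?_⟩
    exact dualTwist_cancel_inv m _
  · intro ψ' _
    rw [dualTwist_apply]

include hP in
open scoped Classical in
theorem ssum (hM : IsPModular p M) (θ : IrrCharacter ↥CP) (hθ : θ ∈ Theta P)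
    {B : Set (IrrCharacter G)} (hind : IsInducedBlock M CP (blockOf M (θ : ↥CP → ℂ)) B)
    (Y : Finset (IrrCharacter G)) (ζ : (↥(P : Subgroup G) →* ℂˣ) → IrrCharacter G)
    (hYB : ∀ η ∈ Y, η ∈ B)
    (hζY : ∀ ψ : ↥(P : Subgroup G) →* ℂˣ, ψ ≠ 1 → ζ ψ ∈ Y)
    (hiff : ∀ ψ ψ' : ↥(P : Subgroup G) →* ℂˣ, ψ ≠ 1 → ψ' ≠ 1 →
      (ζ ψ = ζ ψ' ↔ ∃ n : G, n ∈ thetaStab P θ ∧
        ∀ w w' : ↥(P : Subgroup G), (w' : G) = n * (w : G) * n⁻¹ → ψ' w' = ψ w))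
    (hform : ∀ ψ : ↥(P : Subgroup G) →* ℂˣ, ψ ≠ 1 → ∀ y : ↥(P : Subgroup G), y ≠ 1 →
      fpart p CP (ζ ψ : G → ℂ) (θ : ↥CP → ℂ) (y : G) =
        ∑ᶠ ψ' ∈ {ψ' : ↥(P : Subgroup G) →* ℂˣ | ∃ n : G, n ∈ thetaStab P θ ∧
          ∀ w w' : ↥(P : Subgroup G), (w' : G) = n * (w : G) * n⁻¹ → ψ' w' = ψ w},
          ((ψ' y : ℂˣ) : ℂ))
    (hD : ∀ η ∈ Y, ∀ θ' ∈ Theta P, Dn P (η : G → ℂ) (θ' : ↥CP → ℂ) =
      if θ' ∈ MulAction.orbit ↥NP θ then (CP).relIndex (thetaStab P θ) else 0)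
    (ψ₀ : ↥(P : Subgroup G) →* ℂˣ) (hψ₀ : ψ₀ ≠ 1) :
    ∃ S : Finset (IrrCharacter G), ζ ψ₀ ∈ S ∧
      S.card * (CP).relIndex (thetaStab P θ) = (CP).relIndex NP ∧
      ((Theta P).filter (fun θ' => θ' ∈ MulAction.orbit ↥NP θ)).card *
        (CP).relIndex (thetaStab P θ) = (CP).relIndex NP ∧
      ∀ θ' ∈ Theta P, ∀ y : ↥(P : Subgroup G),
        fpart p CP (∑ η ∈ S, (η : G → ℂ)) (θ' : ↥CP → ℂ) (y : G) =
          if θ' ∈ MulAction.orbit ↥NP θ then etaN P ψ₀ y else 0 := by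
  obtain ⟨T, hTdef⟩ : ∃ T : Subgroup G, T = thetaStab P θ := ⟨_, rfl⟩
  rw [← hTdef] at hiff hform hD ⊢
  have hCT : CP ≤ T := hTdef ▸ centralizer_le_thetaStab P θ
  have hTN : T ≤ NP := hTdef ▸ thetaStab_le P θ
  have hCN : CP ≤ NP := Subgroup.centralizer_le_normalizer _
  have hθP := (mem_Theta P θ).mp hθ
  -- the fibres of `ζ`
  obtain ⟨Fib, hFibdef⟩ : ∃ Fib : IrrCharacter G → Finset (↥(P : Subgroup G) →* ℂˣ),
      Fib = fun η => Finset.univ.filter (fun ψ' => ψ' ≠ 1 ∧ ζ ψ' = η) := ⟨_, rfl⟩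
  have hFib : ∀ ψ : ↥(P : Subgroup G) →* ℂˣ, ψ ≠ 1 →
      Fib (ζ ψ) = Finset.univ.filter (fun ψ' => Rel P T ψ ψ') := by
    intro ψ hψ
    ext ψ'
    rw [hFibdef]
    simp only [Finset.mem_filter, Finset.mem_univ, true_and]
    constructor
    · rintro ⟨h1, h2⟩
      exact (hiff ψ ψ' hψ h1).mp h2.symm
    · intro h
      have h1 : ψ' ≠ 1 := Rel.ne_one P hTN h hψ
      exact ⟨h1, ((hiff ψ ψ' hψ h1).mpr h).symm⟩
  have hFibcard : ∀ ψ : ↥(P : Subgroup G) →* ℂˣ, ψ ≠ 1 → (Fib (ζ ψ)).card = (CP).relIndex T := by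
    intro ψ hψ
    rw [hFib ψ hψ]
    exact card_rel_class P hP T hTN hψ
  -- the formula for `fpart` at all `y`
  have hfp : ∀ ψ : ↥(P : Subgroup G) →* ℂˣ, ψ ≠ 1 → ∀ y : ↥(P : Subgroup G),
      fpart p CP (ζ ψ : G → ℂ) (θ : ↥CP → ℂ) (y : G) = ∑ ψ' ∈ Fib (ζ ψ), ((ψ' y : ℂˣ) : ℂ) := by
    intro ψ hψ y
    by_cases hy : y = 1
    · rw [hy, OneMemClass.coe_one, Dn_spec P hP (IsIrrCharacter.isCharacter (ζ ψ).2) θ hθ,
        hD (ζ ψ) (hζY ψ hψ) θ hθ, if_pos (MulAction.mem_orbit_self θ), ← hFibcard ψ hψ]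
      simp
    · rw [hform ψ hψ y hy, finsum_mem_eq_sum_filter_of_fintype, hFib ψ hψ]
      apply Finset.sum_congr _ (fun _ _ => rfl)
      ext ψ'
      simp only [Finset.mem_filter, Finset.mem_univ, true_and, Set.mem_ofPred_eq]
      rfl
  -- the `N`-orbit of `ψ₀` and the family `S`
  obtain ⟨Orb, hOrbdef⟩ : ∃ Orb : Finset (↥(P : Subgroup G) →* ℂˣ),
      Orb = Finset.univ.filter (fun ψ' : ↥(P : Subgroup G) →* ℂˣ =>
        ∃ m : ↥NP, dualTwist m ψ₀ = ψ') := ⟨_, rfl⟩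
  have hOrbmem : ∀ ψ' : ↥(P : Subgroup G) →* ℂˣ, ψ' ∈ Orb ↔ Rel P NP ψ' ψ₀ := by
    intro ψ'
    rw [hOrbdef, rel_normalizer_iff]
    simp
  have hOrbne : ∀ ψ' ∈ Orb, ψ' ≠ 1 := by
    intro ψ' hψ'
    exact Rel.ne_one P le_rfl ((hOrbmem ψ').mp hψ').symm hψ₀
  obtain ⟨S, hSdef⟩ : ∃ S : Finset (IrrCharacter G),
      S = Finset.univ.filter (fun η : IrrCharacter G => ∃ m : ↥NP, ζ (dualTwist m ψ₀) = η) :=
    ⟨_, rfl⟩
  have hSmem : ∀ η : IrrCharacter G, η ∈ S ↔ ∃ ψ ∈ Orb, ζ ψ = η := by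
    intro η
    rw [hSdef, hOrbdef]
    simp only [Finset.mem_filter, Finset.mem_univ, true_and]
    constructor
    · rintro ⟨m, hm⟩
      exact ⟨_, ⟨m, rfl⟩, hm⟩
    · rintro ⟨ψ, ⟨m, rfl⟩, hm⟩
      exact ⟨m, hm⟩
  have hmaps : ∀ ψ' ∈ Orb, ζ ψ' ∈ S := fun ψ' hψ' => (hSmem _).mpr ⟨ψ', hψ', rfl⟩
  have hFibOrb : ∀ η ∈ S, Orb.filter (fun ψ' => ζ ψ' = η) = Fib η := by
    intro η hη
    obtain ⟨ψ₁, hψ₁, rfl⟩ := (hSmem η).mp hη
    have hψ₁ne := hOrbne ψ₁ hψ₁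
    ext ψ'
    rw [hFibdef]
    simp only [Finset.mem_filter, Finset.mem_univ, true_and]
    constructor
    · rintro ⟨h1, h2⟩
      exact ⟨hOrbne ψ' h1, h2⟩
    · rintro ⟨h1, h2⟩
      refine ⟨?_, h2⟩
      have hr : Rel P T ψ₁ ψ' := (hiff ψ₁ ψ' hψ₁ne h1).mp h2.symm
      rw [hOrbmem]
      exact Rel.trans_normalizer P (hr.mono P hTN).symm ((hOrbmem ψ₁).mp hψ₁)
  have hpart : ∀ f : (↥(P : Subgroup G) →* ℂˣ) → ℂ,
      ∑ η ∈ S, ∑ ψ' ∈ Fib η, f ψ' = ∑ ψ' ∈ Orb, f ψ' := by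
    intro f
    rw [← Finset.sum_fiberwise_of_maps_to hmaps f]
    apply Finset.sum_congr rfl
    intro η hη
    rw [hFibOrb η hη]
  have hSY : ∀ η ∈ S, ∃ ψ : ↥(P : Subgroup G) →* ℂˣ, ψ ≠ 1 ∧ ζ ψ = η := by
    intro η hη
    obtain ⟨ψ₁, hψ₁, h⟩ := (hSmem η).mp hη
    exact ⟨ψ₁, hOrbne ψ₁ hψ₁, h⟩
  have hψ₀Orb : ψ₀ ∈ Orb := by
    rw [hOrbdef]
    simp only [Finset.mem_filter, Finset.mem_univ, true_and]
    exact ⟨1, dualTwist_one ψ₀⟩
  -- cardinalities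
  have hOrbcard : Orb.card = (CP).relIndex NP := by
    rw [← card_rel_class P hP NP le_rfl hψ₀]
    congr 1
    ext ψ'
    rw [hOrbmem]
    simp only [Finset.mem_filter, Finset.mem_univ, true_and]
    exact ⟨Rel.symm P, Rel.symm P⟩
  have hScard : S.card * (CP).relIndex T = (CP).relIndex NP := by
    rw [← hOrbcard, Finset.card_eq_sum_card_fiberwise hmaps, Finset.card_eq_sum_ones S,
      Finset.sum_mul]
    apply Finset.sum_congr rfl
    intro η hη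
    obtain ⟨ψ₁, hψ₁, rfl⟩ := hSY η hη
    rw [hFibOrb _ hη, hFibcard ψ₁ hψ₁, one_mul]
  -- the orbit of `θ`
  have horbTheta : (Theta P).filter (fun θ' => θ' ∈ MulAction.orbit ↥NP θ) =
      Finset.univ.filter (fun θ' : IrrCharacter ↥CP => θ' ∈ MulAction.orbit ↥NP θ) := by
    ext θ'
    simp only [Finset.mem_filter, Finset.mem_univ, true_and, and_iff_right_iff_imp]
    rintro ⟨n, rfl⟩
    rw [mem_Theta]
    exact smul_trivial_on P n θ hθP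
  have horbcard : ((Theta P).filter (fun θ' => θ' ∈ MulAction.orbit ↥NP θ)).card *
      (CP).relIndex T = (CP).relIndex NP := by
    rw [horbTheta]
    have hOc : (Finset.univ.filter
        (fun θ' : IrrCharacter ↥CP => θ' ∈ MulAction.orbit ↥NP θ)).card =
        (MulAction.orbit ↥NP θ).ncard := by
      rw [← Set.ncard_coe_finset]
      congr 1
      ext θ'
      simp
    have h1 : (MulAction.stabilizer ↥NP θ).index = (Finset.univ.filter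
        (fun θ' : IrrCharacter ↥CP => θ' ∈ MulAction.orbit ↥NP θ)).card := by
      rw [MulAction.index_stabilizer, hOc]
    have h2 := Subgroup.index_mul_card (MulAction.stabilizer ↥NP θ)
    rw [h1, card_stabilizer_eq, ← hTdef, card_eq_card_mul_relIndex hCT,
      card_eq_card_mul_relIndex hCN] at h2
    have hCpos : 0 < Nat.card ↥CP := Nat.card_pos
    apply Nat.eq_of_mul_eq_mul_right hCpos
    rw [← h2]
    ring
  -- the sum at `θ`
  have hsumθ : ∀ y : ↥(P : Subgroup G),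
      fpart p CP (∑ η ∈ S, (η : G → ℂ)) (θ : ↥CP → ℂ) (y : G) = etaN P ψ₀ y := by
    intro y
    rw [fpart_sum]
    have h1 : ∀ η ∈ S, fpart p CP (η : G → ℂ) (θ : ↥CP → ℂ) (y : G) =
        ∑ ψ' ∈ Fib η, ((ψ' y : ℂˣ) : ℂ) := by
      intro η hη
      obtain ⟨ψ₁, hψ₁, rfl⟩ := hSY η hη
      exact hfp ψ₁ hψ₁ y
    rw [Finset.sum_congr rfl h1, hpart, hOrbdef]
    unfold etaN
    apply Finset.sum_congr _ (fun _ _ => rfl)
    ext ψ'
    simp only [Finset.mem_filter, Finset.mem_univ, true_and]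
  have hcf : IsClassFunction G (∑ η ∈ S, (η : G → ℂ)) :=
    Cfsg.Agent.Lib.Helper78.isClassFunction_sum S _ (fun η _ => isClassFunction_irr η)
  refine ⟨S, hmaps ψ₀ hψ₀Orb, hScard, horbcard, ?_⟩
  intro θ' hθ' y
  by_cases horb : θ' ∈ MulAction.orbit ↥NP θ
  · rw [if_pos horb]
    obtain ⟨n, hn, rfl⟩ := (mem_orbit_iff P θ θ').mp horb
    rw [fpart_thetaConj P hcf n hn θ (y : G)]
    have hcoe : n * (y : G) * n⁻¹ = (((⟨n, hn⟩ : ↥NP) • y : ↥(P : Subgroup G)) : G) := rfl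
    rw [hcoe, hsumθ, etaN_smul']
  · rw [if_neg horb, fpart_sum]
    apply Finset.sum_eq_zero
    intro η hη
    obtain ⟨ψ₁, hψ₁, rfl⟩ := hSY η hη
    have hηY : ζ ψ₁ ∈ Y := hζY ψ₁ hψ₁
    by_cases hy : y = 1
    · rw [hy, OneMemClass.coe_one, Dn_spec P hP (IsIrrCharacter.isCharacter (ζ ψ₁).2) θ' hθ',
        hD (ζ ψ₁) hηY θ' hθ', if_neg horb]
      simp
    · have hy1 : (y : G) ≠ 1 := fun h => hy (Subtype.ext h)
      apply fpart_eq_zero_of_not_induced P hP hM y.2 hy1 hind.2.1 θ' _ (hYB _ hηY)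
      intro hind'
      apply horb
      exact mem_orbit_of_isInducedBlock P hM hP hind.2.1
        (pos_defect_of_induced P hM hP θ hθP hind) θ θ' hθP ((mem_Theta P θ').mp hθ') hind hind'

end Cfsg.Agent.Lib.Helper33.BH
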