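import Mathlib
import Cfsg.Agent.Lib.Helper66.BrauerNE1c

/-!
# S0996 module [VAN-N] (helper33, for helper79)

A character of `G` whose sum over a self-centralizing Sylow subgroup `P` of prime order vanishes
is zero on `N_G(P) ∖ P` (generalizes helper66's [E1c]; same proof through
`vanish_off_of_sum_eq_zero`).
-/

set_option autoImplicit false
set_option linter.unusedSectionVars false
set_option linter.unusedVariables false

namespace Cfsg.Agent.Lib.Helper33.Brauer96

open Cfsg
open scoped ComplexConjugate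

theorem vanish_on_normalizer_of_sum_eq_zero {G : Type*} [Group G] [Finite G] {p : ℕ}
    [Fact p.Prime] (P : Sylow p G) (hPcard : Nat.card (P : Subgroup G) = p)
    (hcent : ∀ x : G, x ∈ (P : Subgroup G) → x ≠ 1 →
      Subgroup.centralizer ({x} : Set G) = (P : Subgroup G))
    {ψ : G → ℂ} (hψ : IsCharacter G ψ)
    (hsum : ∑ᶠ x ∈ ((P : Subgroup G) : Set G), ψ x = 0)
    {y : G} (hy : y ∈ Subgroup.normalizer ((P : Subgroup G) : Set G))
    (hyP : y ∉ (P : Subgroup G)) : ψ y = 0 := by
  classical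
  have : Fintype G := Fintype.ofFinite G
  obtain ⟨N, hN⟩ : ∃ N : Subgroup G, N = Subgroup.normalizer ((P : Subgroup G) : Set G) :=
    ⟨_, rfl⟩
  have hPN : (P : Subgroup G) ≤ N := hN ▸ Subgroup.le_normalizer
  have hfN : Fintype N := Fintype.ofFinite N
  obtain ⟨P', hP'⟩ : ∃ P' : Subgroup N, P' = (P : Subgroup G).subgroupOf N := ⟨_, rfl⟩
  have hmemP' : ∀ n : N, n ∈ P' ↔ (n : G) ∈ (P : Subgroup G) := by
    intro n
    rw [hP', Subgroup.mem_subgroupOf]
  have hnorm : P'.Normal := by
    rw [hP', hN]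
    exact Subgroup.normal_in_normalizer
  have hfP' : Fintype P' := Fintype.ofFinite P'
  have hC : ∀ n ∈ P', n ≠ 1 → Subgroup.centralizer ({n} : Set N) ≤ P' := by
    intro n hn hn1 c hc
    rw [hmemP'] at hn ⊢
    have hn1' : (n : G) ≠ 1 := fun h => hn1 (Subtype.ext h)
    rw [← hcent (n : G) hn hn1', Subgroup.mem_centralizer_iff]
    intro z hz
    rw [Set.mem_singleton_iff] at hz
    subst hz
    have := Subgroup.mem_centralizer_iff.mp hc n (Set.mem_singleton n)
    exact congrArg Subtype.val this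
  have hψN : IsCharacter N (fun n : N => ψ n) := Cfsg.Agent.Lib.Helper75.isCharacter_res N hψ
  -- the sum over `P'`
  have hsum' : ∑ u : P', ψ ((u : N) : G) = 0 := by
    rw [← hsum, finsum_mem_eq_finite_toFinset_sum _ (Set.toFinite _)]
    symm
    apply Finset.sum_bij (fun (x : G) (hx : x ∈ (Set.toFinite ((P : Subgroup G) : Set G)).toFinset) =>
      (⟨⟨x, hPN ((Set.Finite.mem_toFinset _).mp hx)⟩,
        (hmemP' _).mpr ((Set.Finite.mem_toFinset _).mp hx)⟩ : P'))
    · intro x _
      exact Finset.mem_univ _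
    · intro x _ x' _ h
      exact congrArg (fun u : P' => ((u : N) : G)) h
    · intro u _
      refine ⟨((u : N) : G), ?_, ?_⟩
      · exact (Set.Finite.mem_toFinset _).mpr ((hmemP' (u : N)).mp u.2)
      · rfl
    · intro x _
      rfl
  have hy' : y ∈ N := hN ▸ hy
  have hyP' : (⟨y, hy'⟩ : N) ∉ P' := by
    rw [hmemP']
    exact hyP
  exact Cfsg.Agent.Lib.Helper66.BrauerNE1c.vanish_off_of_sum_eq_zero P' hC
    (fun n : N => ψ n) hψN hsum' hyP'

end Cfsg.Agent.Lib.Helper33.Brauer96
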