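import Mathlib
import Cfsg.Prelude.Def_PLocal
import Cfsg.Prelude.Def_LocalEven
import Cfsg.Agent.Lib.Helper10.PStableZJ
import Cfsg.Agent.Lib.Helper33.StabChain

/-!
# A strongly closed subgroup above a non-centric normal `p`-subgroup (helper33)

`G` finite, `p ≥ 5`, `G` `p`-stable in the normalizer form, `Q` a normal `p`-subgroup, `S` a Sylow
`p`-subgroup with `C_S(Q) ≰ Q`.  Then `C = C_G(Q)` is `p`-stable, `C / Z(Q)` is `p`-stable
(helper10's `isNormalizerPStable_quotient_of_hyper`), so by helper10's `ZJ`-theorem the normalizer of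
`ZJ(T / Z(Q))` controls strong fusion in `C / Z(Q)` (`T = C_S(Q)`).  The preimage `Y` of `ZJ(T / Z(Q))`
in `T` is strongly closed in `S` with respect to `G` (Frattini), `[Y, Y] ≤ Z(Q)` and `Y ≰ Q`.
-/

set_option autoImplicit false
set_option linter.unusedSectionVars false
set_option linter.style.haveILetI false
open Cfsg

namespace Cfsg.Agent.Lib.Helper33

open Cfsg.Agent.Lib.Helper11 Cfsg.Agent.Lib.Helper10
open scoped commutatorElement

universe u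

theorem centerThompsonAOf_eq_zj {G : Type*} [Group G] [Finite G] (D : Subgroup G) :
    centerThompsonAOf D = zj D := Cfsg.Agent.S0653.centerThompsonAOf_eq_famInf D

theorem centerThompsonAOf_comm {G : Type*} [Group G] (D : Subgroup G) :
    ∀ a ∈ centerThompsonAOf D, ∀ b ∈ centerThompsonAOf D, a * b = b * a := by
  intro a ha b hb
  unfold centerThompsonAOf at ha hb
  have h1 := (Subgroup.mem_inf.mp ha).1
  have h2 := (Subgroup.mem_inf.mp hb).2
  exact ((Subgroup.mem_centralizer_iff.mp h2) a h1)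

theorem exists_stronglyClosed_of_not_centric {G : Type u} [Group G] [Finite G] {p : ℕ}
    [Fact p.Prime] (hp5 : 5 ≤ p) (hst : IsNormalizerPStable p G)
    (Q : Subgroup G) [hQn : Q.Normal] (hQp : IsPGroup p Q) (S : Sylow p G)
    (hnc : ¬ (S : Subgroup G) ⊓ Subgroup.centralizer (Q : Set G) ≤ Q) :
    ∃ Y : Subgroup G, Y ≤ S ∧ Y ≤ Subgroup.centralizer (Q : Set G) ∧
      Q ⊓ Subgroup.centralizer (Q : Set G) ≤ Y ∧ ¬ Y ≤ Q ∧ ⁅Y, Y⁆ ≤ Q ∧
      ∀ y ∈ Y, ∀ g : G, g * y * g⁻¹ ∈ (S : Subgroup G) → g * y * g⁻¹ ∈ Y := by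
  classical
  obtain ⟨C, hC⟩ : ∃ C : Subgroup G, C = Subgroup.centralizer (Q : Set G) := ⟨_, rfl⟩
  haveI hCn : C.Normal := by rw [hC]; infer_instance
  rw [← hC] at hnc ⊢
  have hCmem : ∀ c ∈ C, ∀ q ∈ Q, q * c = c * q := by
    intro c hc q hq
    rw [hC] at hc
    exact (Subgroup.mem_centralizer_iff.mp hc) q hq
  -- the group `↥C` and its central subgroup `ZH`
  obtain ⟨ZH, hZH⟩ : ∃ ZH : Subgroup C, ZH = Q.subgroupOf C := ⟨_, rfl⟩
  haveI hZn : ZH.Normal := by rw [hZH]; infer_instance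
  have hZp : IsPGroup p ZH := by rw [hZH]; exact hQp.comap_subtype
  have hZmem : ∀ z : C, z ∈ ZH ↔ (z : G) ∈ Q := by
    intro z; rw [hZH, Subgroup.mem_subgroupOf]
  have hZc : ∀ y : C, y ∈ Subgroup.centralizer (ZH : Set C) := by
    intro y
    rw [Subgroup.mem_centralizer_iff]
    intro z hz
    exact Subtype.ext (hCmem y y.2 z ((hZmem z).mp hz))
  have hstH : IsNormalizerPStable p C := Cfsg.Agent.S3836.result hst C
  have hstq : IsNormalizerPStable p (C ⧸ ZH) :=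
    isNormalizerPStable_quotient_of_hyper hp5 hstH ZH hZp (fun y _ => hZc y)
  -- Sylow subgroups
  have hT : SylIn p ((S : Subgroup G) ⊓ C) C :=
    (sylIn_top S).inf_of_normal le_top (by rw [Subgroup.normalizer_eq_top_iff.mpr hCn])
  obtain ⟨TH, hTH⟩ : ∃ TH : Sylow p C,
      (TH : Subgroup C) = ((S : Subgroup G) ⊓ C).subgroupOf C := ⟨hT.toSylow, hT.coe_toSylow⟩
  have hTHmem : ∀ t : C, t ∈ (TH : Subgroup C) ↔ (t : G) ∈ (S : Subgroup G) := by
    intro t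
    rw [hTH, Subgroup.mem_subgroupOf, Subgroup.mem_inf]
    exact ⟨fun h => h.1, fun h => ⟨h, t.2⟩⟩
  have hπs : Function.Surjective (QuotientGroup.mk' ZH) := QuotientGroup.mk'_surjective ZH
  obtain ⟨π, hπ⟩ : ∃ π : C →* C ⧸ ZH, π = QuotientGroup.mk' ZH := ⟨_, rfl⟩
  have hπker : ∀ x : C, π x = 1 ↔ x ∈ ZH := by
    intro x; rw [hπ]; exact QuotientGroup.eq_one_iff x
  obtain ⟨Tb, hTb⟩ : ∃ Tb : Sylow p (C ⧸ ZH),
      (Tb : Subgroup (C ⧸ ZH)) = (TH : Subgroup C).map π :=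
    ⟨TH.mapSurjective hπs, by rw [hπ]; exact Sylow.coe_mapSurjective hπs TH⟩
  have hctl := controlsStrongFusionOf_zj_of_pstable hp5 hstq Tb
  obtain ⟨Yb, hYb⟩ : ∃ Yb : Subgroup (C ⧸ ZH),
      Yb = centerThompsonAOf (Tb : Subgroup (C ⧸ ZH)) := ⟨_, rfl⟩
  rw [← hYb] at hctl
  have hYbT : Yb ≤ Tb := by rw [hYb, centerThompsonAOf_eq_zj]; exact zj_le _
  have hYbcomm : ∀ a ∈ Yb, ∀ b ∈ Yb, a * b = b * a := by
    rw [hYb]; exact centerThompsonAOf_comm _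
  -- the subgroup `Y`
  obtain ⟨Y, hY⟩ : ∃ Y : Subgroup G, Y = ((TH : Subgroup C) ⊓ Yb.comap π).map C.subtype := ⟨_, rfl⟩
  have hYmem : ∀ y : G, y ∈ Y ↔ ∃ hy : y ∈ C, y ∈ (S : Subgroup G) ∧ π ⟨y, hy⟩ ∈ Yb := by
    intro y
    rw [hY]
    constructor
    · rintro ⟨y', hy', rfl⟩
      obtain ⟨h1, h2⟩ := Subgroup.mem_inf.mp hy'
      exact ⟨y'.2, (hTHmem y').mp h1, h2⟩
    · rintro ⟨hy, hyS, hyb⟩
      exact ⟨⟨y, hy⟩, Subgroup.mem_inf.mpr ⟨(hTHmem _).mpr hyS, hyb⟩, rfl⟩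
  -- invariance under `N_G(S ∩ C)`
  have hinv : ∀ n ∈ Subgroup.normalizer (((S : Subgroup G) ⊓ C : Subgroup G) : Set G),
      ∀ y ∈ Y, n * y * n⁻¹ ∈ Y := by
    intro n hn y hy
    obtain ⟨hyC, hyS, hyb⟩ := (hYmem y).mp hy
    obtain ⟨σ, hσ⟩ : ∃ σ : MulAut C, σ = MulAut.conjNormal n := ⟨_, rfl⟩
    have hσv : ∀ x : C, ((σ x : C) : G) = n * x * n⁻¹ := by
      intro x; rw [hσ]; exact MulAut.conjNormal_apply n x
    have hσsymm : ∀ x : C, ((σ.symm x : C) : G) = n⁻¹ * x * n := by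
      intro x
      have h1 := hσv (σ.symm x)
      rw [MulEquiv.apply_symm_apply] at h1
      rw [h1]; group
    have hσZ : ZH.map σ.toMonoidHom = ZH := by
      apply le_antisymm
      · rintro _ ⟨z, hz, rfl⟩
        rw [hZmem]
        show ((σ z : C) : G) ∈ Q
        rw [hσv]
        exact hQn.conj_mem _ ((hZmem z).mp hz) n
      · intro z hz
        refine ⟨σ.symm z, ?_, by simp⟩
        rw [SetLike.mem_coe, hZmem, hσsymm]
        have := hQn.conj_mem _ ((hZmem z).mp hz) n⁻¹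
        rwa [inv_inv] at this
    have hnS : ∀ x : G, x ∈ (S : Subgroup G) ⊓ C → n * x * n⁻¹ ∈ (S : Subgroup G) ⊓ C :=
      fun x hx => (Subgroup.mem_normalizer_iff.mp hn x).mp hx
    have hnS' : ∀ x : G, x ∈ (S : Subgroup G) ⊓ C → n⁻¹ * x * n ∈ (S : Subgroup G) ⊓ C := by
      intro x hx
      have := (Subgroup.mem_normalizer_iff.mp (Subgroup.inv_mem _ hn) x).mp hx
      rwa [inv_inv] at this
    have hσT : (TH : Subgroup C).map σ.toMonoidHom = TH := by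
      apply le_antisymm
      · rintro _ ⟨t, ht, rfl⟩
        rw [hTHmem]
        show ((σ t : C) : G) ∈ (S : Subgroup G)
        rw [hσv]
        exact (hnS t ⟨(hTHmem t).mp ht, t.2⟩).1
      · intro t ht
        refine ⟨σ.symm t, ?_, by simp⟩
        rw [SetLike.mem_coe, hTHmem, hσsymm]
        exact (hnS' t ⟨(hTHmem t).mp ht, t.2⟩).1
    obtain ⟨σb, hσb⟩ : ∃ σb : C ⧸ ZH ≃* C ⧸ ZH, ∀ x : C, σb (π x) = π (σ x) := by
      refine ⟨QuotientGroup.congr ZH ZH σ hσZ, fun x => ?_⟩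
      rw [hπ]; rfl
    have hTbσ : (Tb : Subgroup (C ⧸ ZH)).map σb.toMonoidHom = Tb := by
      rw [hTb, Subgroup.map_map]
      have e : σb.toMonoidHom.comp π = π.comp σ.toMonoidHom := by
        ext x; exact hσb x
      rw [e, ← Subgroup.map_map, hσT]
    have hYbσ : Yb.map σb.toMonoidHom = Yb := by
      rw [hYb, centerThompsonAOf_eq_zj, ← zj_map σb.toMonoidHom _ (σb.injective.injOn), hTbσ]
    refine (hYmem _).mpr ⟨hCn.conj_mem y hyC n, ?_, ?_⟩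
    · exact (hnS y ⟨hyS, hyC⟩).1
    · have h1 : (⟨n * y * n⁻¹, hCn.conj_mem y hyC n⟩ : C) = σ ⟨y, hyC⟩ :=
        Subtype.ext (hσv ⟨y, hyC⟩).symm
      rw [h1, ← hσb, ← hYbσ]
      exact Subgroup.mem_map_of_mem _ hyb
  -- Frattini
  have hfrat : ∀ g : G, ∃ n ∈ Subgroup.normalizer (((S : Subgroup G) ⊓ C : Subgroup G) : Set G),
      ∃ c ∈ C, g = n * c := by
    intro g
    have h1 := Sylow.normalizer_sup_eq_top TH
    have h2 : (TH : Subgroup C).map C.subtype = (S : Subgroup G) ⊓ C := by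
      rw [hTH, Subgroup.subgroupOf_map_subtype, inf_assoc, inf_idem]
    rw [h2] at h1
    have h3 : g ∈ ((Subgroup.normalizer (((S : Subgroup G) ⊓ C : Subgroup G) : Set G) ⊔ C :
        Subgroup G) : Set G) := by rw [h1]; trivial
    rw [Subgroup.mul_normal] at h3
    obtain ⟨n, hn, c, hc, rfl⟩ := Set.mem_mul.mp h3
    exact ⟨n, hn, c, hc, rfl⟩
  refine ⟨Y, ?_, ?_, ?_, ?_, ?_, ?_⟩
  · intro y hy
    exact ((hYmem y).mp hy).2.1
  · intro y hy
    exact ((hYmem y).mp hy).1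
  · intro z hz
    have hQS : Q ≤ (S : Subgroup G) :=
      (Cfsg.Agent.Lib.Helper76.le_pCore p Q hQn hQp).trans
        (Cfsg.Agent.Lib.Helper76.pCore_le_sylow p S)
    refine (hYmem z).mpr ⟨hz.2, hQS hz.1, ?_⟩
    have : π ⟨z, hz.2⟩ = 1 := (hπker _).mpr ((hZmem _).mpr hz.1)
    rw [this]
    exact Yb.one_mem
  · -- `Y ≰ Q`
    intro hYQ
    have hTbne : (Tb : Subgroup (C ⧸ ZH)) ≠ ⊥ := by
      intro hbot
      apply hnc
      intro x hx
      have hxT : (⟨x, hx.2⟩ : C) ∈ (TH : Subgroup C) := (hTHmem _).mpr hx.1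
      have h1 : π ⟨x, hx.2⟩ ∈ (Tb : Subgroup (C ⧸ ZH)) := by
        rw [hTb]; exact Subgroup.mem_map_of_mem _ hxT
      rw [hbot, Subgroup.mem_bot, hπker, hZmem] at h1
      exact h1
    have hYbne : Yb ≠ ⊥ := by
      rw [hYb, centerThompsonAOf_eq_zj]
      exact zj_ne_bot _ Tb.isPGroup' hTbne
    obtain ⟨⟨yb, hyb⟩, hne⟩ := Subgroup.ne_bot_iff_exists_ne_one.mp hYbne
    have hyb1 : yb ≠ 1 := fun e => hne (Subtype.ext e)
    have hybT := hYbT hyb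
    rw [hTb] at hybT
    obtain ⟨t, ht, rfl⟩ := hybT
    have htY : (t : G) ∈ Y := (hYmem _).mpr ⟨t.2, (hTHmem t).mp ht, hyb⟩
    apply hyb1
    rw [hπker, hZmem]
    exact hYQ htY
  · -- `[Y, Y] ≤ Q`
    rw [Subgroup.commutator_le]
    intro a ha b hb
    obtain ⟨haC, -, hab⟩ := (hYmem a).mp ha
    obtain ⟨hbC, -, hbb⟩ := (hYmem b).mp hb
    have h1 : π ⁅(⟨a, haC⟩ : C), ⟨b, hbC⟩⁆ = 1 := by
      rw [map_commutatorElement, commutatorElement_eq_one_iff_mul_comm]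
      exact hYbcomm _ hab _ hbb
    rw [hπker, hZmem] at h1
    exact h1
  · -- strongly closed
    intro y hy g hg
    obtain ⟨hyC, hyS, hyb⟩ := (hYmem y).mp hy
    obtain ⟨n, hn, c, hc, rfl⟩ := hfrat g
    have hgC : n * c * y * (n * c)⁻¹ ∈ C := hCn.conj_mem y hyC _
    have hcy : c * y * c⁻¹ ∈ (S : Subgroup G) ⊓ C := by
      have h1 := (Subgroup.mem_normalizer_iff.mp (Subgroup.inv_mem _ hn) _).mp
        (Subgroup.mem_inf.mpr ⟨hg, hgC⟩)
      have e : n⁻¹ * (n * c * y * (n * c)⁻¹) * n⁻¹⁻¹ = c * y * c⁻¹ := by group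
      rwa [e] at h1
    have hcyY : c * y * c⁻¹ ∈ Y := by
      refine (hYmem _).mpr ⟨hcy.2, hcy.1, ?_⟩
      have hA : ({π ⟨y, hyC⟩} : Set (C ⧸ ZH)) ⊆ (Tb : Subgroup (C ⧸ ZH)) := by
        rintro _ rfl; exact hYbT hyb
      have himg : (fun a => π ⟨c, hc⟩ * a * (π ⟨c, hc⟩)⁻¹) '' ({π ⟨y, hyC⟩} : Set (C ⧸ ZH)) ⊆
          (Tb : Subgroup (C ⧸ ZH)) := by
        rintro _ ⟨_, rfl, rfl⟩
        have h1 : (⟨c, hc⟩ * ⟨y, hyC⟩ * (⟨c, hc⟩ : C)⁻¹ : C) ∈ (TH : Subgroup C) :=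
          (hTHmem _).mpr hcy.1
        have h2 := Subgroup.mem_map_of_mem π h1
        rw [← hTb, map_mul, map_mul, map_inv] at h2
        exact h2
      obtain ⟨x, hx, hxa⟩ := (hctl _ hA).2 (π ⟨c, hc⟩) himg
      have h1 := hxa _ rfl
      have h2 : x * π ⟨y, hyC⟩ * x⁻¹ ∈ Yb := (Subgroup.mem_normalizer_iff.mp hx _).mp hyb
      rw [← h1] at h2
      have e : (⟨c * y * c⁻¹, hcy.2⟩ : C) = ⟨c, hc⟩ * ⟨y, hyC⟩ * (⟨c, hc⟩ : C)⁻¹ := rfl
      rw [e, map_mul, map_mul, map_inv]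
      exact h2
    have := hinv n hn _ hcyY
    have e : n * (c * y * c⁻¹) * n⁻¹ = n * c * y * (n * c)⁻¹ := by group
    rwa [e] at this

end Cfsg.Agent.Lib.Helper33
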