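import Mathlib

/-!
# S1329-[FIXDER] (helper55's project S1329)

If `A` acts coprimely on `Y` with `⁅Y, A⁆ = Y` then `C_Y(A) ≤ Y'` (norm map on `Y / Y'`).
-/

set_option autoImplicit false
set_option linter.unusedSectionVars false
set_option linter.style.haveILetI false

namespace Cfsg.Agent.Lib.Helper33.CFG

open scoped commutatorElement

section
variable {G : Type*} [Group G] (A Y : Subgroup G) (hAY : A ≤ Subgroup.normalizer (Y : Set G))

/-- conjugation by `a ∈ A` on `Y`. -/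
def conjOn (hAY : A ≤ Subgroup.normalizer (Y : Set G)) (a : A) : Y →* Y where
  toFun y := ⟨(a : G) * y * (a : G)⁻¹, ((Subgroup.mem_normalizer_iff.1 (hAY a.2)) y).1 y.2⟩
  map_one' := by
    apply Subtype.ext
    simp
  map_mul' x y := by
    apply Subtype.ext
    simp [mul_assoc]

theorem conjOn_coe (a : A) (y : Y) : ((conjOn A Y hAY a y : Y) : G) = (a : G) * y * (a : G)⁻¹ := rfl

theorem conjOn_mul (a b : A) (y : Y) : conjOn A Y hAY a (conjOn A Y hAY b y) = conjOn A Y hAY (a * b) y := by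
  apply Subtype.ext
  simp only [conjOn_coe, Subgroup.coe_mul, mul_inv_rev, mul_assoc]

end

theorem fixed_le_derived {G : Type*} [Group G] [Finite G] (A Y : Subgroup G)
    (hAY : A ≤ Subgroup.normalizer (Y : Set G))
    (hcop : (Nat.card A).Coprime (Nat.card Y)) (hYA : ⁅Y, A⁆ = Y) :
    Y ⊓ Subgroup.centralizer (A : Set G) ≤ ⁅Y, Y⁆ := by
  classical
  haveI : Fintype A := Fintype.ofFinite A
  let τ : Y →* Abelianization Y := Abelianization.of
  -- the norm map
  let ν : Y →* Abelianization Y := ∏ a : A, τ.comp (conjOn A Y hAY a)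
  have hν : ∀ y : Y, ν y = ∏ a : A, τ (conjOn A Y hAY a y) := by
    intro y
    simp only [ν, MonoidHom.finsetProd_apply, MonoidHom.comp_apply]
  -- invariance
  have hinv : ∀ (b : A) (y : Y), ν (conjOn A Y hAY b y) = ν y := by
    intro b y
    rw [hν, hν]
    refine Fintype.prod_equiv (Equiv.mulRight b) _ _ (fun a => ?_)
    rw [conjOn_mul]
    rfl
  -- `ν` kills commutators
  have hcomm : ∀ y : Y, ∀ a : A, ∀ h : ⁅(y : G), (a : G)⁆ ∈ Y, ν ⟨⁅(y : G), (a : G)⁆, h⟩ = 1 := by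
    intro y a h
    have : (⟨⁅(y : G), (a : G)⁆, h⟩ : Y) = y * (conjOn A Y hAY a y)⁻¹ := by
      apply Subtype.ext
      simp only [Subgroup.coe_mul, Subgroup.coe_inv, conjOn_coe, commutatorElement_def, mul_inv_rev,
        inv_inv, mul_assoc]
    rw [this, map_mul, map_inv, hinv, mul_inv_cancel]
  -- `ν = 1`
  have hle : Y ≤ (ν.ker).map Y.subtype := by
    conv_lhs => rw [← hYA]
    rw [Subgroup.commutator_le]
    intro y hy a ha
    have hmem : ⁅y, a⁆ ∈ Y := by
      rw [commutatorElement_def]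
      have h1 : a * y⁻¹ * a⁻¹ ∈ Y := ((Subgroup.mem_normalizer_iff.1 (hAY ha)) y⁻¹).1 (Y.inv_mem hy)
      have : y * a * y⁻¹ * a⁻¹ = y * (a * y⁻¹ * a⁻¹) := by group
      rw [this]
      exact Y.mul_mem hy h1
    exact ⟨⟨⁅y, a⁆, hmem⟩, hcomm ⟨y, hy⟩ ⟨a, ha⟩ hmem, rfl⟩
  have hν1 : ∀ y : Y, ν y = 1 := by
    intro y
    obtain ⟨z, hz, hzy⟩ := hle y.2
    have : z = y := Subtype.ext hzy
    rw [← this]
    exact hz
  -- the fixed points
  intro x hx
  obtain ⟨hxY, hxC⟩ := hx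
  have hfix : ∀ a : A, conjOn A Y hAY a ⟨x, hxY⟩ = ⟨x, hxY⟩ := by
    intro a
    apply Subtype.ext
    rw [conjOn_coe]
    have := hxC (a : G) a.2
    rw [this, mul_inv_cancel_right]
  have h1 : (τ ⟨x, hxY⟩) ^ (Nat.card A) = 1 := by
    have := hν1 ⟨x, hxY⟩
    rw [hν] at this
    simp only [hfix] at this
    rw [Finset.prod_const, Finset.card_univ, ← Nat.card_eq_fintype_card] at this
    exact this
  have h2 : (τ ⟨x, hxY⟩) ^ (Nat.card Y) = 1 := by
    rw [← map_pow, pow_card_eq_one', map_one]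
  have h3 : τ ⟨x, hxY⟩ = 1 := by
    have hd1 := orderOf_dvd_of_pow_eq_one h1
    have hd2 := orderOf_dvd_of_pow_eq_one h2
    have := Nat.dvd_gcd hd1 hd2
    rw [hcop.gcd_eq_one, Nat.dvd_one, orderOf_eq_one_iff] at this
    exact this
  have h4 : (⟨x, hxY⟩ : Y) ∈ commutator Y := by
    rw [← Abelianization.ker_of]
    exact h3
  rw [← Subgroup.map_subtype_commutator]
  exact ⟨_, h4, rfl⟩

end Cfsg.Agent.Lib.Helper33.CFG
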