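import Mathlib
import Cfsg.Agent.Lib.Helper55.CfgDefs
import Cfsg.Agent.Lib.Helper33.CfgFixDer
import Cfsg.Agent.S0055
import Cfsg.Agent.S3734

/-!
# S1329-[CASEC] (helper55's project S1329): `case_noncentral`

The non-central minimal normal subgroup case of Theorem T.
-/

set_option autoImplicit false
set_option linter.unusedSectionVars false
set_option linter.style.haveILetI false

namespace Cfsg.Agent.Lib.Helper33.CFG

open Cfsg.Agent.Lib.Helper55.CFG
open scoped commutatorElement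

section lemmas
variable {G : Type*} [Group G]

/-- a subgroup normalizing `H₁` and `H₂` normalizes `⁅H₁, H₂⁆` -/
theorem le_normalizer_commutator {A H₁ H₂ : Subgroup G}
    (h₁ : A ≤ Subgroup.normalizer (H₁ : Set G)) (h₂ : A ≤ Subgroup.normalizer (H₂ : Set G)) :
    A ≤ Subgroup.normalizer ((⁅H₁, H₂⁆ : Subgroup G) : Set G) := by
  intro a ha
  rw [Subgroup.mem_normalizer_iff_map_conj_eq, Subgroup.map_commutator,
    Subgroup.mem_normalizer_iff_map_conj_eq.1 (h₁ ha),
    Subgroup.mem_normalizer_iff_map_conj_eq.1 (h₂ ha)]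

/-- a subgroup normalizing `X` and `Y` normalizes `X ⊔ Y` -/
theorem le_normalizer_sup' {A X Y : Subgroup G}
    (h₁ : A ≤ Subgroup.normalizer (X : Set G)) (h₂ : A ≤ Subgroup.normalizer (Y : Set G)) :
    A ≤ Subgroup.normalizer ((X ⊔ Y : Subgroup G) : Set G) := by
  intro a ha
  rw [Subgroup.mem_normalizer_iff_map_conj_eq, Subgroup.map_sup,
    Subgroup.mem_normalizer_iff_map_conj_eq.1 (h₁ ha),
    Subgroup.mem_normalizer_iff_map_conj_eq.1 (h₂ ha)]

/-- `⁅H, K⁆ ≤ H` if `K` normalizes `H` -/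
theorem commutator_le_of_le_normalizer {H K : Subgroup G}
    (h : K ≤ Subgroup.normalizer (H : Set G)) : ⁅H, K⁆ ≤ H := by
  rw [Subgroup.commutator_le]
  intro x hx k hk
  rw [commutatorElement_def]
  have h1 : k * x⁻¹ * k⁻¹ ∈ H := ((Subgroup.mem_normalizer_iff.1 (h hk)) x⁻¹).1 (H.inv_mem hx)
  have : x * k * x⁻¹ * k⁻¹ = x * (k * x⁻¹ * k⁻¹) := by group
  rw [this]
  exact H.mul_mem hx h1

/-- conjugates of elements of `⁅L, A⁆` by elements of `L` -/
theorem conj_mem_commutator_left (L A : Subgroup G) {x w : G} (hx : x ∈ L) (hw : w ∈ ⁅L, A⁆) :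
    x * w * x⁻¹ ∈ ⁅L, A⁆ := by
  have hle : ⁅L, A⁆ ≤ (⁅L, A⁆).comap (MulAut.conj x).toMonoidHom := by
    rw [Subgroup.commutator_le]
    intro y hy a ha
    rw [Subgroup.mem_comap]
    change x * ⁅y, a⁆ * x⁻¹ ∈ ⁅L, A⁆
    have : x * ⁅y, a⁆ * x⁻¹ = ⁅x * y, a⁆ * ⁅x, a⁆⁻¹ := by
      simp only [commutatorElement_def]; group
    rw [this]
    exact Subgroup.mul_mem _ (Subgroup.commutator_mem_commutator (L.mul_mem hx hy) ha)
      (Subgroup.inv_mem _ (Subgroup.commutator_mem_commutator hx ha))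
  exact hle hw

/-- `⁅L, ⁅L, A⁆⁆ ≤ ⁅L, A⁆` -/
theorem commutator_commutator_le (L A : Subgroup G) : ⁅L, ⁅L, A⁆⁆ ≤ ⁅L, A⁆ := by
  rw [Subgroup.commutator_le]
  intro x hx w hw
  rw [commutatorElement_def]
  have := conj_mem_commutator_left L A hx hw
  exact Subgroup.mul_mem _ this (Subgroup.inv_mem _ hw)

end lemmas


section main
variable {G : Type*} [Group G] [Finite G]

/-- the subgroup of `Y` of the elements `g` with `⁅n, g⁆ ∈ W` for all `n ∈ N` -/
def commInto (Y N W : Subgroup G) (hNn : Y ≤ Subgroup.normalizer (N : Set G)) (hWN : W ≤ N) :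
    Subgroup G where
  carrier := {g | g ∈ Y ∧ ∀ n ∈ N, ⁅n, g⁆ ∈ W}
  one_mem' := ⟨Y.one_mem, fun n _ => by simp [commutatorElement_def, W.one_mem]⟩
  mul_mem' := by
    rintro g h ⟨hgY, hg⟩ ⟨hhY, hh⟩
    refine ⟨Y.mul_mem hgY hhY, fun n hn => ?_⟩
    have hm : ⁅n, h⁆ ∈ W := hh n hn
    have e : ⁅n, g * h⁆ = ⁅n, g⁆ * (⁅⁅n, h⁆, g⁆)⁻¹ * ⁅n, h⁆ := by
      simp only [commutatorElement_def]; group
    rw [e]
    exact W.mul_mem (W.mul_mem (hg n hn) (W.inv_mem (hg _ (hWN hm)))) hm
  inv_mem' := by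
    rintro g ⟨hgY, hg⟩
    refine ⟨Y.inv_mem hgY, fun n hn => ?_⟩
    have hn' : g⁻¹ * n * g ∈ N := ((Subgroup.mem_normalizer_iff''.1 (hNn hgY)) n).1 hn
    have e : ⁅n, g⁻¹⁆ = (⁅g⁻¹ * n * g, g⁆)⁻¹ := by
      simp only [commutatorElement_def]; group
    rw [e]
    exact W.inv_mem (hg _ hn')

theorem case_noncentral (A Y N : Subgroup G)
    (hAab : IsMulCommutative A) (hAY : A ≤ Subgroup.normalizer (Y : Set G))
    (hcop : (Nat.card A).Coprime (Nat.card Y)) (hYA : ⁅Y, A⁆ = Y)
    (hNY : N ≤ Y) (hNn : Y ≤ Subgroup.normalizer (N : Set G))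
    (hNA : A ≤ Subgroup.normalizer (N : Set G)) (hNab : IsMulCommutative N)
    (hNmin : ∀ N' : Subgroup G, N' ≤ N → Y ≤ Subgroup.normalizer (N' : Set G) →
      A ≤ Subgroup.normalizer (N' : Set G) → N' = ⊥ ∨ N' = N)
    (hNcomm : ⁅N, Y⁆ = N)
    (IH : ∀ L : Subgroup G, L ≤ Y → L ≠ Y → A ≤ Subgroup.normalizer (L : Set G) →
      (L ⊓ Subgroup.centralizer (A : Set G)) ⊓ ⁅L, A⁆ ≤ ZStar A L) :
    N ⊓ Subgroup.centralizer (A : Set G) ≤ ZStar A Y := by
  classical
  have hsup : (⨆ B ∈ Cocyc A, ⁅Y ⊓ Subgroup.centralizer (B : Set G), A⁆) = Y :=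
    ((Cfsg.Agent.S3734.result A Y hAab hAY hcop).2).trans hYA
  have hNcommG : ∀ x ∈ N, ∀ y ∈ N, x * y = y * x := by
    intro x hx y hy
    have := hNab.is_comm.comm (⟨x, hx⟩ : N) ⟨y, hy⟩
    exact congrArg Subtype.val this
  by_cases hc1 : ∃ B ∈ Cocyc A, N ⊔ (Y ⊓ Subgroup.centralizer (B : Set G)) = Y
  · -- case (c1)
    obtain ⟨B, hB, hBY⟩ := hc1
    have hBA : B ≤ A := hB.1
    have hBN : B ≤ Subgroup.normalizer (N : Set G) := hBA.trans hNA
    have hKN : ⁅N, B⁆ ≤ N := commutator_le_of_le_normalizer hBN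
    have hAB : A ≤ Subgroup.normalizer (B : Set G) := by
      intro a ha
      rw [Subgroup.mem_normalizer_iff]
      intro b
      have hcomm : ∀ b' ∈ B, a * b' * a⁻¹ = b' := by
        intro b' hb'
        have := hAab.is_comm.comm (⟨a, ha⟩ : A) ⟨b', hBA hb'⟩
        have h' : a * b' = b' * a := congrArg Subtype.val this
        rw [h', mul_inv_cancel_right]
      constructor
      · intro hb; rw [hcomm b hb]; exact hb
      · intro hb
        have h2 := hcomm _ hb
        have : b = a⁻¹ * (a * b * a⁻¹) * a := by group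
        rw [this]
        have h3 : a⁻¹ * (a * b * a⁻¹) * a = a * b * a⁻¹ := by
          have := hAab.is_comm.comm (⟨a⁻¹, A.inv_mem ha⟩ : A) ⟨a * b * a⁻¹, hBA hb⟩
          have h' : a⁻¹ * (a * b * a⁻¹) = (a * b * a⁻¹) * a⁻¹ := congrArg Subtype.val this
          rw [h', inv_mul_cancel_right]
        rw [h3]; exact hb
    have hYK : Y ≤ Subgroup.normalizer ((⁅N, B⁆ : Subgroup G) : Set G) := by
      conv_lhs => rw [← hBY]
      apply sup_le
      · -- `N` centralizes `⁅N, B⁆ ≤ N`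
        intro n hn
        rw [Subgroup.mem_normalizer_iff]
        intro k
        constructor
        · intro hk
          have : n * k * n⁻¹ = k := by rw [hNcommG n hn k (hKN hk), mul_inv_cancel_right]
          rw [this]; exact hk
        · intro hk
          have h1 : n * k * n⁻¹ ∈ N := hKN hk
          have : k = n⁻¹ * (n * k * n⁻¹) * n := by group
          rw [this, hNcommG n⁻¹ (N.inv_mem hn) _ h1, inv_mul_cancel_right]
          exact hk
      · apply le_normalizer_commutator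
        · exact inf_le_left.trans hNn
        · exact inf_le_right.trans (Subgroup.centralizer_le_normalizer _)
    have hAK : A ≤ Subgroup.normalizer ((⁅N, B⁆ : Subgroup G) : Set G) :=
      le_normalizer_commutator hNA hAB
    rcases hNmin _ hKN hYK hAK with hK | hK
    · -- `N ≤ C(B)`
      have hNC : N ≤ Subgroup.centralizer (B : Set G) :=
        Subgroup.commutator_eq_bot_iff_le_centralizer.1 hK
      have hYC : Y ≤ Subgroup.centralizer (B : Set G) := by
        conv_lhs => rw [← hBY]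
        exact sup_le hNC inf_le_right
      have h1 := le_ZStar A Y hB
      rw [inf_eq_left.2 hYC, hYA] at h1
      refine le_trans ?_ h1
      exact le_inf (inf_le_inf_right _ hNY) (inf_le_left.trans hNY)
    · -- `⁅N, B⁆ = N`: `N ⊓ C(B) = ⊥`
      have hcopBN : (Nat.card B).Coprime (Nat.card N) :=
        (hcop.coprime_dvd_left (Subgroup.card_dvd_of_le hBA)).coprime_dvd_right
          (Subgroup.card_dvd_of_le hNY)
      haveI := hNab
      have h55 := (Cfsg.Agent.S0055.result B N hBN hcopBN).1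
      rw [hK] at h55
      have hbot : N ⊓ Subgroup.centralizer (B : Set G) = ⊥ := by
        rw [eq_bot_iff, ← h55]
        exact le_inf le_rfl inf_le_left
      have : N ⊓ Subgroup.centralizer (A : Set G) ≤ N ⊓ Subgroup.centralizer (B : Set G) :=
        inf_le_inf_left _ (Subgroup.centralizer_le hBA)
      rw [hbot] at this
      exact this.trans bot_le
  · -- case (c2)
    push Not at hc1
    have hACB : ∀ B ∈ Cocyc A, A ≤ Subgroup.normalizer
        ((Y ⊓ Subgroup.centralizer (B : Set G) : Subgroup G) : Set G) := by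
      intro B hB
      haveI := hAab
      exact Cfsg.Agent.Lib.Helper54.le_normalizer_inf hAY
        (Cfsg.Agent.S3734.le_normalizer_centralizer A (fun x hx => hB.1 hx))
    have hYBY : ∀ B : Subgroup G, ⁅Y ⊓ Subgroup.centralizer (B : Set G), A⁆ ≤ Y := by
      intro B
      calc ⁅Y ⊓ Subgroup.centralizer (B : Set G), A⁆ ≤ ⁅Y, A⁆ :=
            Subgroup.commutator_mono inf_le_left le_rfl
        _ = Y := hYA
    have hVBN : ∀ B : Subgroup G, ⁅N, ⁅Y ⊓ Subgroup.centralizer (B : Set G), A⁆⁆ ≤ N :=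
      fun B => commutator_le_of_le_normalizer ((hYBY B).trans hNn)
    have hVBZ : ∀ B ∈ Cocyc A, ⁅N, ⁅Y ⊓ Subgroup.centralizer (B : Set G), A⁆⁆ ⊓
        Subgroup.centralizer (A : Set G) ≤ ZStar A Y := by
      intro B hB
      have hLY : N ⊔ (Y ⊓ Subgroup.centralizer (B : Set G)) ≤ Y := sup_le hNY inf_le_left
      have hAL : A ≤ Subgroup.normalizer
          ((N ⊔ (Y ⊓ Subgroup.centralizer (B : Set G)) : Subgroup G) : Set G) :=
        le_normalizer_sup' hNA (hACB B hB)
      have hIH := (IH _ hLY (hc1 B hB) hAL).trans (ZStar_mono A hLY)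
      refine le_trans ?_ hIH
      have h1 : ⁅N, ⁅Y ⊓ Subgroup.centralizer (B : Set G), A⁆⁆ ≤
          ⁅N ⊔ (Y ⊓ Subgroup.centralizer (B : Set G)), A⁆ :=
        (Subgroup.commutator_mono le_sup_left
          (Subgroup.commutator_mono le_sup_right le_rfl)).trans (commutator_commutator_le _ A)
      have h2 : ⁅N, ⁅Y ⊓ Subgroup.centralizer (B : Set G), A⁆⁆ ≤
          N ⊔ (Y ⊓ Subgroup.centralizer (B : Set G)) := (hVBN B).trans le_sup_left
      exact le_inf (inf_le_inf_right _ h2) (inf_le_left.trans h1)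
    set W : Subgroup G := ⨆ B ∈ Cocyc A, ⁅N, ⁅Y ⊓ Subgroup.centralizer (B : Set G), A⁆⁆ with hW
    have hWN : W ≤ N := iSup₂_le (fun B _ => hVBN B)
    have hNW : N ≤ W := by
      have hYS : Y ≤ commInto Y N W hNn hWN := by
        conv_lhs => rw [← hsup]
        refine iSup₂_le (fun B hB => ?_)
        intro g hg
        refine ⟨hYBY B hg, fun n hn => ?_⟩
        have : ⁅n, g⁆ ∈ ⁅N, ⁅Y ⊓ Subgroup.centralizer (B : Set G), A⁆⁆ :=
          Subgroup.commutator_mem_commutator hn hg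
        exact (le_iSup₂ (f := fun B (_ : B ∈ Cocyc A) =>
          ⁅N, ⁅Y ⊓ Subgroup.centralizer (B : Set G), A⁆⁆) B hB) this
      conv_lhs => rw [← hNcomm]
      rw [Subgroup.commutator_le]
      intro n hn g hg
      exact (hYS hg).2 n hn
    -- the norm map on `N`
    letI : CommGroup N :=
      { (inferInstance : Group N) with mul_comm := fun a b => hNab.is_comm.comm a b }
    haveI : Fintype A := Fintype.ofFinite A
    let ν : N →* N := ∏ a : A, conjOn A N hNA a
    have hν : ∀ x : N, ν x = ∏ a : A, conjOn A N hNA a x := fun x => by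
      simp only [ν, MonoidHom.finsetProd_apply]
    have hνfix : ∀ (b : A) (x : N), conjOn A N hNA b (ν x) = ν x := by
      intro b x
      rw [hν, map_prod]
      refine Fintype.prod_equiv (Equiv.mulLeft b) _ _ (fun a => ?_)
      rw [conjOn_mul]
      rfl
    set T : Subgroup G := ⨆ B ∈ Cocyc A, ⁅N, ⁅Y ⊓ Subgroup.centralizer (B : Set G), A⁆⁆ ⊓
        Subgroup.centralizer (A : Set G) with hT
    have hTZ : T ≤ ZStar A Y := iSup₂_le hVBZ
    have hP : ∀ w ∈ W, ∃ hw : w ∈ N, ((ν ⟨w, hw⟩ : N) : G) ∈ T := by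
      intro w hw
      rw [hW, iSup_subtype'] at hw
      refine Subgroup.iSup_induction (C := fun w => ∃ hw : w ∈ N, ((ν ⟨w, hw⟩ : N) : G) ∈ T) _ hw
        ?_ ?_ ?_
      · rintro ⟨B, hB⟩ x hx
        have hxN : x ∈ N := hVBN B hx
        refine ⟨hxN, ?_⟩
        have hAVB : A ≤ Subgroup.normalizer
            ((⁅N, ⁅Y ⊓ Subgroup.centralizer (B : Set G), A⁆⁆ : Subgroup G) : Set G) :=
          le_normalizer_commutator hNA
            (le_normalizer_commutator (hACB B hB) Subgroup.le_normalizer)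
        have h1 : ν ⟨x, hxN⟩ ∈
            (⁅N, ⁅Y ⊓ Subgroup.centralizer (B : Set G), A⁆⁆ : Subgroup G).subgroupOf N := by
          rw [hν]
          refine Subgroup.prod_mem _ (fun a _ => ?_)
          rw [Subgroup.mem_subgroupOf, conjOn_coe]
          exact ((Subgroup.mem_normalizer_iff.1 (hAVB a.2)) x).1 hx
        have h2 : ((ν ⟨x, hxN⟩ : N) : G) ∈ Subgroup.centralizer (A : Set G) := by
          rw [Subgroup.mem_centralizer_iff]
          intro b hb
          have := congrArg Subtype.val (hνfix ⟨b, hb⟩ ⟨x, hxN⟩)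
          rw [conjOn_coe] at this
          calc b * ((ν ⟨x, hxN⟩ : N) : G)
              = (b * ((ν ⟨x, hxN⟩ : N) : G) * b⁻¹) * b := by group
            _ = ((ν ⟨x, hxN⟩ : N) : G) * b := by rw [this]
        exact (le_iSup₂ (f := fun B (_ : B ∈ Cocyc A) =>
          ⁅N, ⁅Y ⊓ Subgroup.centralizer (B : Set G), A⁆⁆ ⊓ Subgroup.centralizer (A : Set G)) B hB)
          ⟨Subgroup.mem_subgroupOf.1 h1, h2⟩
      · refine ⟨N.one_mem, ?_⟩
        have : (⟨1, N.one_mem⟩ : N) = 1 := rfl
        rw [this, map_one]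
        exact T.one_mem
      · rintro x y ⟨hx, hx'⟩ ⟨hy, hy'⟩
        refine ⟨N.mul_mem hx hy, ?_⟩
        have : (⟨x * y, N.mul_mem hx hy⟩ : N) = ⟨x, hx⟩ * ⟨y, hy⟩ := rfl
        rw [this, map_mul]
        exact T.mul_mem hx' hy'
    intro x hx
    obtain ⟨hxN, hxC⟩ := hx
    obtain ⟨_, hνx⟩ := hP x (hNW hxN)
    have hfix : ∀ a : A, conjOn A N hNA a ⟨x, hxN⟩ = ⟨x, hxN⟩ := by
      intro a
      apply Subtype.ext
      rw [conjOn_coe]
      have := hxC (a : G) a.2
      rw [this, mul_inv_cancel_right]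
    have hpow : ((ν ⟨x, hxN⟩ : N) : G) = x ^ Nat.card A := by
      rw [hν]
      simp only [hfix]
      rw [Finset.prod_const, Finset.card_univ, ← Nat.card_eq_fintype_card, Subgroup.coe_pow]
    rw [hpow] at hνx
    have hcopx : (Nat.card A).Coprime (orderOf x) := by
      refine hcop.coprime_dvd_right ?_
      have := orderOf_dvd_natCard (⟨x, hNY hxN⟩ : Y)
      rwa [Subgroup.orderOf_mk] at this
    obtain ⟨m, hm⟩ := exists_pow_eq_self_of_coprime hcopx
    rw [← hm]
    exact hTZ (T.pow_mem hνx m)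

end main

end Cfsg.Agent.Lib.Helper33.CFG
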