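import Mathlib
import Cfsg.Agent.Lib.Helper55.CfgDefs
import Cfsg.Agent.S0022
import Cfsg.Agent.S0030
import Cfsg.Agent.Lib.Helper33.CfgCaseC

/-!
# S1329-[LIFT] (helper55's project S1329): `lift_quot`

Transport of Theorem T through the quotient `N_G(N) / N` by an `A`-invariant normal subgroup `N ≠ 1` of `Y`.
-/

set_option autoImplicit false
set_option linter.unusedSectionVars false
set_option linter.style.haveILetI false

namespace Cfsg.Agent.Lib.Helper33.CFG

open Cfsg.Agent.Lib.Helper55.CFG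
open scoped commutatorElement

section quot
variable {G : Type*} [Group G]

theorem subgroupOf_commutator' {H₁ H₂ X : Subgroup G} (h₁ : H₁ ≤ X) (h₂ : H₂ ≤ X) :
    (⁅H₁, H₂⁆).subgroupOf X = ⁅H₁.subgroupOf X, H₂.subgroupOf X⁆ := by
  have h12 : ⁅H₁, H₂⁆ ≤ X := by
    rw [Subgroup.commutator_le]
    intro g₁ hg₁ g₂ hg₂
    rw [commutatorElement_def]
    exact X.mul_mem (X.mul_mem (X.mul_mem (h₁ hg₁) (h₂ hg₂)) (X.inv_mem (h₁ hg₁)))
      (X.inv_mem (h₂ hg₂))
  apply Subgroup.map_injective X.subtype_injective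
  rw [Subgroup.map_commutator, Subgroup.subgroupOf_map_subtype, Subgroup.subgroupOf_map_subtype,
    Subgroup.subgroupOf_map_subtype, inf_eq_left.2 h₁, inf_eq_left.2 h₂, inf_eq_left.2 h12]

variable (N : Subgroup G)

/-- the normalizer of `N` -/
abbrev XN : Subgroup G := Subgroup.normalizer (N : Set G)

/-- `N` inside its normalizer -/
abbrev N0 : Subgroup (XN N) := N.subgroupOf (XN N)

/-- the quotient `N_G(N) / N` -/
abbrev QN : Type _ := (XN N) ⧸ (N0 N)

/-- the quotient map -/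
def qmap : XN N →* QN N := QuotientGroup.mk' (N0 N)

/-- the image in `N_G(N) / N` of (the part inside `N_G(N)` of) a subgroup of `G` -/
def phi (H : Subgroup G) : Subgroup (QN N) := (H.subgroupOf (XN N)).map (qmap N)

theorem mem_phi {H : Subgroup G} {g' : QN N} :
    g' ∈ phi N H ↔ ∃ x : XN N, (x : G) ∈ H ∧ qmap N x = g' := by
  unfold phi
  rw [Subgroup.mem_map]
  constructor
  · rintro ⟨x, hx, rfl⟩
    exact ⟨x, Subgroup.mem_subgroupOf.1 hx, rfl⟩
  · rintro ⟨x, hx, rfl⟩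
    exact ⟨x, Subgroup.mem_subgroupOf.2 hx, rfl⟩

theorem qmap_eq_iff (x y : XN N) : qmap N x = qmap N y ↔ (x : G)⁻¹ * (y : G) ∈ N := by
  unfold qmap
  rw [QuotientGroup.mk'_apply, QuotientGroup.mk'_apply, QuotientGroup.eq, Subgroup.mem_subgroupOf]
  simp

theorem qmap_eq_one_iff (x : XN N) : qmap N x = 1 ↔ (x : G) ∈ N := by
  rw [← map_one (qmap N), qmap_eq_iff]
  constructor
  · intro h
    have := N.inv_mem h
    simpa using this
  · intro h
    have := N.inv_mem h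
    simpa using this

theorem phi_commutator {H₁ H₂ : Subgroup G} (h₁ : H₁ ≤ XN N) (h₂ : H₂ ≤ XN N) :
    phi N ⁅H₁, H₂⁆ = ⁅phi N H₁, phi N H₂⁆ := by
  unfold phi
  rw [subgroupOf_commutator' h₁ h₂, Subgroup.map_commutator]

theorem phi_mono {H₁ H₂ : Subgroup G} (h : H₁ ≤ H₂) : phi N H₁ ≤ phi N H₂ := by
  unfold phi
  exact Subgroup.map_mono (Subgroup.comap_mono h)


theorem card_subgroupOf_of_le {H X : Subgroup G} (h : H ≤ X) :
    Nat.card (H.subgroupOf X) = Nat.card H :=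
  Nat.card_congr (Subgroup.subgroupOfEquivOfLe h).toEquiv

theorem card_phi_dvd {H : Subgroup G} (h : H ≤ XN N) : Nat.card (phi N H) ∣ Nat.card H := by
  unfold phi
  have e := card_subgroupOf_of_le h
  rw [← e]
  exact Subgroup.card_map_dvd _ (qmap N)

theorem phi_le_normalizer {A Y : Subgroup G} (hAY : A ≤ Subgroup.normalizer (Y : Set G)) :
    phi N A ≤ Subgroup.normalizer ((phi N Y : Subgroup (QN N)) : Set (QN N)) := by
  unfold phi
  refine le_trans (Subgroup.map_mono ?_) (Subgroup.le_normalizer_map (qmap N))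
  refine le_trans ?_ (Subgroup.le_normalizer_comap (XN N).subtype)
  exact Subgroup.comap_mono hAY

theorem isSolvable_phi {Y : Subgroup G} (hY : Y ≤ XN N) (hsolv : Group.IsSolvable Y) :
    Group.IsSolvable (phi N Y) := by
  unfold phi
  haveI := hsolv
  haveI : Group.IsSolvable (Y.subgroupOf (XN N)) :=
    Group.isSolvable_of_isSolvable_injective (f := (Subgroup.subgroupOfEquivOfLe hY).toMonoidHom)
      (Subgroup.subgroupOfEquivOfLe hY).injective
  exact Group.isSolvable_of_surjective ((qmap N).subgroupMap_surjective (Y.subgroupOf (XN N)))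

theorem card_phi_lt [Finite G] {Y : Subgroup G} (hY : Y ≤ XN N) (hNY : N ≤ Y) (hN : N ≠ ⊥) :
    Nat.card (phi N Y) < Nat.card Y := by
  classical
  unfold phi
  have e := card_subgroupOf_of_le hY
  rw [← e]
  haveI : Fintype (Y.subgroupOf (XN N)) := Fintype.ofFinite _
  haveI : Fintype ((Y.subgroupOf (XN N)).map (qmap N)) := Fintype.ofFinite _
  rw [Nat.card_eq_fintype_card, Nat.card_eq_fintype_card]
  refine Fintype.card_lt_of_surjective_not_injective _
    ((qmap N).subgroupMap_surjective (Y.subgroupOf (XN N))) ?_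
  intro hinj
  apply hN
  rw [eq_bot_iff]
  intro n hn
  rw [Subgroup.mem_bot]
  have hnX : n ∈ XN N := hY (hNY hn)
  have hmem : (⟨n, hnX⟩ : XN N) ∈ Y.subgroupOf (XN N) := Subgroup.mem_subgroupOf.2 (hNY hn)
  have h1 : (qmap N).subgroupMap (Y.subgroupOf (XN N)) ⟨⟨n, hnX⟩, hmem⟩ =
      (qmap N).subgroupMap (Y.subgroupOf (XN N)) 1 := by
    apply Subtype.ext
    rw [map_one]
    exact (qmap_eq_one_iff N ⟨n, hnX⟩).2 hn
  have h2 := hinj h1
  have h3 := congrArg (fun z : Y.subgroupOf (XN N) => ((z : XN N) : G)) h2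
  simpa using h3

end quot

universe u

theorem lift_quot {G : Type u} [Group G] [Finite G] (A Y N : Subgroup G)
    (hAab : IsMulCommutative A) (hAY : A ≤ Subgroup.normalizer (Y : Set G))
    (hcop : (Nat.card A).Coprime (Nat.card Y)) (hsolv : Group.IsSolvable Y)
    (hNY : N ≤ Y) (hNn : Y ≤ Subgroup.normalizer (N : Set G))
    (hNA : A ≤ Subgroup.normalizer (N : Set G)) (hN : N ≠ ⊥)
    (IH : ∀ (G' : Type u) [Group G'] [Finite G'] (A' Y' : Subgroup G'),
      Nat.card Y' < Nat.card Y → IsMulCommutative A' →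
      A' ≤ Subgroup.normalizer (Y' : Set G') → (Nat.card A').Coprime (Nat.card Y') →
      Group.IsSolvable Y' →
      (Y' ⊓ Subgroup.centralizer (A' : Set G')) ⊓ ⁅Y', A'⁆ ≤ ZStar A' Y') :
    (Y ⊓ Subgroup.centralizer (A : Set G)) ⊓ ⁅Y, A⁆ ≤
      ZStar A Y ⊔ (N ⊓ Subgroup.centralizer (A : Set G)) := by
  classical
  haveI := hAab
  have hYX : Y ≤ XN N := hNn
  have hAX : A ≤ XN N := hNA
  have hA'ab : IsMulCommutative (phi N A) :=
    (inferInstance : IsMulCommutative ((A.subgroupOf (XN N)).map (qmap N)))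
  have hIH := IH (QN N) (phi N A) (phi N Y) (card_phi_lt N hYX hNY hN) hA'ab
    (phi_le_normalizer N hAY)
    ((hcop.coprime_dvd_left (card_phi_dvd N hAX)).coprime_dvd_right (card_phi_dvd N hYX))
    (isSolvable_phi N hYX hsolv)
  -- the key claim
  have hkey : ZStar (phi N A) (phi N Y) ≤ phi N (ZStar A Y) := by
    refine iSup₂_le (fun B' hB' => ?_)
    intro g' hg'
    obtain ⟨⟨hgY', hgC'⟩, hgcomm⟩ := hg'
    let B : Subgroup G := A ⊓ ((B'.comap (qmap N)).map (XN N).subtype)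
    have hBA : B ≤ A := inf_le_left
    have hBq : ∀ b (hb : b ∈ B), qmap N ⟨b, hAX (hBA hb)⟩ ∈ B' := by
      intro b hb
      obtain ⟨x, hx, hxb⟩ := hb.2
      have : (⟨b, hAX (hBA hb)⟩ : XN N) = x := Subtype.ext hxb.symm
      rw [this]
      exact hx
    have hmemB : ∀ b (hb : b ∈ A), qmap N ⟨b, hAX hb⟩ ∈ B' → b ∈ B := by
      intro b hb h
      exact ⟨hb, ⟨⟨b, hAX hb⟩, h, rfl⟩⟩
    -- (4a) `B ∈ Cocyc A`
    have hBcoc : B ∈ Cocyc A := by
      refine ⟨hBA, ?_⟩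
      obtain ⟨hB'A', a', ha', hsup'⟩ := hB'
      obtain ⟨a₀, ha₀, rfl⟩ := (mem_phi N).1 ha'
      refine ⟨(a₀ : G), ha₀, le_antisymm (sup_le hBA (by rw [Subgroup.zpowers_le]; exact ha₀)) ?_⟩
      intro c hc
      have hqc : qmap N ⟨c, hAX hc⟩ ∈ B' ⊔ Subgroup.zpowers (qmap N a₀) := by
        rw [hsup']
        exact (mem_phi N).2 ⟨⟨c, hAX hc⟩, hc, rfl⟩
      have hnorm : Subgroup.zpowers (qmap N a₀) ≤ Subgroup.normalizer (B' : Set (QN N)) := by
        rw [Subgroup.zpowers_le]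
        refine Subgroup.centralizer_le_normalizer _ ?_
        rw [Subgroup.mem_centralizer_iff]
        intro b' hb'
        have := hA'ab.is_comm.comm (⟨b', hB'A' hb'⟩ : phi N A) ⟨qmap N a₀, ha'⟩
        exact congrArg Subtype.val this
      have hcoe := Subgroup.coe_mul_of_right_le_normalizer_left B' (Subgroup.zpowers (qmap N a₀)) hnorm
      have hqc' : qmap N ⟨c, hAX hc⟩ ∈ ((B' ⊔ Subgroup.zpowers (qmap N a₀) : Subgroup (QN N)) :
          Set (QN N)) := hqc
      rw [hcoe, Set.mem_mul] at hqc'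
      obtain ⟨b', hb', z, hz, hbz⟩ := hqc'
      obtain ⟨k, rfl⟩ := Subgroup.mem_zpowers_iff.1 hz
      -- `c * a₀^(-k) ∈ B`
      have hcak : c * (a₀ : G) ^ (-k) ∈ A := A.mul_mem hc (A.zpow_mem ha₀ _)
      have hcB : c * (a₀ : G) ^ (-k) ∈ B := by
        refine hmemB _ hcak ?_
        have e : (⟨c * (a₀ : G) ^ (-k), hAX hcak⟩ : XN N) = ⟨c, hAX hc⟩ * a₀ ^ (-k) := by
          apply Subtype.ext
          simp
        rw [e, map_mul, map_zpow, ← hbz, zpow_neg, mul_inv_cancel_right]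
        exact hb'
      have : c = (c * (a₀ : G) ^ (-k)) * (a₀ : G) ^ k := by
        rw [zpow_neg, inv_mul_cancel_right]
      rw [this]
      exact Subgroup.mul_mem _ (Subgroup.mem_sup_left hcB)
        (Subgroup.mem_sup_right (Subgroup.zpow_mem _ (Subgroup.mem_zpowers _) k))
    -- (4b)
    have h4b : phi N Y ⊓ Subgroup.centralizer (B' : Set (QN N)) ≤
        phi N (Y ⊓ Subgroup.centralizer (B : Set G)) := by
      intro y' hy'
      obtain ⟨y, hy, rfl⟩ := (mem_phi N).1 hy'.1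
      have hfix : ∀ b ∈ B, b * (y : G) * b⁻¹ * (y : G)⁻¹ ∈ N := by
        intro b hb
        have hbq := hBq b hb
        have hcomm := hy'.2 _ hbq
        have h1 : qmap N (⟨b, hAX (hBA hb)⟩ * y * ⟨b, hAX (hBA hb)⟩⁻¹ * y⁻¹) = 1 := by
          rw [map_mul, map_mul, map_mul, map_inv, map_inv, hcomm]
          group
        exact (qmap_eq_one_iff N _).1 h1
      obtain ⟨c, hc, hyc⟩ := Cfsg.Agent.S0022.result B Y (hBA.trans hAY)
        (hcop.coprime_dvd_left (Subgroup.card_dvd_of_le hBA)) (Or.inr hsolv) N hNY hNn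
        (hBA.trans hNA) y hy hfix
      refine (mem_phi N).2 ⟨⟨c, hYX hc.1⟩, hc, ?_⟩
      rw [qmap_eq_iff]
      have := N.inv_mem hyc
      simpa [mul_inv_rev] using this
    -- `g' = q v`, `v ∈ V`
    have hBset : ((B : Set G)) ⊆ (A : Set G) := fun x hx => hBA hx
    have hACB : A ≤ Subgroup.normalizer
        ((Y ⊓ Subgroup.centralizer (B : Set G) : Subgroup G) : Set G) :=
      Cfsg.Agent.Lib.Helper54.le_normalizer_inf hAY
        (Cfsg.Agent.S3734.le_normalizer_centralizer A hBset)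
    have hVY : ⁅Y ⊓ Subgroup.centralizer (B : Set G), A⁆ ≤ Y :=
      (Subgroup.commutator_mono inf_le_left le_rfl).trans (commutator_le_of_le_normalizer hAY)
    have hgV : g' ∈ phi N ⁅Y ⊓ Subgroup.centralizer (B : Set G), A⁆ := by
      rw [phi_commutator N (inf_le_left.trans hYX) hAX]
      exact Subgroup.commutator_mono h4b le_rfl hgcomm
    obtain ⟨v, hv, rfl⟩ := (mem_phi N).1 hgV
    have hfixA : ∀ a ∈ A, a * (v : G) * a⁻¹ * (v : G)⁻¹ ∈ N := by
      intro a ha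
      have hcomm := hgC' (qmap N ⟨a, hAX ha⟩) ((mem_phi N).2 ⟨⟨a, hAX ha⟩, ha, rfl⟩)
      have h1 : qmap N (⟨a, hAX ha⟩ * v * ⟨a, hAX ha⟩⁻¹ * v⁻¹) = 1 := by
        rw [map_mul, map_mul, map_mul, map_inv, map_inv, hcomm]
        group
      exact (qmap_eq_one_iff N _).1 h1
    have hAV : A ≤ Subgroup.normalizer
        ((⁅Y ⊓ Subgroup.centralizer (B : Set G), A⁆ : Subgroup G) : Set G) :=
      le_normalizer_commutator hACB Subgroup.le_normalizer
    have hKY : ⁅Y ⊓ Subgroup.centralizer (B : Set G), A⁆ ⊔ N ≤ Y := sup_le hVY hNY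
    have hAK : A ≤ Subgroup.normalizer
        ((⁅Y ⊓ Subgroup.centralizer (B : Set G), A⁆ ⊔ N : Subgroup G) : Set G) :=
      le_normalizer_sup' hAV hNA
    have hcopK : (Nat.card A).Coprime
        (Nat.card (⁅Y ⊓ Subgroup.centralizer (B : Set G), A⁆ ⊔ N : Subgroup G)) :=
      hcop.coprime_dvd_right (Subgroup.card_dvd_of_le hKY)
    have hKsolv : Group.IsSolvable (⁅Y ⊓ Subgroup.centralizer (B : Set G), A⁆ ⊔ N : Subgroup G) :=
      Cfsg.Agent.Lib.Helper54.isSolvable_of_le hKY hsolv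
    obtain ⟨c, hc, hvc⟩ := Cfsg.Agent.S0022.result A _ hAK hcopK (Or.inr hKsolv) N le_sup_right
      (hKY.trans hNn) hNA v (Subgroup.mem_sup_left hv) hfixA
    have hXY : ∀ k ∈ (⁅Y ⊓ Subgroup.centralizer (B : Set G), A⁆ ⊔ N : Subgroup G),
        ∃ x ∈ ⁅Y ⊓ Subgroup.centralizer (B : Set G), A⁆, ∃ y ∈ N, k = x * y := by
      intro k hk
      have hcoe := Subgroup.coe_mul_of_left_le_normalizer_right
        ⁅Y ⊓ Subgroup.centralizer (B : Set G), A⁆ N (hVY.trans hNn)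
      have hk' : k ∈ ((⁅Y ⊓ Subgroup.centralizer (B : Set G), A⁆ ⊔ N : Subgroup G) : Set G) := hk
      rw [hcoe, Set.mem_mul] at hk'
      obtain ⟨x, hx, y, hy, hxy⟩ := hk'
      exact ⟨x, hx, y, hy, hxy.symm⟩
    obtain ⟨x, hx, y, hy, hcxy⟩ := Cfsg.Agent.S0030.result A _ hAK hcopK (Or.inr hKsolv)
      ⁅Y ⊓ Subgroup.centralizer (B : Set G), A⁆ N le_sup_left le_sup_right hAV hNA hXY c hc
    have hxZ : x ∈ ZStar A Y :=
      le_ZStar A Y hBcoc ⟨⟨hVY hx.1, hx.2⟩, hx.1⟩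
    refine (mem_phi N).2 ⟨⟨x, hYX (hVY hx.1)⟩, hxZ, ?_⟩
    rw [qmap_eq_iff]
    -- `x⁻¹ * v ∈ N`
    have h1 : (v : G)⁻¹ * x ∈ N := by
      have : (v : G)⁻¹ * x = ((v : G)⁻¹ * c) * y⁻¹ := by rw [hcxy]; group
      rw [this]
      exact N.mul_mem hvc (N.inv_mem hy.1)
    have := N.inv_mem h1
    simpa [mul_inv_rev] using this
  -- the main argument
  intro x hx
  obtain ⟨⟨hxY, hxC⟩, hxYA⟩ := hx
  have hxY : x ∈ Y := hxY
  have hxC : x ∈ Subgroup.centralizer (A : Set G) := hxC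
  have hxYA : x ∈ ⁅Y, A⁆ := hxYA
  have hqx : qmap N ⟨x, hYX hxY⟩ ∈
      (phi N Y ⊓ Subgroup.centralizer ((phi N A : Subgroup (QN N)) : Set (QN N))) ⊓
        ⁅phi N Y, phi N A⁆ := by
    refine ⟨⟨(mem_phi N).2 ⟨_, hxY, rfl⟩, ?_⟩, ?_⟩
    · refine Subgroup.mem_centralizer_iff.2 ?_
      intro a' ha'
      obtain ⟨a, ha, rfl⟩ := (mem_phi N).1 ha'
      rw [← map_mul, ← map_mul]
      congr 1
      apply Subtype.ext
      exact (Subgroup.mem_centralizer_iff.1 hxC) (a : G) ha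
    · rw [← phi_commutator N hYX hAX]
      exact (mem_phi N).2 ⟨_, hxYA, rfl⟩
  obtain ⟨z, hz, hzx⟩ := (mem_phi N).1 (hkey (hIH hqx))
  rw [qmap_eq_iff] at hzx
  have hzC : (z : G) ∈ Subgroup.centralizer (A : Set G) := (ZStar_le A Y hz).2
  have hn : (z : G)⁻¹ * x ∈ N ⊓ Subgroup.centralizer (A : Set G) :=
    ⟨hzx, Subgroup.mul_mem _ (Subgroup.inv_mem _ hzC) hxC⟩
  have : x = (z : G) * ((z : G)⁻¹ * x) := by group
  rw [this]
  exact Subgroup.mul_mem _ (Subgroup.mem_sup_left hz) (Subgroup.mem_sup_right hn)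

end Cfsg.Agent.Lib.Helper33.CFG
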