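import Mathlib

/-!
# S1329-[TRANSFER] (helper55's project S1329)

A central element of a Sylow `r`-subgroup `R` of `Y` lying in the commutator subgroup of `Y` lies in `⁅R, R⁆`
(transfer into `R / R'`).
-/

set_option autoImplicit false

namespace Cfsg.Agent.Lib.Helper33.CFG

open scoped commutatorElement

theorem mem_commutator_sylow_of_central {Y : Type*} [Group Y] [Finite Y] (r : ℕ) [Fact r.Prime]
    (R : Sylow r Y) (n : Y) (hn : n ∈ Subgroup.center Y) (hnR : n ∈ (R : Subgroup Y))
    (hn' : n ∈ commutator Y) : n ∈ ⁅(R : Subgroup Y), (R : Subgroup Y)⁆ := by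
  classical
  set H : Subgroup Y := (R : Subgroup Y) with hH
  have key : ∀ (k : ℕ) (g₀ : Y), g₀⁻¹ * n ^ k * g₀ ∈ H → g₀⁻¹ * n ^ k * g₀ = n ^ k := by
    intro k g₀ _
    have hk : n ^ k ∈ Subgroup.center Y := Subgroup.pow_mem _ hn k
    rw [Subgroup.mem_center_iff] at hk
    rw [mul_assoc, ← hk g₀, ← mul_assoc, inv_mul_cancel, one_mul]
  let ϕ : H →* Abelianization H := Abelianization.of
  have hV := MonoidHom.transfer_eq_pow ϕ n key
  have hker : n ∈ (MonoidHom.transfer ϕ).ker :=
    Abelianization.commutator_subset_ker (MonoidHom.transfer ϕ) hn'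
  rw [MonoidHom.mem_ker, hV] at hker
  have h1 : (⟨n ^ H.index, MonoidHom.transfer_eq_pow_aux n key⟩ : H) ∈ commutator H := by
    rw [← Abelianization.ker_of]
    exact hker
  have h2 : n ^ H.index ∈ ⁅H, H⁆ := by
    rw [← Subgroup.map_subtype_commutator]
    exact ⟨_, h1, rfl⟩
  -- `n` is a power of `n ^ H.index`
  have hcop : H.index.Coprime (orderOf n) := by
    obtain ⟨k, hk⟩ := (IsPGroup.iff_orderOf.mp R.2) ⟨n, hnR⟩
    have hk' : orderOf n = r ^ k := by
      rw [← hk, Subgroup.orderOf_mk]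
    rw [hk']
    apply Nat.Coprime.pow_right
    rw [Nat.coprime_comm, Nat.Prime.coprime_iff_not_dvd (Fact.out : r.Prime)]
    exact R.not_dvd_index
  obtain ⟨m, hm⟩ := exists_pow_eq_self_of_coprime hcop
  rw [← hm]
  exact Subgroup.pow_mem _ h2 m

end Cfsg.Agent.Lib.Helper33.CFG
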