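import Mathlib
import Cfsg.Prelude.Def_LocalEven
import Cfsg.Prelude.Def_PLocal
import Cfsg.Agent.Lib.Helper9.PGroupLemmas
import Cfsg.Agent.Lib.Helper34.HallHigmanAbelian

/-!
# The action of a group on a chief factor inside a `p`-subgroup (helper33 library)

Light-weight copies (same statements, adapted from `Cfsg.Agent.Lib.Helper34.ChiefFactorAction` / `EngelChief`, which sit on
a much larger import closure) of the lemmas on chief factors viewed as minimal normal subgroups of a quotient, plus the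
packaging used for the trace argument of `EngelTrace`.
-/

set_option autoImplicit false

namespace Cfsg.Agent.Lib.Helper33

open Cfsg

section minimal

variable {Y : Type*} [Group Y]

/-- The image of a chief factor `U / V` in `Y ⧸ V` is a minimal normal subgroup. -/
theorem minimal_normal_of_isChiefFactor {U V : Subgroup Y} (h : IsChiefFactor U V) :
    haveI := h.2.2.1
    U.map (QuotientGroup.mk' V) ≠ ⊥ ∧ (U.map (QuotientGroup.mk' V)).Normal ∧
      ∀ N : Subgroup (Y ⧸ V), N.Normal → N ≤ U.map (QuotientGroup.mk' V) →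
        N = ⊥ ∨ N = U.map (QuotientGroup.mk' V) := by
  obtain ⟨hlt, hUn, hVn, hmin⟩ := h
  have hsurj := QuotientGroup.mk'_surjective V
  have hcomap : (U.map (QuotientGroup.mk' V)).comap (QuotientGroup.mk' V) = U := by
    rw [Subgroup.comap_map_eq, QuotientGroup.ker_mk', sup_eq_left.mpr hlt.le]
  refine ⟨?_, hUn.map _ hsurj, ?_⟩
  · intro hbot
    have h1 : U ≤ V := by
      intro u hu
      have : (QuotientGroup.mk' V) u ∈ U.map (QuotientGroup.mk' V) := ⟨u, hu, rfl⟩
      rw [hbot, Subgroup.mem_bot, QuotientGroup.mk'_apply, QuotientGroup.eq_one_iff] at this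
      exact this
    exact absurd (le_antisymm h1 hlt.le) hlt.ne'
  · intro N hN hNU
    have h1 : V ≤ N.comap (QuotientGroup.mk' V) := by
      have := Subgroup.ker_le_comap (QuotientGroup.mk' V) N
      rwa [QuotientGroup.ker_mk'] at this
    have h2 : N.comap (QuotientGroup.mk' V) ≤ U := by
      rw [← hcomap]; exact Subgroup.comap_mono hNU
    have h3 : N = (N.comap (QuotientGroup.mk' V)).map (QuotientGroup.mk' V) :=
      (Subgroup.map_comap_eq_self_of_surjective hsurj N).symm
    rcases hmin _ (hN.comap _) h1 h2 with h | h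
    · left
      rw [h3, h, eq_bot_iff]
      rintro _ ⟨v, hv, rfl⟩
      rw [Subgroup.mem_bot, QuotientGroup.mk'_apply, QuotientGroup.eq_one_iff]
      exact hv
    · right
      rw [h3, h]

end minimal

section pgroup

variable {Q : Type*} [Group Q] [Finite Q] {p : ℕ} [Fact p.Prime]

/-- A `p`-subgroup containing a minimal normal subgroup `Ub` centralizes it, provided `C_{Ub}(Tb)` is normal. -/
theorem le_centralizer_of_minimal_normal (Ub : Subgroup Q) [hUn : Ub.Normal] (hUne : Ub ≠ ⊥)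
    (hmin : ∀ N : Subgroup Q, N.Normal → N ≤ Ub → N = ⊥ ∨ N = Ub)
    (Tb : Subgroup Q) (hTp : IsPGroup p Tb) (hUT : Ub ≤ Tb)
    (hZn : (Ub ⊓ Subgroup.centralizer (Tb : Set Q)).Normal) :
    Tb ≤ Subgroup.centralizer (Ub : Set Q) := by
  have hNn : (Ub.subgroupOf Tb).Normal := hUn.subgroupOf Tb
  have hNne : Ub.subgroupOf Tb ≠ ⊥ := by
    intro h
    rw [Subgroup.subgroupOf_eq_bot, disjoint_iff, inf_eq_left.mpr hUT] at h
    exact hUne h
  obtain ⟨z, hzN, hz1, hzc⟩ :=
    Cfsg.Agent.Lib.Helper9.exists_ne_one_mem_center_of_normal hTp (Ub.subgroupOf Tb) hNne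
  have hzU : (z : Q) ∈ Ub := Subgroup.mem_subgroupOf.mp hzN
  have hzC : (z : Q) ∈ Subgroup.centralizer (Tb : Set Q) := by
    rw [Subgroup.mem_centralizer_iff]
    intro t ht
    have := Subgroup.mem_center_iff.mp hzc ⟨t, ht⟩
    exact congrArg Subtype.val this
  have hZne : Ub ⊓ Subgroup.centralizer (Tb : Set Q) ≠ ⊥ := by
    intro h
    have : (z : Q) ∈ Ub ⊓ Subgroup.centralizer (Tb : Set Q) := ⟨hzU, hzC⟩
    rw [h, Subgroup.mem_bot] at this
    exact hz1 (Subtype.ext this)
  rcases hmin _ hZn inf_le_left with h | h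
  · exact absurd h hZne
  · have h1 : Ub ≤ Subgroup.centralizer (Tb : Set Q) := by
      rw [← h]; exact inf_le_right
    exact Subgroup.le_centralizer_iff.mp h1

/-- A minimal normal subgroup that is an abelian `p`-group has exponent `p`. -/
theorem pow_eq_one_of_minimal_normal (Ub : Subgroup Q) [hUn : Ub.Normal] (hUne : Ub ≠ ⊥)
    (hmin : ∀ N : Subgroup Q, N.Normal → N ≤ Ub → N = ⊥ ∨ N = Ub)
    (hUp : IsPGroup p Ub) (hcomm : ∀ a ∈ Ub, ∀ b ∈ Ub, a * b = b * a) :
    ∀ x ∈ Ub, x ^ p = 1 := by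
  let Ω : Subgroup Q :=
    { carrier := {x | x ∈ Ub ∧ x ^ p = 1}
      one_mem' := ⟨Ub.one_mem, one_pow p⟩
      mul_mem' := by
        rintro a b ⟨ha, hap⟩ ⟨hb, hbp⟩
        refine ⟨Ub.mul_mem ha hb, ?_⟩
        have hc : Commute a b := hcomm a ha b hb
        rw [hc.mul_pow, hap, hbp, one_mul]
      inv_mem' := by
        rintro a ⟨ha, hap⟩
        exact ⟨Ub.inv_mem ha, by rw [inv_pow, hap, inv_one]⟩ }
  have hΩn : Ω.Normal := by
    constructor
    rintro x ⟨hx, hxp⟩ q
    refine ⟨hUn.conj_mem x hx q, ?_⟩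
    rw [conj_pow, hxp, mul_one, mul_inv_cancel]
  have hΩle : Ω ≤ Ub := fun x hx => hx.1
  have hΩne : Ω ≠ ⊥ := by
    have : Nontrivial ↥Ub := (Subgroup.nontrivial_iff_ne_bot Ub).mpr hUne
    obtain ⟨n, hn0, hn⟩ := hUp.nontrivial_iff_card.mp this
    have hdvd : p ∣ Nat.card ↥Ub := hn.symm ▸ dvd_pow_self _ (ne_of_gt hn0)
    obtain ⟨x, hx⟩ := exists_prime_orderOf_dvd_card' p hdvd
    intro hbot
    have hxΩ : (x : Q) ∈ Ω := by
      refine ⟨x.2, ?_⟩
      have h1 : x ^ p = 1 := by rw [← hx]; exact pow_orderOf_eq_one x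
      have := congrArg Subtype.val h1
      simpa using this
    rw [hbot, Subgroup.mem_bot] at hxΩ
    have hx1 : x = 1 := Subtype.ext hxΩ
    rw [hx1, orderOf_one] at hx
    exact (Fact.out : p.Prime).one_lt.ne hx
  rcases hmin Ω hΩn hΩle with h | h
  · exact absurd h hΩne
  · intro x hx
    rw [← h] at hx
    exact hx.2

/-- A minimal normal subgroup which is a `p`-group is abelian. -/
theorem comm_of_minimal_normal (Ub : Subgroup Q) [hUn : Ub.Normal] (hUne : Ub ≠ ⊥)
    (hmin : ∀ N : Subgroup Q, N.Normal → N ≤ Ub → N = ⊥ ∨ N = Ub)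
    (hUp : IsPGroup p Ub) : ∀ a ∈ Ub, ∀ b ∈ Ub, a * b = b * a := by
  have hCn : (Subgroup.centralizer (Ub : Set Q)).Normal := Subgroup.normal_centralizer
  have hZn : (Ub ⊓ Subgroup.centralizer (Ub : Set Q)).Normal := inferInstance
  have h := le_centralizer_of_minimal_normal Ub hUne hmin Ub hUp le_rfl hZn
  intro a ha b hb
  exact Subgroup.mem_centralizer_iff.mp (h hb) a ha

end pgroup

section iter

theorem map_iterCommutator {L L' : Type*} [Group L] [Group L'] (f : L →* L') (N G : Subgroup L) (n : ℕ) :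
    (Cfsg.iterCommutator N G n).map f = Cfsg.iterCommutator (N.map f) (G.map f) n := by
  induction n with
  | zero => rfl
  | succ n ih =>
    show (⁅Cfsg.iterCommutator N G n, G⁆).map f = ⁅Cfsg.iterCommutator (N.map f) (G.map f) n, G.map f⁆
    rw [Subgroup.map_commutator, ih]

end iter

section action

open scoped IsMulCommutative commutatorElement

variable {Q : Type*} [Group Q] (Ub : Subgroup Q) [hUn : Ub.Normal] [hUc : IsMulCommutative ↥Ub]

/-- The conjugation action of `Q` on the abelian normal subgroup `Ub`, as endomorphisms of `Additive Ub`. -/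
noncomputable def conjEnd : Q →* AddMonoid.End (Additive ↥Ub) where
  toFun q := MonoidHom.toAdditive (MulAut.conjNormal q : ↥Ub ≃* ↥Ub).toMonoidHom
  map_one' := by
    rw [map_one]
    rfl
  map_mul' := by
    intro a b
    rw [map_mul]
    rfl

theorem conjEnd_apply_coe (q : Q) (x : Additive ↥Ub) :
    ((Additive.toMul (conjEnd Ub q x) : ↥Ub) : Q) = q * ((Additive.toMul x : ↥Ub) : Q) * q⁻¹ := by
  show ((MulAut.conjNormal q (Additive.toMul x) : ↥Ub) : Q) = _
  rw [MulAut.conjNormal_apply]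

omit hUn in
theorem natCast_conjEnd_eq_zero {p : ℕ} (hexp : ∀ x ∈ Ub, x ^ p = 1) :
    ((p : ℕ) : AddMonoid.End (Additive ↥Ub)) = 0 := by
  ext x
  rw [AddMonoid.End.natCast_apply]
  show (((Additive.toMul x : ↥Ub) ^ p : ↥Ub) : Q) = 1
  rw [Subgroup.coe_pow]
  exact hexp _ (Additive.toMul x : ↥Ub).2

theorem toMul_sub_one_pow_mem (g : Q) (n : ℕ) (x : Additive ↥Ub) :
    ((Additive.toMul (((conjEnd Ub g - 1) ^ n) x) : ↥Ub) : Q) ∈
      Cfsg.iterCommutator Ub (Subgroup.zpowers g) n := by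
  induction n generalizing x with
  | zero =>
    show ((Additive.toMul x : ↥Ub) : Q) ∈ Ub
    exact (Additive.toMul x : ↥Ub).2
  | succ n ih =>
    rw [pow_succ']
    set y := ((conjEnd Ub g - 1) ^ n) x with hy
    have hy' := ih x
    rw [← hy] at hy'
    have h1 : ((Additive.toMul (((conjEnd Ub g - 1) * (conjEnd Ub g - 1) ^ n) x) : ↥Ub) : Q) =
        ⁅g, ((Additive.toMul y : ↥Ub) : Q)⁆ := by
      have h2 : ((conjEnd Ub g - 1) * (conjEnd Ub g - 1) ^ n) x = conjEnd Ub g y - y := rfl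
      rw [h2, toMul_sub, Subgroup.coe_div, div_eq_mul_inv, conjEnd_apply_coe, commutatorElement_def]
    rw [h1]
    show _ ∈ ⁅Cfsg.iterCommutator Ub (Subgroup.zpowers g) n, Subgroup.zpowers g⁆
    rw [Subgroup.commutator_comm]
    exact Subgroup.commutator_mem_commutator (Subgroup.mem_zpowers g) hy'

/-- the Engel condition gives `1 + g + ⋯ + g^(p-1) = 0` on `Ub` -/
theorem geom_sum_conjEnd_eq_zero {p : ℕ} [hp : Fact p.Prime] (hexp : ∀ x ∈ Ub, x ^ p = 1) (g : Q)
    (hit : Cfsg.iterCommutator Ub (Subgroup.zpowers g) (p - 1) = ⊥) :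
    ∑ i ∈ Finset.range p, (conjEnd Ub g) ^ i = 0 := by
  have hpR := natCast_conjEnd_eq_zero Ub hexp
  have hpow0 : (conjEnd Ub g - 1) ^ (p - 1) = 0 := by
    ext x
    have := toMul_sub_one_pow_mem Ub g (p - 1) x
    rw [hit, Subgroup.mem_bot] at this
    exact this
  rw [← Cfsg.Agent.Lib.Helper34.sub_one_pow_pred_eq_geom_sum hp.out hpR, hpow0]

end action

end Cfsg.Agent.Lib.Helper33
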