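import Cfsg.Agent.Lib.Helper33.CentricNormal
import Cfsg.Agent.Lib.Helper54.PCores

/-!
# Groups with a normal centric `p`-subgroup: the subgroup `T ∩ O_{p',p}(H)` (helper33 library)
-/

set_option autoImplicit false
set_option linter.unusedSectionVars false

namespace Cfsg.Agent.Lib.Helper33

open Cfsg

universe u

variable {p : ℕ}

/-- Sylow's theorem in `N ∩ QK` (`K` a normal `p'`-subgroup, `Q ≤ N` a `p`-group): a `p`-subgroup `R` of `N ∩ QK`
is conjugate into `Q` by an element of `N ∩ K`. (Same as helper51's `exists_mem_cj_le`.) -/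
theorem exists_mem_cj_le_of_pPrime [Fact p.Prime] {H : Type*} [Group H] [Finite H] (Q K N : Subgroup H)
    [K.Normal] (hQ : IsPGroup p Q)
    (hK : (Nat.card K).Coprime p) (hQN : Q ≤ N) {R : Subgroup H} (hRp : IsPGroup p R) (hRN : R ≤ N)
    (hRQK : R ≤ Q ⊔ K) : ∃ c ∈ N ⊓ K, cj c R ≤ Q := by
  have hp : p.Prime := Fact.out
  have hsyl : SylIn p Q (N ⊓ (Q ⊔ K)) := by
    refine ⟨le_inf hQN le_sup_left, hQ, ?_⟩
    intro hdvd
    have h1 := Subgroup.relIndex_mul_relIndex Q (N ⊓ (Q ⊔ K)) (Q ⊔ K) (le_inf hQN le_sup_left)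
      inf_le_right
    rw [relIndex_sup_pPrime hQ hK] at h1
    have h2 : p ∣ Nat.card K := by
      rw [← h1]; exact Dvd.dvd.mul_right hdvd _
    have := Nat.Coprime.eq_one_of_dvd hK.symm h2
    exact hp.one_lt.ne' this
  obtain ⟨l, hl, hlR⟩ := hsyl.exists_cj_le (le_inf hRN hRQK) hRp
  obtain ⟨q, hq, k, hk, rfl⟩ := exists_mul_of_mem_sup_normal hl.2
  refine ⟨k, ⟨?_, hk⟩, ?_⟩
  · have : k = q⁻¹ * (q * k) := by group
    rw [this]
    exact N.mul_mem (N.inv_mem (hQN hq)) hl.1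
  · have h1 : cj k R = cj q⁻¹ (cj (q * k) R) := by
      rw [← cj_mul]; congr 1; group
    rw [h1]
    calc cj q⁻¹ (cj (q * k) R) ≤ cj q⁻¹ Q := cj_mono hlR
      _ = Q := cj_eq_self_of_mem (Q.inv_mem hq)

/-- If `Z ≤ T` is a `p`-subgroup normalized by the Sylow subgroup `T`, and `Z K` is normal for a normal
`p'`-subgroup `K`, then `N(Z)` controls strong fusion in `T`. -/
theorem controls_of_sup_normal [Fact p.Prime] {H : Type*} [Group H] [Finite H] (T : Sylow p H)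
    (K Z : Subgroup H) [K.Normal] (hK : (Nat.card K).Coprime p) (hZT : Z ≤ (T : Subgroup H))
    (hZKn : (Z ⊔ K).Normal) (hTN : (T : Subgroup H) ≤ Subgroup.normalizer (Z : Set H))
    (A : Set H) (h : H) (hA : A ⊆ (T : Subgroup H))
    (hAh : (fun a => h * a * h⁻¹) '' A ⊆ (T : Subgroup H)) :
    ∃ x ∈ Subgroup.normalizer (Z : Set H), ∀ a ∈ A, x * a * x⁻¹ = h * a * h⁻¹ := by
  have hZp : IsPGroup p Z := T.isPGroup'.to_le hZT
  set N₁ := Subgroup.normalizer (Z : Set H) with hN₁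
  have hhN : h ∈ Subgroup.normalizer ((Z ⊔ K : Subgroup H) : Set H) := by
    rw [Subgroup.normalizer_eq_top_iff.mpr hZKn]; trivial
  obtain ⟨k, hk, hkh⟩ := exists_mul_mem_normalizer_of_sup hZp hK hhN
  set B₀ := Subgroup.closure A with hB₀
  have hB₀Q : B₀ ≤ (T : Subgroup H) := (Subgroup.closure_le _).mpr hA
  have hB₀h : cj h B₀ ≤ (T : Subgroup H) := by
    rw [cj_closure]
    exact (Subgroup.closure_le _).mpr hAh
  have hB₁p : IsPGroup p (cj (k * h) B₀) := isPGroup_cj (T.isPGroup'.to_le hB₀Q)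
  have hB₁N : cj (k * h) B₀ ≤ N₁ := cj_le_of_mem (hB₀Q.trans hTN) hkh
  have hB₁QK : cj (k * h) B₀ ≤ (T : Subgroup H) ⊔ K := by
    rw [cj_mul]
    exact (cj_mono hB₀h).trans
      (cj_le_of_mem (le_sup_left : (T : Subgroup H) ≤ (T : Subgroup H) ⊔ K) (Subgroup.mem_sup_right hk))
  obtain ⟨c, ⟨hcN, hcK⟩, hcB⟩ := exists_mem_cj_le_of_pPrime (T : Subgroup H) K N₁ T.isPGroup' hK hTN hB₁p
    hB₁N hB₁QK
  refine ⟨c * (k * h), N₁.mul_mem hcN hkh, ?_⟩
  intro a ha
  have h1 : c * ((k * h) * a * (k * h)⁻¹) * c⁻¹ ∈ (T : Subgroup H) :=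
    hcB (conj_mem_cj (conj_mem_cj (Subgroup.subset_closure ha)))
  have h2 : h * a * h⁻¹ ∈ (T : Subgroup H) := hAh ⟨a, ha, rfl⟩
  have hmk : ∀ k' ∈ K, QuotientGroup.mk' K k' = 1 := by
    intro k' hk'
    rw [QuotientGroup.mk'_apply, QuotientGroup.eq_one_iff]; exact hk'
  have h3 : (h * a * h⁻¹)⁻¹ * (c * ((k * h) * a * (k * h)⁻¹) * c⁻¹) ∈ (T : Subgroup H) ⊓ K := by
    refine ⟨Subgroup.mul_mem _ (Subgroup.inv_mem _ h2) h1, ?_⟩
    show (h * a * h⁻¹)⁻¹ * (c * ((k * h) * a * (k * h)⁻¹) * c⁻¹) ∈ K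
    rw [← QuotientGroup.eq_one_iff, ← QuotientGroup.mk'_apply]
    simp only [map_mul, map_inv, hmk c hcK, hmk k hk, one_mul]
    group
  rw [pGroup_inf_pPrime_eq_bot T.isPGroup' hK, Subgroup.mem_bot] at h3
  have h4 : c * (k * h) * a * (c * (k * h))⁻¹ = c * ((k * h) * a * (k * h)⁻¹) * c⁻¹ := by group
  rw [h4]
  calc c * ((k * h) * a * (k * h)⁻¹) * c⁻¹
      = (h * a * h⁻¹) * ((h * a * h⁻¹)⁻¹ * (c * ((k * h) * a * (k * h)⁻¹) * c⁻¹)) := by group
    _ = h * a * h⁻¹ := by rw [h3, mul_one]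

section main

variable [Fact p.Prime] {H : Type u} [Group H] [Finite H]

/-- `T ∩ O_{p',p}(H)` -/
def qSub (T : Sylow p H) : Subgroup H := (T : Subgroup H) ⊓ pPrimePCore p H

theorem qSub_le (T : Sylow p H) : qSub T ≤ (T : Subgroup H) := inf_le_left

theorem qSub_le_pPrimePCore (T : Sylow p H) : qSub T ≤ pPrimePCore p H := inf_le_right

theorem le_normalizer_qSub (T : Sylow p H) : (T : Subgroup H) ≤ Subgroup.normalizer (qSub T : Set H) := by
  intro t ht
  rw [mem_normalizer_iff_cj_eq]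
  unfold qSub
  rw [cj_inf, cj_eq_self_of_mem ht]
  congr 1
  exact cj_eq_self_of_mem_normalizer (by rw [Subgroup.normalizer_eq_top]; trivial)

theorem le_qSub (T : Sylow p H) (U : Subgroup H) [hUn : U.Normal] (hUT : U ≤ (T : Subgroup H)) :
    U ≤ qSub T := by
  refine le_inf hUT ?_
  apply Cfsg.Agent.Lib.Helper54.le_pPrimePCore p hUn
  intro g hg
  obtain ⟨n, hn⟩ := (T.isPGroup'.to_le hUT) ⟨g, hg⟩
  refine ⟨n, ?_⟩
  have : g ^ p ^ n = 1 := by
    have := congrArg Subtype.val hn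
    simpa using this
  rw [this]
  exact Subgroup.one_mem _

theorem qSub_sup (T : Sylow p H) : qSub T ⊔ pPrimeCore p H = pPrimePCore p H := by
  apply le_antisymm (sup_le (qSub_le_pPrimePCore T) (Cfsg.Agent.Lib.Helper54.pPrimeCore_le_pPrimePCore p))
  obtain ⟨P0⟩ : Nonempty (Sylow p ↥(pPrimePCore p H)) := inferInstance
  have h1 := Cfsg.Agent.Lib.Helper54.pPrimeCore_sup_sylow p P0
  set R := (P0 : Subgroup ↥(pPrimePCore p H)).map (pPrimePCore p H).subtype with hR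
  have hRp : IsPGroup p R := P0.isPGroup'.map _
  have hRY : R ≤ pPrimePCore p H := by
    rintro _ ⟨x, _, rfl⟩
    exact x.2
  obtain ⟨g, -, hg⟩ := (sylIn_top T).exists_cj_le (le_top : R ≤ ⊤) hRp
  have hYn : cj g (pPrimePCore p H) = pPrimePCore p H :=
    cj_eq_self_of_mem_normalizer (by rw [Subgroup.normalizer_eq_top]; trivial)
  have hKn : cj g (pPrimeCore p H) = pPrimeCore p H :=
    cj_eq_self_of_mem_normalizer (by rw [Subgroup.normalizer_eq_top]; trivial)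
  have hgR : cj g R ≤ qSub T := le_inf hg (by rw [← hYn]; exact cj_mono hRY)
  calc pPrimePCore p H = cj g (pPrimePCore p H) := hYn.symm
    _ = cj g (pPrimeCore p H ⊔ R) := by rw [h1]
    _ = pPrimeCore p H ⊔ cj g R := by rw [cj_sup, hKn]
    _ ≤ qSub T ⊔ pPrimeCore p H := by
        rw [sup_comm]
        exact sup_le_sup_right hgR _

theorem controls_qSub (T : Sylow p H) (A : Set H) (h : H) (hA : A ⊆ (T : Subgroup H))
    (hAh : (fun a => h * a * h⁻¹) '' A ⊆ (T : Subgroup H)) :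
    ∃ x ∈ Subgroup.normalizer (qSub T : Set H), ∀ a ∈ A, x * a * x⁻¹ = h * a * h⁻¹ := by
  apply controls_of_sup_normal T (pPrimeCore p H) (qSub T) (Cfsg.Agent.Lib.Helper54.card_pPrimeCore_coprime p)
    (qSub_le T) _ (le_normalizer_qSub T) A h hA hAh
  rw [qSub_sup]
  infer_instance

theorem exists_mul_normalizer_qSub (T : Sylow p H) (h : H) :
    ∃ v ∈ pPrimeCore p H, ∃ n ∈ Subgroup.normalizer (qSub T : Set H), h = v * n := by
  have hhN : h ∈ Subgroup.normalizer ((qSub T ⊔ pPrimeCore p H : Subgroup H) : Set H) := by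
    rw [qSub_sup, Subgroup.normalizer_eq_top]; trivial
  obtain ⟨k, hk, hkh⟩ := exists_mul_mem_normalizer_of_sup (T.isPGroup'.to_le (qSub_le T))
    (Cfsg.Agent.Lib.Helper54.card_pPrimeCore_coprime p) hhN
  exact ⟨k⁻¹, Subgroup.inv_mem _ hk, k * h, hkh, by group⟩

theorem centralizer_qSub_le (T : Sylow p H) (U : Subgroup H) [hUn : U.Normal] (hUT : U ≤ (T : Subgroup H))
    (hcent : (T : Subgroup H) ⊓ Subgroup.centralizer (U : Set H) ≤ U) :
    Subgroup.centralizer (qSub T : Set H) ≤ pPrimePCore p H := by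
  have hcon := constrained_quotient_of_normal_centric T U hUT hcent (pPrimeCore p H)
    (Cfsg.Agent.Lib.Helper54.card_pPrimeCore_coprime p)
    (fun N hN hc => Cfsg.Agent.Lib.Helper76.le_pPrimeCore p N hN hc)
  intro x hx
  rw [Cfsg.Agent.Lib.Helper54.mem_pPrimePCore_iff]
  apply hcon
  rw [Subgroup.mem_centralizer_iff]
  intro yb hyb
  obtain ⟨y, rfl⟩ := QuotientGroup.mk'_surjective (pPrimeCore p H) yb
  have hyY : y ∈ pPrimePCore p H := hyb
  rw [← qSub_sup T] at hyY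
  obtain ⟨q, hq, k, hk, rfl⟩ := exists_mul_of_mem_sup_normal hyY
  have hmk : QuotientGroup.mk' (pPrimeCore p H) k = 1 := by
    rw [QuotientGroup.mk'_apply, QuotientGroup.eq_one_iff]; exact hk
  have h1 := (Subgroup.mem_centralizer_iff.mp hx) q hq
  rw [map_mul, hmk, mul_one, ← map_mul, ← map_mul, h1]

end main

end Cfsg.Agent.Lib.Helper33
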