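import Cfsg.Agent.Lib.Helper33.ConstrainedLocal

/-!
# The subgroups `O_{p'}(L)`, `O_{p',p}(L)` of a local subgroup `L` with a normal centric `p`-subgroup,
as subgroups of the ambient group (helper33 library)
-/

set_option autoImplicit false

namespace Cfsg.Agent.Lib.Helper33

open Cfsg

universe u

variable {p : ℕ}

/-- for `K` normal in `↥L`, `L` normalizes the image of `K` in `G` -/
theorem le_normalizer_map_subtype_of_normal {G : Type*} [Group G] (L : Subgroup G) (K : Subgroup ↥L)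
    [hK : K.Normal] : L ≤ Subgroup.normalizer ((K.map L.subtype : Subgroup G) : Set G) := by
  intro l hl
  have h1 : (⟨l, hl⟩ : ↥L) ∈ Subgroup.normalizer (K : Set ↥L) := by
    rw [Subgroup.normalizer_eq_top]; trivial
  exact Subgroup.le_normalizer_map L.subtype ⟨⟨l, hl⟩, h1, rfl⟩

/-- **Package.** `S` a Sylow `p`-subgroup of `G`, `W ≤ S` with `C_S(W) ≤ W`, `S ≤ L ≤ N_G(W)`. With `V = O_{p'}(L)`,
`Y = O_{p',p}(L)` and `Q = S ∩ Y`: -/
theorem exists_local_cores [Fact p.Prime] {G : Type u} [Group G] [Finite G] (S : Sylow p G) (W L : Subgroup G)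
    (hWS : W ≤ (S : Subgroup G)) (hSL : (S : Subgroup G) ≤ L)
    (hLW : L ≤ Subgroup.normalizer (W : Set G))
    (hcent : (S : Subgroup G) ⊓ Subgroup.centralizer (W : Set G) ≤ W) :
    ∃ V Y : Subgroup G,
      (V ≤ Y ∧ Y ≤ L ∧ L ≤ Subgroup.normalizer (V : Set G) ∧ L ≤ Subgroup.normalizer (Y : Set G)) ∧
      (Nat.card V).Coprime p ∧
      (∀ y ∈ Y, ∃ k : ℕ, y ^ p ^ k ∈ V) ∧
      (∀ X : Subgroup G, X ≤ L → L ≤ Subgroup.normalizer (X : Set G) →
        (∀ x ∈ X, ∃ k : ℕ, x ^ p ^ k ∈ V) → X ≤ Y) ∧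
      W ≤ Y ∧
      (∀ y ∈ Y, ∃ q ∈ (S : Subgroup G) ⊓ Y, ∃ v ∈ V, y = q * v) ∧
      (∀ l ∈ L, ∃ v ∈ V, ∃ n ∈ L ⊓ Subgroup.normalizer (((S : Subgroup G) ⊓ Y : Subgroup G) : Set G),
        l = v * n) ∧
      L ⊓ Subgroup.centralizer (((S : Subgroup G) ⊓ Y : Subgroup G) : Set G) ≤ Y ∧
      (∀ (A : Set G) (l : G), l ∈ L → A ⊆ (S : Subgroup G) →
        (fun a => l * a * l⁻¹) '' A ⊆ (S : Subgroup G) →
        ∃ x ∈ L ⊓ Subgroup.normalizer (((S : Subgroup G) ⊓ Y : Subgroup G) : Set G),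
          ∀ a ∈ A, x * a * x⁻¹ = l * a * l⁻¹) := by
  have hsyl : SylIn p (S : Subgroup G) L := sylIn_of_sylow_le S hSL
  set T : Sylow p ↥L := hsyl.toSylow with hT
  have hTcoe : (T : Subgroup ↥L) = (S : Subgroup G).subgroupOf L := rfl
  set U : Subgroup ↥L := W.subgroupOf L with hU
  have hWL : W ≤ L := hWS.trans hSL
  have hUn : U.Normal := (Subgroup.normal_subgroupOf_iff_le_normalizer hWL).mpr hLW
  have hUT : U ≤ (T : Subgroup ↥L) := by
    intro x hx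
    rw [hTcoe, Subgroup.mem_subgroupOf]
    exact hWS hx
  have hcentT : (T : Subgroup ↥L) ⊓ Subgroup.centralizer (U : Set ↥L) ≤ U := by
    intro x hx
    rw [hU, Subgroup.mem_subgroupOf]
    apply hcent
    refine ⟨hx.1, ?_⟩
    show (x : G) ∈ Subgroup.centralizer (W : Set G)
    rw [Subgroup.mem_centralizer_iff]
    intro w hw
    have h1 := (Subgroup.mem_centralizer_iff.mp hx.2) ⟨w, hWL hw⟩ hw
    exact congrArg Subtype.val h1
  set K : Subgroup ↥L := pPrimeCore p ↥L with hK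
  set Yt : Subgroup ↥L := pPrimePCore p ↥L with hYt
  have hinj : Function.Injective L.subtype := L.subtype_injective
  -- the key identification
  have hkey : (qSub T).map L.subtype = (S : Subgroup G) ⊓ Yt.map L.subtype := by
    unfold qSub
    rw [Subgroup.map_inf _ _ _ hinj, hTcoe, Subgroup.subgroupOf_map_subtype, inf_of_le_left hSL]
  have hmemV : ∀ {x : ↥L}, (x : G) ∈ K.map L.subtype → x ∈ K := by
    rintro x ⟨k, hk, hkx⟩
    have : k = x := Subtype.ext hkx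
    rwa [← this]
  have hmemY : ∀ {x : ↥L}, (x : G) ∈ Yt.map L.subtype → x ∈ Yt := by
    rintro x ⟨k, hk, hkx⟩
    have : k = x := Subtype.ext hkx
    rwa [← this]
  have hmemQ : ∀ {x : ↥L}, (x : G) ∈ (S : Subgroup G) ⊓ Yt.map L.subtype → x ∈ qSub T := by
    intro x hx
    exact ⟨hx.1, hmemY hx.2⟩
  have hnormQ : ∀ n : ↥L, n ∈ Subgroup.normalizer (qSub T : Set ↥L) →
      (n : G) ∈ L ⊓ Subgroup.normalizer (((S : Subgroup G) ⊓ Yt.map L.subtype : Subgroup G) : Set G) := by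
    intro n hn
    refine ⟨n.2, ?_⟩
    rw [← hkey]
    exact Subgroup.le_normalizer_map L.subtype ⟨n, hn, rfl⟩
  refine ⟨K.map L.subtype, Yt.map L.subtype, ⟨?_, ?_, ?_, ?_⟩, ?_, ?_, ?_, ?_, ?_, ?_, ?_, ?_⟩
  · exact Subgroup.map_mono (Cfsg.Agent.Lib.Helper54.pPrimeCore_le_pPrimePCore p)
  · exact Subgroup.map_subtype_le _
  · exact le_normalizer_map_subtype_of_normal L K
  · exact le_normalizer_map_subtype_of_normal L Yt
  · rw [Nat.card_congr (K.equivMapOfInjective _ hinj).symm.toEquiv]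
    exact Cfsg.Agent.Lib.Helper54.card_pPrimeCore_coprime p
  · rintro _ ⟨y, hy, rfl⟩
    obtain ⟨n, hn⟩ := Cfsg.Agent.Lib.Helper54.exists_pow_mem_pPrimeCore p hy
    exact ⟨n, ⟨y ^ p ^ n, hn, by simp⟩⟩
  · intro X hXL hLX hX
    have hXn : (X.subgroupOf L).Normal := (Subgroup.normal_subgroupOf_iff_le_normalizer hXL).mpr hLX
    have h1 : X.subgroupOf L ≤ Yt := by
      apply Cfsg.Agent.Lib.Helper54.le_pPrimePCore p hXn
      intro g hg
      obtain ⟨k, hk⟩ := hX g.1 hg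
      refine ⟨k, hmemV ?_⟩
      simpa using hk
    intro x hx
    exact ⟨⟨x, hXL hx⟩, h1 hx, rfl⟩
  · intro w hw
    have h1 : (⟨w, hWL hw⟩ : ↥L) ∈ qSub T := le_qSub T U hUT hw
    exact ⟨⟨w, hWL hw⟩, qSub_le_pPrimePCore T h1, rfl⟩
  · rintro _ ⟨y, hy, rfl⟩
    have hy' : y ∈ qSub T ⊔ K := by rw [qSub_sup]; exact hy
    obtain ⟨q, hq, k, hk, rfl⟩ := exists_mul_of_mem_sup_normal hy'
    refine ⟨q.1, ?_, k.1, ⟨k, hk, rfl⟩, by simp⟩
    rw [← hkey]
    exact ⟨q, hq, rfl⟩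
  · intro l hl
    obtain ⟨v, hv, n, hn, hvn⟩ := exists_mul_normalizer_qSub T ⟨l, hl⟩
    refine ⟨v.1, ⟨v, hv, rfl⟩, n.1, hnormQ n hn, ?_⟩
    have := congrArg Subtype.val hvn
    simpa using this
  · intro x hx
    have h1 : (⟨x, hx.1⟩ : ↥L) ∈ Subgroup.centralizer (qSub T : Set ↥L) := by
      rw [Subgroup.mem_centralizer_iff]
      intro q hq
      apply Subtype.ext
      have hqQ : (q : G) ∈ (S : Subgroup G) ⊓ Yt.map L.subtype := by
        rw [← hkey]; exact ⟨q, hq, rfl⟩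
      exact (Subgroup.mem_centralizer_iff.mp hx.2) q.1 hqQ
    exact ⟨⟨x, hx.1⟩, centralizer_qSub_le T U hUT hcentT h1, rfl⟩
  · intro A l hl hA hAl
    have hA' : (L.subtype ⁻¹' A) ⊆ ((T : Subgroup ↥L) : Set ↥L) := by
      intro a ha
      show a ∈ (T : Subgroup ↥L)
      rw [hTcoe, Subgroup.mem_subgroupOf]
      exact hA ha
    have hAl' : (fun a => (⟨l, hl⟩ : ↥L) * a * (⟨l, hl⟩ : ↥L)⁻¹) '' (L.subtype ⁻¹' A) ⊆
        ((T : Subgroup ↥L) : Set ↥L) := by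
      rintro _ ⟨a, ha, rfl⟩
      show _ ∈ (T : Subgroup ↥L)
      rw [hTcoe, Subgroup.mem_subgroupOf]
      exact hAl ⟨a.1, ha, rfl⟩
    obtain ⟨x, hx, hxa⟩ := controls_qSub T (L.subtype ⁻¹' A) ⟨l, hl⟩ hA' hAl'
    refine ⟨x.1, hnormQ x hx, ?_⟩
    intro a ha
    have haL : a ∈ L := hSL (hA ha)
    have := congrArg Subtype.val (hxa ⟨a, haL⟩ ha)
    simpa using this

end Cfsg.Agent.Lib.Helper33
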