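import Cfsg.Agent.Lib.Helper33.CrLemmas

/-!
# The least centric-radical subgroup of a group with a controlling constrained local subgroup (helper33 library)
-/

set_option autoImplicit false
set_option linter.unusedSectionVars false

namespace Cfsg.Agent.Lib.Helper33

open Cfsg

universe u

/-- the data produced by `exists_local_cores` together with control of strong fusion by `L` -/
structure CrData (p : ℕ) {G : Type*} [Group G] (S W L V Y : Subgroup G) : Prop where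
  hWS : W ≤ S
  hSL : S ≤ L
  hVY : V ≤ Y
  hYL : Y ≤ L
  hLV : L ≤ Subgroup.normalizer (V : Set G)
  hLY : L ≤ Subgroup.normalizer (Y : Set G)
  hVc : (Nat.card V).Coprime p
  hpow : ∀ y ∈ Y, ∃ k : ℕ, y ^ p ^ k ∈ V
  hmax : ∀ X : Subgroup G, X ≤ L → L ≤ Subgroup.normalizer (X : Set G) →
    (∀ x ∈ X, ∃ k : ℕ, x ^ p ^ k ∈ V) → X ≤ Y
  hWY : W ≤ Y
  hdec : ∀ y ∈ Y, ∃ q ∈ S ⊓ Y, ∃ v ∈ V, y = q * v
  hfrat : ∀ l ∈ L, ∃ v ∈ V, ∃ n ∈ L ⊓ Subgroup.normalizer ((S ⊓ Y : Subgroup G) : Set G), l = v * n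
  hcen : L ⊓ Subgroup.centralizer ((S ⊓ Y : Subgroup G) : Set G) ≤ Y
  hctlQ : ∀ (A : Set G) (l : G), l ∈ L → A ⊆ S → (fun a => l * a * l⁻¹) '' A ⊆ S →
    ∃ x ∈ L ⊓ Subgroup.normalizer ((S ⊓ Y : Subgroup G) : Set G), ∀ a ∈ A, x * a * x⁻¹ = l * a * l⁻¹
  hctlL : ∀ (A : Set G) (g : G), A ⊆ S → (fun a => g * a * g⁻¹) '' A ⊆ S →
    ∃ x ∈ L, ∀ a ∈ A, x * a * x⁻¹ = g * a * g⁻¹
  hcentW : S ⊓ Subgroup.centralizer (W : Set G) ≤ W

/-- the data exist for `W = K_∞(S)`, `L = N_G(W)` when automizers of `p`-subgroups are `SL₂(p)`-free -/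
theorem exists_crData {p : ℕ} [Fact p.Prime] (hp : p ≠ 2) {G : Type u} [Group G] [Finite G]
    (hfree : AutSL2Free p G) (S : Sylow p G) :
    ∃ W L V Y : Subgroup G, CrData p (S : Subgroup G) W L V Y := by
  set W := Cfsg.inducedFunctor Cfsg.kInfLower (S : Subgroup G) with hW
  set L := Subgroup.normalizer (W : Set G) with hL
  have hsec := secProp_ecn_of_autSL2Free hp hfree
  have hWS : W ≤ (S : Subgroup G) := kInfLower_le S
  have hSL : (S : Subgroup G) ≤ L := le_normalizer_kInfLower S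
  have hcent := inf_centralizer_kInfLower_le S
  obtain ⟨V, Y, ⟨h1, h2, h3, h4⟩, h5, h6, h7, h8, h9, h10, h11, h12⟩ :=
    exists_local_cores S W L hWS hSL le_rfl hcent
  exact ⟨W, L, V, Y, ⟨hWS, hSL, h1, h2, h3, h4, h5, h6, h7, h8, h9, h10, h11, h12,
    fun A g hA hAg => kInfLower_controls_explicit hsec S A g hA hAg, hcent⟩⟩

namespace CrData

variable {p : ℕ} [Fact p.Prime] {G : Type*} [Group G] [Finite G] {S : Sylow p G} {W L V Y : Subgroup G}

theorem hQS (_d : CrData p (S : Subgroup G) W L V Y) : (S : Subgroup G) ⊓ Y ≤ (S : Subgroup G) := inf_le_left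

theorem hWQ (d : CrData p (S : Subgroup G) W L V Y) : W ≤ (S : Subgroup G) ⊓ Y := le_inf d.hWS d.hWY

/-- `S` normalizes `Q = S ∩ Y` -/
theorem le_normalizer_Q (d : CrData p (S : Subgroup G) W L V Y) :
    (S : Subgroup G) ≤ Subgroup.normalizer (((S : Subgroup G) ⊓ Y : Subgroup G) : Set G) := by
  intro s hs
  rw [mem_normalizer_iff_cj_eq, cj_inf, cj_eq_self_of_mem hs,
    cj_eq_self_of_mem_normalizer (d.hLY (d.hSL hs))]

/-- `N_G(Q)` controls strong fusion in `S` -/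
theorem control_Q (d : CrData p (S : Subgroup G) W L V Y) (A : Set G) (g : G) (hA : A ⊆ (S : Subgroup G))
    (hAg : (fun a => g * a * g⁻¹) '' A ⊆ (S : Subgroup G)) :
    ∃ n ∈ Subgroup.normalizer (((S : Subgroup G) ⊓ Y : Subgroup G) : Set G),
      ∀ a ∈ A, n * a * n⁻¹ = g * a * g⁻¹ := by
  obtain ⟨x, hxL, hx⟩ := d.hctlL A g hA hAg
  have hAx : (fun a => x * a * x⁻¹) '' A ⊆ (S : Subgroup G) := by
    rintro _ ⟨a, ha, rfl⟩
    show x * a * x⁻¹ ∈ (S : Subgroup G)
    rw [hx a ha]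
    exact hAg ⟨a, ha, rfl⟩
  obtain ⟨n, hn, hna⟩ := d.hctlQ A x hxL hA hAx
  exact ⟨n, hn.2, fun a ha => (hna a ha).trans (hx a ha)⟩

/-- `S ∩ C_G(Q) ≤ Q` -/
theorem inf_centralizer_Q_le (d : CrData p (S : Subgroup G) W L V Y) :
    (S : Subgroup G) ⊓ Subgroup.centralizer (((S : Subgroup G) ⊓ Y : Subgroup G) : Set G) ≤
      (S : Subgroup G) ⊓ Y := by
  intro x hx
  apply d.hWQ
  apply d.hcentW
  exact ⟨hx.1, Subgroup.centralizer_le (fun w hw => d.hWQ hw) hx.2⟩

/-- `Z(Q)` is a Sylow subgroup of `C_G(Q)` -/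
theorem sylIn_centralizer_Q (d : CrData p (S : Subgroup G) W L V Y) :
    SylIn p (((S : Subgroup G) ⊓ Y) ⊓ Subgroup.centralizer (((S : Subgroup G) ⊓ Y : Subgroup G) : Set G))
      (Subgroup.centralizer (((S : Subgroup G) ⊓ Y : Subgroup G) : Set G)) := by
  have hfn : FullyNormalized p (S : Subgroup G) ((S : Subgroup G) ⊓ Y) := by
    unfold FullyNormalized
    rw [inf_of_le_left d.le_normalizer_Q]
    exact (sylIn_of_sylow_le S d.le_normalizer_Q).not_dvd
  have h1 := hfn.sylIn_centralizer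
  have h2 : (S : Subgroup G) ⊓ Subgroup.centralizer (((S : Subgroup G) ⊓ Y : Subgroup G) : Set G) =
      ((S : Subgroup G) ⊓ Y) ⊓ Subgroup.centralizer (((S : Subgroup G) ⊓ Y : Subgroup G) : Set G) := by
    apply le_antisymm
    · exact le_inf d.inf_centralizer_Q_le inf_le_right
    · exact inf_le_inf_right _ inf_le_left
  rwa [h2] at h1

omit [Fact p.Prime] [Finite G] in
theorem normalizer_le_normalizer_centralizer (P : Subgroup G) :
    Subgroup.normalizer (P : Set G) ≤ Subgroup.normalizer ((Subgroup.centralizer (P : Set G) : Subgroup G) : Set G) := by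
  intro g hg
  rw [mem_normalizer_iff_cj_eq, cj_centralizer, cj_eq_self_of_mem_normalizer hg]

/-- `Q` is radical -/
theorem radical_Q (d : CrData p (S : Subgroup G) W L V Y) (X : Subgroup G)
    (hXN : X ≤ Subgroup.normalizer (((S : Subgroup G) ⊓ Y : Subgroup G) : Set G))
    (hXinv : ∀ n ∈ Subgroup.normalizer (((S : Subgroup G) ⊓ Y : Subgroup G) : Set G), cj n X = X)
    (hMX : ((S : Subgroup G) ⊓ Y) ⊔ Subgroup.centralizer (((S : Subgroup G) ⊓ Y : Subgroup G) : Set G) ≤ X)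
    (hidx : ∃ k : ℕ, (((S : Subgroup G) ⊓ Y) ⊔
      Subgroup.centralizer (((S : Subgroup G) ⊓ Y : Subgroup G) : Set G)).relIndex X = p ^ k) :
    X = ((S : Subgroup G) ⊓ Y) ⊔ Subgroup.centralizer (((S : Subgroup G) ⊓ Y : Subgroup G) : Set G) := by
  have hp : p.Prime := Fact.out
  set Q : Subgroup G := (S : Subgroup G) ⊓ Y with hQ
  set C : Subgroup G := Subgroup.centralizer (Q : Set G) with hC
  set N : Subgroup G := Subgroup.normalizer (Q : Set G) with hN
  have hSN : (S : Subgroup G) ≤ N := d.le_normalizer_Q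
  set T : Subgroup G := (S : Subgroup G) ⊓ X with hT
  have hTsyl : SylIn p T X :=
    (sylIn_of_sylow_le S hSN).inf_of_le_normalizer hXN
      (fun n hn => mem_normalizer_iff_cj_eq.mpr (hXinv n hn))
  have hQT : Q ≤ T := le_inf inf_le_left (le_sup_left.trans hMX)
  have hTL : T ≤ L := inf_le_left.trans d.hSL
  have hX1 : X ≤ T ⊔ C := by
    obtain ⟨k, hk⟩ := hidx
    have h1 : ((Q ⊔ C) ⊔ T).relIndex X ∣ p ^ k := by
      rw [← hk]
      exact Subgroup.relIndex_dvd_of_le_left X le_sup_left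
    have h2 : ((Q ⊔ C) ⊔ T).relIndex X ∣ T.relIndex X :=
      Subgroup.relIndex_dvd_of_le_left X le_sup_right
    obtain ⟨j, -, hj'⟩ := (Nat.dvd_prime_pow hp).mp h1
    have hj0 : j = 0 := by
      by_contra h
      apply hTsyl.not_dvd
      refine (dvd_pow_self p h).trans ?_
      rw [← hj']
      exact h2
    rw [hj0, pow_zero] at hj'
    have h3 := Subgroup.relIndex_eq_one.mp hj'
    calc X ≤ (Q ⊔ C) ⊔ T := h3
      _ ≤ T ⊔ C := sup_le (sup_le (hQT.trans le_sup_left) le_sup_right) le_sup_left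
  have hTC : T ≤ Subgroup.normalizer (C : Set G) :=
    (inf_le_left.trans hSN).trans (normalizer_le_normalizer_centralizer Q)
  -- elements of `X ∩ L`
  have hXL : ∀ x ∈ X ⊓ L, ∃ t ∈ T, ∃ c ∈ Y, x = t * c := by
    intro x hx
    obtain ⟨t, ht, c, hc, rfl⟩ := exists_mul_of_mem_sup_of_le_normalizer hTC (hX1 hx.1)
    refine ⟨t, ht, c, d.hcen ⟨?_, hc⟩, rfl⟩
    have : c = t⁻¹ * (t * c) := by group
    rw [this]
    exact L.mul_mem (L.inv_mem (hTL ht)) hx.2
  set X4 : Subgroup G := (X ⊓ L) ⊔ Y with hX4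
  have hX4L : X4 ≤ L := sup_le inf_le_right d.hYL
  have hX4inv : L ≤ Subgroup.normalizer (X4 : Set G) := by
    intro l hl
    obtain ⟨v, hv, n, hn, rfl⟩ := d.hfrat l hl
    rw [mem_normalizer_iff_cj_eq]
    have h1 : cj n X4 = X4 := by
      rw [hX4, cj_sup, cj_inf, hXinv n hn.2, cj_eq_self_of_mem hn.1,
        cj_eq_self_of_mem_normalizer (d.hLY hn.1)]
    have h2 : cj v X4 = X4 := cj_eq_self_of_mem (le_sup_right (a := X ⊓ L) (d.hVY hv))
    rw [cj_mul, h1, h2]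
  have hX4pow : ∀ x ∈ X4, ∃ k : ℕ, x ^ p ^ k ∈ V := by
    intro x hx
    obtain ⟨u, hu, y', hy', rfl⟩ :=
      exists_mul_of_mem_sup_of_le_normalizer ((inf_le_right : X ⊓ L ≤ L).trans d.hLY) hx
    obtain ⟨t, ht, c, hc, rfl⟩ := hXL u hu
    have htS : t ∈ (S : Subgroup G) := ht.1
    obtain ⟨a, ha⟩ := S.isPGroup' ⟨t, htS⟩
    have hta : t ^ p ^ a = 1 := by
      have := congrArg Subtype.val ha
      simpa using this
    have htN : t ∈ Subgroup.normalizer (Y : Set G) := d.hLY (d.hSL htS)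
    obtain ⟨y'', hy'', he⟩ := exists_pow_mul_eq htN (Y.mul_mem hc hy') (p ^ a)
    rw [hta, one_mul] at he
    obtain ⟨b, hb⟩ := d.hpow y'' hy''
    refine ⟨a + b, ?_⟩
    have : (t * c * y') ^ p ^ (a + b) = y'' ^ p ^ b := by
      rw [pow_add, pow_mul, mul_assoc, he]
    rw [this]
    exact hb
  have hX4Y : X4 ≤ Y := d.hmax X4 hX4L hX4inv hX4pow
  have hTQ : T ≤ Q := by
    intro t ht
    exact ⟨ht.1, hX4Y (le_sup_left (b := Y) ⟨ht.2, hTL ht⟩)⟩
  apply le_antisymm _ hMX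
  exact hX1.trans (sup_le (hTQ.trans le_sup_left) le_sup_right)

/-- `Q` lies in every centric-radical subgroup `R` of `S` -/
theorem minimal_Q (d : CrData p (S : Subgroup G) W L V Y) (R : Subgroup G) (hRS : R ≤ (S : Subgroup G))
    (hRsyl : SylIn p (R ⊓ Subgroup.centralizer (R : Set G)) (Subgroup.centralizer (R : Set G)))
    (hrad : ∀ X : Subgroup G, X ≤ Subgroup.normalizer (R : Set G) →
      (∀ n ∈ Subgroup.normalizer (R : Set G), cj n X = X) →
      R ⊔ Subgroup.centralizer (R : Set G) ≤ X →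
      (∃ k : ℕ, (R ⊔ Subgroup.centralizer (R : Set G)).relIndex X = p ^ k) →
      X = R ⊔ Subgroup.centralizer (R : Set G)) :
    (S : Subgroup G) ⊓ Y ≤ R := by
  set Q : Subgroup G := (S : Subgroup G) ⊓ Y with hQ
  set C : Subgroup G := Subgroup.centralizer (R : Set G) with hC
  set N : Subgroup G := Subgroup.normalizer (R : Set G) with hN
  have hCN : C ≤ N := Subgroup.centralizer_le_normalizer _
  have hRN : R ≤ N := Subgroup.le_normalizer
  have hNC : N ≤ Subgroup.normalizer (C : Set G) := normalizer_le_normalizer_centralizer R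
  have hRp : IsPGroup p R := S.isPGroup'.to_le hRS
  -- `N = (L ∩ N) C`
  have hN1 : ∀ g ∈ N, ∃ l ∈ L ⊓ N, ∃ c ∈ C, g = l * c := by
    intro g hg
    have hRg : (fun a => g * a * g⁻¹) '' (R : Set G) ⊆ (S : Subgroup G) := by
      rintro _ ⟨a, ha, rfl⟩
      exact hRS ((Subgroup.mem_normalizer_iff.mp hg a).mp ha)
    obtain ⟨x, hxL, hx⟩ := d.hctlL (R : Set G) g (fun a ha => hRS ha) hRg
    have hxg : x⁻¹ * g ∈ C := by
      rw [hC, Subgroup.mem_centralizer_iff]
      intro a ha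
      have h1 := hx a ha
      calc a * (x⁻¹ * g) = x⁻¹ * (x * a * x⁻¹) * g := by group
        _ = x⁻¹ * (g * a * g⁻¹) * g := by rw [h1]
        _ = x⁻¹ * g * a := by group
    have hxN : x ∈ N := by
      have : x = g * (x⁻¹ * g)⁻¹ := by group
      rw [this]
      exact N.mul_mem hg (N.inv_mem (hCN hxg))
    exact ⟨x, ⟨hxL, hxN⟩, x⁻¹ * g, hxg, by group⟩
  set D : Subgroup G := Y ⊓ N with hD
  set X : Subgroup G := (R ⊔ C) ⊔ D with hX
  have hXN : X ≤ N := sup_le (sup_le hRN hCN) inf_le_right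
  have hXinv : ∀ n ∈ N, cj n X = X := by
    intro n hn
    obtain ⟨l, hl, c, hc, rfl⟩ := hN1 n hn
    have h1 : cj c X = X :=
      cj_eq_self_of_mem (le_sup_left (b := D) (le_sup_right (a := R) hc))
    have h2 : cj l X = X := by
      have e1 : cj l R = R := cj_eq_self_of_mem_normalizer hl.2
      have e2 : cj l C = C := cj_eq_self_of_mem_normalizer (hNC hl.2)
      have e3 : cj l Y = Y := cj_eq_self_of_mem_normalizer (d.hLY hl.1)
      have e4 : cj l N = N := cj_eq_self_of_mem hl.2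
      rw [hX, hD, cj_sup, cj_sup, cj_inf, e1, e2, e3, e4]
    rw [cj_mul, h1, h2]
  -- `V ∩ N ≤ C`
  have hVN : V ⊓ N ≤ C := by
    intro z hz
    rw [hC, Subgroup.mem_centralizer_iff]
    intro r hr
    have h1 : z * r * z⁻¹ * r⁻¹ ∈ R :=
      R.mul_mem ((Subgroup.mem_normalizer_iff.mp hz.2 r).mp hr) (R.inv_mem hr)
    have hrL : r ∈ L := d.hSL (hRS hr)
    have h2 : z * r * z⁻¹ * r⁻¹ ∈ V := by
      have : z * r * z⁻¹ * r⁻¹ = z * (r * z⁻¹ * r⁻¹) := by group
      rw [this]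
      exact V.mul_mem hz.1 ((Subgroup.mem_normalizer_iff.mp (d.hLV hrL) z⁻¹).mp (V.inv_mem hz.1))
    have h3 : z * r * z⁻¹ * r⁻¹ ∈ R ⊓ V := ⟨h1, h2⟩
    rw [pGroup_inf_pPrime_eq_bot hRp d.hVc, Subgroup.mem_bot] at h3
    calc r * z = (z * r * z⁻¹ * r⁻¹)⁻¹ * (z * r) := by group
      _ = z * r := by rw [h3]; group
  -- the index of `R C` in `X` is a power of `p`
  have hMX : R ⊔ C ≤ X := le_sup_left
  have hDM : D ≤ Subgroup.normalizer ((R ⊔ C : Subgroup G) : Set G) := by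
    intro x hx
    rw [mem_normalizer_iff_cj_eq, cj_sup, cj_eq_self_of_mem_normalizer hx.2,
      cj_eq_self_of_mem_normalizer (hNC hx.2)]
  have hXM : X ≤ Subgroup.normalizer ((R ⊔ C : Subgroup G) : Set G) := by
    intro x hx
    have hxN := hXN hx
    rw [mem_normalizer_iff_cj_eq, cj_sup, cj_eq_self_of_mem_normalizer hxN,
      cj_eq_self_of_mem_normalizer (hNC hxN)]
  have hidx : ∃ k : ℕ, (R ⊔ C).relIndex X = p ^ k := by
    have hMn : ((R ⊔ C).subgroupOf X).Normal :=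
      (Subgroup.normal_subgroupOf_iff_le_normalizer hMX).mpr hXM
    have hPG : IsPGroup p (↥X ⧸ (R ⊔ C).subgroupOf X) := by
      intro xb
      obtain ⟨x, rfl⟩ := QuotientGroup.mk'_surjective ((R ⊔ C).subgroupOf X) xb
      obtain ⟨m, hm, dd, hdd, hxe⟩ := exists_mul_of_mem_sup_of_le_normalizer' hDM x.2
      obtain ⟨k, hk⟩ := d.hpow dd hdd.1
      have hkC : dd ^ p ^ k ∈ R ⊔ C :=
        le_sup_right (a := R) (hVN ⟨hk, N.pow_mem hdd.2 _⟩)
      have hddX : dd ∈ X := le_sup_right (a := R ⊔ C) hdd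
      have hxeq : x = (⟨m, hMX hm⟩ : ↥X) * ⟨dd, hddX⟩ := Subtype.ext hxe
      refine ⟨k, ?_⟩
      rw [hxeq, map_mul]
      have h1 : QuotientGroup.mk' ((R ⊔ C).subgroupOf X) (⟨m, hMX hm⟩ : ↥X) = 1 := by
        rw [QuotientGroup.mk'_apply, QuotientGroup.eq_one_iff]
        exact hm
      rw [h1, one_mul, ← map_pow, QuotientGroup.mk'_apply, QuotientGroup.eq_one_iff]
      exact hkC
    obtain ⟨k, hk⟩ := IsPGroup.iff_card.mp hPG
    exact ⟨k, by rw [Subgroup.relIndex, Subgroup.index_eq_card]; exact hk⟩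
  have hXeq := hrad X hXN hXinv hMX hidx
  -- `N_Q(R) ≤ R`
  have hSC : (S : Subgroup G) ⊓ C ≤ R := by
    have h1 := hRsyl.eq_of_le (inf_le_right : (S : Subgroup G) ⊓ C ≤ C) (S.isPGroup'.to_le inf_le_left)
      (inf_le_inf_right _ hRS)
    rw [h1]
    exact inf_le_left
  have hQN : Q ⊓ N ≤ R := by
    intro x hx
    have hxD : x ∈ D := ⟨hx.1.2, hx.2⟩
    have hxX : x ∈ R ⊔ C := by
      rw [← hXeq]
      exact le_sup_right (a := R ⊔ C) hxD
    obtain ⟨r, hr, c, hc, rfl⟩ := exists_mul_of_mem_sup_of_le_normalizer (hRN.trans hNC) hxX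
    have hcS : c ∈ (S : Subgroup G) := by
      have : c = r⁻¹ * (r * c) := by group
      rw [this]
      exact Subgroup.mul_mem _ (Subgroup.inv_mem _ (hRS hr)) hx.1.1
    exact R.mul_mem hr (hSC ⟨hcS, hc⟩)
  exact le_of_inf_normalizer_le S.isPGroup' inf_le_left hRS (hRS.trans d.le_normalizer_Q) hQN

end CrData

end Cfsg.Agent.Lib.Helper33
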