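import Mathlib
import Cfsg.Prelude.Def_ConjugacyFunctors

/-!
# Lemmas on the K-sequence families (helper33 library)
-/

set_option autoImplicit false

namespace Cfsg.Agent.Lib.Helper33

open scoped commutatorElement Pointwise

variable {P : Type*} [Group P]

/-- the centre of a subgroup, as a subgroup of the ambient group -/
abbrev zOf (B : Subgroup P) : Subgroup P := B ⊓ Subgroup.centralizer (B : Set P)

theorem commutator_le_of_le_normalizer {H K : Subgroup P} (h : K ≤ Subgroup.normalizer (H : Set P)) :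
    ⁅H, K⁆ ≤ H := by
  rw [Subgroup.commutator_le]
  intro a ha b hb
  rw [commutatorElement_def]
  have h1 : b * a⁻¹ * b⁻¹ ∈ H := ((Subgroup.mem_normalizer_iff.mp (h hb)) a⁻¹).mp (H.inv_mem ha)
  have : a * b * a⁻¹ * b⁻¹ = a * (b * a⁻¹ * b⁻¹) := by group
  rw [this]
  exact H.mul_mem ha h1

theorem le_normalizer_of_commutator_le {H K : Subgroup P} (h : ⁅H, K⁆ ≤ H) :
    K ≤ Subgroup.normalizer (H : Set P) := by
  intro k hk
  have key : ∀ k ∈ K, ∀ a ∈ H, k * a * k⁻¹ ∈ H := by
    intro k hk a ha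
    have h1 : ⁅a⁻¹, k⁆ ∈ H := h (Subgroup.commutator_mem_commutator (H.inv_mem ha) hk)
    rw [commutatorElement_def] at h1
    have : k * a * k⁻¹ = a * (a⁻¹ * k * a⁻¹⁻¹ * k⁻¹) := by group
    rw [this]
    exact H.mul_mem ha h1
  rw [Subgroup.mem_normalizer_iff]
  intro a
  constructor
  · exact key k hk a
  · intro h2
    have := key k⁻¹ (K.inv_mem hk) _ h2
    simpa [mul_assoc] using this

/-- elements of `B ⊔ X` when `X` centralizes `B` -/
theorem exists_mul_of_mem_sup_centralizer {B X : Subgroup P} (hX : X ≤ Subgroup.centralizer (B : Set P))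
    {g : P} (hg : g ∈ B ⊔ X) : ∃ b ∈ B, ∃ y ∈ X, g = b * y := by
  have hcoe : ((B ⊔ X : Subgroup P) : Set P) = (B : Set P) * (X : Set P) :=
    Subgroup.coe_mul_of_right_le_normalizer_left B X (hX.trans (Subgroup.centralizer_le_normalizer _))
  have : g ∈ (B : Set P) * (X : Set P) := hcoe ▸ hg
  obtain ⟨b, hb, y, hy, rfl⟩ := Set.mem_mul.mp this
  exact ⟨b, hb, y, hy, rfl⟩

/-- `Z(B) ≤ Z(B ⊔ X)` and `X ≤ Z(B ⊔ X)` when `X` is abelian and centralizes `B` -/
theorem sup_le_zOf_sup {B X : Subgroup P} (hX : X ≤ Subgroup.centralizer (B : Set P))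
    (hXX : X ≤ Subgroup.centralizer (X : Set P)) : zOf B ⊔ X ≤ zOf (B ⊔ X) := by
  have hBX : B ≤ Subgroup.centralizer (X : Set P) := Subgroup.le_centralizer_iff.mp hX
  apply sup_le
  · refine le_inf (inf_le_left.trans le_sup_left) ?_
    intro z hz
    rw [Subgroup.mem_centralizer_iff]
    intro g hg
    obtain ⟨b, hb, y, hy, rfl⟩ := exists_mul_of_mem_sup_centralizer hX hg
    have h1 : b * z = z * b := (Subgroup.mem_centralizer_iff.mp hz.2) b hb
    have h2 : z * y = y * z := (Subgroup.mem_centralizer_iff.mp (hX hy)) z hz.1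
    calc b * y * z = b * (y * z) := by group
      _ = b * (z * y) := by rw [h2]
      _ = (b * z) * y := by group
      _ = z * b * y := by rw [h1]
      _ = z * (b * y) := by group
  · refine le_inf le_sup_right ?_
    intro x hx
    rw [Subgroup.mem_centralizer_iff]
    intro g hg
    obtain ⟨b, hb, y, hy, rfl⟩ := exists_mul_of_mem_sup_centralizer hX hg
    have h1 : b * x = x * b := (Subgroup.mem_centralizer_iff.mp (hX hx)) b hb
    have h2 : y * x = x * y := (Subgroup.mem_centralizer_iff.mp (hXX hx)) y hy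
    calc b * y * x = b * (y * x) := by group
      _ = b * (x * y) := by rw [h2]
      _ = (b * x) * y := by group
      _ = x * b * y := by rw [h1]
      _ = x * (b * y) := by group

/-- `B ⊔ X` has class at most two when `B` has and `X` is abelian centralizing `B` -/
theorem classTwo_sup {B X : Subgroup P} (hB : B ∈ Cfsg.classTwoSubgroups P)
    (hX : X ≤ Subgroup.centralizer (B : Set P)) (hXX : X ≤ Subgroup.centralizer (X : Set P)) :
    B ⊔ X ∈ Cfsg.classTwoSubgroups P := by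
  have hBX : B ≤ Subgroup.centralizer (X : Set P) := Subgroup.le_centralizer_iff.mp hX
  have hBB : ⁅B, B⁆ ≤ Subgroup.centralizer (B : Set P) := hB
  show ⁅B ⊔ X, B ⊔ X⁆ ≤ Subgroup.centralizer ((B ⊔ X : Subgroup P) : Set P)
  -- every commutator of elements of B ⊔ X is a commutator of elements of B
  have hcomm : ⁅B ⊔ X, B ⊔ X⁆ ≤ ⁅B, B⁆ := by
    rw [Subgroup.commutator_le]
    intro g hg g' hg'
    obtain ⟨b, hb, y, hy, rfl⟩ := exists_mul_of_mem_sup_centralizer hX hg
    obtain ⟨b', hb', y', hy', rfl⟩ := exists_mul_of_mem_sup_centralizer hX hg'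
    have hz := sup_le_zOf_sup hX hXX
    have hyc : y ∈ Subgroup.centralizer ((B ⊔ X : Subgroup P) : Set P) := (hz (Subgroup.mem_sup_right hy)).2
    have hy'c : y' ∈ Subgroup.centralizer ((B ⊔ X : Subgroup P) : Set P) := (hz (Subgroup.mem_sup_right hy')).2
    rw [Subgroup.mem_centralizer_iff] at hyc hy'c
    have e : ⁅b * y, b' * y'⁆ = ⁅b, b'⁆ := by
      rw [commutatorElement_def, commutatorElement_def]
      have c1 : b' * y = y * b' := hyc b' (Subgroup.mem_sup_left hb')
      have c2 : y' * y = y * y' := hyc y' (Subgroup.mem_sup_right hy')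
      have c3 : b⁻¹ * y' = y' * b⁻¹ := hy'c b⁻¹ (Subgroup.mem_sup_left (B.inv_mem hb))
      have c4 : y⁻¹ * y' = y' * y⁻¹ := hy'c y⁻¹ (Subgroup.mem_sup_right (X.inv_mem hy))
      calc b * y * (b' * y') * (b * y)⁻¹ * (b' * y')⁻¹
          = b * (y * b') * y' * y⁻¹ * b⁻¹ * y'⁻¹ * b'⁻¹ := by group
        _ = b * (b' * y) * y' * y⁻¹ * b⁻¹ * y'⁻¹ * b'⁻¹ := by rw [c1]
        _ = b * b' * (y * y') * y⁻¹ * b⁻¹ * y'⁻¹ * b'⁻¹ := by group
        _ = b * b' * (y' * y) * y⁻¹ * b⁻¹ * y'⁻¹ * b'⁻¹ := by rw [c2]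
        _ = b * b' * (y' * b⁻¹) * y'⁻¹ * b'⁻¹ := by group
        _ = b * b' * (b⁻¹ * y') * y'⁻¹ * b'⁻¹ := by rw [c3]
        _ = b * b' * b⁻¹ * b'⁻¹ := by group
    rw [e]
    exact Subgroup.commutator_mem_commutator hb hb'
  refine hcomm.trans ?_
  -- ⁅B,B⁆ ≤ Z(B) ≤ Z(B ⊔ X)
  have h1 : ⁅B, B⁆ ≤ zOf B := le_inf (commutator_le_of_le_normalizer Subgroup.le_normalizer) hBB
  exact (h1.trans (le_sup_left.trans (sup_le_zOf_sup hX hXX))).trans inf_le_right

/-- key commutator computation: `⁅B ⊔ X, A⁆ ≤ Z(B)` -/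
theorem commutator_sup_le_zOf {B X A : Subgroup P} (hX : X ≤ Subgroup.centralizer (B : Set P))
    (hBA : ⁅B, A⁆ ≤ zOf B) (hXA : ⁅X, A⁆ ≤ B) : ⁅B ⊔ X, A⁆ ≤ zOf B := by
  -- ⁅X, A⁆ centralizes B, by the three subgroups lemma
  have h3 : ⁅⁅X, A⁆, B⁆ = ⊥ := by
    apply Subgroup.commutator_commutator_eq_bot_of_rotate
    · -- ⁅⁅A, B⁆, X⁆ = ⊥
      rw [Subgroup.commutator_eq_bot_iff_le_centralizer, Subgroup.commutator_comm]
      exact (hBA.trans inf_le_left).trans (Subgroup.le_centralizer_iff.mp hX)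
    · -- ⁅⁅B, X⁆, A⁆ = ⊥
      have : ⁅B, X⁆ = ⊥ := by
        rw [Subgroup.commutator_eq_bot_iff_le_centralizer]
        exact Subgroup.le_centralizer_iff.mp hX
      rw [this]
      exact Subgroup.commutator_bot_left A
  have hXAZ : ⁅X, A⁆ ≤ zOf B :=
    le_inf hXA (Subgroup.commutator_eq_bot_iff_le_centralizer.mp h3)
  rw [Subgroup.commutator_le]
  intro g hg a ha
  obtain ⟨b, hb, y, hy, rfl⟩ := exists_mul_of_mem_sup_centralizer hX hg
  have h1 : ⁅y, a⁆ ∈ zOf B := hXAZ (Subgroup.commutator_mem_commutator hy ha)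
  have h2 : ⁅b, a⁆ ∈ zOf B := hBA (Subgroup.commutator_mem_commutator hb ha)
  have hc : b * ⁅y, a⁆ = ⁅y, a⁆ * b := (Subgroup.mem_centralizer_iff.mp h1.2) b hb
  have e : ⁅b * y, a⁆ = ⁅y, a⁆ * ⁅b, a⁆ := by
    have e1 : ⁅b * y, a⁆ = b * ⁅y, a⁆ * b⁻¹ * ⁅b, a⁆ := by
      simp only [commutatorElement_def]; group
    rw [e1, hc]; group
  rw [e]
  exact (zOf B).mul_mem h1 h2

/-- iterated commutators with `Q` -/
def iterComm (C Q : Subgroup P) : ℕ → Subgroup P
  | 0 => C
  | i + 1 => ⁅iterComm C Q i, Q⁆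

theorem iterComm_le_lcs (C Q : Subgroup P) (i : ℕ) :
    iterComm C Q i ≤ (⊤ : Subgroup P).lowerCentralSeries i := by
  induction i with
  | zero => exact le_top
  | succ i ih =>
    rw [Subgroup.lowerCentralSeries_succ]
    exact Subgroup.commutator_mono ih le_top

theorem iterComm_normalized {C Q : Subgroup P} (hQ : Q ≤ Subgroup.normalizer (C : Set P)) (i : ℕ) :
    Q ≤ Subgroup.normalizer ((iterComm C Q i : Subgroup P) : Set P) := by
  induction i with
  | zero => exact hQ
  | succ i ih =>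
    -- ⁅H, Q⁆ is normalized by Q
    intro q hq
    rw [Subgroup.mem_normalizer_iff]
    have key : ∀ q ∈ Q, ∀ z ∈ ⁅iterComm C Q i, Q⁆, q * z * q⁻¹ ∈ ⁅iterComm C Q i, Q⁆ := by
      intro q hq z hz
      have hmap : (⁅iterComm C Q i, Q⁆).map (MulAut.conj q).toMonoidHom = ⁅iterComm C Q i, Q⁆ := by
        rw [Subgroup.map_commutator]
        have h1 : (iterComm C Q i).map (MulAut.conj q).toMonoidHom = iterComm C Q i := by
          ext x
          rw [Subgroup.mem_map_equiv]
          simp only [MulAut.conj_symm_apply]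
          have := (Subgroup.mem_normalizer_iff.mp (Subgroup.inv_mem _ (ih hq))) x
          simpa using this.symm
        have h2 : Q.map (MulAut.conj q).toMonoidHom = Q := by
          ext x
          rw [Subgroup.mem_map_equiv]
          simp only [MulAut.conj_symm_apply]
          constructor
          · intro h
            have := Q.mul_mem (Q.mul_mem hq h) (Q.inv_mem hq)
            simpa [mul_assoc] using this
          · intro h
            exact Q.mul_mem (Q.mul_mem (Q.inv_mem hq) h) hq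
        rw [h1, h2]
      rw [← hmap]
      exact ⟨z, hz, rfl⟩
    intro z
    constructor
    · exact key q hq z
    · intro h
      have := key q⁻¹ (Q.inv_mem hq) _ h
      have e : q⁻¹ * (q * z * q⁻¹) * q⁻¹⁻¹ = z := by group
      rw [e] at this
      exact this

theorem iterComm_succ_le {C Q : Subgroup P} (hQ : Q ≤ Subgroup.normalizer (C : Set P)) (i : ℕ) :
    iterComm C Q (i + 1) ≤ iterComm C Q i :=
  commutator_le_of_le_normalizer (iterComm_normalized hQ i)

theorem iterComm_le {C Q : Subgroup P} (hQ : Q ≤ Subgroup.normalizer (C : Set P)) (i : ℕ) :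
    iterComm C Q i ≤ C := by
  induction i with
  | zero => exact le_rfl
  | succ i ih => exact (iterComm_succ_le hQ i).trans ih

/-- In a nilpotent group: if `Q` normalizes `C` and `C ≰ B`, some `Q`-invariant subgroup `X ≤ C`, `X ≰ B`,
has `⁅X, Q⁆ ≤ B`. -/
theorem exists_iterComm_not_le [Group.IsNilpotent P] {C Q B : Subgroup P}
    (hQ : Q ≤ Subgroup.normalizer (C : Set P)) (hCB : ¬ C ≤ B) :
    ∃ X : Subgroup P, X ≤ C ∧ ¬ X ≤ B ∧ ⁅X, Q⁆ ≤ B := by
  obtain ⟨n, hn⟩ := Subgroup.nilpotent_iff_lowerCentralSeries.mp (inferInstance : Group.IsNilpotent P)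
  have hn' : iterComm C Q n ≤ B := by
    have := iterComm_le_lcs C Q n
    rw [hn] at this
    exact this.trans bot_le
  -- find the last index with iterComm ≰ B
  have key : ∀ k, iterComm C Q k ≤ B → ∃ i, ¬ iterComm C Q i ≤ B ∧ iterComm C Q (i + 1) ≤ B := by
    intro k
    induction k with
    | zero => intro h; exact absurd h hCB
    | succ k ih =>
      intro h
      by_cases hk : iterComm C Q k ≤ B
      · exact ih hk
      · exact ⟨k, hk, h⟩
  obtain ⟨i, hi1, hi2⟩ := key n hn'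
  exact ⟨iterComm C Q i, iterComm_le hQ i, hi1, hi2⟩

/-- the subgroup of elements `y` of `C_P(B)` with `⁅y, Q⁆ ⊆ B` -/
def commInto (B Q : Subgroup P) : Subgroup P where
  carrier := {y | y ∈ Subgroup.centralizer (B : Set P) ∧ ∀ q ∈ Q, ⁅y, q⁆ ∈ B}
  one_mem' := ⟨Subgroup.one_mem _, fun q _ => by simp [commutatorElement_def]⟩
  mul_mem' := by
    rintro y y' ⟨hy1, hy2⟩ ⟨hy'1, hy'2⟩
    refine ⟨Subgroup.mul_mem _ hy1 hy'1, fun q hq => ?_⟩
    have h1 := hy2 q hq
    have h2 := hy'2 q hq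
    have hc : ⁅y', q⁆ * y = y * ⁅y', q⁆ := (Subgroup.mem_centralizer_iff.mp hy1) _ h2
    have e : ⁅y * y', q⁆ = ⁅y', q⁆ * ⁅y, q⁆ := by
      have e1 : ⁅y * y', q⁆ = y * ⁅y', q⁆ * y⁻¹ * ⁅y, q⁆ := by
        simp only [commutatorElement_def]; group
      rw [e1, ← hc]; group
    rw [e]
    exact B.mul_mem h2 h1
  inv_mem' := by
    rintro y ⟨hy1, hy2⟩
    refine ⟨Subgroup.inv_mem _ hy1, fun q hq => ?_⟩
    have h1 := hy2 q hq
    have hc : ⁅y, q⁆⁻¹ * y = y * ⁅y, q⁆⁻¹ := (Subgroup.mem_centralizer_iff.mp hy1) _ (B.inv_mem h1)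
    have e : ⁅y⁻¹, q⁆ = ⁅y, q⁆⁻¹ := by
      have e1 : ⁅y⁻¹, q⁆ = y⁻¹ * (⁅y, q⁆⁻¹ * y) := by
        simp only [commutatorElement_def]; group
      rw [e1, hc]; group
    rw [e]
    exact B.inv_mem h1

/-- the element used to enlarge a non-self-centralizing member of a family -/
theorem exists_enlarging_element [Group.IsNilpotent P] {B Q : Subgroup P}
    (hQ : Q ≤ Subgroup.normalizer (B : Set P)) (hCB : ¬ Subgroup.centralizer (B : Set P) ≤ B) :
    ∃ x : P, x ∉ B ∧ Subgroup.zpowers x ≤ Subgroup.centralizer (B : Set P) ∧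
      ⁅Subgroup.zpowers x, Q⁆ ≤ B := by
  have hQC : Q ≤ Subgroup.normalizer ((Subgroup.centralizer (B : Set P) : Subgroup P) : Set P) := by
    intro q hq
    have hqB := hQ hq
    rw [Subgroup.mem_normalizer_iff]
    have key : ∀ q ∈ Subgroup.normalizer (B : Set P), ∀ c ∈ Subgroup.centralizer (B : Set P),
        q * c * q⁻¹ ∈ Subgroup.centralizer (B : Set P) := by
      intro q hq c hc
      rw [Subgroup.mem_centralizer_iff]
      intro b hb
      have hb' : q⁻¹ * b * q ∈ B := by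
        have := (Subgroup.mem_normalizer_iff.mp (Subgroup.inv_mem _ hq) b).mp hb
        simpa using this
      have := (Subgroup.mem_centralizer_iff.mp hc) _ hb'
      calc b * (q * c * q⁻¹) = q * ((q⁻¹ * b * q) * c) * q⁻¹ := by group
        _ = q * (c * (q⁻¹ * b * q)) * q⁻¹ := by rw [this]
        _ = q * c * q⁻¹ * b := by group
    intro c
    constructor
    · exact key q hqB c
    · intro h
      have := key q⁻¹ (Subgroup.inv_mem _ hqB) _ h
      simpa [mul_assoc] using this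
  obtain ⟨X, hXC, hXB, hXQ⟩ := exists_iterComm_not_le hQC hCB
  obtain ⟨x, hxX, hxB⟩ := SetLike.not_le_iff_exists.mp hXB
  have hxmem : x ∈ commInto B Q :=
    ⟨hXC hxX, fun q hq => hXQ (Subgroup.commutator_mem_commutator hxX hq)⟩
  have hle : Subgroup.zpowers x ≤ commInto B Q := (Subgroup.zpowers_le).mpr hxmem
  refine ⟨x, hxB, fun y hy => (hle hy).1, ?_⟩
  rw [Subgroup.commutator_le]
  intro y hy q hq
  exact (hle hy).2 q hq

theorem zpowers_le_centralizer_self (x : P) :
    Subgroup.zpowers x ≤ Subgroup.centralizer ((Subgroup.zpowers x : Subgroup P) : Set P) := by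
  intro y hy
  rw [Subgroup.mem_centralizer_iff]
  intro z hz
  obtain ⟨i, rfl⟩ := Subgroup.mem_zpowers_iff.mp hy
  obtain ⟨j, rfl⟩ := Subgroup.mem_zpowers_iff.mp hz
  exact (Commute.zpow_zpow_self x j i).eq

end Cfsg.Agent.Lib.Helper33
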