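import Cfsg.Agent.Lib.Helper33.ConstrainedLocalSub
import Cfsg.Agent.Lib.Helper33.KInfPStableFusion
import Cfsg.Agent.Lib.Helper33.AutFree
import Cfsg.Agent.S1978

/-!
# Auxiliary lemmas for the least centric-radical subgroup (helper33 library)
-/

set_option autoImplicit false

namespace Cfsg.Agent.Lib.Helper33

open Cfsg
open scoped Pointwise

universe u

variable {p : ℕ}

section general

variable {G : Type*} [Group G]

/-- elements of `H ⊔ N` when `H` normalizes `N` -/
theorem exists_mul_of_mem_sup_of_le_normalizer {H N : Subgroup G}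
    (h : H ≤ Subgroup.normalizer (N : Set G)) {x : G} (hx : x ∈ H ⊔ N) :
    ∃ a ∈ H, ∃ b ∈ N, x = a * b := by
  have h1 : x ∈ ((H ⊔ N : Subgroup G) : Set G) := hx
  rw [Subgroup.coe_mul_of_left_le_normalizer_right H N h] at h1
  obtain ⟨a, ha, b, hb, rfl⟩ := h1
  exact ⟨a, ha, b, hb, rfl⟩

/-- elements of `N ⊔ H` when `H` normalizes `N` -/
theorem exists_mul_of_mem_sup_of_le_normalizer' {H N : Subgroup G}
    (h : H ≤ Subgroup.normalizer (N : Set G)) {x : G} (hx : x ∈ N ⊔ H) :
    ∃ b ∈ N, ∃ a ∈ H, x = b * a := by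
  have h1 : x ∈ ((N ⊔ H : Subgroup G) : Set G) := hx
  rw [Subgroup.coe_mul_of_right_le_normalizer_left N H h] at h1
  obtain ⟨b, hb, a, ha, rfl⟩ := h1
  exact ⟨b, hb, a, ha, rfl⟩

/-- powers of `t y` with `t` normalizing `Y ∋ y` -/
theorem exists_pow_mul_eq {Y : Subgroup G} {t y : G} (ht : t ∈ Subgroup.normalizer (Y : Set G)) (hy : y ∈ Y)
    (m : ℕ) : ∃ y' ∈ Y, (t * y) ^ m = t ^ m * y' := by
  induction m with
  | zero => exact ⟨1, Y.one_mem, by simp⟩
  | succ m ih =>
    obtain ⟨y', hy', he⟩ := ih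
    refine ⟨t⁻¹ * y' * t⁻¹⁻¹ * y, Y.mul_mem ?_ hy, ?_⟩
    · exact (Subgroup.mem_normalizer_iff.mp (Subgroup.inv_mem _ ht) y').mp hy'
    · rw [pow_succ, he, pow_succ]
      group

/-- a subgroup normalized by `A` and by `B` is normalized by `A B` (elementwise form) -/
theorem cj_eq_self_of_mul {X : Subgroup G} {a b : G} (ha : cj a X = X) (hb : cj b X = X) :
    cj (a * b) X = X := by
  rw [cj_mul, hb, ha]

end general

section sylow

variable {G : Type*} [Group G] [Finite G] [Fact p.Prime]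

/-- A Sylow subgroup of `N` meets a normal subgroup `X` of `N` in a Sylow subgroup of `X`. -/
theorem SylIn.inf_of_le_normalizer {T N X : Subgroup G} (hT : SylIn p T N) (hXN : X ≤ N)
    (hNX : N ≤ Subgroup.normalizer (X : Set G)) : SylIn p (T ⊓ X) X := by
  obtain R : Sylow p X := Classical.arbitrary _
  have hR := sylIn_of_sylow R
  set R₀ := (R : Subgroup X).map X.subtype with hR₀
  obtain ⟨n, hn, hle⟩ := hT.exists_cj_le (hR.le.trans hXN) hR.isPGroup
  have hnX : Helper33.cj n X = X := cj_eq_self_of_mem_normalizer (hNX hn)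
  have h1 : SylIn p (Helper33.cj n R₀) X := by
    have := hR.cj n
    rwa [hnX] at this
  have h2 : Helper33.cj n R₀ ≤ T ⊓ X := le_inf hle h1.le
  have h3 := h1.eq_of_le (inf_le_right : T ⊓ X ≤ X) (hT.isPGroup.to_le inf_le_left) h2
  rw [h3]
  exact h1

/-- In a finite `p`-group `Q R` (`R` normalizing `Q`), if `N_Q(R) ≤ R` then `Q ≤ R`. -/
theorem le_of_inf_normalizer_le {Q R E : Subgroup G} (hE : IsPGroup p E) (hQE : Q ≤ E) (hRE : R ≤ E)
    (hRQ : R ≤ Subgroup.normalizer (Q : Set G))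
    (h : Q ⊓ Subgroup.normalizer (R : Set G) ≤ R) : Q ≤ R := by
  set F : Subgroup G := Q ⊔ R with hF
  have hFE : F ≤ E := sup_le hQE hRE
  have hFp : IsPGroup p F := hE.to_le hFE
  have hnil : Group.IsNilpotent ↥F := hFp.isNilpotent
  have hRF : R ≤ F := le_sup_right
  have hnc : NormalizerCondition ↥F := Group.normalizerCondition_of_isNilpotent
  by_cases htop : R.subgroupOf F = ⊤
  · rw [Subgroup.subgroupOf_eq_top] at htop
    exact le_sup_left.trans htop
  · exfalso
    have hlt := hnc (R.subgroupOf F) (lt_top_iff_ne_top.mpr htop)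
    obtain ⟨e, he, heR⟩ := SetLike.exists_of_lt hlt
    rw [← Subgroup.subgroupOf_normalizer_eq hRF, Subgroup.mem_subgroupOf] at he
    rw [Subgroup.mem_subgroupOf] at heR
    obtain ⟨q, hq, r, hr, hqr⟩ := exists_mul_of_mem_sup_of_le_normalizer' hRQ e.2
    apply heR
    have hqN : q ∈ Subgroup.normalizer (R : Set G) := by
      have : q = (e : G) * r⁻¹ := by rw [hqr]; group
      rw [this]
      exact Subgroup.mul_mem _ he (Subgroup.inv_mem _ (Subgroup.le_normalizer hr))
    rw [hqr]
    exact R.mul_mem (h ⟨hq, hqN⟩) hr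

end sylow

section kinf

variable [Fact p.Prime] {G : Type u} [Group G] [Finite G]

/-- explicit form of control of strong fusion by `K_∞(S)` -/
theorem kInfLower_controls_explicit (hsecG : SecProp (ECN p) G) (S : Sylow p G) (A : Set G) (g : G)
    (hA : A ⊆ (S : Subgroup G)) (hAg : (fun a => g * a * g⁻¹) '' A ⊆ (S : Subgroup G)) :
    ∃ x ∈ Subgroup.normalizer ((Cfsg.inducedFunctor Cfsg.kInfLower (S : Subgroup G) : Subgroup G) : Set G),
      ∀ a ∈ A, x * a * x⁻¹ = g * a * g⁻¹ := by
  have hW := isCharPFunctor_kInfLower.{u} p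
  have h𝓦 : ∀ W' ∈ ({Cfsg.kInfLower} : Set (∀ (Q : Type u) [Group Q], Subgroup Q)),
      Cfsg.IsCharPFunctor.{u} p W' := by
    rintro W' rfl
    exact hW
  have hsecFus : SecProp (FusProp p {Cfsg.kInfLower}) G := by
    intro K Y _ φ hφ
    have : Finite Y := Finite.of_surjective φ hφ
    intro hconY
    have hsY : SecProp (ECN p) Y := (hsecG.subgroup K).of_surjective φ hφ
    exact Cfsg.Agent.S1969.familyControls_of_normal Cfsg.kInfLower
      (fun T => (kInf_normal_of_secPStable hsY hconY T).1)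
  have hY := familyControls_of_secProp h𝓦 _ G rfl hsecFus
  have hcf := isConjugacyFunctor_inducedFunctor Cfsg.kInfLower hW (G := G)
  have e : indFam {Cfsg.kInfLower} G = {Cfsg.inducedFunctor (G := G) Cfsg.kInfLower} := by
    unfold indFam
    rw [Set.image_singleton]
  rw [e] at hY
  have hgood := good_of_familyControls (by rintro W' rfl; exact hcf) hY (sylIn_top S)
  obtain ⟨g', hreach, hagree⟩ := hgood A g (Subgroup.mem_top _) hA hAg
  rw [stepSet_singleton] at hreach
  exact ⟨g', (hreach.mem_of_subgroup).2, fun a ha => hagree a ha⟩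

theorem kInfLower_le (S : Sylow p G) :
    Cfsg.inducedFunctor Cfsg.kInfLower (S : Subgroup G) ≤ (S : Subgroup G) :=
  cf_le (isConjugacyFunctor_inducedFunctor Cfsg.kInfLower (isCharPFunctor_kInfLower.{u} p) (G := G))
    S.isPGroup'

theorem le_normalizer_kInfLower (S : Sylow p G) :
    (S : Subgroup G) ≤
      Subgroup.normalizer ((Cfsg.inducedFunctor Cfsg.kInfLower (S : Subgroup G) : Subgroup G) : Set G) :=
  Subgroup.le_normalizer.trans
    (cf_normalizer_le (isConjugacyFunctor_inducedFunctor Cfsg.kInfLower (isCharPFunctor_kInfLower.{u} p) (G := G))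
      S.isPGroup')

theorem inf_centralizer_kInfLower_le (S : Sylow p G) :
    (S : Subgroup G) ⊓
      Subgroup.centralizer ((Cfsg.inducedFunctor Cfsg.kInfLower (S : Subgroup G) : Subgroup G) : Set G) ≤
      Cfsg.inducedFunctor Cfsg.kInfLower (S : Subgroup G) := by
  intro x hx
  have h1 := (Cfsg.Agent.S1978.result (P := ↥(S : Subgroup G)) S.isPGroup').1
  have h2 : (⟨x, hx.1⟩ : ↥(S : Subgroup G)) ∈
      Subgroup.centralizer ((Cfsg.kInfLower ↥(S : Subgroup G) : Subgroup ↥(S : Subgroup G)) :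
        Set ↥(S : Subgroup G)) := by
    rw [Subgroup.mem_centralizer_iff]
    intro w hw
    apply Subtype.ext
    exact (Subgroup.mem_centralizer_iff.mp hx.2) w.1 ⟨w, hw, rfl⟩
  exact ⟨⟨x, hx.1⟩, h1 h2, rfl⟩

end kinf

end Cfsg.Agent.Lib.Helper33
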