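import Mathlib

/-!
# Products over the cycles of a permutation; geometric sums (helper33 library)
-/

set_option autoImplicit false

namespace Cfsg.Agent.Lib.Helper33

open Finset

/-- If the product of `F` over every cycle of `σ` meeting the `σ`-invariant finset `s` is `1`, then the product of `F` over `s`
is `1`. -/
theorem prod_eq_one_of_perm_cycles {α : Type*} [DecidableEq α] [Finite α] {A : Type*} [CommMonoid A]
    (σ : Equiv.Perm α) (F : α → A) :
    ∀ (n : ℕ) (s : Finset α), s.card = n → (∀ a ∈ s, σ a ∈ s) →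
      (∀ a ∈ s, ∏ i ∈ range (Function.minimalPeriod σ a), F ((σ ^ i) a) = 1) → ∏ a ∈ s, F a = 1 := by
  intro n
  induction n using Nat.strong_induction_on with
  | _ n IH =>
  intro s hcard hinv hF
  rcases s.eq_empty_or_nonempty with hs | ⟨a, ha⟩
  · rw [hs, prod_empty]
  have hfin : IsOfFinOrder σ := isOfFinOrder_of_finite σ
  set k := Function.minimalPeriod σ a with hk
  have hper : ∀ b : α, (σ ^ (orderOf σ)) b = b := by
    intro b
    rw [pow_orderOf_eq_one]; rfl
  have hkpos : 0 < k := by
    apply Function.IsPeriodicPt.minimalPeriod_pos (n := orderOf σ) hfin.orderOf_pos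
    show (σ : α → α)^[orderOf σ] a = a
    rw [Equiv.Perm.iterate_eq_pow]
    exact hper a
  have hka : (σ ^ k) a = a := by
    have := Function.isPeriodicPt_minimalPeriod σ a
    rw [Function.IsPeriodicPt, Function.IsFixedPt, Equiv.Perm.iterate_eq_pow] at this
    exact this
  set O := image (fun i => (σ ^ i) a) (range k) with hO
  have hinj : Set.InjOn (fun i => (σ ^ i) a) (range k : Set ℕ) := by
    intro i hi j hj hij
    have hi' : i < Function.minimalPeriod σ a := by simpa using hi
    have hj' : j < Function.minimalPeriod σ a := by simpa using hj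
    have h1 : (σ : α → α)^[i] a = (σ : α → α)^[j] a := by
      rw [Equiv.Perm.iterate_eq_pow, Equiv.Perm.iterate_eq_pow]; exact hij
    exact Function.iterate_injOn_Iio_minimalPeriod (Set.mem_Iio.mpr hi') (Set.mem_Iio.mpr hj') h1
  have hpow_mem : ∀ i : ℕ, (σ ^ i) a ∈ s := by
    intro i
    induction i with
    | zero => simpa using ha
    | succ i ih =>
      rw [pow_succ', Equiv.Perm.mul_apply]
      exact hinv _ ih
  have hOs : O ⊆ s := by
    intro b hb
    rw [hO, mem_image] at hb
    obtain ⟨i, _, rfl⟩ := hb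
    exact hpow_mem i
  have hOmem : ∀ i : ℕ, (σ ^ i) a ∈ O := by
    intro i
    rw [hO, mem_image]
    refine ⟨i % k, mem_range.mpr (Nat.mod_lt _ hkpos), ?_⟩
    conv_rhs => rw [← Nat.div_add_mod i k, pow_add, pow_mul, Equiv.Perm.mul_apply]
    have : ∀ m : ℕ, ((σ ^ k) ^ m) ((σ ^ (i % k)) a) = (σ ^ (i % k)) a := by
      intro m
      induction m with
      | zero => simp
      | succ m ih =>
        rw [pow_succ', Equiv.Perm.mul_apply, ih, ← Equiv.Perm.mul_apply, ← pow_add, add_comm, pow_add,
          Equiv.Perm.mul_apply, hka]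
    rw [this]
  have hprodO : ∏ b ∈ O, F b = 1 := by
    rw [hO, prod_image hinj]
    exact hF a ha
  have hsd_inv : ∀ b ∈ s \ O, σ b ∈ s \ O := by
    intro b hb
    rw [mem_sdiff] at hb ⊢
    refine ⟨hinv b hb.1, ?_⟩
    intro hσb
    apply hb.2
    rw [hO, mem_image] at hσb
    obtain ⟨i, _, hi⟩ := hσb
    -- `σ b = σ^i a`, so `b = σ^(i + k - 1) a`
    have h1 : b = (σ ^ (i + (k - 1))) a := by
      apply σ.injective
      rw [← hi, ← Equiv.Perm.mul_apply, ← pow_succ']
      have : i + (k - 1) + 1 = i + k := by omega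
      rw [this, pow_add, Equiv.Perm.mul_apply, hka]
    rw [h1]
    exact hOmem _
  have hcard' : (s \ O).card < n := by
    rw [← hcard]
    apply card_lt_card
    refine ⟨sdiff_subset, ?_⟩
    intro hsub
    have haO : a ∈ O := by simpa using hOmem 0
    have := hsub ha
    rw [mem_sdiff] at this
    exact this.2 haO
  have hrest := IH _ hcard' (s \ O) rfl hsd_inv (fun b hb => hF b (mem_sdiff.mp hb).1)
  rw [← prod_sdiff hOs, hrest, hprodO, one_mul]

theorem geom_sum_mul_eq_zero {R : Type*} [Ring R] (x : R) (p : ℕ) (h : ∑ i ∈ range p, x ^ i = 0) (m : ℕ) :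
    ∑ i ∈ range (p * m), x ^ i = 0 := by
  induction m with
  | zero => simp
  | succ m ih =>
    rw [Nat.mul_succ, sum_range_add, ih, zero_add]
    have : ∀ i ∈ range p, x ^ (p * m + i) = x ^ (p * m) * x ^ i := fun i _ => pow_add _ _ _
    rw [sum_congr rfl this, ← mul_sum, h, mul_zero]

theorem geom_sum_eq_zero_of_dvd {R : Type*} [Ring R] (x : R) (p : ℕ) (h : ∑ i ∈ range p, x ^ i = 0) {n : ℕ}
    (hn : p ∣ n) : ∑ i ∈ range n, x ^ i = 0 := by
  obtain ⟨m, rfl⟩ := hn
  exact geom_sum_mul_eq_zero x p h m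

end Cfsg.Agent.Lib.Helper33
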