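import Cfsg.Agent.Lib.Helper33.SectionTransfer
import Cfsg.Agent.Lib.Helper33.ChiefAction
import Cfsg.Agent.Lib.Helper33.OrbitSum

/-!
# The trace argument for Engel elements on a chief factor (helper33 library)

`no_engel_of_trace`: let `S` be a Sylow `p`-subgroup of `G`, `M` the unique maximal subgroup of `G` containing `S`,
`E / C` a chief factor of `G` with `E ≤ S ∩ G'`, and `lam : S → A` a homomorphism into an abelian group which is invariant
under `M`-conjugation on `E`, trivial on `C` and nontrivial on `E`. Then no element `u` of `S` outside `O_p(G)` satisfies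
`[E, u; p-1] ≤ C`.
-/

set_option autoImplicit false

namespace Cfsg.Agent.Lib.Helper33

open scoped IsMulCommutative commutatorElement

open Cfsg

section traceHom

variable {G : Type*} [Group G] (S E C : Subgroup G) [hEn : E.Normal] [hCn : C.Normal]

theorem exists_trace_hom (hES : E ≤ S) {A : Type*} [CommGroup A] (lam : ↥S →* A)
    (hlamC : ∀ c ∈ C, ∀ h : c ∈ S, lam ⟨c, h⟩ = 1) :
    ∃ B : G → (↥(E.map (QuotientGroup.mk' C)) →* A),
      ∀ (g x : G) (hx : x ∈ E) (h : g⁻¹ * x * g ∈ S),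
        B g ⟨QuotientGroup.mk' C x, Subgroup.mem_map_of_mem _ hx⟩ = lam ⟨g⁻¹ * x * g, h⟩ := by
  have hsurj : Function.Surjective ((QuotientGroup.mk' C).subgroupMap E) :=
    (QuotientGroup.mk' C).subgroupMap_surjective E
  let φ : G → (↥E →* A) := fun g =>
    lam.comp ((Subgroup.inclusion hES).comp (MulAut.conjNormal g⁻¹ : ↥E ≃* ↥E).toMonoidHom)
  have hφ : ∀ (g : G) (x : ↥E) (h : g⁻¹ * (x : G) * g ∈ S), φ g x = lam ⟨g⁻¹ * (x : G) * g, h⟩ := by
    intro g x h
    show lam (Subgroup.inclusion hES (MulAut.conjNormal g⁻¹ x)) = _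
    congr 1
    apply Subtype.ext
    show ((MulAut.conjNormal g⁻¹ x : ↥E) : G) = _
    rw [MulAut.conjNormal_apply, inv_inv]
  have hker : ∀ g : G, ((QuotientGroup.mk' C).subgroupMap E).ker ≤ (φ g).ker := by
    intro g x hx
    rw [MonoidHom.mem_ker] at hx ⊢
    have hxC : (x : G) ∈ C := by
      have h1 : QuotientGroup.mk' C (x : G) = 1 := congrArg Subtype.val hx
      rwa [QuotientGroup.mk'_apply, QuotientGroup.eq_one_iff] at h1
    have h1 : g⁻¹ * (x : G) * g ∈ C := by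
      have := hCn.conj_mem _ hxC g⁻¹
      rwa [inv_inv] at this
    have h2 : g⁻¹ * (x : G) * g ∈ S := by
      have := hEn.conj_mem _ x.2 g⁻¹
      rw [inv_inv] at this
      exact hES this
    rw [hφ g x h2]
    exact hlamC _ h1 h2
  refine ⟨fun g => MonoidHom.liftOfSurjective _ hsurj ⟨φ g, hker g⟩, ?_⟩
  intro g x hx h
  have h1 := MonoidHom.liftOfRightInverse_comp_apply ((QuotientGroup.mk' C).subgroupMap E) _
    (Function.rightInverse_surjInv hsurj) ⟨φ g, hker g⟩ ⟨x, hx⟩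
  have h2 : (⟨QuotientGroup.mk' C x, Subgroup.mem_map_of_mem _ hx⟩ : ↥(E.map (QuotientGroup.mk' C))) =
      ((QuotientGroup.mk' C).subgroupMap E) ⟨x, hx⟩ := rfl
  rw [h2]
  exact h1.trans (hφ g ⟨x, hx⟩ h)

omit hEn in
theorem exists_rep_of_mem_map (v : ↥(E.map (QuotientGroup.mk' C))) :
    ∃ x, ∃ hx : x ∈ E, v = ⟨QuotientGroup.mk' C x, Subgroup.mem_map_of_mem _ hx⟩ := by
  obtain ⟨x, hx, hxv⟩ := v.2
  exact ⟨x, hx, Subtype.ext hxv.symm⟩

variable [hUn : (E.map (QuotientGroup.mk' C)).Normal] [hUc : IsMulCommutative ↥(E.map (QuotientGroup.mk' C))]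

theorem conjEnd_mk_apply (h x : G) (hx : x ∈ E) :
    Additive.toMul (conjEnd (E.map (QuotientGroup.mk' C)) (QuotientGroup.mk' C h)
      (Additive.ofMul ⟨QuotientGroup.mk' C x, Subgroup.mem_map_of_mem _ hx⟩)) =
    (⟨QuotientGroup.mk' C (h * x * h⁻¹), Subgroup.mem_map_of_mem _ (hEn.conj_mem x hx h)⟩ :
      ↥(E.map (QuotientGroup.mk' C))) := by
  apply Subtype.ext
  rw [conjEnd_apply_coe]
  show QuotientGroup.mk' C h * QuotientGroup.mk' C x * (QuotientGroup.mk' C h)⁻¹ = QuotientGroup.mk' C (h * x * h⁻¹)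
  rw [map_mul, map_mul, map_inv]

variable {S E C}

/-- the translation rule for the family `B` -/
theorem trace_hom_mul {A : Type*} [CommGroup A] (lam : ↥S →* A) (hES : E ≤ S)
    (B : G → (↥(E.map (QuotientGroup.mk' C)) →* A))
    (hB : ∀ (g x : G) (hx : x ∈ E) (h : g⁻¹ * x * g ∈ S),
        B g ⟨QuotientGroup.mk' C x, Subgroup.mem_map_of_mem _ hx⟩ = lam ⟨g⁻¹ * x * g, h⟩)
    (h g : G) (v : ↥(E.map (QuotientGroup.mk' C))) :
    B (h * g) v = B g (Additive.toMul (conjEnd (E.map (QuotientGroup.mk' C)) (QuotientGroup.mk' C h⁻¹)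
      (Additive.ofMul v))) := by
  obtain ⟨x, hx, rfl⟩ := exists_rep_of_mem_map E C v
  have hmemE : ∀ (k y : G), y ∈ E → k⁻¹ * y * k ∈ E := by
    intro k y hy
    have := hEn.conj_mem y hy k⁻¹
    rwa [inv_inv] at this
  rw [conjEnd_mk_apply E C h⁻¹ x hx, hB (h * g) x hx (hES (hmemE _ _ hx)),
    hB g (h⁻¹ * x * h⁻¹⁻¹) (hEn.conj_mem x hx h⁻¹) (hES (hmemE _ _ (hEn.conj_mem x hx h⁻¹)))]
  congr 1
  apply Subtype.ext
  show (h * g)⁻¹ * x * (h * g) = g⁻¹ * (h⁻¹ * x * h⁻¹⁻¹) * g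
  group

theorem end_sum_apply {V : Type*} [AddCommGroup V] {ι : Type*} (s : Finset ι) (r : ι → AddMonoid.End V) (v : V) :
    (∑ i ∈ s, r i) v = ∑ i ∈ s, (r i) v := by
  classical
  induction s using Finset.induction_on with
  | empty => simp
  | insert a s ha ih =>
    rw [Finset.sum_insert ha, Finset.sum_insert ha, ← ih]
    rfl

/-- the vanishing of a geometric sum kills the corresponding product of values of `B` -/
theorem trace_hom_prod_eq_one {A : Type*} [CommGroup A] (lam : ↥S →* A) (hES : E ≤ S)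
    (B : G → (↥(E.map (QuotientGroup.mk' C)) →* A))
    (hB : ∀ (g x : G) (hx : x ∈ E) (h : g⁻¹ * x * g ∈ S),
        B g ⟨QuotientGroup.mk' C x, Subgroup.mem_map_of_mem _ hx⟩ = lam ⟨g⁻¹ * x * g, h⟩)
    (e : G) (n : ℕ)
    (hsum : ∑ i ∈ Finset.range n, (conjEnd (E.map (QuotientGroup.mk' C)) (QuotientGroup.mk' C e)) ^ i = 0)
    (g : G) (v : ↥(E.map (QuotientGroup.mk' C))) :
    ∏ i ∈ Finset.range n, B ((e⁻¹) ^ i * g) v = 1 := by
  have h1 : ∀ i ∈ Finset.range n, B ((e⁻¹) ^ i * g) v =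
      B g (Additive.toMul (((conjEnd (E.map (QuotientGroup.mk' C)) (QuotientGroup.mk' C e)) ^ i)
        (Additive.ofMul v))) := by
    intro i _
    rw [trace_hom_mul lam hES B hB]
    congr 3
    rw [← map_pow, ← map_pow, inv_pow, inv_inv]
  rw [Finset.prod_congr rfl h1, ← map_prod, ← toMul_sum, ← end_sum_apply, hsum]
  show B g 1 = 1
  exact map_one _

end traceHom

section maximal

theorem exists_maximal_lt {G : Type*} [Group G] [Finite G] (U : Subgroup G) :
    ∀ (n : ℕ) (Q : Subgroup G), Q < U → Nat.card U - Nat.card Q = n →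
      ∃ Q' : Subgroup G, Q ≤ Q' ∧ Q' < U ∧ ∀ Q'' : Subgroup G, Q' < Q'' → Q'' ≤ U → Q'' = U := by
  intro n
  induction n using Nat.strong_induction_on with
  | _ n IH =>
  intro Q hQ hn
  by_cases h : ∃ Q'' : Subgroup G, Q < Q'' ∧ Q'' < U
  · obtain ⟨Q'', h1, h2⟩ := h
    have c1 := card_lt_card_of_lt h1
    have c2 := card_lt_card_of_lt h2
    obtain ⟨Q', h3, h4, h5⟩ := IH (Nat.card U - Nat.card Q'') (by omega) Q'' h2 rfl
    exact ⟨Q', h1.le.trans h3, h4, h5⟩
  · refine ⟨Q, le_rfl, hQ, ?_⟩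
    intro Q'' h1 h2
    by_contra hne
    exact h ⟨Q'', h1, lt_of_le_of_ne h2 hne⟩

end maximal

section main

variable {G : Type*} [Group G] [Finite G] {p : ℕ} [hp : Fact p.Prime]

/-- **The trace argument.** -/
theorem no_engel_of_trace (S : Sylow p G) (M E C : Subgroup G)
    (hSM : (S : Subgroup G) ≤ M)
    (hMmax : ∀ H : Subgroup G, (S : Subgroup G) ≤ H → H ≠ ⊤ → H ≤ M)
    (hch : IsChiefFactor E C) (hES : E ≤ (S : Subgroup G)) (hEG : E ≤ commutator G)
    {A : Type*} [CommGroup A] (lam : ↥(S : Subgroup G) →* A)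
    (hlamM : ∀ y ∈ E, ∀ m ∈ M, ∀ (h1 : m⁻¹ * y * m ∈ (S : Subgroup G)) (h2 : y ∈ (S : Subgroup G)),
      lam ⟨m⁻¹ * y * m, h1⟩ = lam ⟨y, h2⟩)
    (hlamC : ∀ c ∈ C, ∀ h : c ∈ (S : Subgroup G), lam ⟨c, h⟩ = 1)
    (hlamE : ∃ x, ∃ hx : x ∈ E, lam ⟨x, hES hx⟩ ≠ 1)
    (u : G) (huS : u ∈ (S : Subgroup G))
    (huP : ∀ N : Subgroup G, N.Normal → IsPGroup p N → u ∉ N)
    (huE : Cfsg.iterCommutator E (Subgroup.zpowers u) (p - 1) ≤ C) : False := by
  classical
  obtain ⟨hlt, hEn, hCn, hchief⟩ := hch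
  have hSp : IsPGroup p (S : Subgroup G) := S.isPGroup'
  obtain ⟨hUbne, hUbn, hUbmin⟩ := minimal_normal_of_isChiefFactor ⟨hlt, hEn, hCn, hchief⟩
  have hUbp : IsPGroup p (E.map (QuotientGroup.mk' C)) := (hSp.to_le hES).map _
  have hUbcomm := comm_of_minimal_normal _ hUbne hUbmin hUbp
  have hUbc : IsMulCommutative ↥(E.map (QuotientGroup.mk' C)) :=
    ⟨⟨fun a b => Subtype.ext (hUbcomm a a.2 b b.2)⟩⟩
  have hexp := pow_eq_one_of_minimal_normal _ hUbne hUbmin hUbp hUbcomm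
  obtain ⟨B, hB⟩ := exists_trace_hom (S : Subgroup G) E C hES lam hlamC
  have hmemE : ∀ (k y : G), y ∈ E → k⁻¹ * y * k ∈ E := by
    intro k y hy
    have := hEn.conj_mem y hy k⁻¹
    rwa [inv_inv] at this
  -- the Engel set
  set 𝓔 : Set G := {e | e ∈ (S : Subgroup G) ∧
    ∑ i ∈ Finset.range p, (conjEnd (E.map (QuotientGroup.mk' C)) (QuotientGroup.mk' C e)) ^ i = 0} with h𝓔
  have hu𝓔 : u ∈ 𝓔 := by
    refine ⟨huS, ?_⟩
    apply geom_sum_conjEnd_eq_zero _ hexp
    rw [← MonoidHom.map_zpowers, ← map_iterCommutator, eq_bot_iff]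
    rintro _ ⟨x, hx, rfl⟩
    rw [Subgroup.mem_bot, QuotientGroup.mk'_apply, QuotientGroup.eq_one_iff]
    exact huE hx
  have h𝓔conj : ∀ e ∈ 𝓔, ∀ w : G, w * e * w⁻¹ ∈ (S : Subgroup G) → w * e * w⁻¹ ∈ 𝓔 := by
    intro e he w hw
    refine ⟨hw, ?_⟩
    have h1 : ∀ i : ℕ, (conjEnd (E.map (QuotientGroup.mk' C)) (QuotientGroup.mk' C (w * e * w⁻¹))) ^ i =
        conjEnd (E.map (QuotientGroup.mk' C)) (QuotientGroup.mk' C w) *
          (conjEnd (E.map (QuotientGroup.mk' C)) (QuotientGroup.mk' C e)) ^ i *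
          conjEnd (E.map (QuotientGroup.mk' C)) (QuotientGroup.mk' C w⁻¹) := by
      intro i
      rw [← map_pow, ← map_pow, ← map_pow, ← map_pow, conj_pow, map_mul, map_mul, map_mul, map_mul]
    rw [Finset.sum_congr rfl (fun i _ => h1 i), ← Finset.sum_mul, ← Finset.mul_sum, he.2, mul_zero, zero_mul]
  set U₀ := Subgroup.closure 𝓔 with hU₀
  have hU₀S : U₀ ≤ (S : Subgroup G) := (Subgroup.closure_le _).mpr (fun e he => he.1)
  have huU₀ : u ∈ U₀ := Subgroup.subset_closure hu𝓔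
  have hU₀p : IsPGroup p U₀ := hSp.to_le hU₀S
  have hU₀wc : ∀ w : G, cj w U₀ ≤ (S : Subgroup G) → cj w U₀ = U₀ := by
    intro w hw
    apply Subgroup.eq_of_le_of_card_ge
    · rw [hU₀, cj_closure, Subgroup.closure_le]
      rintro _ ⟨e, he, rfl⟩
      apply Subgroup.subset_closure
      apply h𝓔conj e he w
      apply hw
      exact conj_mem_cj (Subgroup.subset_closure he)
    · rw [card_cj]
  have hSN : (S : Subgroup G) ≤ Subgroup.normalizer (U₀ : Set G) := by
    intro s hs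
    rw [mem_normalizer_iff_cj_eq]
    apply hU₀wc
    have := cj_mono (g := s) hU₀S
    rwa [cj_eq_self_of_mem hs] at this
  have hNM : Subgroup.normalizer (U₀ : Set G) ≤ M := by
    apply hMmax _ hSN
    intro htop
    have hn : U₀.Normal := Subgroup.normalizer_eq_top_iff.mp htop
    exact huP U₀ hn hU₀p huU₀
  -- `M` is the unique fixed point of `U₀` on `G ⧸ M`
  have hfix : ∀ g : G, (∀ h ∈ U₀, g⁻¹ * h * g ∈ M) → g ∈ M := by
    intro g hg
    have hle : cj g⁻¹ U₀ ≤ M := by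
      intro x hx
      rw [mem_cj, inv_inv] at hx
      have := hg _ hx
      have e : g⁻¹ * (g * x * g⁻¹) * g = x := by group
      rwa [e] at this
    obtain ⟨m, hm, hle2⟩ := (sylIn_of_sylow_le S hSM).exists_cj_le hle (isPGroup_cj hU₀p)
    have h1 : cj (m * g⁻¹) U₀ = U₀ := hU₀wc _ (by rw [cj_mul]; exact hle2)
    have h2 : m * g⁻¹ ∈ M := hNM (mem_normalizer_iff_cj_eq.mpr h1)
    have e : g = (m * g⁻¹)⁻¹ * m := by group
    rw [e]
    exact mul_mem (inv_mem h2) hm
  -- the function on cosets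
  haveI : Fintype (G ⧸ M) := Fintype.ofFinite _
  have hBM : ∀ g : G, ∀ m ∈ M, B (g * m) = B g := by
    intro g m hm
    ext v
    obtain ⟨x, hx, rfl⟩ := exists_rep_of_mem_map E C v
    have hS1 : g⁻¹ * x * g ∈ (S : Subgroup G) := hES (hmemE _ _ hx)
    have hS2 : (g * m)⁻¹ * x * (g * m) ∈ (S : Subgroup G) := hES (hmemE _ _ hx)
    have hS3 : m⁻¹ * (g⁻¹ * x * g) * m ∈ (S : Subgroup G) := hES (hmemE _ _ (hmemE _ _ hx))
    rw [hB (g * m) x hx hS2, hB g x hx hS1, ← hlamM (g⁻¹ * x * g) (hmemE _ _ hx) m hm hS3 hS1]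
    congr 1
    apply Subtype.ext
    show (g * m)⁻¹ * x * (g * m) = m⁻¹ * (g⁻¹ * x * g) * m
    group
  set f : G ⧸ M → (↥(E.map (QuotientGroup.mk' C)) →* A) := fun ω => B ω.out with hf
  have hfmk : ∀ g : G, f (QuotientGroup.mk g) = B g := by
    intro g
    obtain ⟨m, hm⟩ := QuotientGroup.mk_out_eq_mul M g
    show B (Quotient.out (QuotientGroup.mk g : G ⧸ M)) = B g
    rw [hm]
    exact hBM g m m.2
  set t : ↥(E.map (QuotientGroup.mk' C)) →* A := ∏ ω : G ⧸ M, f ω with ht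
  have htinv : ∀ (h : G) (v : ↥(E.map (QuotientGroup.mk' C))),
      t (Additive.toMul (conjEnd (E.map (QuotientGroup.mk' C)) (QuotientGroup.mk' C h)
        (Additive.ofMul v))) = t v := by
    intro h v
    rw [ht, MonoidHom.finsetProd_apply, MonoidHom.finsetProd_apply]
    apply Fintype.prod_equiv (MulAction.toPerm h⁻¹ : Equiv.Perm (G ⧸ M))
    intro ω
    obtain ⟨g, rfl⟩ := QuotientGroup.mk_surjective ω
    show f (QuotientGroup.mk g) _ = f (h⁻¹ • (QuotientGroup.mk g : G ⧸ M)) v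
    rw [MulAction.Quotient.smul_mk, smul_eq_mul, hfmk, hfmk, trace_hom_mul lam hES B hB h⁻¹ g v, inv_inv]
  -- `t` is trivial
  have ht1 : ∀ v, t v = 1 := by
    set Kb : Subgroup (G ⧸ C) := t.ker.map (Subgroup.subtype _) with hKb
    have hKbn : Kb.Normal := by
      constructor
      rintro _ ⟨v, hv, rfl⟩ q
      obtain ⟨h, rfl⟩ := QuotientGroup.mk'_surjective C q
      refine ⟨Additive.toMul (conjEnd (E.map (QuotientGroup.mk' C)) (QuotientGroup.mk' C h)
        (Additive.ofMul v)), ?_, ?_⟩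
      · rw [SetLike.mem_coe, MonoidHom.mem_ker, htinv]
        exact hv
      · exact conjEnd_apply_coe _ _ _
    have hKbU : Kb ≤ E.map (QuotientGroup.mk' C) := by
      rintro _ ⟨v, _, rfl⟩
      exact v.2
    rcases hUbmin Kb hKbn hKbU with hK | hK
    · exfalso
      have hinv : ∀ x ∈ E, ∀ (g : G) (h1 : g⁻¹ * x * g ∈ (S : Subgroup G)) (h2 : x ∈ (S : Subgroup G)),
          lam ⟨g⁻¹ * x * g, h1⟩ = lam ⟨x, h2⟩ := by
        intro x hx g h1 h2
        set v : ↥(E.map (QuotientGroup.mk' C)) :=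
          ⟨QuotientGroup.mk' C x, Subgroup.mem_map_of_mem _ hx⟩ with hv
        set w : ↥(E.map (QuotientGroup.mk' C)) := v⁻¹ * Additive.toMul
          (conjEnd (E.map (QuotientGroup.mk' C)) (QuotientGroup.mk' C g⁻¹) (Additive.ofMul v)) with hw
        have htw : t w = 1 := by
          rw [hw, map_mul, map_inv, htinv, inv_mul_cancel]
        have hwK : (w : G ⧸ C) ∈ Kb := ⟨w, htw, rfl⟩
        rw [hK, Subgroup.mem_bot] at hwK
        have hwval : (w : G ⧸ C) = QuotientGroup.mk' C (x⁻¹ * (g⁻¹ * x * g)) := by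
          rw [hw, Subgroup.coe_mul, Subgroup.coe_inv, conjEnd_apply_coe]
          show (QuotientGroup.mk' C x)⁻¹ * (QuotientGroup.mk' C g⁻¹ * QuotientGroup.mk' C x *
            (QuotientGroup.mk' C g⁻¹)⁻¹) = _
          rw [map_mul, map_mul, map_mul, map_inv, map_inv, inv_inv]
        rw [hwval, QuotientGroup.mk'_apply, QuotientGroup.eq_one_iff] at hwK
        have hzS : x⁻¹ * (g⁻¹ * x * g) ∈ (S : Subgroup G) := mul_mem (inv_mem h2) h1
        have h3 := hlamC _ hwK hzS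
        have h4 : (⟨g⁻¹ * x * g, h1⟩ : ↥(S : Subgroup G)) = ⟨x, h2⟩ * ⟨x⁻¹ * (g⁻¹ * x * g), hzS⟩ := by
          apply Subtype.ext
          show g⁻¹ * x * g = x * (x⁻¹ * (g⁻¹ * x * g))
          group
        rw [h4, map_mul, h3, mul_one]
      obtain ⟨x, hx, hxne⟩ := hlamE
      exact hxne (map_eq_one_of_mem_commutator S lam E hES hinv x hx (hEG hx))
    · intro v
      have h1 : (v : G ⧸ C) ∈ Kb := by rw [hK]; exact v.2
      obtain ⟨w, hw, hwv⟩ := h1
      have h2 : w = v := Subtype.ext hwv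
      rw [← h2]
      exact hw
  -- the sum over the cosets other than `M` vanishes
  have hrest : ∀ v : ↥(E.map (QuotientGroup.mk' C)), ∀ (n : ℕ) (s : Finset (G ⧸ M)), s.card = n →
      (∀ h ∈ U₀, ∀ ω ∈ s, h • ω ∈ s) → (QuotientGroup.mk 1 : G ⧸ M) ∉ s → ∏ ω ∈ s, f ω v = 1 := by
    intro v n
    induction n using Nat.strong_induction_on with
    | _ n IH =>
    intro s hcard hinv h1s
    rcases s.eq_empty_or_nonempty with hs | ⟨ω, hω⟩
    · rw [hs, Finset.prod_empty]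
    obtain ⟨g, rfl⟩ := QuotientGroup.mk_surjective ω
    set Q := U₀ ⊓ MulAction.stabilizer G (QuotientGroup.mk g : G ⧸ M) with hQ
    have hQlt : Q < U₀ := by
      refine lt_of_le_of_ne inf_le_left ?_
      intro hQU
      have hgM : g ∈ M := by
        apply hfix g
        intro h hh
        have h2 : h⁻¹ ∈ MulAction.stabilizer G (QuotientGroup.mk g : G ⧸ M) := by
          have : h⁻¹ ∈ Q := by rw [hQU]; exact inv_mem hh
          exact this.2
        rw [MulAction.mem_stabilizer_iff, MulAction.Quotient.smul_mk, smul_eq_mul, QuotientGroup.eq] at h2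
        have e : (h⁻¹ * g)⁻¹ * g = g⁻¹ * h * g := by group
        rwa [e] at h2
      apply h1s
      have : (QuotientGroup.mk g : G ⧸ M) = QuotientGroup.mk 1 := by
        rw [QuotientGroup.eq]
        exact mul_mem (inv_mem hgM) (one_mem _)
      rwa [this] at hω
    obtain ⟨Q', hQQ', hQ'lt, hQ'max⟩ := exists_maximal_lt U₀ _ Q hQlt rfl
    have hU₀N : U₀ ≤ Subgroup.normalizer (Q' : Set G) := by
      obtain ⟨x, hx, hxQ'⟩ := exists_mem_normalizer_not_mem_of_lt hU₀p hQ'lt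
      have hle : Q' ≤ U₀ ⊓ Subgroup.normalizer (Q' : Set G) := le_inf hQ'lt.le Subgroup.le_normalizer
      have hlt' : Q' < U₀ ⊓ Subgroup.normalizer (Q' : Set G) :=
        lt_of_le_of_ne hle (fun e => hxQ' (e ▸ hx))
      have := hQ'max _ hlt' inf_le_left
      exact (inf_eq_left.mp this)
    obtain ⟨e, he, heQ'⟩ : ∃ e ∈ 𝓔, e ∉ Q' := by
      by_contra hcon
      push Not at hcon
      have : U₀ ≤ Q' := (Subgroup.closure_le _).mpr hcon
      exact absurd (le_antisymm hQ'lt.le this) hQ'lt.ne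
    have heU₀ : e ∈ U₀ := Subgroup.subset_closure he
    set O := s.filter (fun a => ∃ h ∈ U₀, h • (QuotientGroup.mk g : G ⧸ M) = a) with hO
    have hOs : O ⊆ s := Finset.filter_subset _ _
    have hgO : (QuotientGroup.mk g : G ⧸ M) ∈ O := by
      rw [hO, Finset.mem_filter]
      exact ⟨hω, 1, one_mem _, one_smul _ _⟩
    have hOfix : ∀ a ∈ O, e • a ≠ a := by
      intro a ha hea
      rw [hO, Finset.mem_filter] at ha
      obtain ⟨_, h, hh, rfl⟩ := ha
      have h1 : h⁻¹ * e * h ∈ Q := by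
        have h1a : h⁻¹ * e * h ∈ U₀ := mul_mem (mul_mem (inv_mem hh) heU₀) hh
        have h1b : h⁻¹ * e * h ∈ MulAction.stabilizer G (QuotientGroup.mk g : G ⧸ M) := by
          rw [MulAction.mem_stabilizer_iff, mul_smul, mul_smul, hea, inv_smul_smul]
        exact Subgroup.mem_inf.mpr ⟨h1a, h1b⟩
      have h2 : h * (h⁻¹ * e * h) * h⁻¹ ∈ cj h Q' := conj_mem_cj (hQQ' h1)
      rw [cj_eq_self_of_mem_normalizer (hU₀N hh)] at h2
      have e1 : h * (h⁻¹ * e * h) * h⁻¹ = e := by group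
      rw [e1] at h2
      exact heQ' h2
    have hOinv : ∀ h ∈ U₀, ∀ a ∈ O, h • a ∈ O := by
      intro h hh a ha
      rw [hO, Finset.mem_filter] at ha ⊢
      obtain ⟨has, h', hh', rfl⟩ := ha
      exact ⟨hinv h hh _ has, h * h', mul_mem hh hh', mul_smul _ _ _⟩
    have hprodO : ∏ a ∈ O, f a v = 1 := by
      refine prod_eq_one_of_perm_cycles (MulAction.toPerm e⁻¹ : Equiv.Perm (G ⧸ M)) (fun a => f a v) _ O rfl
        (fun a ha => hOinv e⁻¹ (inv_mem heU₀) a ha) ?_
      intro a ha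
      have hpow : ∀ i : ℕ, ((MulAction.toPerm e⁻¹ : Equiv.Perm (G ⧸ M)) ^ i) a = (e⁻¹) ^ i • a := by
        intro i
        have : (MulAction.toPerm e⁻¹ : Equiv.Perm (G ⧸ M)) ^ i = MulAction.toPerm ((e⁻¹) ^ i) := by
          rw [← MulAction.toPermHom_apply, ← MulAction.toPermHom_apply, map_pow]
        rw [this]
        rfl
      have hdvd : p ∣ Function.minimalPeriod (MulAction.toPerm e⁻¹ : Equiv.Perm (G ⧸ M)) a := by
        obtain ⟨k, hk⟩ := hSp ⟨e, he.1⟩
        have hk' : e ^ p ^ k = 1 := by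
          have := congrArg Subtype.val hk
          rwa [Subgroup.coe_pow, Subgroup.coe_one] at this
        have hper : Function.IsPeriodicPt (MulAction.toPerm e⁻¹ : Equiv.Perm (G ⧸ M)) (p ^ k) a := by
          show ((MulAction.toPerm e⁻¹ : Equiv.Perm (G ⧸ M)) : G ⧸ M → G ⧸ M)^[p ^ k] a = a
          rw [Equiv.Perm.iterate_eq_pow, hpow, inv_pow, hk', inv_one, one_smul]
        obtain ⟨j, _, hj⟩ := (Nat.dvd_prime_pow hp.out).mp hper.minimalPeriod_dvd
        rcases Nat.eq_zero_or_pos j with hj0 | hj0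
        · exfalso
          rw [hj0, pow_zero, Function.minimalPeriod_eq_one_iff_isFixedPt] at hj
          apply hOfix a ha
          have h1 : e⁻¹ • a = a := hj
          calc e • a = e • (e⁻¹ • a) := by rw [h1]
            _ = a := smul_inv_smul _ _
        · rw [hj]
          exact dvd_pow_self p (Nat.pos_iff_ne_zero.mp hj0)
      obtain ⟨g', rfl⟩ := QuotientGroup.mk_surjective a
      have hterm : ∀ i ∈ Finset.range (Function.minimalPeriod (MulAction.toPerm e⁻¹ : Equiv.Perm (G ⧸ M))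
          (QuotientGroup.mk g' : G ⧸ M)),
          f (((MulAction.toPerm e⁻¹ : Equiv.Perm (G ⧸ M)) ^ i) (QuotientGroup.mk g' : G ⧸ M)) v =
            B ((e⁻¹) ^ i * g') v := by
        intro i _
        rw [hpow, MulAction.Quotient.smul_mk, smul_eq_mul, hfmk]
      rw [Finset.prod_congr rfl hterm]
      exact trace_hom_prod_eq_one lam hES B hB e _ (geom_sum_eq_zero_of_dvd _ p he.2 hdvd) g' v
    have hsd_inv : ∀ h ∈ U₀, ∀ a ∈ s \ O, h • a ∈ s \ O := by
      intro h hh a ha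
      rw [Finset.mem_sdiff] at ha ⊢
      refine ⟨hinv h hh a ha.1, ?_⟩
      intro hmem
      apply ha.2
      have := hOinv h⁻¹ (inv_mem hh) _ hmem
      rwa [inv_smul_smul] at this
    have hcard' : (s \ O).card < n := by
      rw [← hcard]
      apply Finset.card_lt_card
      refine ⟨Finset.sdiff_subset, ?_⟩
      intro hsub
      have := hsub hω
      rw [Finset.mem_sdiff] at this
      exact this.2 hgO
    have hrest' := IH _ hcard' (s \ O) rfl hsd_inv (fun hmem => h1s (Finset.mem_sdiff.mp hmem).1)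
    rw [← Finset.prod_sdiff hOs, hrest', hprodO, one_mul]
  -- conclusion
  obtain ⟨x, hx, hxne⟩ := hlamE
  apply hxne
  have h1 := ht1 ⟨QuotientGroup.mk' C x, Subgroup.mem_map_of_mem _ hx⟩
  rw [ht, MonoidHom.finsetProd_apply,
    ← Finset.mul_prod_erase Finset.univ _ (Finset.mem_univ (QuotientGroup.mk 1 : G ⧸ M))] at h1
  have h2 := hrest ⟨QuotientGroup.mk' C x, Subgroup.mem_map_of_mem _ hx⟩ _
    (Finset.univ.erase (QuotientGroup.mk 1 : G ⧸ M)) rfl
    (by
      intro h hh ω hω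
      rw [Finset.mem_erase] at hω ⊢
      refine ⟨?_, Finset.mem_univ _⟩
      intro heq
      apply hω.1
      have h3 : ω = h⁻¹ • (QuotientGroup.mk 1 : G ⧸ M) := by rw [← heq, inv_smul_smul]
      rw [h3, MulAction.Quotient.smul_mk, smul_eq_mul, QuotientGroup.eq]
      have : (h⁻¹ * 1)⁻¹ * 1 = h := by group
      rw [this]
      exact hSM (hU₀S hh))
    (Finset.notMem_erase _ _)
  rw [h2, mul_one, hfmk] at h1
  have hS1 : (1 : G)⁻¹ * x * 1 ∈ (S : Subgroup G) := by
    have : (1 : G)⁻¹ * x * 1 = x := by group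
    rw [this]; exact hES hx
  rw [hB 1 x hx hS1] at h1
  have e : (⟨x, hES hx⟩ : ↥(S : Subgroup G)) = ⟨(1 : G)⁻¹ * x * 1, hS1⟩ := by
    apply Subtype.ext
    show x = (1 : G)⁻¹ * x * 1
    group
  rw [e]
  exact h1

end main

end Cfsg.Agent.Lib.Helper33
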