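import Mathlib
import Cfsg.Agent.Lib.Helper76.FrobRedA
import Cfsg.Agent.Lib.Helper59.FrobGens

/-!
# helper33: S4306 MODULE [R4] (helper76, board #2604): final assembly

From the ambient statement `FrobAmbientStmt` we derive the statement of S4306: a nonabelian group
`A` of order `p * q` acting on a solvable group `G` of coprime order without common nontrivial
fixed points forces `G` to have Fitting height at most two.
-/

set_option autoImplicit false

namespace Cfsg.Agent.Lib.Helper33.FrobRedR4

open Cfsg.Agent.Lib.Helper76.FrobRed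

universe u1 u2

/-- A group generated by `f, h` with `h` normalizing `⟨f⟩` is solvable. -/
theorem isSolvable_of_gens {A : Type*} [Group A] [Finite A] (f h : A)
    (hnorm : h * f * h⁻¹ ∈ Subgroup.zpowers f)
    (htop : Subgroup.closure ({f, h} : Set A) = ⊤) : Group.IsSolvable A := by
  classical
  have hsub : ∀ y ∈ Subgroup.zpowers f, h * y * h⁻¹ ∈ Subgroup.zpowers f := by
    intro y hy
    obtain ⟨k, rfl⟩ := Subgroup.mem_zpowers_iff.1 hy
    have : h * f ^ k * h⁻¹ = (h * f * h⁻¹) ^ k := by
      rw [← MulAut.conj_apply, map_zpow, MulAut.conj_apply]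
    rw [this]
    exact Subgroup.zpow_mem _ hnorm k
  have hle : (⊤ : Subgroup A) ≤ Subgroup.normalizer (Subgroup.zpowers f : Set A) := by
    rw [← htop, Subgroup.closure_le]
    intro x hx
    rcases hx with rfl | hx
    · exact Subgroup.le_normalizer (Subgroup.mem_zpowers x)
    · rw [Set.mem_singleton_iff] at hx
      subst hx
      exact Subgroup.mem_normalizer_fintype (S := (Subgroup.zpowers f : Set A)) hsub
  have hfn : (Subgroup.zpowers f).Normal :=
    ⟨fun n hn g => ((Subgroup.mem_normalizer_iff.1 (hle (Subgroup.mem_top g))) n).1 hn⟩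
  have hZsol : Group.IsSolvable (Subgroup.zpowers f) :=
    Group.isSolvable_of_comm (fun a b => (IsCyclic.commGroup (α := Subgroup.zpowers f)).mul_comm a b)
  have hcyc : IsCyclic (A ⧸ Subgroup.zpowers f) := by
    refine ⟨⟨QuotientGroup.mk' (Subgroup.zpowers f) h, ?_⟩⟩
    intro x
    obtain ⟨a, rfl⟩ := QuotientGroup.mk'_surjective (Subgroup.zpowers f) x
    have ha : a ∈ Subgroup.closure ({f, h} : Set A) := htop ▸ Subgroup.mem_top a
    have hmapcl : Subgroup.closure ({f, h} : Set A) ≤
        (Subgroup.zpowers (QuotientGroup.mk' (Subgroup.zpowers f) h)).comap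
          (QuotientGroup.mk' (Subgroup.zpowers f)) := by
      rw [Subgroup.closure_le]
      intro y hy
      rcases hy with hy | hy
      · rw [SetLike.mem_coe, Subgroup.mem_comap]
        have : QuotientGroup.mk' (Subgroup.zpowers f) y = 1 :=
          (QuotientGroup.eq_one_iff y).2 (hy ▸ Subgroup.mem_zpowers f)
        rw [this]; exact Subgroup.one_mem _
      · rw [Set.mem_singleton_iff] at hy
        subst hy
        exact Subgroup.mem_zpowers _
    exact hmapcl ha
  have hquot : Group.IsSolvable (A ⧸ Subgroup.zpowers f) :=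
    Group.isSolvable_of_comm (fun a b => hcyc.commGroup.mul_comm a b)
  exact Group.isSolvable_of_ker_le_range (Subgroup.zpowers f).subtype
    (QuotientGroup.mk' (Subgroup.zpowers f))
    (by rw [QuotientGroup.ker_mk', Subgroup.range_subtype])

/-- [R4] of board #2604, exact statement. -/
theorem s4306_of (amb : FrobAmbientStmt.{max u1 u2}) {G : Type u1} {A : Type u2} [Group G]
    [Finite G] [Group.IsSolvable G] [Group A] [Finite A] [MulDistribMulAction A G] (p q : ℕ)
    (hp : p.Prime) (hq : q.Prime) (hpq : p ≠ q) (hA : Nat.card A = p * q)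
    (hAna : ¬ IsMulCommutative A) (hcop : (Nat.card G).Coprime (p * q))
    (hfpf : ∀ g : G, (∀ a : A, a • g = g) → g = 1) :
    ∃ F : Subgroup G, ∃ hF : F.Normal, Group.IsNilpotent ↥F ∧ Group.IsNilpotent (G ⧸ F) := by
  classical
  obtain ⟨r, s, f, h, hr, hs, hrs, hrspq, hfr, hf1, hhs, hh1, hnorm, hncomm, htop⟩ :=
    Cfsg.Agent.Lib.Helper59.FrobGens.exists_frobenius_gens p q hp hq hpq hA hAna
  have hrF : Fact r.Prime := ⟨hr⟩
  have hsF : Fact s.Prime := ⟨hs⟩
  -- the semidirect product
  let φ : A →* MulAut G := MulDistribMulAction.toMulAut A G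
  let Γ := G ⋊[φ] A
  have hΓfin : Finite Γ := Finite.of_equiv (G × A) SemidirectProduct.equivProd.symm
  have hAsol : Group.IsSolvable A := isSolvable_of_gens f h hnorm htop
  have hΓsol : Group.IsSolvable Γ :=
    Group.isSolvable_of_ker_le_range (SemidirectProduct.inl : G →* Γ)
      (SemidirectProduct.rightHom : Γ →* A)
      (le_of_eq SemidirectProduct.range_inl_eq_ker_rightHom.symm)
  let G' : Subgroup Γ := (SemidirectProduct.inl : G →* Γ).range
  let f' : Γ := SemidirectProduct.inr f
  let h' : Γ := SemidirectProduct.inr h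
  have hcardG' : Nat.card G' = Nat.card G :=
    (Nat.card_congr (MonoidHom.ofInjective SemidirectProduct.inl_injective).toEquiv).symm
  have hrdvd : r ∣ p * q := hrspq ▸ dvd_mul_right r s
  have hsdvd : s ∣ p * q := hrspq ▸ dvd_mul_left s r
  -- fixed points of `closure {f, h} = ⊤`
  have hfix : ∀ g : G, f • g = g → h • g = g → g = 1 := by
    intro g hfg hhg
    apply hfpf
    intro a
    have ha : a ∈ Subgroup.closure ({f, h} : Set A) := htop ▸ Subgroup.mem_top a
    have hle : Subgroup.closure ({f, h} : Set A) ≤ MulAction.stabilizer A g := by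
      rw [Subgroup.closure_le]
      intro y hy
      rcases hy with rfl | hy
      · exact hfg
      · rw [Set.mem_singleton_iff] at hy
        subst hy
        exact hhg
    exact hle ha
  have hconj : ∀ (a : A) (g : G), (SemidirectProduct.inr a : Γ) * SemidirectProduct.inl g *
      (SemidirectProduct.inr a)⁻¹ = SemidirectProduct.inl (a • g) := by
    intro a g
    rw [← map_inv, ← SemidirectProduct.inl_aut]
    rfl
  have hcomm_fix : ∀ (a : A) (g : G),
      (SemidirectProduct.inl g : Γ) * SemidirectProduct.inr a =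
        SemidirectProduct.inr a * SemidirectProduct.inl g → a • g = g := by
    intro a g hc
    apply SemidirectProduct.inl_injective (G := A) (φ := φ)
    rw [← hconj, ← hc]
    group
  have hctx : FCtx r s G' f' h' := by
    refine ⟨?_, hrs, ?_, ?_, ?_, ?_, ?_, ?_, ?_, ?_, ?_⟩
    · show ((SemidirectProduct.inl : G →* Γ).range).Normal
      rw [SemidirectProduct.range_inl_eq_ker_rightHom]
      infer_instance
    · show (SemidirectProduct.inr f : Γ) ^ r = 1
      rw [← map_pow, hfr, map_one]
    · intro h0
      exact hf1 (SemidirectProduct.inr_injective (h0.trans (map_one _).symm))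
    · show (SemidirectProduct.inr h : Γ) ^ s = 1
      rw [← map_pow, hhs, map_one]
    · intro h0
      exact hh1 (SemidirectProduct.inr_injective (h0.trans (map_one _).symm))
    · show (SemidirectProduct.inr h : Γ) * SemidirectProduct.inr f * (SemidirectProduct.inr h)⁻¹ ∈
        Subgroup.zpowers (SemidirectProduct.inr f : Γ)
      rw [← map_inv, ← map_mul, ← map_mul, ← MonoidHom.map_zpowers]
      exact Subgroup.mem_map_of_mem _ hnorm
    · intro h0
      apply hncomm
      apply SemidirectProduct.inr_injective (N := G) (φ := φ)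
      rw [map_mul, map_mul]
      exact h0
    · rw [hcardG']
      intro hd
      have h1 : r ∣ Nat.gcd (Nat.card G) (p * q) := Nat.dvd_gcd hd hrdvd
      rw [hcop] at h1
      exact hr.one_lt.ne' (Nat.dvd_one.1 h1)
    · rw [hcardG']
      intro hd
      have h1 : s ∣ Nat.gcd (Nat.card G) (p * q) := Nat.dvd_gcd hd hsdvd
      rw [hcop] at h1
      exact hs.one_lt.ne' (Nat.dvd_one.1 h1)
    · rintro _ ⟨g, rfl⟩ hcf hch
      have hg : g = 1 := hfix g (hcomm_fix f g hcf) (hcomm_fix h g hch)
      rw [hg, map_one]
  obtain ⟨N, hNG, hNn, ⟨m, hm⟩, ⟨k, hk⟩⟩ := amb Γ G' f' h' hctx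
  let F₁ : Subgroup G := N.comap (SemidirectProduct.inl : G →* Γ)
  have hF₁n : F₁.Normal := hNn.comap _
  have htop' : (⊤ : Subgroup G).lowerCentralSeries k ≤ F₁ := by
    show _ ≤ N.comap (SemidirectProduct.inl : G →* Γ)
    rw [← Subgroup.map_le_iff_le_comap, Subgroup.map_lowerCentralSeries,
      ← MonoidHom.range_eq_map]
    exact hk
  have hbot : F₁.lowerCentralSeries m = ⊥ := by
    have h1 : (F₁.map (SemidirectProduct.inl : G →* Γ)).lowerCentralSeries m = ⊥ := by
      rw [eq_bot_iff, ← hm]
      exact Subgroup.lowerCentralSeries_mono m (Subgroup.map_comap_le _ _)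
    rw [← Subgroup.map_lowerCentralSeries] at h1
    exact (Subgroup.map_eq_bot_iff_of_injective _ SemidirectProduct.inl_injective).1 h1
  refine ⟨F₁, hF₁n, ?_, ?_⟩
  · exact (Subgroup.isNilpotent_iff_lowerCentralSeries F₁).2 ⟨m, hbot⟩
  · rw [Subgroup.nilpotent_iff_lowerCentralSeries]
    refine ⟨k, ?_⟩
    have h2 : ((⊤ : Subgroup G).lowerCentralSeries k).map (QuotientGroup.mk' F₁) = ⊥ := by
      rw [eq_bot_iff]
      rintro _ ⟨x, hx, rfl⟩
      exact (QuotientGroup.eq_one_iff x).2 (htop' hx)
    rw [Subgroup.map_lowerCentralSeries,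
      Subgroup.map_top_of_surjective _ (QuotientGroup.mk'_surjective F₁)] at h2
    exact h2

end Cfsg.Agent.Lib.Helper33.FrobRedR4
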