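/-
helper33: focal-subgroup reductions for saturated fusion systems, part A.
`Good F D`: every `x⁻¹ φ(x)` (`φ` a map of `F`) lies in `D`, i.e. `foc(F) ≤ D`.
`NFoc F D V`: the same for the automorphisms of the normalizer system `N_F(V)`, stated inside `F` (automorphisms of
overgroups `R` of `V` inside `N_S(V)` that preserve `V`).  Basic relations, passage to a fully normalized conjugate
(at the cost of the commutators of the conjugating map), and the step from `N_F(V)` to a subgroup normal in it.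
All declarations live in `Cfsg.Agent.Lib.Helper33.FusFocal`.
-/
import Cfsg.Agent.Lib.Helper88.FusionNilpRed
import Cfsg.Agent.Lib.Helper88.FusionNilpQuot
import Cfsg.Agent.Lib.Helper88.FusionAlperinCR
import Cfsg.Agent.Lib.Helper86.FocalBound
import Cfsg.Agent.Lib.Helper84.Alperin2

set_option autoImplicit false

namespace Cfsg.Agent.Lib.Helper33.FusFocal

open Cfsg Cfsg.FusionSystem Cfsg.Agent.Lib.Helper87

variable {Ω : Type*} [Group Ω] {S : Subgroup Ω}

/-- `foc(F) ≤ D`, elementwise. -/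
def Good (F : FusionSystem S) (D : Subgroup Ω) : Prop :=
  ∀ (P : Subgroup Ω) (φ : P →* Ω), φ ∈ F.Hom P → ∀ x : P, (x : Ω)⁻¹ * φ x ∈ D

/-- The automorphisms of `N_F(V)` (stated inside `F`) have their commutators in `D`. -/
def NFoc (F : FusionSystem S) (D V : Subgroup Ω) : Prop :=
  ∀ R : Subgroup Ω, V ≤ R → R ≤ normalizerIn S V → ∀ β ∈ F.autGroup R,
    (∀ x : R, (x : Ω) ∈ V ↔ ((β x : R) : Ω) ∈ V) → ∀ x : R, (x : Ω)⁻¹ * ((β x : R) : Ω) ∈ D

theorem good_iff (F : FusionSystem S) (D : Subgroup Ω) : Good F D ↔ F.focalSubgroup ≤ D := by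
  constructor
  · intro h
    unfold FusionSystem.focalSubgroup
    rw [Subgroup.closure_le]
    rintro y ⟨P, φ, x, hφ, rfl⟩
    exact h P φ hφ x
  · intro h P φ hφ x
    apply h
    apply Subgroup.subset_closure
    exact ⟨P, φ, x, hφ, rfl⟩

theorem Good.mono {F : FusionSystem S} {D D' : Subgroup Ω} (h : Good F D) (hDD' : D ≤ D') : Good F D' :=
  fun P φ hφ x => hDD' (h P φ hφ x)

theorem NFoc.mono {F : FusionSystem S} {D D' V : Subgroup Ω} (h : NFoc F D V) (hDD' : D ≤ D') : NFoc F D' V :=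
  fun R h1 h2 β hβ h3 x => hDD' (h R h1 h2 β hβ h3 x)

/-- the commutators of automorphisms lie in the focal subgroup -/
theorem inv_mul_aut_mem_focal (F : FusionSystem S) {R : Subgroup Ω} (hRS : R ≤ S) {β : MulAut R}
    (hβ : β ∈ F.autGroup R) (x : R) : (x : Ω)⁻¹ * ((β x : R) : Ω) ∈ F.focalSubgroup := by
  apply Subgroup.subset_closure
  exact ⟨R, R.subtype.comp (β : R ≃* R).toMonoidHom, x, (mem_autGroup_iff F hRS).1 hβ, rfl⟩

/-- If the normalizer system `N_F(V)` is good then `NFoc F D V`. -/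
theorem nfoc_of_good (F : FusionSystem S) {D V : Subgroup Ω}
    {E : FusionSystem (normalizerIn S V)} (hE : F.IsNormalizerSystem V E) (h : Good E D) : NFoc F D V := by
  intro R hVR hRN β hβ hβV x
  have hRS : R ≤ S := hRN.trans inf_le_left
  have hφE : R.subtype.comp (β : R ≃* R).toMonoidHom ∈ E.Hom R := by
    rw [hE R]
    have hβF : R.subtype.comp (β : R ≃* R).toMonoidHom ∈ F.Hom R := (mem_autGroup_iff F hRS).1 hβ
    have hle : R ⊔ V ≤ R := sup_le le_rfl hVR
    refine ⟨hβF, hRN, fun x => hRN (β x).2, _, restrict_mem F hβF hle, fun x => rfl, ?_⟩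
    rw [map_subgroupOf_eq_iff]
    refine ⟨fun x hx => (hβV _).1 hx, fun q hq => ?_⟩
    have hq' : ((β.symm ⟨q, hVR hq⟩ : R) : Ω) ∈ V := by
      apply (hβV _).2
      rw [MulEquiv.apply_symm_apply]
      exact hq
    refine ⟨⟨(β.symm ⟨q, hVR hq⟩ : R), (le_sup_left : R ≤ R ⊔ V) (β.symm ⟨q, hVR hq⟩).2⟩, hq', ?_⟩
    show ((β (β.symm ⟨q, hVR hq⟩) : R) : Ω) = q
    rw [MulEquiv.apply_symm_apply]
  exact h R _ hφE x

/-- An automorphism in `N_F(V)` of an overgroup of `V` is an automorphism in `F` preserving `V`. -/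
theorem aut_normalizer_preserves (F : FusionSystem S) {V R : Subgroup Ω}
    {E : FusionSystem (normalizerIn S V)} (hE : F.IsNormalizerSystem V E) (_hVR : V ≤ R)
    (hRT : R ≤ normalizerIn S V) {α : MulAut R} (hα : α ∈ E.autGroup R) :
    α ∈ F.autGroup R ∧ ∀ x : R, (x : Ω) ∈ V ↔ ((α x : R) : Ω) ∈ V := by
  have hRS : R ≤ S := hRT.trans inf_le_left
  have hφE : R.subtype.comp (α : R ≃* R).toMonoidHom ∈ E.Hom R := (mem_autGroup_iff E hRT).1 hα
  rw [hE R] at hφE
  obtain ⟨hφF, -, -, ψ, hψ, hψ1, hψ2⟩ := hφE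
  have hψ2' := (map_subgroupOf_eq_iff ψ).1 hψ2
  refine ⟨(mem_autGroup_iff F hRS).2 hφF, fun x => ⟨fun hx => ?_, fun hx => ?_⟩⟩
  · have h1 := hψ2'.1 (Subgroup.inclusion le_sup_left x) hx
    rw [hψ1 x] at h1
    exact h1
  · obtain ⟨y, hy, hyx⟩ := hψ2'.2 _ hx
    have h2 : ψ y = ψ (Subgroup.inclusion le_sup_left x) := by
      rw [hyx, hψ1 x]
      rfl
    have h3 := F.injective_of_mem hψ h2
    have h4 : (y : Ω) = (x : Ω) := congrArg (fun z : ↥(R ⊔ V) => (z : Ω)) h3
    rw [← h4]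
    exact hy

/-- Morphisms of `N_F(U)` normalizing `X` are morphisms of `F` normalizing `X`. -/
theorem nfoc_normalizer_of_nfoc (F : FusionSystem S) {D U X : Subgroup Ω}
    {E : FusionSystem (normalizerIn S U)} (hE : F.IsNormalizerSystem U E) (h : NFoc F D X) :
    NFoc E (D ⊓ E.focalSubgroup) X := by
  intro R hXR hRN β hβ hβX x
  have hRT : R ≤ normalizerIn S U := hRN.trans inf_le_left
  have hRS : R ≤ S := hRT.trans inf_le_left
  refine Subgroup.mem_inf.mpr ⟨?_, inv_mul_aut_mem_focal E hRT hβ x⟩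
  refine h R hXR (fun x hx => ⟨hRS hx, (hRN hx).2⟩) β ?_ hβX x
  rw [mem_autGroup_iff F hRS]
  have h1 : R.subtype.comp (β : R ≃* R).toMonoidHom ∈ E.Hom R := (mem_autGroup_iff E hRT).1 hβ
  rw [hE R] at h1
  exact h1.1

/-- **From automorphisms to all maps.** For a fully normalized `V`, `NFoc F D V` makes the (saturated) normalizer system
`N_F(V)` good, provided `D` contains the commutators of `S`. -/
theorem good_of_nfoc [Finite S] {p : ℕ} [Fact p.Prime] (hS : IsPGroup p S) (F : FusionSystem S)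
    (hF : F.IsSaturated p) {D V : Subgroup Ω} (hV : F.IsFullyNormalized V)
    {E : FusionSystem (normalizerIn S V)} (hE : F.IsNormalizerSystem V E)
    (hD : ∀ g ∈ S, ∀ x ∈ S, x⁻¹ * (g * x * g⁻¹) ∈ D) (h : NFoc F D V) : Good E D := by
  have hTS : normalizerIn S V ≤ S := inf_le_left
  have : Finite (normalizerIn S V) := finite_of_le hTS
  have hT : IsPGroup p (normalizerIn S V) := hS.to_le hTS
  have hEsat : E.IsSaturated p := isSaturated_of_isNormalizerSystem F hS hF hV hE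
  have hVn : E.IsNormal V := Cfsg.Agent.Lib.Helper88.NilpRed.isNormal_of_isNormalizerSystem F hV.1 hE
  have hD' : ∀ g ∈ normalizerIn S V, ∀ x ∈ normalizerIn S V, x⁻¹ * (g * x * g⁻¹) ∈ D :=
    fun g hg x hx => hD g (hTS hg) x (hTS hx)
  have hsub := Cfsg.Agent.Lib.Helper88.alperin_cr E (Cfsg.Agent.Lib.Helper86.focalSystem E D hD') hT hEsat
    (by
      intro R _ hcen hrad _ _ α hα
      have hVR : V ≤ R := Cfsg.Agent.Lib.Helper84.le_of_isNormal_of_centric_radical E hT hVn hcen hrad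
      have hRT : R ≤ normalizerIn S V := hcen.1
      obtain ⟨hαF, hpres⟩ := aut_normalizer_preserves F hE hVR hRT hα
      exact ⟨(mem_autGroup_iff E hRT).1 hα, fun x => h R hVR hRT α hαF hpres x⟩)
  intro P φ hφ x
  exact (hsub P hφ).2 x

/-- Transport of `NFoc` along a good map of the system defined on `N_S(Q)`. -/
theorem nfoc_transport (F : FusionSystem S) {D Q Q' : Subgroup Ω} (hQS : Q ≤ S)
    {ψ : normalizerIn S Q →* Ω} (hψ : ψ ∈ F.Hom (normalizerIn S Q)) (e : Q ≃* Q')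
    (hψe : ∀ (x : Ω) (hx : x ∈ Q) (hx' : x ∈ normalizerIn S Q), ψ ⟨x, hx'⟩ = e ⟨x, hx⟩)
    (hψD : ∀ x : normalizerIn S Q, (x : Ω)⁻¹ * ψ x ∈ D)
    (h : NFoc F D Q') : NFoc F D Q := by
  intro R hQR hRN β hβ hβQ x
  have hf : ψ.comp (Subgroup.inclusion hRN) ∈ F.Hom R := restrict_mem F hψ hRN
  have hinj : Function.Injective (ψ.comp (Subgroup.inclusion hRN)) := F.injective_of_mem hf
  have heR : IsIso F (MonoidHom.ofInjective hinj) := isIso_ofInjective F hf
  have key : ∀ x : R, ψ (Subgroup.inclusion hRN x) ∈ Q' ↔ (x : Ω) ∈ Q := by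
    intro x
    constructor
    · intro hx
      have h1 := hψe _ (e.symm ⟨_, hx⟩).2 (hRN (hQR (e.symm ⟨_, hx⟩).2))
      rw [MulEquiv.apply_symm_apply] at h1
      have h2 : (⟨((e.symm ⟨_, hx⟩ : Q) : Ω), hRN (hQR (e.symm ⟨_, hx⟩).2)⟩ : normalizerIn S Q) =
          Subgroup.inclusion hRN x := F.injective_of_mem hψ h1
      have h3 := congrArg (fun z : normalizerIn S Q => (z : Ω)) h2
      have h4 : ((e.symm ⟨_, hx⟩ : Q) : Ω) = (x : Ω) := h3
      rw [← h4]
      exact (e.symm ⟨_, hx⟩).2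
    · intro hx
      have h1 := hψe _ hx (hRN x.2)
      have h2 : (⟨(x : Ω), hRN x.2⟩ : normalizerIn S Q) = Subgroup.inclusion hRN x := rfl
      rw [h2] at h1
      rw [h1]
      exact (e _).2
  have hQ'R' : Q' ≤ (ψ.comp (Subgroup.inclusion hRN)).range := by
    intro y hy
    refine ⟨⟨((e.symm ⟨y, hy⟩ : Q) : Ω), hQR (e.symm ⟨y, hy⟩).2⟩, ?_⟩
    have h1 := hψe _ (e.symm ⟨y, hy⟩).2 (hRN (hQR (e.symm ⟨y, hy⟩).2))
    rw [MulEquiv.apply_symm_apply] at h1
    exact h1
  have hR'N : (ψ.comp (Subgroup.inclusion hRN)).range ≤ normalizerIn S Q' := by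
    rintro _ ⟨x, rfl⟩
    exact map_mem_normalizerIn F hQS hψ e hψe (Subgroup.inclusion hRN x)
  have hβ' := congr_mem_autGroup F heR hβ
  have hcongr : ∀ x : R, MulAut.congr (MonoidHom.ofInjective hinj) β (MonoidHom.ofInjective hinj x) =
      MonoidHom.ofInjective hinj (β x) := by
    intro x
    simp [MulAut.congr]
  have hmain := h _ hQ'R' hR'N _ hβ' (by
    intro y
    obtain ⟨x, rfl⟩ : ∃ x : R, MonoidHom.ofInjective hinj x = y :=
      (MonoidHom.ofInjective hinj).surjective y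
    rw [hcongr]
    show ψ (Subgroup.inclusion hRN x) ∈ Q' ↔ ψ (Subgroup.inclusion hRN (β x)) ∈ Q'
    rw [key, key]
    exact hβQ x) (MonoidHom.ofInjective hinj x)
  rw [hcongr] at hmain
  have hm : (ψ (Subgroup.inclusion hRN x))⁻¹ * ψ (Subgroup.inclusion hRN (β x)) ∈ D := hmain
  have h1 := hψD (Subgroup.inclusion hRN x)
  have h2 := hψD (Subgroup.inclusion hRN (β x))
  have e1 : (x : Ω)⁻¹ * ((β x : R) : Ω) =
      ((x : Ω)⁻¹ * ψ (Subgroup.inclusion hRN x)) *
        ((ψ (Subgroup.inclusion hRN x))⁻¹ * ψ (Subgroup.inclusion hRN (β x))) *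
        (((β x : R) : Ω)⁻¹ * ψ (Subgroup.inclusion hRN (β x)))⁻¹ := by
    group
  rw [e1]
  exact D.mul_mem (D.mul_mem h1 hm) (D.inv_mem h2)

end Cfsg.Agent.Lib.Helper33.FusFocal
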