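/-
helper33: focal-subgroup reductions for saturated fusion systems, part B: towers.
For an isomorphism-invariant `p`-group functor `W` write `wS W U` for `W(U)` viewed inside the ambient group.
`Ctl W F` : `foc(F) ≤ foc(N_F(W(S)))`.
`good_of_top`: if `Ctl` holds for the normalizer systems of the fully normalized `U ≠ 1` with `N_S(U) < S`, and `NFoc F D Q`
holds for all `1 ≠ Q ⊴ S`, then `foc(F) ≤ D`.
All declarations live in `Cfsg.Agent.Lib.Helper33.FusFocal`.
-/
import Cfsg.Agent.Lib.Helper33.FusFocalA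
import Cfsg.Prelude.Def_ConjugacyFunctors

set_option autoImplicit false

universe u

namespace Cfsg.Agent.Lib.Helper33.FusFocal

open Cfsg Cfsg.FusionSystem Cfsg.Agent.Lib.Helper87

/-- `W(U)` inside the ambient group. -/
def wS (W : ∀ (Q : Type u) [Group Q], Subgroup Q) {Ω : Type u} [Group Ω] (U : Subgroup Ω) : Subgroup Ω :=
  (W ↥U).map U.subtype

section functor

variable {p : ℕ} {W : ∀ (Q : Type u) [Group Q], Subgroup Q} {Ω : Type u} [Group Ω]

theorem wS_le (U : Subgroup Ω) : wS W U ≤ U := Subgroup.map_subtype_le _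

theorem wS_ne_bot (hW : Cfsg.IsCharPFunctor.{u} p W) {U : Subgroup Ω} [Finite U] (hU : IsPGroup p U)
    (hne : U ≠ ⊥) : wS W U ≠ ⊥ := by
  have hnt : Nontrivial ↥U := (Subgroup.nontrivial_iff_ne_bot U).mpr hne
  have h1 := hW.1 ↥U hU hnt
  intro h
  apply h1
  unfold wS at h
  exact (Subgroup.map_eq_bot_iff_of_injective _ U.subtype_injective).mp h

theorem conj_mem_wS (hW : Cfsg.IsCharPFunctor.{u} p W) {U : Subgroup Ω} [Finite U] (hU : IsPGroup p U)
    {g : Ω} (hg : g ∈ Subgroup.normalizer (U : Set Ω)) {x : Ω} (hx : x ∈ wS W U) : g * x * g⁻¹ ∈ wS W U := by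
  obtain ⟨w, hw, rfl⟩ := hx
  have h1 := hW.2 ↥U ↥U hU (conjAut U g hg)
  have h2 : (conjAut U g hg) w ∈ W ↥U := by
    rw [← h1]
    exact ⟨w, hw, rfl⟩
  refine ⟨(conjAut U g hg) w, h2, ?_⟩
  exact conjAut_apply U g hg w

theorem normalizer_le_normalizer_wS (hW : Cfsg.IsCharPFunctor.{u} p W) {U : Subgroup Ω} [Finite U]
    (hU : IsPGroup p U) :
    Subgroup.normalizer (U : Set Ω) ≤ Subgroup.normalizer ((wS W U : Subgroup Ω) : Set Ω) := by
  intro g hg
  rw [Subgroup.mem_normalizer_iff]
  intro x
  refine ⟨fun hx => conj_mem_wS hW hU hg hx, fun hx => ?_⟩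
  have h2 := conj_mem_wS hW hU (Subgroup.inv_mem _ hg) hx
  have h3 : g⁻¹ * (g * x * g⁻¹) * g⁻¹⁻¹ = x := by group
  rwa [h3] at h2

/-- an automorphism of `U` preserves `W(U)` -/
theorem aut_preserves_wS (hW : Cfsg.IsCharPFunctor.{u} p W) {U : Subgroup Ω} [Finite U] (hU : IsPGroup p U)
    (β : MulAut U) (x : U) : (x : Ω) ∈ wS W U ↔ ((β x : U) : Ω) ∈ wS W U := by
  have key : ∀ (γ : MulAut U) (y : U), (y : Ω) ∈ wS W U → ((γ y : U) : Ω) ∈ wS W U := by
    intro γ y hy
    obtain ⟨w, hw, hwy⟩ := hy
    have hwy' : w = y := Subtype.ext hwy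
    subst hwy'
    have h1 := hW.2 ↥U ↥U hU γ
    have h2 : γ w ∈ W ↥U := by
      rw [← h1]
      exact ⟨w, hw, rfl⟩
    exact ⟨γ w, h2, rfl⟩
  refine ⟨key β x, fun h => ?_⟩
  have := key β⁻¹ (β x) h
  rwa [MulAut.inv_apply_self] at this

end functor

/-- `W` controls transfer in `F`: `foc(F) ≤ foc(N_F(W(S)))`. -/
def Ctl (W : ∀ (Q : Type u) [Group Q], Subgroup Q) {Ω : Type u} [Group Ω] {S : Subgroup Ω}
    (F : FusionSystem S) : Prop :=
  ∀ N : FusionSystem (normalizerIn S (wS W S)), F.IsNormalizerSystem (wS W S) N →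
    F.focalSubgroup ≤ N.focalSubgroup

variable {p : ℕ} [Fact p.Prime] {W : ∀ (Q : Type u) [Group Q], Subgroup Q} {Ω : Type u} [Group Ω]
  {S : Subgroup Ω}

/-- **Tower step.** For a fully normalized `U` in whose normalizer system `W` controls transfer,
`NFoc F D (W(N_S(U)))` implies `NFoc F D U`. -/
theorem nfoc_of_nfoc_wS [Finite S] (hW : Cfsg.IsCharPFunctor.{u} p W) (hS : IsPGroup p S)
    (F : FusionSystem S) (hF : F.IsSaturated p) {D U : Subgroup Ω} (hU : F.IsFullyNormalized U)
    (hD : ∀ g ∈ S, ∀ x ∈ S, x⁻¹ * (g * x * g⁻¹) ∈ D)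
    (hctl : Ctl W (normalizerSystem F U hU.1))
    (hX : NFoc F D (wS W (normalizerIn S U))) : NFoc F D U := by
  have hE := isNormalizerSystem_normalizerSystem F U hU.1
  have hTS : normalizerIn S U ≤ S := inf_le_left
  have : Finite (normalizerIn S U) := finite_of_le hTS
  have hT : IsPGroup p (normalizerIn S U) := hS.to_le hTS
  have hEsat := isSaturated_of_isNormalizerSystem F hS hF hU hE
  have hXT : wS W (normalizerIn S U) ≤ normalizerIn S U := wS_le _
  have hN' := isNormalizerSystem_normalizerSystem (normalizerSystem F U hU.1) (wS W (normalizerIn S U)) hXT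
  have h1 := hctl _ hN'
  have hNT : normalizerIn (normalizerIn S U) (wS W (normalizerIn S U)) = normalizerIn S U := by
    apply le_antisymm inf_le_left
    exact le_inf le_rfl (Subgroup.le_normalizer.trans (normalizer_le_normalizer_wS hW hT))
  have hXfn : (normalizerSystem F U hU.1).IsFullyNormalized (wS W (normalizerIn S U)) := by
    refine ⟨hXT, fun X' _ => ?_⟩
    rw [hNT]
    exact Nat.card_le_card_of_injective (Subgroup.inclusion inf_le_left) (Subgroup.inclusion_injective _)
  have h2 : NFoc (normalizerSystem F U hU.1) D (wS W (normalizerIn S U)) :=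
    (nfoc_normalizer_of_nfoc F hE hX).mono inf_le_left
  have hD' : ∀ g ∈ normalizerIn S U, ∀ x ∈ normalizerIn S U, x⁻¹ * (g * x * g⁻¹) ∈ D :=
    fun g hg x hx => hD g (hTS hg) x (hTS hx)
  have h3 := good_of_nfoc hT (normalizerSystem F U hU.1) hEsat hXfn hN' hD' h2
  have h4 : Good (normalizerSystem F U hU.1) D :=
    (good_iff _ _).2 (h1.trans ((good_iff _ _).1 h3))
  exact nfoc_of_good F hE h4

omit [Fact p.Prime] in
/-- `N_S(N_S(U)) ≤ N_S(W(N_S(U)))` -/
theorem normalizerIn_normalizerIn_le [Finite S] (hW : Cfsg.IsCharPFunctor.{u} p W) (hS : IsPGroup p S)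
    (U : Subgroup Ω) : normalizerIn S (normalizerIn S U) ≤ normalizerIn S (wS W (normalizerIn S U)) := by
  have hTS : normalizerIn S U ≤ S := inf_le_left
  have : Finite (normalizerIn S U) := finite_of_le hTS
  exact le_inf inf_le_left (inf_le_right.trans (normalizer_le_normalizer_wS hW (hS.to_le hTS)))

/-- **Climbing.** If all maps defined on subgroups of order `> c₀` are good, then `NFoc F D V` for every `V ≠ 1` with
`|N_S(V)| > c₀`. -/
theorem nfoc_of_large [Finite S] (hW : Cfsg.IsCharPFunctor.{u} p W) (hS : IsPGroup p S)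
    (F : FusionSystem S) (hF : F.IsSaturated p) {D : Subgroup Ω}
    (hD : ∀ g ∈ S, ∀ x ∈ S, x⁻¹ * (g * x * g⁻¹) ∈ D)
    (IH : ∀ (U : Subgroup Ω) (hU : F.IsFullyNormalized U), U ≠ ⊥ → normalizerIn S U ≠ S →
      Ctl W (normalizerSystem F U hU.1))
    (hTop : ∀ Q : Subgroup Ω, Q ≤ S → Q ≠ ⊥ → normalizerIn S Q = S → NFoc F D Q)
    (c₀ : ℕ) (hgood : ∀ P' : Subgroup Ω, c₀ < Nat.card P' → ∀ φ ∈ F.Hom P', ∀ x : P', (x : Ω)⁻¹ * φ x ∈ D) :
    ∀ m : ℕ, ∀ V : Subgroup Ω, V ≤ S → V ≠ ⊥ → c₀ < Nat.card (normalizerIn S V) →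
      Nat.card S - Nat.card (normalizerIn S V) = m → NFoc F D V := by
  intro m
  induction m using Nat.strong_induction_on with
  | _ m ih =>
    intro V hVS hVne hc hm
    obtain ⟨V', hVV', hV'fn⟩ := Cfsg.Agent.Lib.Helper85.exists_fullyNormalized_conj F hVS
    obtain ⟨hV'a, hV'r⟩ := fullyAutomized_receptive_of_fullyNormalized F hS hF hV'fn
    obtain ⟨ψ, e, hψ, he, hψe⟩ := exists_extension F hS hV'a hV'r hVV'
    apply nfoc_transport F hVS hψ e hψe (fun x => hgood _ hc ψ hψ x)
    have hV'ne : V' ≠ ⊥ := by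
      rintro rfl
      apply hVne
      apply Subgroup.eq_bot_of_card_eq
      rw [IsConj_card_eq hVV', Subgroup.card_bot]
    have hcard : Nat.card (normalizerIn S V) ≤ Nat.card (normalizerIn S V') := hV'fn.2 V (IsConj_symm hVV')
    by_cases hN : normalizerIn S V' = S
    · exact hTop V' hV'fn.1 hV'ne hN
    · apply nfoc_of_nfoc_wS hW hS F hF hV'fn hD (IH V' hV'fn hV'ne hN)
      have hTS : normalizerIn S V' ≤ S := inf_le_left
      have : Finite (normalizerIn S V') := finite_of_le hTS
      have hXS : wS W (normalizerIn S V') ≤ S := (wS_le _).trans hTS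
      have hTne : normalizerIn S V' ≠ ⊥ := by
        intro h
        apply hV'ne
        have := le_normalizerIn hV'fn.1
        rw [h] at this
        exact le_bot_iff.mp this
      have hXne : wS W (normalizerIn S V') ≠ ⊥ := wS_ne_bot hW (hS.to_le hTS) hTne
      have h3 : Nat.card (normalizerIn S (normalizerIn S V')) ≤
          Nat.card (normalizerIn S (wS W (normalizerIn S V'))) := by
        have : Finite (normalizerIn S (wS W (normalizerIn S V'))) := finite_of_le inf_le_left
        exact Nat.card_le_card_of_injective (Subgroup.inclusion (normalizerIn_normalizerIn_le hW hS V'))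
          (Subgroup.inclusion_injective _)
      have h4 : Nat.card (normalizerIn S V') < Nat.card (normalizerIn S (normalizerIn S V')) :=
        card_lt_card_normalizerIn hS hTS hN
      have h5 : Nat.card (normalizerIn S (wS W (normalizerIn S V'))) ≤ Nat.card S :=
        Subgroup.card_le_of_le inf_le_left
      exact ih (Nat.card S - Nat.card (normalizerIn S (wS W (normalizerIn S V')))) (by omega) _ hXS hXne
        (by omega) rfl

/-- **Local-to-global.** -/
theorem good_of_top [Finite S] (hW : Cfsg.IsCharPFunctor.{u} p W) (hS : IsPGroup p S)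
    (F : FusionSystem S) (hF : F.IsSaturated p) {D : Subgroup Ω}
    (hD : ∀ g ∈ S, ∀ x ∈ S, x⁻¹ * (g * x * g⁻¹) ∈ D)
    (IH : ∀ (U : Subgroup Ω) (hU : F.IsFullyNormalized U), U ≠ ⊥ → normalizerIn S U ≠ S →
      Ctl W (normalizerSystem F U hU.1))
    (hTop : ∀ Q : Subgroup Ω, Q ≤ S → Q ≠ ⊥ → normalizerIn S Q = S → NFoc F D Q) : Good F D := by
  have hsub := alperin_weak F (Cfsg.Agent.Lib.Helper86.focalSystem F D hD) hS hF (by
    intro R hRa hRr IHord α hα
    have hRS : R ≤ S := hRa.1
    have hRfn := Cfsg.Agent.Lib.Helper84.isFullyNormalized_of_fullyAutomized_receptive F hS hRa hRr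
    refine ⟨(mem_autGroup_iff F hRS).1 hα, fun x => ?_⟩
    by_cases hRne : R = ⊥
    · have hbot : ∀ y : R, (y : Ω) = 1 := fun y => (Subgroup.mem_bot).1 (hRne ▸ y.2)
      have h1 : (x : Ω) = 1 := hbot x
      have h2 : ((α x : R) : Ω) = 1 := hbot (α x)
      show (x : Ω)⁻¹ * ((α x : R) : Ω) ∈ D
      rw [h1, h2, inv_one, one_mul]
      exact D.one_mem
    · have hnf : NFoc F D R := by
        by_cases hN : normalizerIn S R = S
        · exact hTop R hRS hRne hN
        · apply nfoc_of_nfoc_wS hW hS F hF hRfn hD (IH R hRfn hRne hN)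
          have hTS : normalizerIn S R ≤ S := inf_le_left
          have : Finite (normalizerIn S R) := finite_of_le hTS
          have hXS : wS W (normalizerIn S R) ≤ S := (wS_le _).trans hTS
          have hTne : normalizerIn S R ≠ ⊥ := by
            intro h
            apply hRne
            have := le_normalizerIn hRS
            rw [h] at this
            exact le_bot_iff.mp this
          have hXne : wS W (normalizerIn S R) ≠ ⊥ := wS_ne_bot hW (hS.to_le hTS) hTne
          have h3 : Nat.card (normalizerIn S (normalizerIn S R)) ≤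
              Nat.card (normalizerIn S (wS W (normalizerIn S R))) := by
            have : Finite (normalizerIn S (wS W (normalizerIn S R))) := finite_of_le inf_le_left
            exact Nat.card_le_card_of_injective (Subgroup.inclusion (normalizerIn_normalizerIn_le hW hS R))
              (Subgroup.inclusion_injective _)
          have h4 : Nat.card (normalizerIn S R) < Nat.card (normalizerIn S (normalizerIn S R)) :=
            card_lt_card_normalizerIn hS hTS hN
          have h6 : Nat.card R ≤ Nat.card (normalizerIn S R) :=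
            Nat.card_le_card_of_injective (Subgroup.inclusion (le_normalizerIn hRS))
              (Subgroup.inclusion_injective _)
          exact nfoc_of_large hW hS F hF hD IH hTop (Nat.card R)
            (fun P' hP' φ hφ y => (IHord P' hP' hφ).2 y) _ _ hXS hXne (by omega) rfl
      exact hnf R le_rfl (le_normalizerIn hRS) α hα (fun y => ⟨fun _ => (α y).2, fun _ => y.2⟩) x)
  intro P φ hφ x
  exact (hsub P hφ).2 x

end Cfsg.Agent.Lib.Helper33.FusFocal
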