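/-
helper33: focal-subgroup reductions for saturated fusion systems, part M: the constrained case via a model.
If `E` has a model `G` in which `O_p(G) ∩ G' = O_p(G) ∩ N_G(W(P))'`, then `Q ∩ foc(E) ≤ D` for every `Q` normal in `E` and
every `D` containing the commutators of the maps of `N_E(W(T))`.
All declarations live in `Cfsg.Agent.Lib.Helper33.FusFocal`.
-/
import Cfsg.Agent.Lib.Helper33.FusFocalB
import Cfsg.Agent.Lib.Helper88.FusionModelBasic
import Cfsg.Agent.Lib.Helper85.FusionNormal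
import Mathlib.GroupTheory.Focal

set_option autoImplicit false

universe u

namespace Cfsg.Agent.Lib.Helper33.FusFocal

open Cfsg Cfsg.FusionSystem Cfsg.Agent.Lib.Helper87 Cfsg.Agent.Lib.Helper88.Model
open scoped commutatorElement

variable {p : ℕ} [Fact p.Prime] {W : ∀ (Q : Type u) [Group Q], Subgroup Q}

omit [Fact p.Prime] in
theorem wS_range (hW : Cfsg.IsCharPFunctor.{u} p W) {T G : Type u} [Group T] [Group G] [Finite T]
    (hT : IsPGroup p T) (ι : T →* G) (hι : Function.Injective ι) : wS W ι.range = (W T).map ι := by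
  unfold wS
  have h1 := hW.2 T ↥ι.range hT (MonoidHom.ofInjective hι)
  rw [← h1, Subgroup.map_map]
  rfl

variable {Ω : Type u} [Group Ω] {T : Subgroup Ω}

/-- **The constrained case.** -/
theorem normal_inf_focal_le_of_model [Finite T] (hW : Cfsg.IsCharPFunctor.{u} p W) (hTp : IsPGroup p T)
    (E : FusionSystem T) {G : Type u} [Group G] {ι : T →* G} (hM : E.IsModel p G ι)
    (hloc : ∀ P : Sylow p G, Subgroup.centralizer ((Cfsg.pCore p G : Subgroup G) : Set G) ≤ Cfsg.pCore p G →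
      Cfsg.pCore p G ⊓ commutator G = Cfsg.pCore p G ⊓
        (commutator ↥(Subgroup.normalizer ((wS W (P : Subgroup G) : Subgroup G) : Set G))).map
          (Subgroup.normalizer ((wS W (P : Subgroup G) : Subgroup G) : Set G)).subtype)
    {Q D : Subgroup Ω} (hQ : E.IsNormal Q)
    (hD : ∀ (P : Subgroup Ω) (φ : P →* Ω), φ ∈ E.normalizerHom (wS W T) P → ∀ x : P, (x : Ω)⁻¹ * φ x ∈ D) :
    Q ⊓ E.focalSubgroup ≤ D := by
  obtain ⟨hfin, hR, ⟨P, hP⟩, hC⟩ := hM
  have hι : Function.Injective ι := hR.1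
  have hloc' := hloc P hC
  have hXT : wS W T ≤ T := wS_le T
  have hιX : wS W (P : Subgroup G) = (W ↥T).map ι := by
    rw [hP]
    exact wS_range hW hTp ι hι
  have hPfin : Finite (P : Subgroup G) := inferInstance
  obtain ⟨N₁, hN₁⟩ : ∃ N₁ : Subgroup G,
      N₁ = Subgroup.normalizer ((wS W (P : Subgroup G) : Subgroup G) : Set G) := ⟨_, rfl⟩
  rw [← hN₁] at hloc'
  have hPN₁ : (P : Subgroup G) ≤ N₁ := by
    rw [hN₁]
    exact Subgroup.le_normalizer.trans (normalizer_le_normalizer_wS hW P.isPGroup')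
  have hTN : T ≤ normalizerIn T (wS W T) :=
    le_inf le_rfl (Subgroup.le_normalizer.trans (normalizer_le_normalizer_wS hW hTp))
  -- membership in `X` through `ι`
  have hmemX : ∀ y : T, (y : Ω) ∈ wS W T ↔ ι y ∈ wS W (P : Subgroup G) := by
    intro y
    rw [hιX]
    constructor
    · rintro ⟨w, hw, hwy⟩
      have : w = y := Subtype.ext hwy
      rw [← this]
      exact ⟨w, hw, rfl⟩
    · rintro ⟨w, hw, hwy⟩
      have : w = y := hι hwy
      rw [← this]
      exact ⟨w, hw, rfl⟩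
  have hconjX : ∀ u ∈ N₁, ∀ y : T, (y : Ω) ∈ wS W T → ∃ y' : T, (y' : Ω) ∈ wS W T ∧ ι y' = u * ι y * u⁻¹ := by
    intro u hu y hy
    have h1 : ι y ∈ wS W (P : Subgroup G) := (hmemX y).1 hy
    rw [hN₁] at hu
    have h2 := (Subgroup.mem_normalizer_iff.1 hu _).1 h1
    have h3 : u * ι y * u⁻¹ ∈ ι.range := by
      rw [← hP]
      exact (wS_le _) h2
    obtain ⟨y', hy'⟩ := h3
    refine ⟨y', ?_, hy'⟩
    rw [hmemX, hy']
    exact h2
  -- the focal subgroup of `P` in `N₁`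
  have hfoc : ∀ c : ↥N₁, c ∈ ((P.subtype hPN₁ : Sylow p ↥N₁) : Subgroup ↥N₁).focalSubgroup →
      ∃ t : T, ι t = (c : G) ∧ (t : Ω) ∈ D := by
    intro c hc
    rw [Subgroup.focalSubgroup_def] at hc
    induction hc using Subgroup.closure_induction with
    | mem g hg =>
      obtain ⟨hgP, x, hxP, u, rfl⟩ := hg
      rw [Sylow.coe_subtype, Subgroup.mem_subgroupOf] at hgP hxP
      rw [hP] at hgP hxP
      obtain ⟨a, ha⟩ := hxP
      obtain ⟨t, ht⟩ := hgP
      refine ⟨t, ht, ?_⟩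
      -- conjugation by `u` on the cyclic group generated by `a⁻¹`
      have hu : (u : G) ∈ N₁ := u.2
      have hux : (u : G) * ι a⁻¹ * (u : G)⁻¹ = ι (a⁻¹ * t) := by
        rw [map_mul, map_inv, ha, ht, commutatorElement_def]
        simp only [Subgroup.coe_mul, Subgroup.coe_inv]
        group
      -- the subgroup of `T` of elements conjugated into the image
      let H : Subgroup T := (ι.range).comap ((MulAut.conj (u : G)).toMonoidHom.comp ι)
      have hHmem : ∀ y : T, y ∈ H ↔ (u : G) * ι y * (u : G)⁻¹ ∈ ι.range := fun y => Iff.rfl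
      have haH : a⁻¹ ∈ H := by
        rw [hHmem, hux]
        exact ⟨_, rfl⟩
      have hXH : ∀ y : T, (y : Ω) ∈ wS W T → y ∈ H := by
        intro y hy
        obtain ⟨y', -, hy'⟩ := hconjX u hu y hy
        rw [hHmem, ← hy']
        exact ⟨_, rfl⟩
      have hP₀T : Subgroup.zpowers ((a⁻¹ : T) : Ω) ≤ T := by
        rw [Subgroup.zpowers_le]
        exact (a⁻¹).2
      have hsupT : Subgroup.zpowers ((a⁻¹ : T) : Ω) ⊔ wS W T ≤ T := sup_le hP₀T hXT
      have hsupH : Subgroup.zpowers ((a⁻¹ : T) : Ω) ⊔ wS W T ≤ H.map T.subtype := by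
        apply sup_le
        · rw [Subgroup.zpowers_le]
          exact ⟨a⁻¹, haH, rfl⟩
        · intro y hy
          exact ⟨⟨y, hXT hy⟩, hXH ⟨y, hXT hy⟩ hy, rfl⟩
      have hall : ∀ y : ↥(Subgroup.zpowers ((a⁻¹ : T) : Ω) ⊔ wS W T),
          (u : G) * ι ⟨y, hsupT y.2⟩ * (u : G)⁻¹ ∈ ι.range := by
        intro y
        obtain ⟨y', hy', hyy'⟩ := hsupH y.2
        have : y' = ⟨y, hsupT y.2⟩ := Subtype.ext hyy'
        rw [← this]
        exact hy'
      have hall₀ : ∀ y : ↥(Subgroup.zpowers ((a⁻¹ : T) : Ω)),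
          (u : G) * ι ⟨y, hP₀T y.2⟩ * (u : G)⁻¹ ∈ ι.range := by
        intro y
        exact hall ⟨y, (le_sup_left : _ ≤ Subgroup.zpowers ((a⁻¹ : T) : Ω) ⊔ wS W T) y.2⟩
      have hφ := conjThrough_mem_hom E hR hP₀T (u : G) hall₀
      have hψ := conjThrough_mem_hom E hR hsupT (u : G) hall
      have hmemN : conjThrough ι hι hP₀T (u : G) hall₀ ∈
          E.normalizerHom (wS W T) (Subgroup.zpowers ((a⁻¹ : T) : Ω)) := by
        refine ⟨hφ, hP₀T.trans hTN, fun y => hTN (conjThrough_mem ι hι hP₀T (u : G) hall₀ y), _, hψ, ?_, ?_⟩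
        · intro y
          have h1 := ι_conjThrough ι hι hsupT (u : G) hall (Subgroup.inclusion le_sup_left y)
          have h2 := ι_conjThrough ι hι hP₀T (u : G) hall₀ y
          have h3 := hι (h1.trans h2.symm)
          exact congrArg Subtype.val h3
        · rw [map_subgroupOf_eq_iff]
          constructor
          · intro y hy
            obtain ⟨y', hy'X, hy'⟩ := hconjX u hu ⟨y, hsupT y.2⟩ hy
            have h1 := ι_conjThrough ι hι hsupT (u : G) hall y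
            have h3 := hι (h1.trans hy'.symm)
            have h4 : conjThrough ι hι hsupT (u : G) hall y = (y' : Ω) := congrArg Subtype.val h3
            rw [h4]
            exact hy'X
          · intro q hq
            have hu' : (u : G)⁻¹ ∈ N₁ := N₁.inv_mem hu
            obtain ⟨y', hy'X, hy'⟩ := hconjX _ hu' ⟨q, hXT hq⟩ hq
            refine ⟨⟨(y' : Ω), (le_sup_right : wS W T ≤ Subgroup.zpowers ((a⁻¹ : T) : Ω) ⊔ wS W T) hy'X⟩,
              hy'X, ?_⟩
            have h1 := ι_conjThrough ι hι hsupT (u : G) hall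
              ⟨(y' : Ω), (le_sup_right : wS W T ≤ Subgroup.zpowers ((a⁻¹ : T) : Ω) ⊔ wS W T) hy'X⟩
            have h2 : (u : G) * ι ⟨(y' : Ω), hsupT ((le_sup_right : wS W T ≤
                Subgroup.zpowers ((a⁻¹ : T) : Ω) ⊔ wS W T) hy'X)⟩ * (u : G)⁻¹ = ι ⟨q, hXT hq⟩ := by
              have e : (⟨(y' : Ω), hsupT ((le_sup_right : wS W T ≤
                Subgroup.zpowers ((a⁻¹ : T) : Ω) ⊔ wS W T) hy'X)⟩ : T) = y' := Subtype.ext rfl
              rw [e, hy']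
              group
            have h3 := hι (h1.trans h2)
            exact congrArg Subtype.val h3
      have h5 := hD _ _ hmemN ⟨((a⁻¹ : T) : Ω), Subgroup.mem_zpowers _⟩
      have h6 := ι_conjThrough ι hι hP₀T (u : G) hall₀ ⟨((a⁻¹ : T) : Ω), Subgroup.mem_zpowers _⟩
      have e : (⟨((a⁻¹ : T) : Ω), hP₀T (Subgroup.mem_zpowers _)⟩ : T) = a⁻¹ := Subtype.ext rfl
      rw [e, hux] at h6
      have h7 := hι h6
      have h8 : conjThrough ι hι hP₀T (u : G) hall₀ ⟨((a⁻¹ : T) : Ω), Subgroup.mem_zpowers _⟩ =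
          ((a⁻¹ * t : T) : Ω) := congrArg Subtype.val h7
      rw [h8] at h5
      have e2 : (((a⁻¹ : T) : Ω))⁻¹ * ((a⁻¹ * t : T) : Ω) = (t : Ω) := by
        simp only [Subgroup.coe_mul, Subgroup.coe_inv]
        group
      have h9 : (((⟨((a⁻¹ : T) : Ω), Subgroup.mem_zpowers _⟩ :
          Subgroup.zpowers ((a⁻¹ : T) : Ω)) : Ω))⁻¹ * ((a⁻¹ * t : T) : Ω) ∈ D := h5
      rw [e2] at h9
      exact h9
    | one => exact ⟨1, map_one ι, D.one_mem⟩
    | mul c₁ c₂ _ _ h₁ h₂ =>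
      obtain ⟨t₁, ht₁, hd₁⟩ := h₁
      obtain ⟨t₂, ht₂, hd₂⟩ := h₂
      refine ⟨t₁ * t₂, ?_, D.mul_mem hd₁ hd₂⟩
      rw [map_mul, ht₁, ht₂]
      rfl
    | inv c₁ _ h₁ =>
      obtain ⟨t₁, ht₁, hd₁⟩ := h₁
      refine ⟨t₁⁻¹, ?_, D.inv_mem hd₁⟩
      rw [map_inv, ht₁]
      rfl
  -- `ι(foc(E)) ≤ G'`
  have hcomm : ∀ y ∈ E.focalSubgroup, ∃ hy : y ∈ T, ι ⟨y, hy⟩ ∈ commutator G := by
    intro y hy
    unfold FusionSystem.focalSubgroup at hy
    induction hy using Subgroup.closure_induction with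
    | mem y hy =>
      obtain ⟨P₁, φ, x, hφ, rfl⟩ := hy
      have hP₁ : P₁ ≤ T := (E.le_of_mem hφ).1
      have hφT : ∀ x : P₁, φ x ∈ T := (E.le_of_mem hφ).2
      obtain ⟨g, hg⟩ := (hR.2 P₁ hP₁ φ hφT).1 hφ
      refine ⟨T.mul_mem (T.inv_mem (hP₁ x.2)) (hφT x), ?_⟩
      have e : (⟨(x : Ω)⁻¹ * φ x, T.mul_mem (T.inv_mem (hP₁ x.2)) (hφT x)⟩ : T) =
          ⟨x, hP₁ x.2⟩⁻¹ * ⟨φ x, hφT x⟩ := rfl
      rw [e, map_mul, map_inv, hg x]
      have e2 : (ι ⟨x, hP₁ x.2⟩)⁻¹ * (g * ι ⟨x, hP₁ x.2⟩ * g⁻¹) = ⁅(ι ⟨x, hP₁ x.2⟩)⁻¹, g⁆ := by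
        rw [commutatorElement_def]
        group
      rw [e2]
      exact Subgroup.commutator_mem_commutator (Subgroup.mem_top _) (Subgroup.mem_top _)
    | one => exact ⟨T.one_mem, by rw [show (⟨1, T.one_mem⟩ : T) = 1 from rfl, map_one]; exact Subgroup.one_mem _⟩
    | mul a b _ _ ha hb =>
      obtain ⟨haT, ha1⟩ := ha
      obtain ⟨hbT, hb1⟩ := hb
      refine ⟨T.mul_mem haT hbT, ?_⟩
      have e : (⟨a * b, T.mul_mem haT hbT⟩ : T) = ⟨a, haT⟩ * ⟨b, hbT⟩ := rfl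
      rw [e, map_mul]
      exact Subgroup.mul_mem _ ha1 hb1
    | inv a _ ha =>
      obtain ⟨haT, ha1⟩ := ha
      refine ⟨T.inv_mem haT, ?_⟩
      have e : (⟨a⁻¹, T.inv_mem haT⟩ : T) = ⟨a, haT⟩⁻¹ := rfl
      rw [e, map_inv]
      exact Subgroup.inv_mem _ ha1
  rintro z ⟨hzQ, hzf⟩
  obtain ⟨hzT, hzc⟩ := hcomm z hzf
  have hcore : E.core = coreSub p ι := core_eq_coreSub E hTp hR P hP hC
  have hzcore : z ∈ coreSub p ι := hcore ▸ (Cfsg.Agent.Lib.Helper85.le_core_of_isNormal E hQ hzQ)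
  obtain ⟨hzT', hzO⟩ := mem_coreSub.1 hzcore
  have h1 : ι ⟨z, hzT⟩ ∈ Cfsg.pCore p G ⊓ commutator G := Subgroup.mem_inf.mpr ⟨hzO, hzc⟩
  rw [hloc'] at h1
  obtain ⟨-, c, hc, hcz⟩ := Subgroup.mem_inf.mp h1
  have hcP : c ∈ ((P.subtype hPN₁ : Sylow p ↥N₁) : Subgroup ↥N₁) := by
    rw [Sylow.coe_subtype, Subgroup.mem_subgroupOf, hP]
    have : (c : G) = ι ⟨z, hzT⟩ := hcz
    rw [this]
    exact ⟨_, rfl⟩
  have hfinN : Finite ↥N₁ := inferInstance
  have h2 : c ∈ ((P.subtype hPN₁ : Sylow p ↥N₁) : Subgroup ↥N₁).focalSubgroup := by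
    rw [← Subgroup.commutator_inf_eq_focalSubgroup (P.subtype hPN₁)]
    exact Subgroup.mem_inf.mpr ⟨hc, hcP⟩
  obtain ⟨t, ht, htD⟩ := hfoc c h2
  have h3 : t = ⟨z, hzT⟩ := hι (ht.trans hcz)
  rw [h3] at htD
  exact htD

end Cfsg.Agent.Lib.Helper33.FusFocal
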