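/-
helper33: focal-subgroup reductions for saturated fusion systems, part Q: factor systems and the centralizer extension.
* `nfoc_factor_of_nfoc_preimage`: `NFoc` passes from the full preimage to the factor system.
* `good_preimage_of_factor`: if the factor system `E/Q` is good for `D'` then `E` is good for the full preimage of `D'`.
* `exists_aut_sup_centralizer`: for `Q` normal in the saturated `E`, every element of `Aut_E(Q)` extends to `Q C_T(Q)`.
All declarations live in `Cfsg.Agent.Lib.Helper33.FusFocal`.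
-/
import Cfsg.Agent.Lib.Helper33.FusFocalA
import Cfsg.Agent.Lib.Helper88.FusionAut

set_option autoImplicit false

namespace Cfsg.Agent.Lib.Helper33.FusFocal

open Cfsg Cfsg.FusionSystem Cfsg.Agent.Lib.Helper87 Cfsg.Agent.Lib.Helper85

variable {Ω : Type*} [Group Ω] {S : Subgroup Ω}

section factor

variable {Ω' : Type*} [Group Ω'] {S' : Subgroup Ω'}

/-- `NFoc` for the full preimage of `L'` gives `NFoc` of `L'` in the factor system. -/
theorem nfoc_factor_of_nfoc_preimage [Finite S] (F : FusionSystem S) {K : Subgroup Ω}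
    (hK : F.StronglyClosed K) (θ : S →* Ω') (E : FusionSystem S') (hE : F.IsFactorSystem K θ E)
    (L' : Subgroup Ω') {D : Subgroup Ω} {D' : Subgroup Ω'}
    (hDD' : ∀ (x : Ω) (hx : x ∈ S), x ∈ D → θ ⟨x, hx⟩ ∈ D')
    (h : NFoc F D (preimageAlong θ L')) : NFoc E D' L' := by
  obtain ⟨-, hker, hrange, hHom⟩ := hE
  intro R' hLR hRN β' hβ' hβL y
  have hR'S : R' ≤ S' := hRN.trans inf_le_left
  have hR'r : R' ≤ θ.range := hrange ▸ hR'S
  obtain ⟨γ, hγ⟩ := exists_autQuotHom_eq F hK θ hker E hHom hR'S hR'r hβ'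
  have hLR' : preimageAlong θ L' ≤ preimageAlong θ R' := preimageAlong_mono θ hLR
  have hRS : preimageAlong θ R' ≤ S := preimageAlong_le θ R'
  have hconj : ∀ x ∈ preimageAlong θ R', ∀ y ∈ preimageAlong θ L', x * y * x⁻¹ ∈ preimageAlong θ L' := by
    intro x hx y hy
    obtain ⟨hxS, hxR⟩ := (mem_preimageAlong_iff θ R' x).1 hx
    obtain ⟨hyS, hyL⟩ := (mem_preimageAlong_iff θ L' y).1 hy
    rw [mem_preimageAlong_iff]
    refine ⟨S.mul_mem (S.mul_mem hxS hyS) (S.inv_mem hxS), ?_⟩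
    have h1 : (⟨x * y * x⁻¹, S.mul_mem (S.mul_mem hxS hyS) (S.inv_mem hxS)⟩ : S) =
        ⟨x, hxS⟩ * ⟨y, hyS⟩ * ⟨x, hxS⟩⁻¹ := rfl
    rw [h1, map_mul, map_mul, map_inv]
    exact (Subgroup.mem_normalizer_iff.1 (hRN hxR).2 _).1 hyL
  have hRN' : preimageAlong θ R' ≤ normalizerIn S (preimageAlong θ L') := by
    intro x hx
    refine ⟨hRS hx, ?_⟩
    show x ∈ Subgroup.normalizer ((preimageAlong θ L' : Subgroup Ω) : Set Ω)
    rw [Subgroup.mem_normalizer_iff]
    intro y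
    refine ⟨hconj x hx y, fun hy => ?_⟩
    have h2 := hconj x⁻¹ (Subgroup.inv_mem _ hx) _ hy
    have h3 : x⁻¹ * (x * y * x⁻¹) * x⁻¹⁻¹ = y := by group
    rwa [h3] at h2
  have hγL : ∀ x : ↥(preimageAlong θ R'), (x : Ω) ∈ preimageAlong θ L' ↔
      (((γ : MulAut ↥(preimageAlong θ R')) x : ↥(preimageAlong θ R')) : Ω) ∈ preimageAlong θ L' := by
    intro x
    have h1 := autQuotHom_apply F hK θ hker hR'r γ x (θp_mem θ R' x)
    rw [hγ] at h1
    have h2 := hβL ⟨θp θ R' x, θp_mem θ R' x⟩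
    rw [mem_preimageAlong_iff, mem_preimageAlong_iff]
    constructor
    · rintro ⟨hxS, hxL⟩
      refine ⟨hRS (Subtype.property _), ?_⟩
      have h3 : ((β' ⟨θp θ R' x, θp_mem θ R' x⟩ : R') : Ω') ∈ L' := h2.1 hxL
      rw [h1] at h3
      exact h3
    · rintro ⟨hxS, hxL⟩
      refine ⟨hRS x.2, ?_⟩
      have h3 : ((β' ⟨θp θ R' x, θp_mem θ R' x⟩ : R') : Ω') ∈ L' := by
        rw [h1]
        exact hxL
      exact h2.2 h3
  obtain ⟨x, hx⟩ := exists_θp_eq θ hR'r y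
  have hmain := h _ hLR' hRN' (γ : MulAut ↥(preimageAlong θ R')) γ.2 hγL x
  have h1 := autQuotHom_apply F hK θ hker hR'r γ x (θp_mem θ R' x)
  rw [hγ] at h1
  have hxS : (x : Ω) ∈ S := hRS x.2
  have hγxS : (((γ : MulAut ↥(preimageAlong θ R')) x : ↥(preimageAlong θ R')) : Ω) ∈ S := hRS (Subtype.property _)
  have h2 := hDD' _ (S.mul_mem (S.inv_mem hxS) hγxS) hmain
  have e : (⟨(x : Ω)⁻¹ * (((γ : MulAut ↥(preimageAlong θ R')) x : ↥(preimageAlong θ R')) : Ω),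
      S.mul_mem (S.inv_mem hxS) hγxS⟩ : S) = ⟨x, hxS⟩⁻¹ * ⟨_, hγxS⟩ := rfl
  rw [e, map_mul, map_inv] at h2
  have e1 : θ ⟨x, hxS⟩ = (y : Ω') := hx
  have e2 : θ ⟨_, hγxS⟩ = ((β' y : R') : Ω') := by
    have h3 : (⟨θp θ R' x, θp_mem θ R' x⟩ : R') = y := Subtype.ext hx
    rw [h3] at h1
    rw [h1]
    rfl
  rw [e1, e2] at h2
  exact h2

/-- If the factor system is good for `D'`, the system is good for the full preimage of `D'`. -/
theorem good_preimage_of_factor [Finite S] {p : ℕ} [Fact p.Prime] (hS : IsPGroup p S) (F : FusionSystem S)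
    (hF : F.IsSaturated p) {K : Subgroup Ω} (hKn : F.IsNormal K) (θ : S →* Ω') (E : FusionSystem S')
    (hE : F.IsFactorSystem K θ E) {D' : Subgroup Ω'}
    (hD' : ∀ g ∈ S', ∀ x ∈ S', x⁻¹ * (g * x * g⁻¹) ∈ D') (hgood : Good E D') :
    Good F (preimageAlong θ D') := by
  have hK : F.StronglyClosed K := Cfsg.Agent.Lib.Helper84.stronglyClosed_of_isNormal F hKn
  obtain ⟨-, hker, hrange, hHom⟩ := hE
  have hmemS' : ∀ s : S, θ s ∈ S' := fun s => hrange ▸ ⟨s, rfl⟩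
  have hH : ∀ g ∈ S, ∀ x ∈ S, x⁻¹ * (g * x * g⁻¹) ∈ preimageAlong θ D' := by
    intro g hg x hx
    rw [mem_preimageAlong_iff]
    refine ⟨S.mul_mem (S.inv_mem hx) (S.mul_mem (S.mul_mem hg hx) (S.inv_mem hg)), ?_⟩
    have e : (⟨x⁻¹ * (g * x * g⁻¹), S.mul_mem (S.inv_mem hx) (S.mul_mem (S.mul_mem hg hx) (S.inv_mem hg))⟩ : S) =
        ⟨x, hx⟩⁻¹ * (⟨g, hg⟩ * ⟨x, hx⟩ * ⟨g, hg⟩⁻¹) := rfl
    rw [e, map_mul, map_inv, map_mul, map_mul, map_inv]
    exact hD' _ (hmemS' _) _ (hmemS' _)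
  have hsub := Cfsg.Agent.Lib.Helper88.alperin_cr F (Cfsg.Agent.Lib.Helper86.focalSystem F (preimageAlong θ D') hH)
    hS hF (by
      intro R _ hcen hrad _ _ β hβ
      have hRS : R ≤ S := hcen.1
      have hKR : K ≤ R := Cfsg.Agent.Lib.Helper84.le_of_isNormal_of_centric_radical F hS hKn hcen hrad
      refine ⟨(Helper87.mem_autGroup_iff F hRS).1 hβ, ?_⟩
      have hR : preimageAlong θ (imageAlong θ R) = R := by
        rw [preimageAlong_imageAlong θ hker hK.1 hRS]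
        exact sup_of_le_left hKR
      have hImS : imageAlong θ R ≤ S' := by
        rintro _ ⟨x, -, rfl⟩
        rw [← hrange]
        exact ⟨x, rfl⟩
      obtain ⟨R', hR'S, rfl⟩ : ∃ R', R' ≤ S' ∧ R = preimageAlong θ R' := ⟨imageAlong θ R, hImS, hR.symm⟩
      clear hImS hR
      have hR'r : R' ≤ θ.range := hrange ▸ hR'S
      have hmem := autQuotHom_mem F hK θ hker E hHom hR'S hR'r ⟨β, hβ⟩
      intro x
      have h1 := autQuotHom_apply F hK θ hker hR'r ⟨β, hβ⟩ x (θp_mem θ R' x)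
      have h2 := (good_iff E D').1 hgood (inv_mul_aut_mem_focal E hR'S hmem ⟨θp θ R' x, θp_mem θ R' x⟩)
      rw [h1] at h2
      show (x : Ω)⁻¹ * ((β x : ↥(preimageAlong θ R')) : Ω) ∈ preimageAlong θ D'
      rw [mem_preimageAlong_iff]
      refine ⟨S.mul_mem (S.inv_mem (hRS x.2)) (hRS (β x).2), ?_⟩
      have e : (⟨(x : Ω)⁻¹ * ((β x : ↥(preimageAlong θ R')) : Ω),
          S.mul_mem (S.inv_mem (hRS x.2)) (hRS (β x).2)⟩ : S) = ⟨x, hRS x.2⟩⁻¹ * ⟨_, hRS (β x).2⟩ := rfl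
      rw [e, map_mul, map_inv]
      exact h2)
  intro P φ hφ x
  exact (hsub P hφ).2 x

end factor

/-- For `Q` normal in the saturated system `E`, every automorphism of `Q` in `E` extends to an automorphism of
`Q C_T(Q)` in `E`. -/
theorem exists_aut_sup_centralizer [Finite S] {p : ℕ} [Fact p.Prime] (hS : IsPGroup p S) (F : FusionSystem S)
    (hF : F.IsSaturated p) {Q : Subgroup Ω} (hQ : F.IsNormal Q) {α : MulAut Q} (hα : α ∈ F.autGroup Q) :
    ∃ β ∈ F.autGroup (Q ⊔ centralizerIn S Q),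
      ∀ x : Q, ((β (Subgroup.inclusion le_sup_left x) : ↥(Q ⊔ centralizerIn S Q)) : Ω) = ((α x : Q) : Ω) := by
  have hQS : Q ≤ S := hQ.1
  have hQsc : F.StronglyClosed Q := Cfsg.Agent.Lib.Helper84.stronglyClosed_of_isNormal F hQ
  have hSN : S ≤ Subgroup.normalizer (Q : Set Ω) := by
    intro g hg
    rw [Subgroup.mem_normalizer_iff]
    intro x
    refine ⟨fun hx => StronglyClosed_conj_mem hQsc hg hx, fun hx => ?_⟩
    have h2 := StronglyClosed_conj_mem hQsc (S.inv_mem hg) hx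
    have h3 : g⁻¹ * (g * x * g⁻¹) * g⁻¹⁻¹ = x := by group
    rwa [h3] at h2
  have hNQ : normalizerIn S Q = S := le_antisymm inf_le_left (le_inf le_rfl hSN)
  have hQfn : F.IsFullyNormalized Q := by
    refine ⟨hQS, fun Q' _ => ?_⟩
    rw [hNQ]
    exact Nat.card_le_card_of_injective (Subgroup.inclusion inf_le_left) (Subgroup.inclusion_injective _)
  obtain ⟨-, hQr⟩ := fullyAutomized_receptive_of_fullyNormalized F hS hF hQfn
  set φ₀ : Q →* Ω := Q.subtype.comp α.toMonoidHom with hφ₀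
  have hφ₀F : φ₀ ∈ F.Hom Q := (Helper87.mem_autGroup_iff F hQS).1 hα
  have hφ₀r : φ₀.range = Q := range_subtype_comp (α : Q ≃* Q)
  obtain ⟨χ, hχ, hχφ⟩ := hQr.2 Q φ₀ hφ₀F hφ₀r
  have hCS : centralizerIn S Q ≤ S := inf_le_left
  have hRN : Q ⊔ centralizerIn S Q ≤ extender S Q φ₀ := by
    apply sup_le
    · intro x hx
      rw [mem_extender_iff]
      refine ⟨hQS hx, Subgroup.le_normalizer hx, φ₀ ⟨x, hx⟩, hom_map_mem F hφ₀F _, fun y hy => ?_⟩
      have : (⟨x * (y : Ω) * x⁻¹, hy⟩ : Q) = ⟨x, hx⟩ * y * ⟨x, hx⟩⁻¹ := Subtype.ext rfl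
      rw [this, map_mul, map_mul, map_inv]
    · intro c hcC
      rw [mem_extender_iff]
      refine ⟨hcC.1, Subgroup.centralizer_le_normalizer _ hcC.2, 1, S.one_mem, fun x hx => ?_⟩
      have hc : (x : Ω) * c = c * (x : Ω) := (Subgroup.mem_centralizer_iff.mp hcC.2) (x : Ω) x.2
      have : (⟨c * (x : Ω) * c⁻¹, hx⟩ : Q) = x := by
        apply Subtype.ext
        show c * (x : Ω) * c⁻¹ = (x : Ω)
        rw [← hc]; group
      rw [this]; simp
  have hχR : χ.comp (Subgroup.inclusion hRN) ∈ F.Hom (Q ⊔ centralizerIn S Q) := Helper87.restrict_mem F hχ hRN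
  have hχQ : ∀ x : Q, (χ.comp (Subgroup.inclusion hRN)) (Subgroup.inclusion le_sup_left x) = ((α x : Q) : Ω) := by
    intro x
    exact hχφ (x : Ω) x.2 (hRN ((le_sup_left : Q ≤ Q ⊔ centralizerIn S Q) x.2))
  have hval : ∀ x : ↥(Q ⊔ centralizerIn S Q), (χ.comp (Subgroup.inclusion hRN)) x ∈ Q ⊔ centralizerIn S Q := by
    intro x
    refine map_sup_mem (χ.comp (Subgroup.inclusion hRN)) (fun y => ?_) (fun c => ?_) x
    · rw [hχQ y]
      exact (le_sup_left : Q ≤ Q ⊔ centralizerIn S Q) (α y).2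
    · refine (le_sup_right : centralizerIn S Q ≤ Q ⊔ centralizerIn S Q) ⟨hom_map_mem F hχR _, ?_⟩
      show _ ∈ Subgroup.centralizer (Q : Set Ω)
      rw [Subgroup.mem_centralizer_iff]
      intro y hy
      have hy' : ((α (α.symm ⟨y, hy⟩) : Q) : Ω) = y := by rw [MulEquiv.apply_symm_apply]
      rw [← hy', ← hχQ (α.symm ⟨y, hy⟩), ← map_mul, ← map_mul]
      congr 1
      apply Subtype.ext
      show ((α.symm ⟨y, hy⟩ : Q) : Ω) * (c : Ω) = (c : Ω) * ((α.symm ⟨y, hy⟩ : Q) : Ω)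
      exact (Subgroup.mem_centralizer_iff.mp c.2.2) _ (α.symm ⟨y, hy⟩).2
  have hRS : Q ⊔ centralizerIn S Q ≤ S := sup_le hQS hCS
  have hfin : Finite ↥(Q ⊔ centralizerIn S Q) := finite_of_le hRS
  have hr : (χ.comp (Subgroup.inclusion hRN)).range = Q ⊔ centralizerIn S Q := by
    apply Subgroup.eq_of_le_of_card_ge
    · rintro _ ⟨x, rfl⟩
      exact hval x
    · exact (Nat.card_congr (Equiv.ofInjective _ (F.injective_of_mem hχR))).le
  obtain ⟨β, hβ, hβx⟩ := Cfsg.Agent.Lib.Helper88.exists_aut_of_range_eq F hχR hr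
  refine ⟨β, hβ, fun x => ?_⟩
  rw [hβx, hχQ]

end Cfsg.Agent.Lib.Helper33.FusFocal
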