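/-
helper33: focal-subgroup reductions for saturated fusion systems, part N: the normal case and the main theorem.
`ctl_all`: an isomorphism-invariant `p`-group functor `W` with `O_p(G) ∩ G' = O_p(G) ∩ N_G(W(P))'` in all finite groups `G`
with `C_G(O_p(G)) ≤ O_p(G)` controls transfer in every saturated fusion system: `foc(F) ≤ foc(N_F(W(S)))`.
All declarations live in `Cfsg.Agent.Lib.Helper33.FusFocal`.
-/
import Cfsg.Agent.Lib.Helper33.FusFocalB
import Cfsg.Agent.Lib.Helper33.FusFocalT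
import Cfsg.Agent.Lib.Helper33.FusFocalM
import Cfsg.Agent.Lib.Helper33.FusFocalQ
import Cfsg.Agent.Lib.Helper85.FusionFactor
import Cfsg.Agent.S5090

set_option autoImplicit false

universe u

namespace Cfsg.Agent.Lib.Helper33.FusFocal

open Cfsg Cfsg.FusionSystem Cfsg.Agent.Lib.Helper87

/-- The local hypothesis on the functor `W`. -/
def LocalHyp (p : ℕ) (W : ∀ (Q : Type u) [Group Q], Subgroup Q) : Prop :=
  ∀ (G : Type u) [Group G] [Finite G] (P : Sylow p G),
    Subgroup.centralizer ((Cfsg.pCore p G : Subgroup G) : Set G) ≤ Cfsg.pCore p G →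
      Cfsg.pCore p G ⊓ commutator G = Cfsg.pCore p G ⊓
        (commutator ↥(Subgroup.normalizer ((wS W (P : Subgroup G) : Subgroup G) : Set G))).map
          (Subgroup.normalizer ((wS W (P : Subgroup G) : Subgroup G) : Set G)).subtype

variable {p : ℕ} [Fact p.Prime] {W : ∀ (Q : Type u) [Group Q], Subgroup Q}

/-- **The normal case.** -/
theorem good_of_normal {Ω : Type u} [Group Ω] {T : Subgroup Ω} [Finite T]
    (hW : Cfsg.IsCharPFunctor.{u} p W) (hloc : LocalHyp p W) (hTp : IsPGroup p T)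
    (IH : ∀ m < Nat.card T, ∀ {Ω' : Type u} [Group Ω'] {S' : Subgroup Ω'} [Finite S'], Nat.card S' = m →
      IsPGroup p S' → ∀ F' : FusionSystem S', F'.IsSaturated p → Ctl W F')
    (E : FusionSystem T) (hE : E.IsSaturated p) {Q : Subgroup Ω} (hQ : E.IsNormal Q) (hQne : Q ≠ ⊥) (hQT : Q ≠ T)
    {D : Subgroup Ω} (hD : ∀ g ∈ T, ∀ x ∈ T, x⁻¹ * (g * x * g⁻¹) ∈ D)
    (hDW : ∀ (P : Subgroup Ω) (φ : P →* Ω), φ ∈ E.normalizerHom (wS W T) P → ∀ x : P, (x : Ω)⁻¹ * φ x ∈ D)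
    (hL : ∀ L : Subgroup Ω, Q ≤ L → Nat.card Q < Nat.card L → L ≤ T → normalizerIn T L = T → NFoc E D L) :
    Good E D := by
  have hQTle : Q ≤ T := hQ.1
  have hQsc : E.StronglyClosed Q := Cfsg.Agent.Lib.Helper84.stronglyClosed_of_isNormal E hQ
  have hn : (Q.subgroupOf T).Normal :=
    ⟨fun n hn g => Subgroup.mem_subgroupOf.2 (StronglyClosed_conj_mem hQsc g.2 (Subgroup.mem_subgroupOf.1 hn))⟩
  obtain ⟨θ, hθdef⟩ : ∃ θ : T →* T ⧸ Q.subgroupOf T, θ = QuotientGroup.mk' (Q.subgroupOf T) := ⟨_, rfl⟩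
  have hker : ∀ s : T, θ s = 1 ↔ (s : Ω) ∈ Q := by
    intro s
    rw [hθdef, QuotientGroup.mk'_apply, QuotientGroup.eq_one_iff]
    exact Subgroup.mem_subgroupOf
  have hθsurj : Function.Surjective θ := hθdef ▸ QuotientGroup.mk'_surjective _
  have hrange : θ.range = ⊤ := MonoidHom.range_eq_top.2 hθsurj
  have hĒ := Cfsg.Agent.Lib.Helper85.isFactorSystem_factorSystem E Q hQsc θ hker hrange
  have hpquot : IsPGroup p (T ⧸ Q.subgroupOf T) := hTp.to_quotient _
  have hptop : IsPGroup p (⊤ : Subgroup (T ⧸ Q.subgroupOf T)) := hpquot.to_subgroup _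
  have hQne' : ∃ t : T, (t : Ω) ∉ Q := by
    by_contra hcon
    push Not at hcon
    apply hQT
    exact le_antisymm hQTle (fun t ht => hcon ⟨t, ht⟩)
  have hcard : Nat.card (⊤ : Subgroup (T ⧸ Q.subgroupOf T)) < Nat.card T := by
    rw [Subgroup.card_top]
    have h1 := Subgroup.card_eq_card_quotient_mul_card_subgroup (Q.subgroupOf T)
    have h2 : 1 < Nat.card (Q.subgroupOf T) := by
      rw [Subgroup.one_lt_card_iff_ne_bot]
      intro h
      rw [Subgroup.subgroupOf_eq_bot] at h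
      apply hQne
      rw [← inf_of_le_left hQTle]
      exact disjoint_iff.1 h
    have h3 : 0 < Nat.card (T ⧸ Q.subgroupOf T) := Nat.card_pos
    nlinarith
  obtain ⟨Ē, hĒdef⟩ : ∃ Ē : FusionSystem (⊤ : Subgroup (T ⧸ Q.subgroupOf T)),
      Ē = Cfsg.Agent.Lib.Helper85.factorSystem E Q hQsc θ hker hrange := ⟨_, rfl⟩
  rw [← hĒdef] at hĒ
  have hĒsat := Cfsg.Agent.Lib.Helper85.isSaturated_of_isFactorSystem hTp E hE hQsc _ _ hĒ
  have hctl : Ctl W Ē := IH _ hcard rfl hptop _ hĒsat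
  -- the subgroup `Vb = W(T/Q)` and its preimage
  have hVble : wS W (⊤ : Subgroup (T ⧸ Q.subgroupOf T)) ≤ ⊤ := wS_le _
  have hNb := isNormalizerSystem_normalizerSystem Ē (wS W (⊤ : Subgroup (T ⧸ Q.subgroupOf T))) hVble
  have h1 := hctl _ hNb
  have htopne : (⊤ : Subgroup (T ⧸ Q.subgroupOf T)) ≠ ⊥ := by
    intro h
    obtain ⟨t, ht⟩ := hQne'
    apply ht
    rw [← hker]
    have : θ t ∈ (⊤ : Subgroup (T ⧸ Q.subgroupOf T)) := Subgroup.mem_top _
    rw [h] at this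
    exact this
  have hVbne : wS W (⊤ : Subgroup (T ⧸ Q.subgroupOf T)) ≠ ⊥ := wS_ne_bot hW hptop htopne
  have hQV : Q ≤ preimageAlong θ (wS W (⊤ : Subgroup (T ⧸ Q.subgroupOf T))) := by
    intro x hx
    rw [Cfsg.Agent.Lib.Helper85.mem_preimageAlong_iff]
    refine ⟨hQTle hx, ?_⟩
    rw [(hker ⟨x, hQTle hx⟩).2 hx]
    exact Subgroup.one_mem _
  have hVT : preimageAlong θ (wS W (⊤ : Subgroup (T ⧸ Q.subgroupOf T))) ≤ T :=
    Cfsg.Agent.Lib.Helper85.preimageAlong_le θ _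
  have hfinV : Finite ↥(preimageAlong θ (wS W (⊤ : Subgroup (T ⧸ Q.subgroupOf T)))) := finite_of_le hVT
  have hcardV : Nat.card Q < Nat.card ↥(preimageAlong θ (wS W (⊤ : Subgroup (T ⧸ Q.subgroupOf T)))) := by
    by_contra hge
    push Not at hge
    have heq := Subgroup.eq_of_le_of_card_ge hQV hge
    apply hVbne
    rw [eq_bot_iff]
    intro v hv
    obtain ⟨t, rfl⟩ := hθsurj v
    have ht : (t : Ω) ∈ preimageAlong θ (wS W (⊤ : Subgroup (T ⧸ Q.subgroupOf T))) := by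
      rw [Cfsg.Agent.Lib.Helper85.mem_preimageAlong_iff]
      exact ⟨t.2, hv⟩
    rw [← heq] at ht
    rw [Subgroup.mem_bot]
    exact (hker t).2 ht
  have hNV : normalizerIn T (preimageAlong θ (wS W (⊤ : Subgroup (T ⧸ Q.subgroupOf T)))) = T := by
    apply le_antisymm inf_le_left
    refine le_inf le_rfl ?_
    have hconj : ∀ t ∈ T, ∀ y ∈ preimageAlong θ (wS W (⊤ : Subgroup (T ⧸ Q.subgroupOf T))),
        t * y * t⁻¹ ∈ preimageAlong θ (wS W (⊤ : Subgroup (T ⧸ Q.subgroupOf T))) := by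
      intro t ht y hy
      obtain ⟨hyT, hyV⟩ := (Cfsg.Agent.Lib.Helper85.mem_preimageAlong_iff θ _ y).1 hy
      rw [Cfsg.Agent.Lib.Helper85.mem_preimageAlong_iff]
      refine ⟨T.mul_mem (T.mul_mem ht hyT) (T.inv_mem ht), ?_⟩
      have e : (⟨t * y * t⁻¹, T.mul_mem (T.mul_mem ht hyT) (T.inv_mem ht)⟩ : T) =
          ⟨t, ht⟩ * ⟨y, hyT⟩ * ⟨t, ht⟩⁻¹ := rfl
      rw [e, map_mul, map_mul, map_inv]
      exact conj_mem_wS hW hptop (Subgroup.le_normalizer (Subgroup.mem_top _)) hyV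
    intro t ht
    rw [Subgroup.mem_normalizer_iff]
    intro y
    refine ⟨hconj t ht y, fun hy => ?_⟩
    have h2 := hconj t⁻¹ (T.inv_mem ht) _ hy
    have h3 : t⁻¹ * (t * y * t⁻¹) * t⁻¹⁻¹ = y := by group
    rwa [h3] at h2
  have hLV := hL _ hQV hcardV hVT hNV
  have hLV₁ : NFoc E (D ⊓ E.focalSubgroup) (preimageAlong θ (wS W (⊤ : Subgroup (T ⧸ Q.subgroupOf T)))) :=
    fun R h1 h2 β hβ h3 x => Subgroup.mem_inf.mpr
      ⟨hLV R h1 h2 β hβ h3 x, inv_mul_aut_mem_focal E (h2.trans inf_le_left) hβ x⟩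
  obtain ⟨D', hD'def⟩ : ∃ D' : Subgroup (T ⧸ Q.subgroupOf T),
      D' = ((D ⊓ E.focalSubgroup).subgroupOf T).map θ := ⟨_, rfl⟩
  have hDD' : ∀ (x : Ω) (hx : x ∈ T), x ∈ D ⊓ E.focalSubgroup → θ ⟨x, hx⟩ ∈ D' := by
    intro x hx hxD
    rw [hD'def]
    exact ⟨⟨x, hx⟩, Subgroup.mem_subgroupOf.2 hxD, rfl⟩
  have hNFb := nfoc_factor_of_nfoc_preimage E hQsc θ Ē hĒ (wS W (⊤ : Subgroup (T ⧸ Q.subgroupOf T))) hDD' hLV₁
  have hNVb : normalizerIn (⊤ : Subgroup (T ⧸ Q.subgroupOf T)) (wS W (⊤ : Subgroup (T ⧸ Q.subgroupOf T))) = ⊤ :=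
    le_antisymm inf_le_left (le_inf le_rfl (Subgroup.le_normalizer.trans (normalizer_le_normalizer_wS hW hptop)))
  have hVbfn : Ē.IsFullyNormalized (wS W (⊤ : Subgroup (T ⧸ Q.subgroupOf T))) := by
    refine ⟨hVble, fun X' _ => ?_⟩
    rw [hNVb]
    exact Nat.card_le_card_of_injective (Subgroup.inclusion inf_le_left) (Subgroup.inclusion_injective _)
  have hD'comm : ∀ g ∈ (⊤ : Subgroup (T ⧸ Q.subgroupOf T)), ∀ x ∈ (⊤ : Subgroup (T ⧸ Q.subgroupOf T)),
      x⁻¹ * (g * x * g⁻¹) ∈ D' := by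
    intro g _ x _
    obtain ⟨g₀, rfl⟩ := hθsurj g
    obtain ⟨x₀, rfl⟩ := hθsurj x
    have hmemT : (x₀ : Ω)⁻¹ * ((g₀ : Ω) * (x₀ : Ω) * (g₀ : Ω)⁻¹) ∈ T :=
      T.mul_mem (T.inv_mem x₀.2) (T.mul_mem (T.mul_mem g₀.2 x₀.2) (T.inv_mem g₀.2))
    have h2 := hDD' _ hmemT (Subgroup.mem_inf.mpr ⟨hD _ g₀.2 _ x₀.2, by
      apply Subgroup.subset_closure
      exact ⟨T, conjHom T (g₀ : Ω), x₀, E.conj_mem le_rfl g₀.2, rfl⟩⟩)
    have e : (⟨(x₀ : Ω)⁻¹ * ((g₀ : Ω) * (x₀ : Ω) * (g₀ : Ω)⁻¹), hmemT⟩ : T) = x₀⁻¹ * (g₀ * x₀ * g₀⁻¹) := rfl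
    rw [e, map_mul, map_inv, map_mul, map_mul, map_inv] at h2
    exact h2
  have hgoodNb := good_of_nfoc hptop Ē hĒsat hVbfn hNb hD'comm hNFb
  have hgoodĒ : Good Ē D' := (good_iff _ _).2 (h1.trans ((good_iff _ _).1 hgoodNb))
  have hgoodE := good_preimage_of_factor hTp E hE hQ θ Ē hĒ hD'comm hgoodĒ
  -- `Q ∩ foc(E) ≤ D`
  have hQD : Q ⊓ E.focalSubgroup ≤ D := by
    by_cases hc : centralizerIn T Q ≤ Q
    · have hcen : E.IsCentric Q := by
        refine ⟨hQTle, fun Q' hconj => ?_⟩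
        have hQ'Q : Q' = Q := by
          obtain ⟨φ, hφ, hφr⟩ := hconj
          have hle : Q' ≤ Q := by
            rw [← hφr]
            rintro _ ⟨x, rfl⟩
            exact hQsc.2 _ le_rfl φ hφ x
          have hfinQ : Finite Q := finite_of_le hQTle
          apply Subgroup.eq_of_le_of_card_ge hle
          rw [← hφr]
          exact (Nat.card_congr (Equiv.ofInjective _ (E.injective_of_mem hφ))).le
        rw [hQ'Q]
        exact hc
      obtain ⟨G, _, ι, hM⟩ := Cfsg.Agent.S5090.result p hTp E ⟨hE, Q, hQ, hcen⟩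
      have hfinG : Finite G := hM.1
      exact normal_inf_focal_le_of_model hW hTp E hM (fun P hC => hloc G P hC) hQ hDW
    · have hCT : centralizerIn T Q ≤ T := inf_le_left
      have hRT : Q ⊔ centralizerIn T Q ≤ T := sup_le hQTle hCT
      have hfinR : Finite ↥(Q ⊔ centralizerIn T Q) := finite_of_le hRT
      have hcardR : Nat.card Q < Nat.card ↥(Q ⊔ centralizerIn T Q) := by
        by_contra hge
        push Not at hge
        have heq := Subgroup.eq_of_le_of_card_ge (le_sup_left : Q ≤ Q ⊔ centralizerIn T Q) hge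
        exact hc (le_sup_right.trans heq.ge)
      have hTNQ : T ≤ Subgroup.normalizer (Q : Set Ω) := by
        intro g hg
        rw [Subgroup.mem_normalizer_iff]
        intro x
        refine ⟨fun hx => StronglyClosed_conj_mem hQsc hg hx, fun hx => ?_⟩
        have h2 := StronglyClosed_conj_mem hQsc (T.inv_mem hg) hx
        have h3 : g⁻¹ * (g * x * g⁻¹) * g⁻¹⁻¹ = x := by group
        rwa [h3] at h2
      have hTNC : T ≤ Subgroup.normalizer ((centralizerIn T Q : Subgroup Ω) : Set Ω) := by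
        have hconj : ∀ t ∈ T, ∀ c ∈ centralizerIn T Q, t * c * t⁻¹ ∈ centralizerIn T Q := by
          intro t ht c hc'
          obtain ⟨hcT, hcC⟩ := Subgroup.mem_inf.mp hc'
          refine Subgroup.mem_inf.mpr ⟨T.mul_mem (T.mul_mem ht hcT) (T.inv_mem ht), ?_⟩
          rw [Subgroup.mem_centralizer_iff]
          intro y hy
          have hy' : t⁻¹ * y * t⁻¹⁻¹ ∈ Q := StronglyClosed_conj_mem hQsc (T.inv_mem ht) hy
          have h4 : t⁻¹ * y * t⁻¹⁻¹ * c = c * (t⁻¹ * y * t⁻¹⁻¹) := (Subgroup.mem_centralizer_iff.mp hcC) _ hy'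
          have e1 : y * (t * c * t⁻¹) = t * ((t⁻¹ * y * t⁻¹⁻¹) * c) * t⁻¹ := by group
          have e2 : t * c * t⁻¹ * y = t * (c * (t⁻¹ * y * t⁻¹⁻¹)) * t⁻¹ := by group
          rw [e1, e2, h4]
        intro t ht
        rw [Subgroup.mem_normalizer_iff]
        intro y
        refine ⟨hconj t ht y, fun hy => ?_⟩
        have h2 := hconj t⁻¹ (T.inv_mem ht) _ hy
        have h3 : t⁻¹ * (t * y * t⁻¹) * t⁻¹⁻¹ = y := by group
        rwa [h3] at h2
      have hNR : normalizerIn T (Q ⊔ centralizerIn T Q) = T := by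
        apply le_antisymm inf_le_left
        refine le_inf le_rfl (fun t ht => ?_)
        exact mem_normalizer_sup (hTNQ ht) (hTNC ht)
      have hR := hL _ le_sup_left hcardR hRT hNR
      apply stronglyClosed_inf_focal_le E hTp hE hQsc hD
      intro P ψ hψ q hq
      obtain ⟨ψ', hψ', hext, hmap⟩ := hQ.2 P ψ hψ
      have hmap' := (map_subgroupOf_eq_iff ψ').1 hmap
      have hφ₀ : ψ'.comp (Subgroup.inclusion (le_sup_right : Q ≤ P ⊔ Q)) ∈ E.Hom Q :=
        Helper87.restrict_mem E hψ' le_sup_right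
      have hfinQ : Finite Q := finite_of_le hQTle
      have hr : (ψ'.comp (Subgroup.inclusion (le_sup_right : Q ≤ P ⊔ Q))).range = Q := by
        apply Subgroup.eq_of_le_of_card_ge
        · rintro _ ⟨x, rfl⟩
          exact hmap'.1 _ x.2
        · exact (Nat.card_congr (Equiv.ofInjective _ (E.injective_of_mem hφ₀))).le
      obtain ⟨α, hα, hαx⟩ := Cfsg.Agent.Lib.Helper88.exists_aut_of_range_eq E hφ₀ hr
      obtain ⟨β, hβ, hβx⟩ := exists_aut_sup_centralizer hTp E hE hQ hα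
      have h5 := hR _ le_rfl (le_normalizerIn hRT) β hβ (fun y => ⟨fun _ => (β y).2, fun _ => y.2⟩)
        (Subgroup.inclusion le_sup_left ⟨(q : Ω), hq⟩)
      rw [hβx, hαx] at h5
      have h6 : (ψ'.comp (Subgroup.inclusion (le_sup_right : Q ≤ P ⊔ Q))) ⟨(q : Ω), hq⟩ = ψ q := by
        rw [← hext q]
        rfl
      rw [h6] at h5
      exact h5
  -- conclusion
  intro P φ hφ x
  have hy1 := hgoodE P φ hφ x
  have hy2 : (x : Ω)⁻¹ * φ x ∈ E.focalSubgroup := by
    apply Subgroup.subset_closure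
    exact ⟨P, φ, x, hφ, rfl⟩
  obtain ⟨hyT, hyD'⟩ := (Cfsg.Agent.Lib.Helper85.mem_preimageAlong_iff θ _ _).1 hy1
  rw [hD'def] at hyD'
  obtain ⟨d, hd, hdy⟩ := hyD'
  have hdD : (d : Ω) ∈ D ⊓ E.focalSubgroup := Subgroup.mem_subgroupOf.1 hd
  have hq1 : θ (d⁻¹ * ⟨(x : Ω)⁻¹ * φ x, hyT⟩) = 1 := by
    rw [map_mul, map_inv, hdy, inv_mul_cancel]
  have hqQ : ((d⁻¹ * ⟨(x : Ω)⁻¹ * φ x, hyT⟩ : T) : Ω) ∈ Q := (hker _).1 hq1
  have hqf : ((d⁻¹ * ⟨(x : Ω)⁻¹ * φ x, hyT⟩ : T) : Ω) ∈ E.focalSubgroup := by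
    show (d : Ω)⁻¹ * ((x : Ω)⁻¹ * φ x) ∈ E.focalSubgroup
    exact Subgroup.mul_mem _ (Subgroup.inv_mem _ hdD.2) hy2
  have hqD := hQD (Subgroup.mem_inf.mpr ⟨hqQ, hqf⟩)
  have e : (x : Ω)⁻¹ * φ x = (d : Ω) * ((d⁻¹ * ⟨(x : Ω)⁻¹ * φ x, hyT⟩ : T) : Ω) := by
    show (x : Ω)⁻¹ * φ x = (d : Ω) * ((d : Ω)⁻¹ * ((x : Ω)⁻¹ * φ x))
    group
  rw [e]
  exact D.mul_mem hdD.1 hqD

/-- **The top claim.** `NFoc F foc(N_F(W(S))) Q` for every `1 ≠ Q ⊴ S`. -/
theorem nfoc_top {Ω : Type u} [Group Ω] {S : Subgroup Ω} [Finite S]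
    (hW : Cfsg.IsCharPFunctor.{u} p W) (hloc : LocalHyp p W) (hS : IsPGroup p S)
    (IH : ∀ m < Nat.card S, ∀ {Ω' : Type u} [Group Ω'] {S' : Subgroup Ω'} [Finite S'], Nat.card S' = m →
      IsPGroup p S' → ∀ F' : FusionSystem S', F'.IsSaturated p → Ctl W F')
    (F : FusionSystem S) (hF : F.IsSaturated p)
    (N : FusionSystem (normalizerIn S (wS W S))) (hN : F.IsNormalizerSystem (wS W S) N) :
    ∀ n : ℕ, ∀ Q : Subgroup Ω, Q ≤ S → Q ≠ ⊥ → normalizerIn S Q = S → Nat.card S - Nat.card Q = n →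
      NFoc F N.focalSubgroup Q := by
  have hSX : S ≤ normalizerIn S (wS W S) :=
    le_inf le_rfl (Subgroup.le_normalizer.trans (normalizer_le_normalizer_wS hW hS))
  have hD : ∀ g ∈ S, ∀ x ∈ S, x⁻¹ * (g * x * g⁻¹) ∈ N.focalSubgroup := by
    intro g hg x hx
    apply Subgroup.subset_closure
    exact ⟨S, conjHom S g, ⟨x, hx⟩, N.conj_mem hSX (hSX hg), rfl⟩
  have hX : NFoc F N.focalSubgroup (wS W S) := nfoc_of_good F hN ((good_iff _ _).2 le_rfl)
  intro n
  induction n using Nat.strong_induction_on with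
  | _ n ih =>
    intro Q hQS hQne hNQ hn
    by_cases hQS' : Q = S
    · -- the case `Q = S`
      intro R hQR hRN β hβ _ x
      have hRS : R = S := le_antisymm (hRN.trans inf_le_left) (hQS' ▸ hQR)
      subst hRS
      exact hX R (wS_le R) hSX β hβ (fun y => aut_preserves_wS hW hS β y) x
    · have hE := isNormalizerSystem_normalizerSystem F Q hQS
      have hTS : normalizerIn S Q ≤ S := inf_le_left
      have : Finite (normalizerIn S Q) := finite_of_le hTS
      have hTp : IsPGroup p (normalizerIn S Q) := hS.to_le hTS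
      have hQfn : F.IsFullyNormalized Q := by
        refine ⟨hQS, fun Q' _ => ?_⟩
        rw [hNQ]
        exact Nat.card_le_card_of_injective (Subgroup.inclusion inf_le_left) (Subgroup.inclusion_injective _)
      have hEsat := isSaturated_of_isNormalizerSystem F hS hF hQfn hE
      have hQn := Cfsg.Agent.Lib.Helper88.NilpRed.isNormal_of_isNormalizerSystem F hQS hE
      have hcardT : Nat.card (normalizerIn S Q) = Nat.card S := by rw [hNQ]
      have hXT : wS W (normalizerIn S Q) = wS W S := by rw [hNQ]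
      apply nfoc_of_good F hE
      refine good_of_normal hW hloc hTp (fun m hm => IH m (hcardT ▸ hm)) _ hEsat hQn hQne
        (fun h => hQS' (h.trans hNQ)) (fun g hg x hx => hD g (hTS hg) x (hTS hx)) ?_ ?_
      · intro P φ hφ x
        rw [hXT] at hφ
        obtain ⟨hφE, hPN, hval, ψ, hψ, hext, hmap⟩ := hφ
        rw [hE P] at hφE
        rw [hE (P ⊔ wS W S)] at hψ
        apply Subgroup.subset_closure
        refine ⟨P, φ, x, ?_, rfl⟩
        rw [hN P]
        exact ⟨hφE.1, hPN.trans (inf_le_inf_right _ hTS), fun y => (inf_le_inf_right _ hTS) (hval y),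
          ψ, hψ.1, hext, hmap⟩
      · intro L hQL hcard hLT hLN
        have hLS : L ≤ S := hLT.trans hTS
        have hLN' : normalizerIn S L = S := by
          apply le_antisymm inf_le_left
          refine le_inf le_rfl ?_
          have h1 : normalizerIn S Q ≤ Subgroup.normalizer (L : Set Ω) := by
            rw [← hLN]
            exact inf_le_right
          rw [hNQ] at h1
          exact h1
        have hLne : L ≠ ⊥ := by
          rintro rfl
          exact hQne (le_bot_iff.1 hQL)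
        have hLcard : Nat.card L ≤ Nat.card S := Subgroup.card_le_of_le hLS
        have h2 := ih (Nat.card S - Nat.card L) (by omega) L hLS hLne hLN' rfl
        exact (nfoc_normalizer_of_nfoc F hE h2).mono inf_le_left

/-- **Control of transfer.** -/
theorem ctl_all (hW : Cfsg.IsCharPFunctor.{u} p W) (hloc : LocalHyp p W) :
    ∀ (n : ℕ) {Ω : Type u} [Group Ω] {S : Subgroup Ω} [Finite S], Nat.card S = n → IsPGroup p S →
      ∀ F : FusionSystem S, F.IsSaturated p → Ctl W F := by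
  intro n
  induction n using Nat.strong_induction_on with
  | _ n IH =>
    intro Ω _ S _ hn hS F hF N hN
    have hSX : S ≤ normalizerIn S (wS W S) :=
      le_inf le_rfl (Subgroup.le_normalizer.trans (normalizer_le_normalizer_wS hW hS))
    have hD : ∀ g ∈ S, ∀ x ∈ S, x⁻¹ * (g * x * g⁻¹) ∈ N.focalSubgroup := by
      intro g hg x hx
      apply Subgroup.subset_closure
      exact ⟨S, conjHom S g, ⟨x, hx⟩, N.conj_mem hSX (hSX hg), rfl⟩
    have IH' : ∀ m < Nat.card S, ∀ {Ω' : Type u} [Group Ω'] {S' : Subgroup Ω'} [Finite S'], Nat.card S' = m →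
        IsPGroup p S' → ∀ F' : FusionSystem S', F'.IsSaturated p → Ctl W F' := by
      intro m hm Ω' _ S' _ hm' hS' F' hF'
      exact IH m (hn ▸ hm) hm' hS' F' hF'
    refine (good_iff _ _).1 (good_of_top hW hS F hF hD ?_ ?_)
    · intro U hU _ hNU
      have hTS : normalizerIn S U ≤ S := inf_le_left
      have : Finite (normalizerIn S U) := finite_of_le hTS
      have hlt : Nat.card (normalizerIn S U) < Nat.card S := by
        by_contra hge
        push Not at hge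
        exact hNU (Subgroup.eq_of_le_of_card_ge hTS hge)
      exact IH' _ hlt rfl (hS.to_le hTS) _
        (isSaturated_of_isNormalizerSystem F hS hF hU (isNormalizerSystem_normalizerSystem F U hU.1))
    · intro Q hQS hQne hNQ
      exact nfoc_top hW hloc hS IH' F hF N hN _ Q hQS hQne hNQ rfl

end Cfsg.Agent.Lib.Helper33.FusFocal
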