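/-
helper33: transfer for saturated fusion systems with values in an arbitrary commutative group, evaluated on a strongly closed
subgroup on which the given homomorphism is invariant (variant of helper85's `exists_transfer_hom`, same characteristic
biset).  Consequence `stronglyClosed_inf_focal_le`: if `D ⊇ [S,S]` contains all `q⁻¹ ψ(q)` with `q ∈ Q` (`Q` strongly
closed) then `Q ∩ foc(F) ≤ D`.
All declarations live in `Cfsg.Agent.Lib.Helper33.FusFocal`.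
-/
import Cfsg.Agent.Lib.Helper85.FusionTransfer
import Cfsg.Agent.Lib.Helper76.PCore

set_option autoImplicit false

namespace Cfsg.Agent.Lib.Helper33.FusFocal

open Cfsg Cfsg.FusionSystem MulAction Cfsg.Agent.S5328 Cfsg.Agent.Lib.Helper85

universe u

variable {Ω : Type u} [Group Ω] {S : Subgroup Ω}

theorem normal_key [Finite S] (F : FusionSystem S) {X : Type*} [MulAction (S × S) X]
    (hstab : ∀ x : X, IsGraph F (stabilizer (S × S) x)) (x₀ : X)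
    (ϕ : stabilizer (biG S X) (Quotient.mk (rightSetoid S X) x₀) →* Abelianization S)
    (hϕ : ∀ (g : stabilizer (biG S X) (Quotient.mk (rightSetoid S X) x₀)) (s : S),
      ((1 : S), s) • x₀ = ((g : biG S X) : Equiv.Perm X) x₀ → ϕ g = Abelianization.of s)
    {A : Type*} [CommGroup A] (μ : S →* A) {Q : Subgroup Ω} (hQ : F.StronglyClosed Q)
    (hμ : ∀ (P : Subgroup Ω) (ψ : P →* Ω) (hψ : ψ ∈ F.Hom P) (q : P), (q : Ω) ∈ Q →
      μ ⟨ψ q, (F.le_of_mem hψ).2 q⟩ = μ ⟨q, (F.le_of_mem hψ).1 q.2⟩)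
    (z : S) (hz : (z : Ω) ∈ Q) (k : ℕ) (g₀ : biG S X)
    (hk : g₀⁻¹ * (biι S X z) ^ k * g₀ ∈
      stabilizer (biG S X) (Quotient.mk (rightSetoid S X) x₀)) :
    Abelianization.lift μ (ϕ ⟨_, hk⟩) = ((μ z)⁻¹) ^ k := by
  have hk' := hk
  rw [mem_stabilizer_iff, smul_mk_rightQuotient] at hk'
  obtain ⟨s, hs⟩ := (rightSetoid S X).iseqv.symm (Quotient.exact hk')
  rw [hϕ ⟨_, hk⟩ s hs]
  have h1 : ((1 : S), s) • ((g₀ : Equiv.Perm X) x₀) =
      ((z ^ k, (1 : S)) : S × S) • ((g₀ : Equiv.Perm X) x₀) := by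
    rw [← g₀.2 s x₀, hs, ← biι_apply, map_pow]
    change (g₀ : Equiv.Perm X) ((g₀ : Equiv.Perm X)⁻¹
      ((((biι S X z) ^ k : biG S X) : Equiv.Perm X) ((g₀ : Equiv.Perm X) x₀))) = _
    rw [Equiv.Perm.inv_def, Equiv.apply_symm_apply]
  have hmem : ((z ^ k, s⁻¹) : S × S) ∈ stabilizer (S × S) ((g₀ : Equiv.Perm X) x₀) := by
    rw [mem_stabilizer_iff]
    have e : ((z ^ k, s⁻¹) : S × S) = ((1 : S), s⁻¹) * (z ^ k, (1 : S)) := by
      rw [Prod.mk_mul_mk, one_mul, mul_one]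
    rw [e, mul_smul, ← h1, smul_smul, Prod.mk_mul_mk, one_mul, inv_mul_cancel]
    exact one_smul _ _
  obtain ⟨Q', ψ, hψ, hK⟩ := hstab ((g₀ : Equiv.Perm X) x₀)
  obtain ⟨q, h2, h3⟩ := (hK _).1 hmem
  have hzk : ((z ^ k : S) : Ω) ∈ Q := by
    rw [Subgroup.coe_pow]
    exact Subgroup.pow_mem _ hz k
  have hψq : ψ q ∈ Q := by
    have h2' : ((z ^ k : S) : Ω) = ψ q := h2
    rw [← h2']
    exact hzk
  have hqQ : (q : Ω) ∈ Q := (stronglyClosed_apply_mem_iff F hQ hψ q).1 hψq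
  have h4 := hμ Q' ψ hψ q hqQ
  have e1 : (⟨ψ q, (F.le_of_mem hψ).2 q⟩ : S) = z ^ k := Subtype.ext h2.symm
  have e2 : (⟨(q : Ω), (F.le_of_mem hψ).1 q.2⟩ : S) = s⁻¹ := Subtype.ext h3.symm
  rw [e1, e2, map_pow, map_inv] at h4
  rw [Abelianization.lift_apply_of, inv_pow, h4, inv_inv]

/-- **Transfer with values in a commutative group.** -/
theorem exists_transfer_hom_normal [Finite S] (F : FusionSystem S) {p : ℕ} [Fact p.Prime]
    (hS : IsPGroup p S) (hF : F.IsSaturated p) {A : Type*} [CommGroup A] (μ : S →* A) :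
    ∃ (m : ℕ) (τ : S →* A), ¬ p ∣ m ∧
      (∀ (P : Subgroup Ω) (φ : P →* Ω), φ ∈ F.Hom P → ∀ (x : P) (hx : (x : Ω) ∈ S)
        (hφx : φ x ∈ S), τ ⟨φ x, hφx⟩ = τ ⟨x, hx⟩) ∧
      ∀ Q : Subgroup Ω, F.StronglyClosed Q →
        (∀ (P : Subgroup Ω) (ψ : P →* Ω) (hψ : ψ ∈ F.Hom P) (q : P), (q : Ω) ∈ Q →
          μ ⟨ψ q, (F.le_of_mem hψ).2 q⟩ = μ ⟨q, (F.le_of_mem hψ).1 q.2⟩) →
        ∀ z : S, (z : Ω) ∈ Q → τ z = (μ z) ^ m := by
  obtain ⟨X, hXfin, hXact, hstab, hst, m, hm, hpm⟩ := exists_char_biset F hS hF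
  have hcardR : Nat.card (Quotient (rightSetoid S X)) = m := by
    have := card_eq_card_rightQuotient_mul F hstab
    rw [hm] at this
    exact (Nat.eq_of_mul_eq_mul_right Nat.card_pos this).symm
  obtain ⟨r₀, hr₀⟩ := exists_stabilizer_index_coprime (G := biG S X)
    (α := Quotient (rightSetoid S X)) p (by rw [hcardR]; exact hpm)
  obtain ⟨x₀, rfl⟩ := Quotient.exists_rep r₀
  obtain ⟨ϕ, hϕ⟩ := exists_orbit_hom F hstab x₀
  refine ⟨(stabilizer (biG S X) (Quotient.mk (rightSetoid S X) x₀)).index,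
    invMonoidHom.comp ((MonoidHom.transfer ((Abelianization.lift μ).comp ϕ)).comp (biι S X)), hr₀, ?_, ?_⟩
  · intro P φ hφ x hx hφx
    obtain ⟨g, hg⟩ := exists_conj_of_mem_stable F hstab hst (F.le_of_mem hφ).1 φ
      (F.le_of_mem hφ).2 hφ
    have h1 := hg x
    change (MonoidHom.transfer ((Abelianization.lift μ).comp ϕ) (biι S X ⟨φ x, hφx⟩))⁻¹ =
      (MonoidHom.transfer ((Abelianization.lift μ).comp ϕ) (biι S X ⟨x, hx⟩))⁻¹
    rw [h1, map_mul, map_mul, map_inv, mul_comm, inv_mul_cancel_left]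
  · intro Q hQ hμ z hz
    change (MonoidHom.transfer ((Abelianization.lift μ).comp ϕ) (biι S X z))⁻¹ = _
    rw [transfer_eq_pow_of_forall ((Abelianization.lift μ).comp ϕ) (biι S X z) ((μ z)⁻¹)
      (fun k g₀ hk => normal_key F hstab x₀ ϕ hϕ μ hQ hμ z hz k g₀ hk), inv_pow, inv_inv]

open scoped IsMulCommutative commutatorElement in
/-- **`Q ∩ foc(F) ≤ D`** for a strongly closed `Q` all of whose commutators `q⁻¹ ψ(q)` lie in `D ⊇ [S,S]`. -/
theorem stronglyClosed_inf_focal_le [Finite S] (F : FusionSystem S) {p : ℕ} [hp : Fact p.Prime]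
    (hS : IsPGroup p S) (hF : F.IsSaturated p) {Q D : Subgroup Ω} (hQ : F.StronglyClosed Q)
    (hD : ∀ g ∈ S, ∀ x ∈ S, x⁻¹ * (g * x * g⁻¹) ∈ D)
    (hQD : ∀ (P : Subgroup Ω) (ψ : P →* Ω), ψ ∈ F.Hom P → ∀ q : P, (q : Ω) ∈ Q → (q : Ω)⁻¹ * ψ q ∈ D) :
    Q ⊓ F.focalSubgroup ≤ D := by
  have hcomm : commutator ↥S ≤ D.subgroupOf S := by
    rw [commutator_def, Subgroup.commutator_le]
    intro x _ g _
    rw [Subgroup.mem_subgroupOf]
    have h1 := hD g g.2 (x : Ω)⁻¹ (S.inv_mem x.2)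
    have e : (((⁅x, g⁆ : S)) : Ω) = ((x : Ω)⁻¹)⁻¹ * ((g : Ω) * (x : Ω)⁻¹ * (g : Ω)⁻¹) := by
      rw [commutatorElement_def]
      simp only [Subgroup.coe_mul, Subgroup.coe_inv]
      group
    rw [e]
    exact h1
  have hDn : (D.subgroupOf S).Normal := by
    constructor
    intro d hd s
    have h1 : s * d * s⁻¹ * d⁻¹ ∈ D.subgroupOf S := by
      apply hcomm
      exact Subgroup.commutator_mem_commutator (Subgroup.mem_top s) (Subgroup.mem_top d)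
    have e : s * d * s⁻¹ = (s * d * s⁻¹ * d⁻¹) * d := by group
    rw [e]
    exact mul_mem h1 hd
  have hQc : IsMulCommutative (↥S ⧸ D.subgroupOf S) :=
    Subgroup.Normal.quotient_commutative_iff_commutator_le.mpr hcomm
  obtain ⟨m, τ, hpm, hstable, hval⟩ := exists_transfer_hom_normal F hS hF
    (QuotientGroup.mk' (D.subgroupOf S))
  have hinv : ∀ (P : Subgroup Ω) (ψ : P →* Ω) (hψ : ψ ∈ F.Hom P) (q : P), (q : Ω) ∈ Q →
      QuotientGroup.mk' (D.subgroupOf S) ⟨ψ q, (F.le_of_mem hψ).2 q⟩ =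
        QuotientGroup.mk' (D.subgroupOf S) ⟨q, (F.le_of_mem hψ).1 q.2⟩ := by
    intro P ψ hψ q hq
    symm
    rw [QuotientGroup.mk'_apply, QuotientGroup.mk'_apply, QuotientGroup.eq, Subgroup.mem_subgroupOf]
    exact hQD P ψ hψ q hq
  have hkill : ∀ y ∈ F.focalSubgroup, ∃ hy : y ∈ S, τ ⟨y, hy⟩ = 1 := by
    intro y hy
    unfold FusionSystem.focalSubgroup at hy
    induction hy using Subgroup.closure_induction with
    | mem y hy =>
      obtain ⟨P, φ, x, hφ, rfl⟩ := hy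
      have hxS : (x : Ω) ∈ S := (F.le_of_mem hφ).1 x.2
      have hφS : φ x ∈ S := (F.le_of_mem hφ).2 x
      refine ⟨S.mul_mem (S.inv_mem hxS) hφS, ?_⟩
      have e : (⟨(x : Ω)⁻¹ * φ x, S.mul_mem (S.inv_mem hxS) hφS⟩ : S) = ⟨x, hxS⟩⁻¹ * ⟨φ x, hφS⟩ := rfl
      rw [e, map_mul, map_inv, hstable P φ hφ x hxS hφS, inv_mul_cancel]
    | one => exact ⟨S.one_mem, map_one τ⟩
    | mul a b _ _ ha hb =>
      obtain ⟨haS, ha1⟩ := ha
      obtain ⟨hbS, hb1⟩ := hb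
      refine ⟨S.mul_mem haS hbS, ?_⟩
      have e : (⟨a * b, S.mul_mem haS hbS⟩ : S) = ⟨a, haS⟩ * ⟨b, hbS⟩ := rfl
      rw [e, map_mul, ha1, hb1, one_mul]
    | inv a _ ha =>
      obtain ⟨haS, ha1⟩ := ha
      refine ⟨S.inv_mem haS, ?_⟩
      have e : (⟨a⁻¹, S.inv_mem haS⟩ : S) = ⟨a, haS⟩⁻¹ := rfl
      rw [e, map_inv, ha1, inv_one]
  rintro z ⟨hzQ, hzf⟩
  obtain ⟨hzS, hz1⟩ := hkill z hzf
  have h2 := hval Q hQ hinv ⟨z, hzS⟩ hzQ
  rw [hz1] at h2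
  obtain ⟨k, hk⟩ := hS ⟨z, hzS⟩
  have h3 : (QuotientGroup.mk' (D.subgroupOf S) ⟨z, hzS⟩) ^ p ^ k = 1 := by
    rw [← map_pow, hk, map_one]
  have hcop : m.Coprime p := ((Nat.Prime.coprime_iff_not_dvd hp.out).mpr hpm).symm
  have h4 := Cfsg.Agent.Lib.Helper76.eq_one_of_pow_eq_one_of_coprime p _ m k hcop h2.symm h3
  rw [QuotientGroup.mk'_apply, QuotientGroup.eq_one_iff, Subgroup.mem_subgroupOf] at h4
  exact h4

end Cfsg.Agent.Lib.Helper33.FusFocal
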