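import Cfsg.Agent.Lib.Helper33.Reach

/-!
# Local-to-global control of strong fusion by conjugacy functors (helper33 library)
-/

set_option autoImplicit false

namespace Cfsg.Agent.Lib.Helper33

variable {G : Type*} [Group G] {p : ℕ}

/-- the set of allowed steps: elements of `N_H(W(T))`, `W ∈ 𝓦` -/
def stepSet (𝓦 : Set (Subgroup G → Subgroup G)) (H T : Subgroup G) : Set G :=
  {x | ∃ W ∈ 𝓦, x ∈ H ⊓ Subgroup.normalizer ((W T : Subgroup G) : Set G)}

theorem stepSet_inv {𝓦 : Set (Subgroup G → Subgroup G)} {H T : Subgroup G} {x : G}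
    (hx : x ∈ stepSet 𝓦 H T) : x⁻¹ ∈ stepSet 𝓦 H T := by
  obtain ⟨W, hW, hx⟩ := hx
  exact ⟨W, hW, inv_mem hx⟩

/-- Fin-indexed chain data gives `Reach`. -/
theorem reach_of_fin {R : Set G} {T : Subgroup G} {A : Set G} (n : ℕ) (c : Fin (n + 1) → G)
    (h0 : c 0 = 1) (hstep : ∀ i : Fin n, c i.succ * (c i.castSucc)⁻¹ ∈ R)
    (hA : ∀ i : Fin (n + 1), lc (c i) A ⊆ T) : Reach R T A (c (Fin.last n)) := by
  have key : ∀ k (hk : k < n + 1), Reach R T A (c ⟨k, hk⟩) := by
    intro k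
    induction k with
    | zero =>
      intro hk
      have : (⟨0, hk⟩ : Fin (n + 1)) = 0 := rfl
      rw [this, h0]
      exact Reach.refl R T A
    | succ k ih =>
      intro hk
      have h1 := ih (by omega)
      refine Relation.ReflTransGen.tail h1 ⟨?_, hA _⟩
      exact hstep ⟨k, by omega⟩
  exact key n (by omega)

/-- `Reach` gives Fin-indexed chain data. -/
theorem fin_of_reach {R : Set G} {T : Subgroup G} {A : Set G} {g : G} (h : Reach R T A g)
    (hAT : A ⊆ T) :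
    ∃ (n : ℕ) (c : Fin (n + 1) → G), c 0 = 1 ∧ (∀ i : Fin n, c i.succ * (c i.castSucc)⁻¹ ∈ R) ∧
      (∀ i : Fin (n + 1), lc (c i) A ⊆ T) ∧ c (Fin.last n) = g := by
  induction h with
  | refl =>
    refine ⟨0, fun _ => 1, rfl, fun i => i.elim0, fun _ => ?_, rfl⟩
    rw [lc_one]; exact hAT
  | @tail b g' _ hstep ih =>
    obtain ⟨n, c, h0, hs, hA, hlast⟩ := ih
    refine ⟨n + 1, Fin.snoc c g', ?_, ?_, ?_, ?_⟩
    · have : (0 : Fin (n + 2)) = Fin.castSucc (0 : Fin (n + 1)) := rfl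
      rw [this, Fin.snoc_castSucc]
      exact h0
    · intro i
      refine Fin.lastCases ?_ (fun j => ?_) i
      · rw [Fin.succ_last, Fin.snoc_last, Fin.snoc_castSucc, hlast]
        exact hstep.1
      · rw [Fin.succ_castSucc, Fin.snoc_castSucc, Fin.snoc_castSucc]
        exact hs j
    · intro i
      refine Fin.lastCases ?_ (fun j => ?_) i
      · rw [Fin.snoc_last]; exact hstep.2
      · rw [Fin.snoc_castSucc]; exact hA j
    · rw [Fin.snoc_last]

theorem familyControls_iff_good {𝓦 : Set (Subgroup G → Subgroup G)} {H : Subgroup G} :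
    Cfsg.FamilyControlsStrongFusionIn p 𝓦 H ↔
      ∃ T : Subgroup G, SylIn p T H ∧ ∀ (A : Set G) (h : G), h ∈ H → A ⊆ T → lc h A ⊆ T →
        Good (stepSet 𝓦 H T) T A h := by
  constructor
  · rintro ⟨T, h1, h2, h3, h4⟩
    refine ⟨T, ⟨h1, h2, h3⟩, ?_⟩
    intro A h hh hA hAh
    obtain ⟨n, c, h0, hs, hc, hlast⟩ := h4 A h hh hA hAh
    exact ⟨c (Fin.last n), reach_of_fin n c h0 hs hc, hlast⟩
  · rintro ⟨T, ⟨h1, h2, h3⟩, h4⟩
    refine ⟨T, h1, h2, h3, ?_⟩
    intro A h hh hA hAh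
    obtain ⟨g', hreach, hagree⟩ := h4 A h hh hA hAh
    obtain ⟨n, c, h0, hs, hc, hlast⟩ := fin_of_reach hreach hA
    exact ⟨n, c, h0, hs, hc, by rw [hlast]; exact hagree⟩

/-- Control of strong fusion in `H` holds with respect to every Sylow `p`-subgroup of `H`. -/
theorem good_of_familyControls [Fact p.Prime] [Finite G] {𝓦 : Set (Subgroup G → Subgroup G)}
    (h𝓦 : ∀ W ∈ 𝓦, Cfsg.IsConjugacyFunctor p W) {H : Subgroup G}
    (hctl : Cfsg.FamilyControlsStrongFusionIn p 𝓦 H) {T : Subgroup G} (hT : SylIn p T H) :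
    ∀ (A : Set G) (h : G), h ∈ H → A ⊆ T → lc h A ⊆ T → Good (stepSet 𝓦 H T) T A h := by
  obtain ⟨T₀, hT₀, hgood⟩ := familyControls_iff_good.mp hctl
  obtain ⟨u, hu, huT⟩ := hT.exists_cj_eq hT₀
  intro A h hh hA hAh
  -- transport to T₀
  have hA0 : lc u⁻¹ A ⊆ T₀ := by
    rw [lc_subset_iff, inv_inv, lc_coe_subgroup, huT]; exact hA
  have hh0 : u⁻¹ * h * u ∈ H := H.mul_mem (H.mul_mem (H.inv_mem hu) hh) hu
  have hAh0 : lc (u⁻¹ * h * u) (lc u⁻¹ A) ⊆ T₀ := by
    rw [← lc_mul]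
    have : u⁻¹ * h * u * u⁻¹ = u⁻¹ * h := by group
    rw [this, lc_mul, lc_subset_iff, inv_inv, lc_coe_subgroup, huT]; exact hAh
  have h1 := hgood _ _ hh0 hA0 hAh0
  have h2 := h1.conj (R' := stepSet 𝓦 H T) u (by
    rintro x ⟨W, hW, hx⟩
    refine ⟨W, hW, ?_⟩
    rw [Subgroup.mem_inf] at hx ⊢
    refine ⟨H.mul_mem (H.mul_mem hu hx.1) (H.inv_mem hu), ?_⟩
    rw [← huT, cf_cj (h𝓦 W hW) hT₀.isPGroup, ← cj_normalizer]
    exact conj_mem_cj hx.2)
  rw [huT, lc_lc_inv] at h2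
  have e : u * (u⁻¹ * h * u) * u⁻¹ = h := by group
  rwa [e] at h2

section main

variable [Fact p.Prime] [Finite G] (S : Sylow p G) (𝓦 : Set (Subgroup G → Subgroup G))
  (h𝓦 : ∀ W ∈ 𝓦, Cfsg.IsConjugacyFunctor p W)

local notation "NS(" V ")" => ((S : Subgroup G) ⊓ Subgroup.normalizer ((V : Subgroup G) : Set G) : Subgroup G)

include h𝓦 in
/-- conversion of a step in `N_{N(X)}(W(N_S(X)))` -/
theorem good_step (X : Subgroup G) (hXS : X ≤ (S : Subgroup G)) (hXne : X ≠ ⊥)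
    (hL : ∀ V : Subgroup G, V ≤ (S : Subgroup G) → V ≠ ⊥ → Nat.card NS(X) < Nat.card NS(V) →
      ∀ y ∈ Subgroup.normalizer (V : Set G), ∀ B : Set G, B ⊆ NS(V) → lc y B ⊆ NS(V) →
        Good (stepSet 𝓦 ⊤ (S : Subgroup G)) (S : Subgroup G) B y) :
    ∀ z ∈ stepSet 𝓦 (Subgroup.normalizer (X : Set G)) NS(X), ∀ C : Set G, C ⊆ NS(X) →
      lc z C ⊆ NS(X) → Good (stepSet 𝓦 ⊤ (S : Subgroup G)) (S : Subgroup G) C z := by
  rintro z ⟨W, hW, hz⟩ C hC hzC
  have hNSp : IsPGroup p NS(X) := S.isPGroup'.to_le inf_le_left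
  by_cases hS : NS(X) = (S : Subgroup G)
  · apply Good.single
    · refine ⟨W, hW, ?_⟩
      rw [hS] at hz
      exact ⟨Subgroup.mem_top _, hz.2⟩
    · exact hzC.trans (fun _ hx => (inf_le_left : NS(X) ≤ (S : Subgroup G)) hx)
  · set V := W NS(X) with hV
    have hVle : V ≤ NS(X) := cf_le (h𝓦 W hW) hNSp
    have hVS : V ≤ (S : Subgroup G) := hVle.trans inf_le_left
    have hNSne : NS(X) ≠ ⊥ := by
      intro h
      apply hXne
      have : X ≤ NS(X) := le_inf hXS Subgroup.le_normalizer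
      rw [h] at this
      exact le_bot_iff.mp this
    have hVne : V ≠ ⊥ := cf_ne_bot (h𝓦 W hW) hNSp hNSne
    have hNN : NS(NS(X)) ≤ NS(V) :=
      le_inf inf_le_left (inf_le_right.trans (cf_normalizer_le (h𝓦 W hW) hNSp))
    have hcard : Nat.card NS(X) < Nat.card NS(V) :=
      lt_of_lt_of_le (card_lt_card_normalizer_inf S inf_le_left hS) (Subgroup.card_le_of_le hNN)
    have hXV : NS(X) ≤ NS(V) := (le_inf inf_le_left Subgroup.le_normalizer).trans hNN
    exact hL V hVS hVne hcard z hz.2 C (hC.trans hXV) (hzC.trans hXV)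

variable (𝓕 : Set (Subgroup G))
  (h𝓕 : ∀ P : Subgroup G, P ≤ (S : Subgroup G) →
    ∃ U ∈ 𝓕, (∃ g : G, cj g P = U) ∧ U ≤ (S : Subgroup G) ∧ FullyNormalized p (S : Subgroup G) U)
  (hloc : ∀ U ∈ 𝓕, U ≠ ⊥ → U ≤ (S : Subgroup G) → FullyNormalized p (S : Subgroup G) U →
    Cfsg.FamilyControlsStrongFusionIn p 𝓦 (Subgroup.normalizer (U : Set G)))

include h𝓦 h𝓕 hloc in
theorem claim_L (c₀ : ℕ)
    (IH : ∀ P : Subgroup G, P ≤ (S : Subgroup G) → c₀ < Nat.card P → ∀ g, cj g P ≤ (S : Subgroup G) →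
      Good (stepSet 𝓦 ⊤ (S : Subgroup G)) (S : Subgroup G) (P : Set G) g) :
    ∀ m : ℕ, ∀ V : Subgroup G, V ≤ (S : Subgroup G) → V ≠ ⊥ → c₀ < Nat.card NS(V) →
      Nat.card (S : Subgroup G) - Nat.card NS(V) = m →
      ∀ y ∈ Subgroup.normalizer (V : Set G), ∀ B : Set G, B ⊆ NS(V) → lc y B ⊆ NS(V) →
        Good (stepSet 𝓦 ⊤ (S : Subgroup G)) (S : Subgroup G) B y := by
  intro m
  induction m using Nat.strong_induction_on with
  | _ m ih =>
    intro V hVS hVne hc hm y hy B hB hyB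
    have hNSS : NS(V) ≤ (S : Subgroup G) := inf_le_left
    obtain ⟨V', hV'𝓕, ⟨v, hv⟩, hV'S, hV'fn⟩ := h𝓕 V hVS
    obtain ⟨k, hkV, hkN⟩ := exists_cj_normalizer_le S hV'fn v hv
    have hV'ne : V' ≠ ⊥ := by
      rw [← hkV]; exact fun h => hVne (cj_eq_bot_iff.mp h)
    have hNS'S : NS(V') ≤ (S : Subgroup G) := inf_le_left
    have hcard' : Nat.card NS(V) ≤ Nat.card NS(V') := by
      rw [← card_cj k]; exact Subgroup.card_le_of_le hkN
    have hcardS : Nat.card NS(V') ≤ Nat.card (S : Subgroup G) := Subgroup.card_le_of_le hNS'S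
    -- Φ (N_S V) k
    have hΦk : Good (stepSet 𝓦 ⊤ (S : Subgroup G)) (S : Subgroup G) (NS(V) : Set G) k :=
      IH NS(V) hNSS hc k (hkN.trans hNS'S)
    -- local control in N(V') relative to N_S(V')
    have hctl := good_of_familyControls h𝓦 (hloc V' hV'𝓕 hV'ne hV'S hV'fn) hV'fn.sylIn
    -- the conjugated data
    have hy' : k * y * k⁻¹ ∈ Subgroup.normalizer (V' : Set G) := by
      rw [← hkV, ← cj_normalizer]; exact conj_mem_cj hy
    have hB' : lc k B ⊆ NS(V') := by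
      refine (lc_mono hB).trans ?_
      rw [lc_coe_subgroup]; exact hkN
    have hyB' : lc (k * y * k⁻¹) (lc k B) ⊆ NS(V') := by
      rw [← lc_mul]
      have : k * y * k⁻¹ * k = k * y := by group
      rw [this, lc_mul]
      refine (lc_mono hyB).trans ?_
      rw [lc_coe_subgroup]; exact hkN
    have hG1 := hctl (lc k B) (k * y * k⁻¹) hy' hB' hyB'
    -- convert to a chain relative to S
    have hstep := good_step S 𝓦 h𝓦 V' hV'S hV'ne (by
      intro V'' hV''S hV''ne hlt y'' hy'' B'' hB'' hyB''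
      have hle'' : Nat.card NS(V'') ≤ Nat.card (S : Subgroup G) := Subgroup.card_le_of_le inf_le_left
      exact ih (Nat.card (S : Subgroup G) - Nat.card NS(V'')) (by omega) V'' hV''S hV''ne (by omega) rfl
        y'' hy'' B'' hB'' hyB'')
    have hG2 : Good (stepSet 𝓦 ⊤ (S : Subgroup G)) (S : Subgroup G) (lc k B) (k * y * k⁻¹) := by
      obtain ⟨y'', hreach, hagree⟩ := hG1
      exact (Good.of_reach hB' hstep hreach).congr hagree
    -- assemble y = k⁻¹ (k y k⁻¹) k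
    have hBk : Good (stepSet 𝓦 ⊤ (S : Subgroup G)) (S : Subgroup G) B k :=
      hΦk.mono le_rfl le_rfl hB
    have hyBk : Good (stepSet 𝓦 ⊤ (S : Subgroup G)) (S : Subgroup G) (lc y B) k :=
      hΦk.mono le_rfl le_rfl hyB
    have hyBS : lc y B ⊆ (S : Subgroup G) := hyB.trans (fun _ hx => hNSS hx)
    have hkinv := hyBk.inv (fun x hx => stepSet_inv hx) hyBS
    have h1 := hBk.comp hG2
    have e1 : lc (k * y * k⁻¹ * k) B = lc k (lc y B) := by
      rw [← lc_mul]
      congr 1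
      group
    have h2 := h1.comp (e1 ▸ hkinv)
    have e2 : k⁻¹ * (k * y * k⁻¹ * k) = y := by group
    rwa [e2] at h2

include h𝓦 h𝓕 hloc in
/-- **Local-to-global control of strong fusion** (Glauberman). -/
theorem good_of_local :
    ∀ (A : Set G) (g : G), A ⊆ (S : Subgroup G) → lc g A ⊆ (S : Subgroup G) →
      Good (stepSet 𝓦 ⊤ (S : Subgroup G)) (S : Subgroup G) A g := by
  have key := alperin_induction S
    (fun P g => Good (stepSet 𝓦 ⊤ (S : Subgroup G)) (S : Subgroup G) (P : Set G) g) 𝓕 h𝓕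
    (by
      intro P g h _ _ _ h1 h2
      apply h1.comp
      rw [lc_coe_subgroup]; exact h2)
    (by
      intro P P' g hle _ _ h1
      exact h1.mono le_rfl le_rfl hle)
    (by
      intro P g hP _ h1
      have := h1.inv (fun x hx => stepSet_inv hx) hP
      rwa [lc_coe_subgroup] at this)
    (by
      intro U hU𝓕 hUS hUfn IH g hg
      by_cases hUne : U = ⊥
      · subst hUne
        refine ⟨1, Reach.refl _ _ _, ?_⟩
        intro a ha
        have : a = 1 := ha
        subst this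
        simp
      · have hL := claim_L S 𝓦 h𝓦 𝓕 h𝓕 hloc (Nat.card U) IH
        have hctl := good_of_familyControls h𝓦 (hloc U hU𝓕 hUne hUS hUfn) hUfn.sylIn
        have hUN : (U : Set G) ⊆ NS(U) := le_inf hUS Subgroup.le_normalizer
        have hgU : lc g (U : Set G) ⊆ NS(U) := by
          rw [lc_coe_subgroup, cj_eq_self_of_mem_normalizer hg]; exact hUN
        obtain ⟨g', hreach, hagree⟩ := hctl (U : Set G) g hg hUN hgU
        have hstep := good_step S 𝓦 h𝓦 U hUS hUne (by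
          intro V hVS hVne hlt y hy B hB hyB
          have hcU : Nat.card U ≤ Nat.card NS(U) := Subgroup.card_le_of_le hUN
          exact hL _ V hVS hVne (by omega) rfl y hy B hB hyB)
        exact (Good.of_reach hUN hstep hreach).congr hagree)
  intro A g hA hAg
  have hP : Subgroup.closure A ≤ (S : Subgroup G) := (Subgroup.closure_le _).mpr hA
  have hPg : cj g (Subgroup.closure A) ≤ (S : Subgroup G) := lc_subset_subgroup_iff.mp hAg
  exact (key _ hP g hPg).mono le_rfl le_rfl Subgroup.subset_closure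

end main

end Cfsg.Agent.Lib.Helper33
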