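import Cfsg.Agent.Lib.Helper33.FusionControl

/-!
# Single functors versus families; the global statements (helper33 library)
-/

set_option autoImplicit false

namespace Cfsg.Agent.Lib.Helper33

variable {G : Type*} [Group G] {p : ℕ}

theorem stepSet_singleton (W : Subgroup G → Subgroup G) (H T : Subgroup G) :
    stepSet {W} H T = ((H ⊓ Subgroup.normalizer ((W T : Subgroup G) : Set G) : Subgroup G) : Set G) := by
  ext x
  simp [stepSet]

theorem Reach.mem_of_subgroup {K : Subgroup G} {T : Subgroup G} {A : Set G} {g : G}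
    (h : Reach (K : Set G) T A g) : g ∈ K := by
  induction h with
  | refl => exact K.one_mem
  | @tail b c _ hbc ih =>
    have : c = c * b⁻¹ * b := by group
    rw [this]
    exact K.mul_mem hbc.1 ih

theorem controls_iff_family_singleton {W : Subgroup G → Subgroup G} {H : Subgroup G} :
    Cfsg.ControlsStrongFusionIn p W H ↔ Cfsg.FamilyControlsStrongFusionIn p {W} H := by
  rw [familyControls_iff_good]
  constructor
  · rintro ⟨T, h1, h2, h3, h4⟩
    refine ⟨T, ⟨h1, h2, h3⟩, ?_⟩
    intro A h hh hA hAh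
    obtain ⟨x, hx, hagree⟩ := h4 A h hh hA hAh
    have hxA : lc x A ⊆ T := by rw [lc_congr hagree]; exact hAh
    refine (Good.single ?_ hxA).congr hagree
    rw [stepSet_singleton]; exact hx
  · rintro ⟨T, ⟨h1, h2, h3⟩, h4⟩
    refine ⟨T, h1, h2, h3, ?_⟩
    intro A h hh hA hAh
    obtain ⟨g', hreach, hagree⟩ := h4 A h hh hA hAh
    rw [stepSet_singleton] at hreach
    exact ⟨g', hreach.mem_of_subgroup, hagree⟩

/-- the global statement for a family of functors -/
theorem familyControls_top_of_local [Fact p.Prime] [Finite G] (S : Sylow p G)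
    (𝓦 : Set (Subgroup G → Subgroup G)) (h𝓦 : ∀ W ∈ 𝓦, Cfsg.IsConjugacyFunctor p W)
    (𝓕 : Set (Subgroup G))
    (h𝓕 : ∀ P : Subgroup G, P ≤ (S : Subgroup G) →
      ∃ U ∈ 𝓕, (∃ g : G, cj g P = U) ∧ U ≤ (S : Subgroup G) ∧ FullyNormalized p (S : Subgroup G) U)
    (hloc : ∀ U ∈ 𝓕, U ≠ ⊥ → U ≤ (S : Subgroup G) → FullyNormalized p (S : Subgroup G) U →
      Cfsg.FamilyControlsStrongFusionIn p 𝓦 (Subgroup.normalizer (U : Set G))) :
    Cfsg.FamilyControlsStrongFusionIn p 𝓦 ⊤ := by
  rw [familyControls_iff_good]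
  refine ⟨(S : Subgroup G), sylIn_top S, ?_⟩
  intro A h _ hA hAh
  exact good_of_local S 𝓦 h𝓦 𝓕 h𝓕 hloc A h hA hAh

end Cfsg.Agent.Lib.Helper33
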