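import Mathlib
import Cfsg.Prelude.Def_FusionSystem
import Cfsg.Prelude.Def_LocalEven
import Cfsg.Agent.Lib.Helper85.FusionGroupSat
import Cfsg.Agent.Lib.Helper11.ZJ2
import Cfsg.Agent.Lib.Helper97.Cores

/-!
# `p`-stability of the fusion system `F_P(G)` gives `p`-stability of `G` in the normalizer form (helper33)

Hypothesis (as in S5279/S5280/S5281): for every fully normalized `Q` and every `χ ∈ Aut_F(Q)` with
`χ(a⁻¹) a χ(a⁻¹) χ(χ a) = 1` for all `a ∈ Q`, `χ ∈ O_p(Aut_F(Q))`.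
Conclusion: `Cfsg.IsNormalizerPStable p G`.
-/

set_option autoImplicit false
set_option linter.unusedSectionVars false
set_option linter.style.haveILetI false
open Cfsg Cfsg.FusionSystem

namespace Cfsg.Agent.Lib.Helper33

open scoped commutatorElement
open Cfsg.Agent.Lib.Helper85

variable {G : Type*} [Group G]

/-- quadratic action, written for the conjugation automorphism -/
theorem quad_formula_of_commutator {Q : Subgroup G} {g : G}
    (hquad : ⁅⁅Q, Subgroup.zpowers g⁆, Subgroup.zpowers g⁆ = ⊥) (a : G) (ha : a ∈ Q) :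
    (g * a⁻¹ * g⁻¹) * a * (g * a⁻¹ * g⁻¹) * (g * (g * a * g⁻¹) * g⁻¹) = 1 := by
  have h1 : ⁅a⁻¹, g⁆ ∈ ⁅Q, Subgroup.zpowers g⁆ :=
    Subgroup.commutator_mem_commutator (Q.inv_mem ha) (Subgroup.mem_zpowers g)
  have h2 : ⁅⁅a⁻¹, g⁆, g⁆ ∈ ⁅⁅Q, Subgroup.zpowers g⁆, Subgroup.zpowers g⁆ :=
    Subgroup.commutator_mem_commutator h1 (Subgroup.mem_zpowers g)
  rw [hquad, Subgroup.mem_bot, commutatorElement_eq_one_iff_mul_comm, commutatorElement_def,
    inv_inv] at h2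
  have h4 : g * a⁻¹ * g * a * g⁻¹ * g⁻¹ = a⁻¹ * g * a * g⁻¹ := by
    calc g * a⁻¹ * g * a * g⁻¹ * g⁻¹ = g * (a⁻¹ * g * a * g⁻¹) * g⁻¹ := by group
      _ = (a⁻¹ * g * a * g⁻¹ * g) * g⁻¹ := by rw [h2]
      _ = a⁻¹ * g * a * g⁻¹ := by group
  calc (g * a⁻¹ * g⁻¹) * a * (g * a⁻¹ * g⁻¹) * (g * (g * a * g⁻¹) * g⁻¹)
      = g * a⁻¹ * g⁻¹ * a * (g * a⁻¹ * g * a * g⁻¹ * g⁻¹) := by group
    _ = g * a⁻¹ * g⁻¹ * a * (a⁻¹ * g * a * g⁻¹) := by rw [h4]
    _ = 1 := by group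

/-- The fusion-system form of `p`-stability for `F_P(G)`. -/
def FusionPStable (p : ℕ) (P : Subgroup G) : Prop :=
  ∀ Q : Subgroup G, (groupFusionSystem P).IsFullyNormalized Q → ∀ χ : MulAut ↥Q,
    χ ∈ (groupFusionSystem P).autGroup Q → (∀ a : ↥Q, (χ a⁻¹) * a * (χ a⁻¹) * (χ (χ a)) = 1) →
    χ ∈ ((pCore p ↥((groupFusionSystem P).autGroup Q)).map
      ((groupFusionSystem P).autGroup Q).subtype : Subgroup (MulAut ↥Q))

theorem mk_mem_pCore_of_fullyNormalized {p : ℕ} {P : Subgroup G} (hst : FusionPStable p P)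
    (Q : Subgroup G) (hQ : (groupFusionSystem P).IsFullyNormalized Q)
    (g : G) (hg : g ∈ Subgroup.normalizer (Q : Set G))
    (hquad : ⁅⁅Q, Subgroup.zpowers g⁆, Subgroup.zpowers g⁆ = ⊥) :
    (QuotientGroup.mk (s := (Subgroup.centralizer (Q : Set G)).subgroupOf
        (Subgroup.normalizer (Q : Set G))) (⟨g, hg⟩ : ↥(Subgroup.normalizer (Q : Set G)))) ∈
      pCore p (↥(Subgroup.normalizer (Q : Set G)) ⧸
        (Subgroup.centralizer (Q : Set G)).subgroupOf (Subgroup.normalizer (Q : Set G))) := by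
  have hQP : Q ≤ P := hQ.1
  obtain ⟨A, hA⟩ : ∃ A : Subgroup (MulAut Q), A = (groupFusionSystem P).autGroup Q := ⟨_, rfl⟩
  have hνv : ∀ (n : ↥(Subgroup.normalizer (Q : Set G))) (x : Q),
      ((Q.normalizerMonoidHom n x : Q) : G) = n * x * (n : G)⁻¹ := fun _ _ => rfl
  have hνA : ∀ n, Q.normalizerMonoidHom n ∈ A := by
    intro n
    rw [hA, mem_autGroup_iff _ hQP]
    exact ⟨hQP, fun x => hQP (Q.normalizerMonoidHom n x).2, n, fun x => rfl⟩
  obtain ⟨ν', hν'⟩ : ∃ ν' : ↥(Subgroup.normalizer (Q : Set G)) →* ↥A,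
      ∀ n, ((ν' n : ↥A) : MulAut Q) = Q.normalizerMonoidHom n :=
    ⟨Q.normalizerMonoidHom.codRestrict A hνA, fun _ => rfl⟩
  have hsurj : Function.Surjective ν' := by
    rintro ⟨α, hα⟩
    have h1 := hα
    rw [hA, mem_autGroup_iff _ hQP] at h1
    obtain ⟨-, -, k, hk⟩ := h1
    have hk' : ∀ x : Q, ((α x : Q) : G) = k * (x : G) * k⁻¹ := fun x => hk x
    refine ⟨⟨k, mem_normalizer_of_induces hk'⟩, ?_⟩
    apply Subtype.ext
    rw [hν']
    apply MulEquiv.ext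
    intro x
    apply Subtype.ext
    rw [hk']
    rfl
  have hker : ν'.ker = (Subgroup.centralizer (Q : Set G)).subgroupOf
      (Subgroup.normalizer (Q : Set G)) := by
    rw [← Subgroup.normalizerMonoidHom_ker]
    ext n
    rw [MonoidHom.mem_ker, MonoidHom.mem_ker]
    constructor
    · intro h
      have := congrArg (fun a : ↥A => (a : MulAut Q)) h
      simpa [hν'] using this
    · intro h
      apply Subtype.ext
      rw [hν', h]
      rfl
  obtain ⟨e, he⟩ : ∃ e : (↥(Subgroup.normalizer (Q : Set G)) ⧸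
      (Subgroup.centralizer (Q : Set G)).subgroupOf (Subgroup.normalizer (Q : Set G))) ≃* ↥A,
      ∀ n, e (QuotientGroup.mk n) = ν' n :=
    ⟨(QuotientGroup.quotientMulEquivOfEq hker.symm).trans
      (QuotientGroup.quotientKerEquivOfSurjective ν' hsurj), fun _ => rfl⟩
  suffices hsuff : ν' ⟨g, hg⟩ ∈ pCore p ↥A by
    rw [← he, ← Cfsg.Agent.Lib.Helper97.pCore_map_equiv e p] at hsuff
    obtain ⟨y, hy, hye⟩ := hsuff
    have : y = QuotientGroup.mk ⟨g, hg⟩ := e.injective hye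
    rw [← this]
    exact hy
  -- apply the hypothesis
  have hform : ∀ a : ↥Q, (Q.normalizerMonoidHom ⟨g, hg⟩ a⁻¹) * a *
      (Q.normalizerMonoidHom ⟨g, hg⟩ a⁻¹) *
      (Q.normalizerMonoidHom ⟨g, hg⟩ (Q.normalizerMonoidHom ⟨g, hg⟩ a)) = 1 := by
    intro a
    apply Subtype.ext
    have := quad_formula_of_commutator hquad a a.2
    simp only [Subgroup.coe_mul, hνv, Subgroup.coe_inv, Subgroup.coe_one]
    exact this
  have h1 := hst Q hQ (Q.normalizerMonoidHom ⟨g, hg⟩) (by rw [← hA]; exact hνA _) hform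
  rw [← hA] at h1
  obtain ⟨a, ha, hae⟩ := h1
  have : a = ν' ⟨g, hg⟩ := Subtype.ext (by rw [hν']; exact hae)
  rw [← this]
  exact ha

/-- **`p`-stability of `F_P(G)` (fusion form) implies `p`-stability of `G` (normalizer form).** -/
theorem isNormalizerPStable_of_fusion [Finite G] {p : ℕ} [Fact p.Prime] (P : Sylow p G)
    (hst : FusionPStable p (P : Subgroup G)) : IsNormalizerPStable p G := by
  intro P0 hP0 g hg hquad
  obtain ⟨x, hx⟩ := exists_conj_le_sylow P hP0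
  obtain ⟨y, hyP, R, hR⟩ := exists_conj_normalizerIn_sylow P hx
  have hfn0 : (groupFusionSystem (P : Subgroup G)).IsFullyNormalized
      ((P0.map (MulAut.conj x).toMonoidHom).map (MulAut.conj y).toMonoidHom) :=
    (groupFusionSystem_isFullyNormalized_iff P hyP).mpr ⟨R, hR⟩
  rw [map_conj_map_conj] at hfn0
  obtain ⟨z, hz⟩ : ∃ z : G, z = y * x := ⟨_, rfl⟩
  rw [← hz] at hfn0
  obtain ⟨Q1, hQ1⟩ : ∃ Q1 : Subgroup G, Q1 = P0.map (MulAut.conj z).toMonoidHom := ⟨_, rfl⟩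
  rw [← hQ1] at hfn0
  have hNmap : ∀ n : G, n ∈ Subgroup.normalizer (P0 : Set G) →
      z * n * z⁻¹ ∈ Subgroup.normalizer (Q1 : Set G) := by
    intro n hn
    rw [hQ1, normalizer_map_conj]
    exact conj_mem_map_conj z hn
  obtain ⟨f, hf⟩ : ∃ f : ↥(Subgroup.normalizer (P0 : Set G)) →* ↥(Subgroup.normalizer (Q1 : Set G)),
      ∀ n, ((f n : ↥(Subgroup.normalizer (Q1 : Set G))) : G) = z * n * z⁻¹ :=
    ⟨((MulAut.conj z).toMonoidHom.comp (Subgroup.normalizer (P0 : Set G)).subtype).codRestrict _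
      (fun n => hNmap n n.2), fun _ => rfl⟩
  have hfs : Function.Surjective f := by
    rintro ⟨m, hm⟩
    have hm' := hm
    rw [hQ1, normalizer_map_conj] at hm'
    obtain ⟨n, hn, hnm⟩ := hm'
    refine ⟨⟨n, hn⟩, Subtype.ext ?_⟩
    rw [hf]
    exact hnm
  have hC : (Subgroup.centralizer (P0 : Set G)).subgroupOf (Subgroup.normalizer (P0 : Set G)) =
      ((Subgroup.centralizer (Q1 : Set G)).subgroupOf (Subgroup.normalizer (Q1 : Set G))).comap f := by
    ext n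
    rw [Subgroup.mem_comap, Subgroup.mem_subgroupOf, Subgroup.mem_subgroupOf, hf, hQ1,
      centralizer_map_conj, mem_map_conj_iff]
    have e : z⁻¹ * (z * (n : G) * z⁻¹) * z = n := by group
    rw [e]
  have hquad' : ⁅⁅Q1, Subgroup.zpowers (z * g * z⁻¹)⁆, Subgroup.zpowers (z * g * z⁻¹)⁆ = ⊥ := by
    have e1 : Subgroup.zpowers (z * g * z⁻¹) =
        (Subgroup.zpowers g).map (MulAut.conj z).toMonoidHom := by
      rw [MonoidHom.map_zpowers]; rfl
    rw [e1, hQ1, ← Subgroup.map_commutator, ← Subgroup.map_commutator, hquad, Subgroup.map_bot]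
  have h1 := mk_mem_pCore_of_fullyNormalized hst Q1 hfn0 (z * g * z⁻¹) (hNmap g hg) hquad'
  have h2 : (⟨z * g * z⁻¹, hNmap g hg⟩ : ↥(Subgroup.normalizer (Q1 : Set G))) = f ⟨g, hg⟩ :=
    Subtype.ext (hf ⟨g, hg⟩).symm
  rw [h2] at h1
  exact (Cfsg.Agent.Lib.Helper11.mem_pCore_quotient_iff_of_surjective (p := p) f hfs _ _ hC
    ⟨g, hg⟩).mpr h1

end Cfsg.Agent.Lib.Helper33
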