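import Cfsg.Agent.Lib.Helper76.Gag.Phi

set_option autoImplicit false
set_option linter.unusedSectionVars false
set_option linter.unusedVariables false

/-!
helper33, project GAG (S4561), module [EMB], general form: if `N` is a normal subgroup of
`W = K ≀ᵣ C_p` and the elements of `W` that are central modulo `N` are exactly those of `Z1set`,
then `(H / Z(H)) ≀ᵣ C_p` embeds in `(W / N) / Z(W / N)`, the embedding being induced by `mapLeft ι`.
-/

namespace Cfsg.Agent.Lib.Helper33.Gag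

open scoped commutatorElement IsMulCommutative
open Cfsg.Agent.Lib.Helper3.Wreath Cfsg.Agent.Lib.Helper76.Gag

universe u

variable (p : ℕ) [Fact p.Prime] {K : Type u} [Group K] (s : K →* Cp p) (c : Subgroup.center K)

/-- `mapLeft (mk' (center H))` is surjective -/
theorem mapLeft_mk_surjective {H : Type u} [Group H] (N : Subgroup H) [N.Normal] :
    Function.Surjective (mapLeft (QuotientGroup.mk' N) : H ≀ᵣ Cp p →* (H ⧸ N) ≀ᵣ Cp p) := by
  intro y
  refine ⟨⟨fun k => Quotient.out (y.left k), y.right⟩, ?_⟩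
  ext k
  · show QuotientGroup.mk' N (Quotient.out (y.left k)) = y.left k
    exact Quotient.out_eq' (y.left k)
  · rfl

/-- the kernel of `mapLeft (mk' N)` -/
theorem mapLeft_mk_eq_one_iff {H : Type u} [Group H] (N : Subgroup H) [N.Normal]
    (w : H ≀ᵣ Cp p) :
    (mapLeft (QuotientGroup.mk' N) : H ≀ᵣ Cp p →* (H ⧸ N) ≀ᵣ Cp p) w = 1 ↔
      w.right = 1 ∧ ∀ k, w.left k ∈ N := by
  constructor
  · intro hw
    have h1 := congrArg RegularWreathProduct.left hw
    have h2 := congrArg RegularWreathProduct.right hw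
    refine ⟨h2, fun k => ?_⟩
    have h3 := congrFun h1 k
    exact (QuotientGroup.eq_one_iff _).1 h3
  · rintro ⟨h1, h2⟩
    ext k
    · show QuotientGroup.mk' N (w.left k) = 1
      exact (QuotientGroup.eq_one_iff _).2 (h2 k)
    · exact h1

/-- `mapLeft ι w ∈ Z1set` iff `w` is in the base group with central coordinates -/
theorem mapLeft_mem_Z1set_iff (hs : s (c : K) = 1) {H : Type u} [Group H] (ι : H →* K)
    (hsι : ∀ x : H, s (ι x) = 1)
    (hcen : ∀ x : H, ι x ∈ Subgroup.center K ↔ x ∈ Subgroup.center H) (w : H ≀ᵣ Cp p) :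
    (mapLeft ι : H ≀ᵣ Cp p →* K ≀ᵣ Cp p) w ∈ Z1set p s c ↔
      w.right = 1 ∧ ∀ k, w.left k ∈ Subgroup.center H := by
  constructor
  · rintro ⟨f, hf1, hf2⟩
    have h1 := congrArg RegularWreathProduct.left hf2
    have h2 := congrArg RegularWreathProduct.right hf2
    refine ⟨h2.symm, fun k => ?_⟩
    have h3 : (f k : K) = ι (w.left k) := congrFun h1 k
    rw [← hcen, ← h3]
    exact (f k).2
  · rintro ⟨h1, h2⟩
    refine ⟨fun k => ⟨ι (w.left k), (hcen _).2 (h2 k)⟩, ?_, ?_⟩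
    · rw [s_PhiFun p s c hs]
      have : Ssum p s (fun k => (⟨ι (w.left k), (hcen _).2 (h2 k)⟩ : Subgroup.center K)) = 0 := by
        unfold Ssum
        apply Finset.sum_eq_zero
        intro k _
        rw [hsι]
        rfl
      rw [this]
      rfl
    · ext k
      · rfl
      · exact h1.symm

/-- [EMB], general form -/
theorem exists_embed_wreath_gen (hs : s (c : K) = 1) (N : Subgroup (K ≀ᵣ Cp p)) [N.Normal]
    (hquot : ∀ w : K ≀ᵣ Cp p,
      (QuotientGroup.mk w : (K ≀ᵣ Cp p) ⧸ N) ∈ Subgroup.center ((K ≀ᵣ Cp p) ⧸ N) ↔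
        w ∈ Z1set p s c)
    {H : Type u} [Group H] (ι : H →* K) (hsι : ∀ x : H, s (ι x) = 1)
    (hcen : ∀ x : H, ι x ∈ Subgroup.center K ↔ x ∈ Subgroup.center H) :
    ∃ f : (H ⧸ Subgroup.center H) ≀ᵣ Cp p →*
        ((K ≀ᵣ Cp p) ⧸ N) ⧸ Subgroup.center ((K ≀ᵣ Cp p) ⧸ N),
      Function.Injective f := by
  set π : H ≀ᵣ Cp p →* (H ⧸ Subgroup.center H) ≀ᵣ Cp p :=
    mapLeft (QuotientGroup.mk' (Subgroup.center H)) with hπ
  set g : H ≀ᵣ Cp p →* ((K ≀ᵣ Cp p) ⧸ N) ⧸ Subgroup.center ((K ≀ᵣ Cp p) ⧸ N) :=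
    (QuotientGroup.mk' (Subgroup.center ((K ≀ᵣ Cp p) ⧸ N))).comp
      ((QuotientGroup.mk' N).comp (mapLeft ι)) with hg
  have hπs : Function.Surjective π := mapLeft_mk_surjective p (Subgroup.center H)
  have hker : ∀ w : H ≀ᵣ Cp p, g w = 1 ↔ π w = 1 := by
    intro w
    rw [hπ, mapLeft_mk_eq_one_iff, ← mapLeft_mem_Z1set_iff p s c hs ι hsι hcen, ← hquot]
    rw [hg]
    show (QuotientGroup.mk' _) ((QuotientGroup.mk' N) (mapLeft ι w)) = 1 ↔ _
    rw [QuotientGroup.mk'_apply, QuotientGroup.eq_one_iff]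
    rfl
  have hle : π.ker ≤ g.ker := by
    intro w hw
    rw [MonoidHom.mem_ker] at hw ⊢
    exact (hker w).2 hw
  refine ⟨π.liftOfSurjective hπs ⟨g, hle⟩, ?_⟩
  rw [injective_iff_map_eq_one]
  intro y hy
  obtain ⟨x, rfl⟩ := hπs y
  have h1 : (π.liftOfSurjective hπs ⟨g, hle⟩) (π x) = g x :=
    MonoidHom.liftOfRightInverse_comp_apply _ _ _ _ _
  rw [h1] at hy
  exact (hker x).1 hy

end Cfsg.Agent.Lib.Helper33.Gag
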