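import Cfsg.Agent.Lib.Helper76.Gag.Defs2
import Cfsg.Agent.Lib.Helper78.GagQuot
import Cfsg.Agent.Lib.Helper33.GagEmbAux

set_option autoImplicit false

/-!
helper33, project GAG (S4561), module [EMB]: `(H / Z(H)) ≀ᵣ C_p ↪ H₁ / Z(H₁)`, exact skeleton
statement (from the general form in `GagEmbAux.lean` and helper78's `mk_mem_center_iff`).
-/

namespace Cfsg.Agent.Lib.Helper76.Gag

open scoped commutatorElement IsMulCommutative
open Cfsg.Agent.Lib.Helper3.Wreath

universe u

section level2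

variable (p : ℕ) [Fact p.Prime] {K : Type u} [Group K] (s : K →* Cp p) (c : Subgroup.center K)

/-- `(H / Z(H)) ≀ᵣ C_p ↪ H₁ / Z(H₁)`, induced by `mapLeft ι` -/
theorem exists_embed_wreath (h : StepHyp p s c) {H : Type u} [Group H] (ι : H →* K)
    (hι : EmbHyp p s ι) :
    ∃ f : (H ⧸ Subgroup.center H) ≀ᵣ Cp p →* H1 p s c h ⧸ Subgroup.center (H1 p s c h),
      Function.Injective f :=
  Cfsg.Agent.Lib.Helper33.Gag.exists_embed_wreath_gen p s c h.s_c (Rsub p s c h)
    (mk_mem_center_iff p s c h) ι hι.s_ι hι.center_iff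

end level2

end Cfsg.Agent.Lib.Helper76.Gag
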