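import Cfsg.Agent.Lib.Helper76.Gag.Defs

set_option autoImplicit false

/-!
helper33, project GAG (S4561), module [PRIMES], general form: the prime divisors of the order of any
quotient of `K ≀ᵣ C_p` divide `|K|` or equal `p`.
-/

namespace Cfsg.Agent.Lib.Helper33.Gag

open Cfsg.Agent.Lib.Helper76.Gag

universe u

theorem card_Cp (p : ℕ) [Fact p.Prime] : Nat.card (Cp p) = p := by
  rw [Nat.card_eq_fintype_card]
  show Fintype.card (Multiplicative (ZMod p)) = p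
  rw [Fintype.card_multiplicative, ZMod.card]

theorem dvd_card_quot_wreath (p : ℕ) [Fact p.Prime] {K : Type u} [Group K] [Finite K]
    (R : Subgroup (K ≀ᵣ Cp p)) {q : ℕ} (hq : q.Prime)
    (hd : q ∣ Nat.card ((K ≀ᵣ Cp p) ⧸ R)) : q ∣ Nat.card K ∨ q = p := by
  have h1 : Nat.card ((K ≀ᵣ Cp p) ⧸ R) ∣ Nat.card (K ≀ᵣ Cp p) :=
    Subgroup.card_quotient_dvd_card R
  have h2 : Nat.card (K ≀ᵣ Cp p) = Nat.card K ^ Nat.card (Cp p) * Nat.card (Cp p) :=
    RegularWreathProduct.card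
  rw [card_Cp] at h2
  have h4 : q ∣ Nat.card K ^ p * p := h2 ▸ hd.trans h1
  rcases (Nat.Prime.dvd_mul hq).1 h4 with h5 | h5
  · exact Or.inl (hq.dvd_of_dvd_pow h5)
  · exact Or.inr ((Nat.prime_dvd_prime_iff_eq hq (Fact.out : p.Prime)).1 h5)

end Cfsg.Agent.Lib.Helper33.Gag
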