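import Cfsg.Agent.Lib.Helper76.Gag.Defs2
import Cfsg.Agent.Lib.Helper33.GagPrimesAux

set_option autoImplicit false

/-!
helper33, project GAG (S4561), module [PRIMES]: the prime divisors of `|H₁|`, `H₁ = (K ≀ᵣ C_p) / R`,
divide `|K|` or equal `p`.
-/

namespace Cfsg.Agent.Lib.Helper76.Gag

open scoped commutatorElement IsMulCommutative
open Cfsg.Agent.Lib.Helper3.Wreath

universe u

section level2

variable (p : ℕ) [Fact p.Prime] {K : Type u} [Group K] (s : K →* Cp p) (c : Subgroup.center K)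

theorem dvd_card_H1 (h : StepHyp p s c) [Finite K] {q : ℕ} (hq : q.Prime)
    (hd : q ∣ Nat.card (H1 p s c h)) : q ∣ Nat.card K ∨ q = p :=
  Cfsg.Agent.Lib.Helper33.Gag.dvd_card_quot_wreath p (Rsub p s c h) hq hd

end level2

end Cfsg.Agent.Lib.Helper76.Gag
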