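import Mathlib
import Cfsg.Agent.Lib.Helper88.GlaubSubDefs3

/-!
# S5278 module [G-L1a] (helper33, for helper88)

The quotient `G / C_G(V)`: the image of `R` is a Sylow subgroup, the image of `N_G(T)` is the
unique maximal subgroup over it, and `O_p` is trivial.
-/

set_option autoImplicit false
set_option linter.unusedSectionVars false
set_option linter.unusedVariables false

universe u

namespace Cfsg.Agent.Lib.Helper33.GlaubSub

open Cfsg Cfsg.Agent.Lib.Helper47 Cfsg.Agent.Lib.Helper88.GlaubSub Cfsg.Agent.Lib.Helper88.StabWC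

variable {G : Type u} [Group G] [Finite G] {p : ℕ} [Fact p.Prime] {R : Sylow p G} {T : Subgroup G}
variable {Hh : Type u} [Group Hh] [MulDistribMulAction Hh ↥(om p T)] {f : G →* Hh}

theorem quotient_facts (h : MinimalHyp p R T) (hD : ActData p T f) :
    ∃ Rb : Sylow p Hh, (Rb : Subgroup Hh) = (R : Subgroup G).map f ∧
      IsCoatom ((Subgroup.normalizer (T : Set G)).map f) ∧
      (∀ K : Subgroup Hh, IsCoatom K → (R : Subgroup G).map f ≤ K →
        K = (Subgroup.normalizer (T : Set G)).map f) ∧
      pCore p Hh = ⊥ := by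
  have hsurj := hD.surj
  have hkerN : f.ker ≤ Subgroup.normalizer (T : Set G) := by
    rw [hD.ker]
    exact (cc_le_centralizer T).trans (Subgroup.centralizer_le_normalizer _)
  have hcm : (Subgroup.map f (Subgroup.normalizer (T : Set G))).comap f =
      Subgroup.normalizer (T : Set G) := Subgroup.comap_map_eq_self hkerN
  have hRN : (R : Subgroup G) ≤ Subgroup.normalizer (T : Set G) := sylow_le_normalizer h
  have hmapne : Subgroup.map f (Subgroup.normalizer (T : Set G)) ≠ ⊤ := by
    intro htop
    apply h.hnn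
    rw [← hcm, htop, Subgroup.comap_top]
  -- a proper subgroup of `Hh` over the image of `R` lies in the image of `N_G(T)`
  have hkey : ∀ K : Subgroup Hh, (R : Subgroup G).map f ≤ K → K ≠ ⊤ →
      K ≤ Subgroup.map f (Subgroup.normalizer (T : Set G)) := by
    intro K hRK hK
    have h1 : (R : Subgroup G) ≤ K.comap f := Subgroup.map_le_iff_le_comap.mp hRK
    have h2 : K.comap f ≠ ⊤ := by
      intro htop
      apply hK
      rw [← Subgroup.map_comap_eq_self_of_surjective hsurj K, htop,
        Subgroup.map_top_of_surjective f hsurj]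
    have h3 := h.hmax _ h1 h2
    rw [← Subgroup.map_comap_eq_self_of_surjective hsurj K]
    exact Subgroup.map_mono h3
  have hco : IsCoatom (Subgroup.map f (Subgroup.normalizer (T : Set G))) := by
    refine ⟨hmapne, ?_⟩
    intro K hlt
    by_contra hK
    have hRK : (R : Subgroup G).map f ≤ K := (Subgroup.map_mono hRN).trans hlt.le
    exact absurd (hkey K hRK hK) (not_le_of_gt hlt)
  refine ⟨R.mapSurjective hsurj, Sylow.coe_mapSurjective hsurj R, hco, ?_, ?_⟩
  · intro K hK hRK
    have hle := hkey K hRK hK.1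
    by_contra hne
    exact hmapne (hK.2 _ (lt_of_le_of_ne hle hne))
  · have hnorm : ((pCore p Hh).comap f).Normal := inferInstance
    have hCN : cc T ≤ (pCore p Hh).comap f := by
      rw [← hD.ker]
      exact Subgroup.ker_le_comap f _
    have hpN : ∀ x ∈ (pCore p Hh).comap f, ∃ k : ℕ, x ^ (p ^ k) ∈ cc T := by
      intro x hx
      have hx' : f x ∈ pCore p Hh := hx
      obtain ⟨k, hk⟩ := (Cfsg.Agent.Lib.Helper76.pCore_isPGroup (G := Hh) p) ⟨f x, hx'⟩
      refine ⟨k, ?_⟩
      rw [← hD.ker, MonoidHom.mem_ker, map_pow]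
      have := congrArg Subtype.val hk
      simpa using this
    have hle := op_trivial h ((pCore p Hh).comap f) hCN hpN
    rw [← hD.ker] at hle
    rw [eq_bot_iff, ← Subgroup.map_comap_eq_self_of_surjective hsurj (pCore p Hh)]
    intro y hy
    obtain ⟨x, hx, rfl⟩ := Subgroup.mem_map.mp hy
    exact MonoidHom.mem_ker.mp (hle hx)

end Cfsg.Agent.Lib.Helper33.GlaubSub
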