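import Mathlib
import Cfsg.Agent.Lib.Helper88.GlaubSubDefs3

/-!
# S5278 module [G-L1b] (helper33, for helper88)

In the quotient `G / C_G(V)`: `p`-elements of the image of `N_G(T)` fix `Ω₁(T)` pointwise, and the
pointwise stabilizer of `Ω₁(T)` lies in the image of `N_G(T)`.
-/

set_option autoImplicit false
set_option linter.unusedSectionVars false
set_option linter.unusedVariables false

universe u

namespace Cfsg.Agent.Lib.Helper33.GlaubSub

open Cfsg Cfsg.Agent.Lib.Helper47 Cfsg.Agent.Lib.Helper88.GlaubSub Cfsg.Agent.Lib.Helper88.StabWC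

variable {G : Type u} [Group G] [Finite G] {p : ℕ} [Fact p.Prime] {R : Sylow p G} {T : Subgroup G}
variable {Hh : Type u} [Group Hh] [MulDistribMulAction Hh ↥(om p T)] {f : G →* Hh}

theorem quotient_stab (hp : p ≠ 2) (h : MinimalHyp p R T) (hD : ActData p T f) :
    (∀ x ∈ (Subgroup.normalizer (T : Set G)).map f, (∃ k : ℕ, x ^ (p ^ k) = 1) →
      ∀ t ∈ T.subgroupOf (om p T), x • t = t) ∧
    (∀ x : Hh, (∀ t ∈ T.subgroupOf (om p T), x • t = t) →
      x ∈ (Subgroup.normalizer (T : Set G)).map f) := by
  constructor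
  · intro x hx hk t ht
    obtain ⟨m, hm, rfl⟩ := Subgroup.mem_map.mp hx
    obtain ⟨k, hk⟩ := hk
    have hmk : m ^ (p ^ k) ∈ Subgroup.centralizer (T : Set G) := by
      apply cc_le_centralizer T
      rw [← hD.ker, MonoidHom.mem_ker, map_pow]
      exact hk
    have hmC : m ∈ Subgroup.centralizer (T : Set G) := pelt h m hm ⟨k, hmk⟩
    apply Subtype.ext
    rw [hD.act]
    have htT : (t : G) ∈ T := Subgroup.mem_subgroupOf.mp ht
    have hcomm : (t : G) * m = m * (t : G) := Subgroup.mem_centralizer_iff.mp hmC (t : G) htT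
    rw [← hcomm, mul_inv_cancel_right]
  · intro x hx
    obtain ⟨g, rfl⟩ := hD.surj x
    apply Subgroup.mem_map_of_mem
    -- `g` centralizes `T ⊓ Ω₁(V)`
    have hgY : g ∈ Subgroup.centralizer ((T ⊓ om p T : Subgroup G) : Set G) := by
      rw [Subgroup.mem_centralizer_iff]
      intro z hz
      have hz' : z ∈ T ⊓ om p T := hz
      have h1 := hx ⟨z, hz'.2⟩ (Subgroup.mem_subgroupOf.mpr hz'.1)
      have h2 := congrArg Subtype.val h1
      rw [hD.act] at h2
      have h3 : g * z * g⁻¹ = z := h2
      exact (mul_inv_eq_iff_eq_mul.mp h3).symm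
    have hRY : (R : Subgroup G) ≤ Subgroup.centralizer ((T ⊓ om p T : Subgroup G) : Set G) :=
      (sylow_le_centralizer h).trans (Subgroup.centralizer_le (by
        intro z hz
        exact (show z ∈ T ⊓ om p T from hz).1))
    have hYne : Subgroup.centralizer ((T ⊓ om p T : Subgroup G) : Set G) ≠ ⊤ := by
      intro htop
      apply omega_not_central hp h
      intro z hz
      rw [Subgroup.mem_center_iff]
      intro g'
      have hg' : g' ∈ Subgroup.centralizer ((T ⊓ om p T : Subgroup G) : Set G) := by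
        rw [htop]; trivial
      exact (Subgroup.mem_centralizer_iff.mp hg' z hz).symm
    exact h.hmax _ hRY hYne hgY

end Cfsg.Agent.Lib.Helper33.GlaubSub
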