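import Mathlib
import Cfsg.Prelude.Def_FusionSystem
import Cfsg.Agent.Lib.Helper85.FusionGroup

/-!
# Normal subgroups of the group fusion system `F_P(G)` in group terms (helper33)

* `exists_mem_normalizer_of_isNormal`: if `Q` is normal in `F_P(G)` then every conjugation map between
  subgroups of `P` is induced by an element of `N_G(Q)`.
* `weaklyClosed_center_of_isNormal`: `Z(Q) = Q ∩ C_G(Q)` is then weakly closed in `F_P(G)`.
-/

set_option autoImplicit false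
set_option linter.unusedSectionVars false
open Cfsg Cfsg.FusionSystem

namespace Cfsg.Agent.Lib.Helper33

open Cfsg.Agent.Lib.Helper85

variable {G : Type*} [Group G]

theorem exists_mem_normalizer_of_isNormal {P Q : Subgroup G}
    (hQ : (groupFusionSystem P).IsNormal Q) (R : Subgroup G) (hR : R ≤ P) (g : G)
    (hg : ∀ x ∈ R, g * x * g⁻¹ ∈ P) :
    ∃ g' ∈ Subgroup.normalizer (Q : Set G), ∀ x ∈ R, g' * x * g'⁻¹ = g * x * g⁻¹ := by
  have hφ : conjHom R g ∈ (groupFusionSystem P).Hom R :=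
    ⟨hR, fun x => hg x x.2, g, fun _ => rfl⟩
  obtain ⟨ψ, hψ, hψ1, hψ2⟩ := hQ.2 R (conjHom R g) hφ
  obtain ⟨-, -, g', hg'⟩ := hψ
  have hQle : Q ≤ R ⊔ Q := le_sup_right
  have hfwd : ∀ q ∈ Q, g' * q * g'⁻¹ ∈ Q := by
    intro q hq
    rw [← hψ2]
    refine ⟨⟨q, hQle hq⟩, ?_, ?_⟩
    · exact Subgroup.mem_subgroupOf.mpr hq
    · exact hg' _
  refine ⟨g', ?_, ?_⟩
  · rw [Subgroup.mem_normalizer_iff]
    intro q
    refine ⟨hfwd q, fun h => ?_⟩
    rw [← hψ2] at h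
    obtain ⟨q', hq', hq'e⟩ := h
    rw [SetLike.mem_coe, Subgroup.mem_subgroupOf] at hq'
    have h1 : g' * (q' : G) * g'⁻¹ = g' * q * g'⁻¹ := by rw [← hg' q']; exact hq'e
    have h2 : (q' : G) = q := mul_left_cancel (mul_right_cancel h1)
    rw [← h2]
    exact hq'
  · intro x hx
    have h1 := hψ1 ⟨x, hx⟩
    rw [hg'] at h1
    exact h1

theorem weaklyClosed_center_of_isNormal {P Q : Subgroup G}
    (hQ : (groupFusionSystem P).IsNormal Q) :
    (groupFusionSystem P).WeaklyClosed (Q ⊓ Subgroup.centralizer (Q : Set G)) := by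
  have hZP : Q ⊓ Subgroup.centralizer (Q : Set G) ≤ P := inf_le_left.trans hQ.1
  refine ⟨hZP, fun φ hφ => ?_⟩
  obtain ⟨-, hφP, g, hg⟩ := hφ
  obtain ⟨g', hg'N, hg'⟩ := exists_mem_normalizer_of_isNormal hQ _ hZP g
    (fun x hx => by rw [← hg ⟨x, hx⟩]; exact hφP _)
  have hconj : ∀ n ∈ Subgroup.normalizer (Q : Set G),
      ∀ z ∈ Q ⊓ Subgroup.centralizer (Q : Set G),
        n * z * n⁻¹ ∈ Q ⊓ Subgroup.centralizer (Q : Set G) := by
    intro n hn z hz
    refine Subgroup.mem_inf.mpr ⟨(Subgroup.mem_normalizer_iff.mp hn z).mp hz.1, ?_⟩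
    rw [Subgroup.mem_centralizer_iff]
    intro q hq
    have hq' : n⁻¹ * q * n ∈ Q := by
      have := (Subgroup.mem_normalizer_iff.mp (Subgroup.inv_mem _ hn) q).mp hq
      rwa [inv_inv] at this
    have hc := (Subgroup.mem_centralizer_iff.mp hz.2) _ hq'
    -- hc : n⁻¹ * q * n * z = z * (n⁻¹ * q * n)
    calc q * (n * z * n⁻¹) = n * ((n⁻¹ * q * n) * z) * n⁻¹ := by group
      _ = n * (z * (n⁻¹ * q * n)) * n⁻¹ := by rw [hc]
      _ = n * z * n⁻¹ * q := by group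
  apply le_antisymm
  · rintro _ ⟨z, rfl⟩
    rw [hg, ← hg' z z.2]
    exact hconj g' hg'N z z.2
  · intro z hz
    have h1 := hconj g'⁻¹ (Subgroup.inv_mem _ hg'N) z hz
    rw [inv_inv] at h1
    refine ⟨⟨g'⁻¹ * z * g', h1⟩, ?_⟩
    rw [hg, ← hg' _ h1]
    group

end Cfsg.Agent.Lib.Helper33
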