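import Cfsg.Agent.Lib.Helper33.KInfFiltration

/-!
# Cubic action on a critical subgroup gives `[U, B; 4] ≤ V` on chief factors (helper33 library)
-/

set_option autoImplicit false

namespace Cfsg.Agent.Lib.Helper33

open Cfsg

open scoped commutatorElement

variable {X : Type*} [Group X]

instance iterCommutator_normal (N G : Subgroup X) [hN : N.Normal] [hG : G.Normal] (n : ℕ) :
    (iterCommutator N G n).Normal := by
  induction n with
  | zero => exact hN
  | succ n ih =>
    show (⁅iterCommutator N G n, G⁆).Normal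
    infer_instance

theorem le_normalizer_of_normal' (H B : Subgroup X) [hH : H.Normal] : B ≤ Subgroup.normalizer (H : Set X) := by
  rw [Subgroup.normalizer_eq_top_iff.mpr hH]; exact le_top

theorem eq_sup_of_isChiefFactor {U V F : Subgroup X} (h : IsChiefFactor U V) [hF : F.Normal]
    (hne : ¬ U ⊓ F ≤ V) : U = V ⊔ (U ⊓ F) := by
  obtain ⟨hlt, hUn, hVn, hmin⟩ := h
  have hn : (V ⊔ (U ⊓ F)).Normal := inferInstance
  rcases hmin _ hn le_sup_left (sup_le hlt.le inf_le_left) with h1 | h1
  · exact absurd (le_sup_right.trans h1.le) hne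
  · exact h1.symm

/-- the filtration of `Q` by the way it acts on the lower central filtration of `Z` -/
def actFilt (Q Z : Subgroup X) [Q.Normal] [Z.Normal] (j : ℕ) : Subgroup X :=
  Q ⊓ ⨅ i : ℕ, centMod (iterCommutator Z Q (i + j)) (iterCommutator Z Q i)

instance actFilt_normal (Q Z : Subgroup X) [Q.Normal] [Z.Normal] (j : ℕ) : (actFilt Q Z j).Normal := by
  unfold actFilt
  have : (⨅ i : ℕ, centMod (iterCommutator Z Q (i + j)) (iterCommutator Z Q i)).Normal :=
    Subgroup.normal_iInf_normal (fun i => inferInstance)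
  infer_instance

theorem mem_actFilt {Q Z : Subgroup X} [Q.Normal] [Z.Normal] {j : ℕ} {x : X} :
    x ∈ actFilt Q Z j ↔ x ∈ Q ∧ ∀ i : ℕ, ∀ z ∈ iterCommutator Z Q i, ⁅x, z⁆ ∈ iterCommutator Z Q (i + j) := by
  unfold actFilt
  rw [Subgroup.mem_inf, Subgroup.mem_iInf]
  simp only [mem_centMod]

theorem chief_engel4 [Finite X] (Q A B : Subgroup X) [hQn : Q.Normal] [hAn : A.Normal] [Group.IsNilpotent ↥Q]
    (hAQ : A ≤ Q) (hQA : ⁅Q, A⁆ ≤ A ⊓ Subgroup.centralizer (A : Set X))
    (hcent : Q ⊓ Subgroup.centralizer (A : Set X) ≤ A)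
    (h3 : ⁅⁅⁅A, B⁆, B⁆, B⁆ = ⊥) (h2 : ⁅⁅A ⊓ Subgroup.centralizer (A : Set X), B⁆, B⁆ = ⊥) :
    ∀ U V : Subgroup X, IsChiefFactor U V → U ≤ Q → iterCommutator U B 4 ≤ V := by
  set Z : Subgroup X := A ⊓ Subgroup.centralizer (A : Set X) with hZ
  have hZn : Z.Normal := inferInstance
  set C : Subgroup X := Q ⊓ Subgroup.centralizer (Z : Set X) with hC
  have hCn : C.Normal := inferInstance
  have hZZ : ⁅Z, Z⁆ = ⊥ := by
    rw [Subgroup.commutator_eq_bot_iff_le_centralizer]
    exact inf_le_right.trans (Subgroup.centralizer_le (fun x hx => hx.1))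
  have hZB2 : iterCommutator Z B 2 = ⊥ := h2
  -- (C2)
  have hC4 : iterCommutator C B 4 ≤ Z := by
    have hbot : (⊥ : Subgroup X).Normal := inferInstance
    have h := pairing_engel (⊥ : Subgroup X) Z C A B (le_normalizer_of_normal' _ _) (le_normalizer_of_normal' _ _)
      (le_normalizer_of_normal' _ _)
      ((Subgroup.commutator_mono inf_le_left le_rfl).trans hQA)
      (by
        rw [Subgroup.commutator_comm, le_bot_iff, Subgroup.commutator_eq_bot_iff_le_centralizer]
        exact inf_le_right)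
      (by
        rw [le_bot_iff, Subgroup.commutator_eq_bot_iff_le_centralizer]
        exact inf_le_right)
      3 2 (by norm_num) h3 (by rw [hZB2])
    have h4 : iterCommutator C B 4 ≤ Subgroup.centralizer (A : Set X) :=
      Subgroup.commutator_eq_bot_iff_le_centralizer.mp (le_bot_iff.mp h)
    have h5 : iterCommutator C B 4 ≤ Q := (iter_le_of_normal 4).trans inf_le_left
    exact le_inf ((le_inf h5 h4).trans hcent) h4
  -- (C3)
  have hZi_le : ∀ i, iterCommutator Z Q i ≤ Z := fun i => iter_le_of_normal i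
  have hZiB : ∀ i, iterCommutator (iterCommutator Z Q i) B 2 = ⊥ := by
    intro i
    rw [eq_bot_iff, ← hZB2]
    exact iter_mono (hZi_le i) le_rfl 2
  have hstep : ∀ j, iterCommutator (actFilt Q Z j) B 3 ≤ actFilt Q Z (j + 1) := by
    intro j
    have hle : iterCommutator (actFilt Q Z j) B 3 ≤ actFilt Q Z j := iter_le_of_normal 3
    intro x hx
    rw [mem_actFilt]
    refine ⟨(mem_actFilt.mp (hle hx)).1, ?_⟩
    intro i z hz
    have h := pairing_engel (iterCommutator Z Q (i + j + 1)) (iterCommutator Z Q (i + j)) (actFilt Q Z j)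
      (iterCommutator Z Q i) B (le_normalizer_of_normal' _ _) (le_normalizer_of_normal' _ _)
      (le_normalizer_of_normal' _ _)
      (by
        rw [Subgroup.commutator_le]
        intro y hy z' hz'
        exact (mem_actFilt.mp hy).2 i z' hz')
      (by
        show _ ≤ ⁅iterCommutator Z Q (i + j), Q⁆
        exact Subgroup.commutator_mono le_rfl (fun y hy => (mem_actFilt.mp hy).1))
      (by
        refine le_trans ?_ bot_le
        rw [← hZZ]
        exact Subgroup.commutator_mono (hZi_le _) (hZi_le _))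
      2 2 (by norm_num) (hZiB i) (by rw [hZiB]; exact bot_le)
    have := h (Subgroup.commutator_mem_commutator hx hz)
    rwa [show i + (j + 1) = i + j + 1 by ring]
  have hQ1 : Q ≤ actFilt Q Z 1 := by
    intro x hx
    rw [mem_actFilt]
    refine ⟨hx, ?_⟩
    intro i z hz
    show ⁅x, z⁆ ∈ ⁅iterCommutator Z Q i, Q⁆
    have h1 : ⁅z, x⁆ ∈ ⁅iterCommutator Z Q i, Q⁆ := Subgroup.commutator_mem_commutator hz hx
    have h2 : ⁅x, z⁆ = ⁅z, x⁆⁻¹ := (commutatorElement_inv z x).symm
    rw [h2]
    exact Subgroup.inv_mem _ h1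
  obtain ⟨m, hm⟩ := exists_iterCommutator_eq_bot (N := Z) (Q := Q) (inf_le_left.trans hAQ)
  have hQm : actFilt Q Z m ≤ C := by
    intro x hx
    obtain ⟨hxQ, hx2⟩ := mem_actFilt.mp hx
    refine Subgroup.mem_inf.mpr ⟨hxQ, ?_⟩
    rw [Subgroup.mem_centralizer_iff]
    intro z hz
    have h1 := hx2 0 z hz
    rw [zero_add, hm, Subgroup.mem_bot, commutatorElement_eq_one_iff_mul_comm] at h1
    exact h1.symm
  -- the chief factors
  intro U V hUV hUQ
  have hUn : U.Normal := hUV.2.1
  have hVn : V.Normal := hUV.2.2.1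
  have hVB : ∀ n, iterCommutator V B n ≤ V := fun n => iter_le_of_normal n
  -- reduction: `[U, B; n] ≤ V` implies `[U, B; 4] ≤ V` for `n ≤ 4`
  have hred : ∀ n, n ≤ 4 → iterCommutator U B n ≤ V → iterCommutator U B 4 ≤ V := by
    intro n hn h
    have e : 4 = n + (4 - n) := by omega
    rw [e, iter_add]
    exact (iter_mono h le_rfl (4 - n)).trans (hVB (4 - n))
  by_cases hcase1 : U ⊓ Z ≤ V
  swap
  · -- `U = V (U ∩ Z)`: quadratic action
    have hU := eq_sup_of_isChiefFactor hUV hcase1
    apply hred 2 (by norm_num)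
    rw [hU]
    refine (iter_sup_le _ V B 2).trans (sup_le le_rfl ?_)
    refine le_trans ?_ (bot_le : (⊥ : Subgroup X) ≤ V)
    rw [← hZB2]
    exact iter_mono inf_le_right le_rfl 2
  by_contra hcon
  have hind : ∀ j, ¬ U ⊓ actFilt Q Z (j + 1) ≤ V := by
    intro j
    induction j with
    | zero =>
      intro h
      have : U ≤ V := (le_inf le_rfl (hUQ.trans hQ1)).trans h
      exact absurd this (not_le_of_gt hUV.1)
    | succ j ih =>
      intro h
      apply hcon
      apply hred 3 (by norm_num)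
      have hU := eq_sup_of_isChiefFactor hUV ih
      rw [hU]
      refine (iter_sup_le _ V B 3).trans (sup_le le_rfl ?_)
      refine le_trans (le_inf ?_ ?_) h
      · exact (iter_mono inf_le_left le_rfl 3).trans (iter_le_of_normal 3)
      · exact (iter_mono inf_le_right le_rfl 3).trans (hstep (j + 1))
  have hUC : ¬ U ⊓ C ≤ V := by
    intro h
    apply hind m
    refine le_trans (inf_le_inf_left U ?_) h
    -- `actFilt (m+1) ≤ actFilt m`-free argument: use `Z^(m+1) = ⊥` as well
    intro x hx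
    obtain ⟨hxQ, hx2⟩ := mem_actFilt.mp hx
    refine Subgroup.mem_inf.mpr ⟨hxQ, ?_⟩
    rw [Subgroup.mem_centralizer_iff]
    intro z hz
    have h1 := hx2 0 z hz
    have hm1 : iterCommutator Z Q (0 + (m + 1)) = ⊥ := by
      rw [zero_add]
      show ⁅iterCommutator Z Q m, Q⁆ = ⊥
      rw [hm]
      simp
    rw [hm1, Subgroup.mem_bot, commutatorElement_eq_one_iff_mul_comm] at h1
    exact h1.symm
  apply hcon
  have hU := eq_sup_of_isChiefFactor hUV hUC
  rw [hU]
  refine (iter_sup_le _ V B 4).trans (sup_le le_rfl ?_)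
  refine le_trans (le_inf ?_ ?_) hcase1
  · exact (iter_mono inf_le_left le_rfl 4).trans (iter_le_of_normal 4)
  · exact (iter_mono inf_le_right le_rfl 4).trans hC4

end Cfsg.Agent.Lib.Helper33
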