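import Cfsg.Agent.Lib.Helper33.Critical
import Cfsg.Agent.Lib.Helper33.Conj
import Cfsg.Agent.Lib.Helper33.ChiefAction

/-!
# Nilpotent action on pairings (helper33 library)

`pairing_engel`: if `B` acts on `W` with `[W, B; a] = 1`, on `Y` with `[Y, B; b] ≤ N`, and `[M, W] ≤ Y` with `M`, `W`
centralizing `Y` modulo the normal subgroup `N`, then `[[M, B; a + b - 1], W] ≤ N` (iterated three subgroups lemma).
-/

set_option autoImplicit false

namespace Cfsg.Agent.Lib.Helper33

open Cfsg

variable {Γ : Type*} [Group Γ]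

theorem le_normalizer_commutator_right {H B : Subgroup Γ} (h : B ≤ Subgroup.normalizer (H : Set Γ)) :
    B ≤ Subgroup.normalizer ((⁅H, B⁆ : Subgroup Γ) : Set Γ) := by
  intro b hb
  rw [mem_normalizer_iff_cj_eq, cj_commutator, cj_eq_self_of_mem_normalizer (h hb), cj_eq_self_of_mem hb]

theorem le_normalizer_sup {H K B : Subgroup Γ} (h1 : B ≤ Subgroup.normalizer (H : Set Γ))
    (h2 : B ≤ Subgroup.normalizer (K : Set Γ)) : B ≤ Subgroup.normalizer ((H ⊔ K : Subgroup Γ) : Set Γ) := by
  intro b hb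
  rw [mem_normalizer_iff_cj_eq, cj_sup, cj_eq_self_of_mem_normalizer (h1 hb), cj_eq_self_of_mem_normalizer (h2 hb)]

theorem iter_props {H B : Subgroup Γ} (h : B ≤ Subgroup.normalizer (H : Set Γ)) (n : ℕ) :
    iterCommutator H B n ≤ H ∧ B ≤ Subgroup.normalizer ((iterCommutator H B n : Subgroup Γ) : Set Γ) := by
  induction n with
  | zero => exact ⟨le_rfl, h⟩
  | succ n ih =>
    refine ⟨?_, le_normalizer_commutator_right ih.2⟩
    exact (Subgroup.le_normalizer_iff_commutator_le_left.mp ih.2).trans ih.1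

theorem iter_succ_le {H B : Subgroup Γ} (h : B ≤ Subgroup.normalizer (H : Set Γ)) (n : ℕ) :
    iterCommutator H B (n + 1) ≤ iterCommutator H B n :=
  Subgroup.le_normalizer_iff_commutator_le_left.mp (iter_props h n).2

theorem iter_antitone {H B : Subgroup Γ} (h : B ≤ Subgroup.normalizer (H : Set Γ)) {m n : ℕ} (hmn : m ≤ n) :
    iterCommutator H B n ≤ iterCommutator H B m := by
  induction hmn with
  | refl => exact le_rfl
  | step _ ih => exact (iter_succ_le h _).trans ih

theorem iter_mono {H H' B B' : Subgroup Γ} (hH : H ≤ H') (hB : B ≤ B') (n : ℕ) :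
    iterCommutator H B n ≤ iterCommutator H' B' n := by
  induction n with
  | zero => exact hH
  | succ n ih => exact Subgroup.commutator_mono ih hB

theorem iter_add (H B : Subgroup Γ) (m n : ℕ) :
    iterCommutator H B (m + n) = iterCommutator (iterCommutator H B m) B n := by
  induction n with
  | zero => rfl
  | succ n ih =>
    show ⁅iterCommutator H B (m + n), B⁆ = ⁅iterCommutator (iterCommutator H B m) B n, B⁆
    rw [ih]

theorem iter_le_of_normal {V B : Subgroup Γ} [V.Normal] (n : ℕ) : iterCommutator V B n ≤ V :=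
  iterCommutator_le_of_normal n

/-- the three subgroups lemma modulo a subgroup normalized by the three subgroups -/
theorem three_subgroups_mod {N H₁ H₂ H₃ : Subgroup Γ} (h1 : H₁ ≤ Subgroup.normalizer (N : Set Γ))
    (h2 : H₂ ≤ Subgroup.normalizer (N : Set Γ)) (h3 : H₃ ≤ Subgroup.normalizer (N : Set Γ))
    (ha : ⁅⁅H₂, H₃⁆, H₁⁆ ≤ N) (hb : ⁅⁅H₃, H₁⁆, H₂⁆ ≤ N) : ⁅⁅H₁, H₂⁆, H₃⁆ ≤ N := by
  set K : Subgroup Γ := Subgroup.normalizer (N : Set Γ) with hK
  have hNn : (N.subgroupOf K).Normal := Subgroup.normal_in_normalizer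
  set π := QuotientGroup.mk' (N.subgroupOf K) with hπ
  have hmap : ∀ H : Subgroup Γ, H ≤ K → (H.subgroupOf K).map K.subtype = H :=
    fun H hH => Subgroup.map_subgroupOf_eq_of_le hH
  have hle : ∀ L : Subgroup ↥K, L ≤ N.subgroupOf K ↔ L.map K.subtype ≤ N := by
    intro L
    rw [Subgroup.map_le_iff_le_comap]
    rfl
  have key : ∀ A B C : Subgroup Γ, A ≤ K → B ≤ K → C ≤ K →
      (⁅⁅A.subgroupOf K, B.subgroupOf K⁆, C.subgroupOf K⁆).map K.subtype = ⁅⁅A, B⁆, C⁆ := by
    intro A B C hA hB hC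
    rw [Subgroup.map_commutator, Subgroup.map_commutator, hmap A hA, hmap B hB, hmap C hC]
  have tobot : ∀ A B C : Subgroup Γ, A ≤ K → B ≤ K → C ≤ K → ⁅⁅A, B⁆, C⁆ ≤ N →
      ⁅⁅(A.subgroupOf K).map π, (B.subgroupOf K).map π⁆, (C.subgroupOf K).map π⁆ = ⊥ := by
    intro A B C hA hB hC hABC
    rw [← Subgroup.map_commutator, ← Subgroup.map_commutator, Subgroup.map_eq_bot_iff, hπ, QuotientGroup.ker_mk',
      hle, key A B C hA hB hC]
    exact hABC
  have e1 := tobot H₂ H₃ H₁ h2 h3 h1 ha
  have e2 := tobot H₃ H₁ H₂ h3 h1 h2 hb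
  have e3 := Subgroup.commutator_commutator_eq_bot_of_rotate e1 e2
  rw [← Subgroup.map_commutator, ← Subgroup.map_commutator, Subgroup.map_eq_bot_iff, hπ, QuotientGroup.ker_mk',
    hle, key H₁ H₂ H₃ h1 h2 h3] at e3
  exact e3

theorem commutator_sup_le (H N B : Subgroup Γ) [N.Normal] : ⁅H ⊔ N, B⁆ ≤ ⁅H, B⁆ ⊔ N := by
  have h1 : ⁅H ⊔ N, B⁆ ≤ ((⁅H ⊔ N, B⁆).map (QuotientGroup.mk' N)).comap (QuotientGroup.mk' N) :=
    Subgroup.le_comap_map _ _
  refine h1.trans ?_
  rw [Subgroup.map_commutator, Subgroup.map_sup, QuotientGroup.map_mk'_self, sup_bot_eq, ← Subgroup.map_commutator,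
    Subgroup.comap_map_eq, QuotientGroup.ker_mk']

theorem iter_sup_le (H V B : Subgroup Γ) [V.Normal] (n : ℕ) :
    iterCommutator (V ⊔ H) B n ≤ V ⊔ iterCommutator H B n := by
  have h1 : iterCommutator (V ⊔ H) B n ≤
      ((iterCommutator (V ⊔ H) B n).map (QuotientGroup.mk' V)).comap (QuotientGroup.mk' V) :=
    Subgroup.le_comap_map _ _
  refine h1.trans ?_
  rw [map_iterCommutator, Subgroup.map_sup, QuotientGroup.map_mk'_self, bot_sup_eq, ← map_iterCommutator,
    Subgroup.comap_map_eq, QuotientGroup.ker_mk', sup_comm]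

/-- iterated three subgroups lemma for a pairing `M × W → Y` -/
theorem pairing_engel (N Y M W B : Subgroup Γ) [hN : N.Normal]
    (hBY : B ≤ Subgroup.normalizer (Y : Set Γ)) (hBM : B ≤ Subgroup.normalizer (M : Set Γ))
    (hBW : B ≤ Subgroup.normalizer (W : Set Γ))
    (hMW : ⁅M, W⁆ ≤ Y) (hYM : ⁅Y, M⁆ ≤ N) (hYW : ⁅Y, W⁆ ≤ N) (a b : ℕ) (ha1 : 1 ≤ a)
    (ha : iterCommutator W B a = ⊥) (hb : iterCommutator Y B b ≤ N) :
    ⁅iterCommutator M B (a + b - 1), W⁆ ≤ N := by
  have hNtop : Subgroup.normalizer (N : Set Γ) = ⊤ := Subgroup.normalizer_eq_top_iff.mpr hN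
  -- the filtration of `Y`
  set y : ℕ → Subgroup Γ := fun t => iterCommutator Y B t ⊔ N with hy
  have hyY : ∀ t, y t ≤ Y ⊔ N := fun t => sup_le_sup_right (iter_props hBY t).1 N
  have hyB : ∀ t, B ≤ Subgroup.normalizer ((y t : Subgroup Γ) : Set Γ) := by
    intro t
    exact le_normalizer_sup (iter_props hBY t).2 (by rw [hNtop]; exact le_top)
  have hystep : ∀ t, ⁅y t, B⁆ ≤ y (t + 1) := fun t => commutator_sup_le _ N B
  -- anything inside `M` (resp. `W`) centralizes `Y ⊔ N` modulo `N`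
  have hcent : ∀ L : Subgroup Γ, ⁅Y, L⁆ ≤ N → ∀ t, L ≤ Subgroup.normalizer ((y t : Subgroup Γ) : Set Γ) := by
    intro L hL t
    rw [Subgroup.le_normalizer_iff_commutator_le_left]
    refine le_trans ?_ (le_sup_right : N ≤ y t)
    have h1 : Y ⊔ N ≤ centMod N L := by
      apply sup_le
      · intro x hx
        rw [mem_centMod]
        intro l hl
        exact hL (Subgroup.commutator_mem_commutator hx hl)
      · intro x hx
        rw [mem_centMod]
        intro l _
        rw [commutatorElement_def]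
        have h2 : l * x⁻¹ * l⁻¹ ∈ N := hN.conj_mem _ (N.inv_mem hx) l
        have : x * l * x⁻¹ * l⁻¹ = x * (l * x⁻¹ * l⁻¹) := by group
        rw [this]
        exact N.mul_mem hx h2
    rw [Subgroup.commutator_le]
    intro x hx l hl
    exact mem_centMod.mp (h1 (hyY t hx)) l hl
  have hmM : ∀ n, iterCommutator M B n ≤ M := fun n => (iter_props hBM n).1
  have hwW : ∀ k, iterCommutator W B k ≤ W := fun k => (iter_props hBW k).1
  have hYm : ∀ n, ⁅Y, iterCommutator M B n⁆ ≤ N := fun n => (Subgroup.commutator_mono le_rfl (hmM n)).trans hYM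
  have hYw : ∀ k, ⁅Y, iterCommutator W B k⁆ ≤ N := fun k => (Subgroup.commutator_mono le_rfl (hwW k)).trans hYW
  have main : ∀ n k t : ℕ, k ≤ a → n + k = t + (a - 1) →
      ⁅iterCommutator M B n, iterCommutator W B k⁆ ≤ y t := by
    intro n
    induction n with
    | zero =>
      intro k t hk hnk
      rcases Nat.eq_zero_or_pos t with ht | ht
      · subst ht
        exact ((Subgroup.commutator_mono (hmM 0) (hwW k)).trans hMW).trans le_sup_left
      · have hka : k = a := by omega
        rw [hka, ha]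
        simp
    | succ n ih =>
      intro k t hk hnk
      rcases Nat.eq_zero_or_pos t with ht | ht
      · subst ht
        exact ((Subgroup.commutator_mono (hmM (n + 1)) (hwW k)).trans hMW).trans le_sup_left
      rcases Nat.lt_or_ge k a with hka | hka
      swap
      · have hka' : k = a := le_antisymm hk hka
        rw [hka', ha]
        simp
      obtain ⟨t', rfl⟩ : ∃ t', t = t' + 1 := ⟨t - 1, by omega⟩
      show ⁅⁅iterCommutator M B n, B⁆, iterCommutator W B k⁆ ≤ y (t' + 1)
      apply three_subgroups_mod (hcent _ (hYm n) _) (hyB _) (hcent _ (hYw k) _)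
      · -- `[[B, w k], m n]`
        rw [Subgroup.commutator_comm B, Subgroup.commutator_comm]
        exact ih (k + 1) (t' + 1) (by omega) (by omega)
      · -- `[[w k, m n], B]`
        rw [Subgroup.commutator_comm (iterCommutator W B k)]
        exact (Subgroup.commutator_mono (ih k t' hk (by omega)) le_rfl).trans (hystep t')
  have h := main (a + b - 1) 0 b (Nat.zero_le _) (by omega)
  exact h.trans (sup_le hb le_rfl)

end Cfsg.Agent.Lib.Helper33
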