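import Cfsg.Agent.Lib.Helper33.KInfTransport
import Cfsg.Agent.S1978

/-!
# The K-infinity subgroups are isomorphism-invariant `p`-group functors (helper33 library)
-/

set_option autoImplicit false

namespace Cfsg.Agent.Lib.Helper33

universe u

theorem rel_top {P : Type*} [Group P] (n : ℕ) :
    relOdd (⊤ : Subgroup P) n = Cfsg.kSeqOdd P n ∧ relEven (⊤ : Subgroup P) n = Cfsg.kSeqEven P n := by
  induction n with
  | zero =>
    have h0 : relOdd (⊤ : Subgroup P) 0 = Cfsg.kSeqOdd P 0 := rfl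
    refine ⟨h0, ?_⟩
    unfold relEven Cfsg.kSeqEven
    rw [h0]
    congr 1
    ext B
    simp
  | succ n ih =>
    have h1 : relOdd (⊤ : Subgroup P) (n + 1) = Cfsg.kSeqOdd P (n + 1) := by
      rw [relOdd_succ, ih.2]
      have : Cfsg.kSeqOdd P (n + 1) = sSup (Cfsg.kUpperStarFamily (Cfsg.kSeqEven P n)) := rfl
      rw [this]
      congr 1
      ext B
      simp
    refine ⟨h1, ?_⟩
    unfold relEven Cfsg.kSeqEven
    rw [h1]
    congr 1
    ext B
    simp

theorem kSeq_map_equiv {Q R : Type*} [Group Q] [Group R] (φ : Q ≃* R) (n : ℕ) :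
    (Cfsg.kSeqOdd Q n).map φ.toMonoidHom = Cfsg.kSeqOdd R n ∧
      (Cfsg.kSeqEven Q n).map φ.toMonoidHom = Cfsg.kSeqEven R n := by
  have h := kSeq_map (f := φ.toMonoidHom) φ.injective n
  have hr : φ.toMonoidHom.range = ⊤ := MonoidHom.range_eq_top.mpr φ.surjective
  rw [hr, (rel_top n).1, (rel_top n).2] at h
  exact h

theorem kInfLower_map_equiv {Q R : Type u} [Group Q] [Group R] (φ : Q ≃* R) :
    (Cfsg.kInfLower Q).map φ.toMonoidHom = Cfsg.kInfLower R := by
  unfold Cfsg.kInfLower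
  rw [Subgroup.map_iSup]
  congr 1
  ext n
  rw [(kSeq_map_equiv φ n).2]

theorem kInfUpper_map_equiv {Q R : Type u} [Group Q] [Group R] (φ : Q ≃* R) :
    (Cfsg.kInfUpper Q).map φ.toMonoidHom = Cfsg.kInfUpper R := by
  unfold Cfsg.kInfUpper
  rw [Subgroup.map_iInf _ φ.injective]
  congr 1
  ext n
  rw [(kSeq_map_equiv φ n).1]

theorem isCharPFunctor_kInfLower (p : ℕ) [Fact p.Prime] :
    Cfsg.IsCharPFunctor.{u} p (fun Q _ => Cfsg.kInfLower Q) := by
  refine ⟨?_, ?_⟩
  · intro Q _ _ hQ hnt h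
    change Cfsg.kInfLower Q = ⊥ at h
    have h1 := (Cfsg.Agent.S1978.result hQ).1
    rw [h] at h1
    have : (⊤ : Subgroup Q) ≤ ⊥ := by
      refine le_trans ?_ h1
      intro x _
      rw [Subgroup.mem_centralizer_iff]
      intro y hy
      have : y = 1 := hy
      subst this
      simp
    exact top_ne_bot (le_bot_iff.mp this)
  · intro Q R _ _ _ _ φ
    exact kInfLower_map_equiv φ

theorem isCharPFunctor_kInfUpper (p : ℕ) [Fact p.Prime] :
    Cfsg.IsCharPFunctor.{u} p (fun Q _ => Cfsg.kInfUpper Q) := by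
  refine ⟨?_, ?_⟩
  · intro Q _ _ hQ hnt h
    change Cfsg.kInfUpper Q = ⊥ at h
    have h1 := (Cfsg.Agent.S1978.result hQ).2.2.1
    rw [h] at h1
    have : (⊤ : Subgroup Q) ≤ ⊥ := by
      refine le_trans ?_ h1
      intro x _
      rw [Subgroup.mem_centralizer_iff]
      intro y hy
      have : y = 1 := hy
      subst this
      simp
    exact top_ne_bot (le_bot_iff.mp this)
  · intro Q R _ _ _ _ φ
    exact kInfUpper_map_equiv φ

end Cfsg.Agent.Lib.Helper33
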