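import Cfsg.Agent.Lib.Helper33.KInfPStableA
import Cfsg.Agent.Lib.Helper33.Critical

/-!
# K-infinity subgroups are normal in constrained groups with `p`-stable sections (helper33 library)

`kInf_normal_of_secPStable`: if every section of `Y` satisfies the elementary `p`-stability `ECN` and
`C_Y(O_p(Y)) ≤ O_p(Y)`, then `K_∞(T)` and `K^∞(T)` are normal in `Y` for every Sylow `p`-subgroup `T`.
-/

set_option autoImplicit false

namespace Cfsg.Agent.Lib.Helper33

universe u

open scoped commutatorElement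

section centInto

variable {Y : Type*} [Group Y]

/-- the elements of `A` whose commutators with `A` lie in the subgroup `M` central in `A` -/
def centInto (A M : Subgroup Y) (hM : M ≤ Subgroup.centralizer (A : Set Y)) : Subgroup Y where
  carrier := {a | a ∈ A ∧ ∀ a' ∈ A, ⁅a, a'⁆ ∈ M}
  mul_mem' := by
    rintro a b ⟨ha, ha'⟩ ⟨hb, hb'⟩
    refine ⟨A.mul_mem ha hb, fun a' h' => ?_⟩
    have e : ⁅a * b, a'⁆ = a * ⁅b, a'⁆ * a⁻¹ * ⁅a, a'⁆ := by
      simp only [commutatorElement_def]; group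
    have hc : a * ⁅b, a'⁆ * a⁻¹ = ⁅b, a'⁆ := by
      have := (Subgroup.mem_centralizer_iff.mp (hM (hb' a' h'))) a ha
      rw [this]; group
    rw [e, hc]
    exact M.mul_mem (hb' a' h') (ha' a' h')
  one_mem' := ⟨A.one_mem, fun a' _ => by rw [commutatorElement_one_left]; exact M.one_mem⟩
  inv_mem' := by
    rintro a ⟨ha, ha'⟩
    refine ⟨A.inv_mem ha, fun a' h' => ?_⟩
    have e : ⁅a⁻¹, a'⁆ = a⁻¹ * ⁅a, a'⁆⁻¹ * a := by
      simp only [commutatorElement_def]; group
    have hc : a⁻¹ * ⁅a, a'⁆⁻¹ * a = ⁅a, a'⁆⁻¹ := by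
      have := (Subgroup.mem_centralizer_iff.mp (hM (M.inv_mem (ha' a' h')))) a ha
      calc a⁻¹ * ⁅a, a'⁆⁻¹ * a = a⁻¹ * (a * ⁅a, a'⁆⁻¹) := by rw [this]; group
        _ = ⁅a, a'⁆⁻¹ := by group
    rw [e, hc]
    exact M.inv_mem (ha' a' h')

theorem mem_centInto {A M : Subgroup Y} {hM : M ≤ Subgroup.centralizer (A : Set Y)} {a : Y} :
    a ∈ centInto A M hM ↔ a ∈ A ∧ ∀ a' ∈ A, ⁅a, a'⁆ ∈ M := Iff.rfl

theorem centInto_le (A M : Subgroup Y) (hM : M ≤ Subgroup.centralizer (A : Set Y)) : centInto A M hM ≤ A :=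
  fun _ h => h.1

theorem commutator_centInto_le (A M : Subgroup Y) (hM : M ≤ Subgroup.centralizer (A : Set Y)) :
    ⁅centInto A M hM, A⁆ ≤ M := by
  rw [Subgroup.commutator_le]
  intro a ha a' ha'
  exact ha.2 a' ha'

theorem normalizer_le_normalizer_centInto (A M : Subgroup Y) [hAn : A.Normal]
    (hM : M ≤ Subgroup.centralizer (A : Set Y)) :
    Subgroup.normalizer (M : Set Y) ≤ Subgroup.normalizer ((centInto A M hM : Subgroup Y) : Set Y) := by
  have key : ∀ y ∈ Subgroup.normalizer (M : Set Y), ∀ a ∈ centInto A M hM, y * a * y⁻¹ ∈ centInto A M hM := by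
    intro y hy a ha
    refine ⟨hAn.conj_mem a ha.1 y, fun a' ha' => ?_⟩
    have e : ⁅y * a * y⁻¹, a'⁆ = y * ⁅a, y⁻¹ * a' * y⁆ * y⁻¹ := by
      simp only [commutatorElement_def]; group
    rw [e]
    apply (Subgroup.mem_normalizer_iff.mp hy _).mp
    apply ha.2
    have := hAn.conj_mem a' ha' y⁻¹
    simpa using this
  intro y hy
  rw [Subgroup.mem_normalizer_iff]
  intro a
  constructor
  · exact key y hy a
  · intro h
    have := key y⁻¹ (Subgroup.inv_mem _ hy) _ h
    simpa [mul_assoc] using this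

theorem normalizer_le_normalizer_zc (B : Subgroup Y) :
    Subgroup.normalizer (B : Set Y) ≤
      Subgroup.normalizer ((B ⊓ Subgroup.centralizer (B : Set Y) : Subgroup Y) : Set Y) := by
  have key : ∀ n ∈ Subgroup.normalizer (B : Set Y), ∀ h ∈ B ⊓ Subgroup.centralizer (B : Set Y),
      n * h * n⁻¹ ∈ B ⊓ Subgroup.centralizer (B : Set Y) := by
    intro n hn h hh
    refine Subgroup.mem_inf.mpr ⟨(Subgroup.mem_normalizer_iff.mp hn h).mp hh.1, ?_⟩
    rw [Subgroup.mem_centralizer_iff]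
    intro b hb
    have hb' : n⁻¹ * b * n ∈ B := by
      have := (Subgroup.mem_normalizer_iff.mp (Subgroup.inv_mem _ hn) b).mp hb
      simpa using this
    have hc := (Subgroup.mem_centralizer_iff.mp hh.2) _ hb'
    calc b * (n * h * n⁻¹) = n * ((n⁻¹ * b * n) * h) * n⁻¹ := by group
      _ = n * (h * (n⁻¹ * b * n)) * n⁻¹ := by rw [hc]
      _ = n * h * n⁻¹ * b := by group
  intro n hn
  rw [Subgroup.mem_normalizer_iff]
  intro h
  constructor
  · exact key n hn h
  · intro hh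
    have := key n⁻¹ (Subgroup.inv_mem _ hn) _ hh
    simpa [mul_assoc] using this

theorem mem_centralizer_of_commutator_le_bot (E : Subgroup Y) (y : Y)
    (h : ⁅E, Subgroup.zpowers y⁆ ≤ ⊥) : y ∈ Subgroup.centralizer (E : Set Y) := by
  rw [le_bot_iff, Subgroup.commutator_eq_bot_iff_le_centralizer] at h
  rw [Subgroup.mem_centralizer_iff]
  intro e he
  exact ((Subgroup.mem_centralizer_iff.mp (h he)) y (Subgroup.mem_zpowers y)).symm

end centInto

section main

variable {Y : Type u} [Group Y] [Finite Y] {p : ℕ} [Fact p.Prime]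

/-- an element acting quadratically on `Z(A)` and on `A / Z(A)` lies in `O_p(Y)` -/
theorem mem_pCore_of_quadratic (hsec : SecProp (ECN p) Y) (hcon : Constrained p Y) (A : Subgroup Y) [hAn : A.Normal]
    (hAQ : A ≤ Cfsg.pCore p Y)
    (hQA : ⁅Cfsg.pCore p Y, A⁆ ≤ A ⊓ Subgroup.centralizer (A : Set Y))
    (hCA : Cfsg.pCore p Y ⊓ Subgroup.centralizer (A : Set Y) ≤ A) (g : Y)
    (hZ : ⁅⁅A ⊓ Subgroup.centralizer (A : Set Y), Subgroup.zpowers g⁆, Subgroup.zpowers g⁆ = ⊥)
    (hA : ⁅⁅A, Subgroup.zpowers g⁆, Subgroup.zpowers g⁆ ≤ A ⊓ Subgroup.centralizer (A : Set Y)) :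
    g ∈ Cfsg.pCore p Y := by
  set Q := Cfsg.pCore p Y with hQ
  have hQp : IsPGroup p Q := Cfsg.Agent.Lib.Helper76.pCore_isPGroup p
  set Z := A ⊓ Subgroup.centralizer (A : Set Y) with hZdef
  have hZn : Z.Normal := inferInstance
  have hAp : IsPGroup p A := hQp.to_le hAQ
  have hZp : IsPGroup p Z := hAp.to_le inf_le_left
  have hC := isPGroup_centralizer_critical hcon A hAQ hQA hCA
  have hpow1 : ∀ e ∈ Z, ∃ k : ℕ, e ^ p ^ k ∈ (⊥ : Subgroup Y) := by
    intro e he
    obtain ⟨k, hk⟩ := hZp ⟨e, he⟩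
    refine ⟨k, ?_⟩
    rw [Subgroup.mem_bot]
    have := congrArg Subtype.val hk
    simpa using this
  have hpow2 : ∀ e ∈ A, ∃ k : ℕ, e ^ p ^ k ∈ Z := by
    intro e he
    obtain ⟨k, hk⟩ := hAp ⟨e, he⟩
    refine ⟨k, ?_⟩
    have : e ^ p ^ k = 1 := by
      have := congrArg Subtype.val hk
      simpa using this
    rw [this]
    exact Z.one_mem
  have hNp : IsPGroup p (Subgroup.normalClosure ({g} : Set Y)) := by
    rintro ⟨x, hx⟩
    obtain ⟨k1, hk1⟩ := eptop_of_secProp hsec ⊥ Z hpow1 g hZ.le x hx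
    obtain ⟨k2, hk2⟩ := eptop_of_secProp hsec Z A hpow2 g hA x hx
    have h1 := mem_centralizer_of_commutator_le_bot Z _ hk1
    obtain ⟨m, hm⟩ := exists_pow_mem_centralizer A Z hZp x k2 k1 hk2 h1
    obtain ⟨k, hk⟩ := hC ⟨x ^ p ^ m, hm⟩
    refine ⟨m + k, ?_⟩
    apply Subtype.ext
    have := congrArg Subtype.val hk
    simp only [Subgroup.coe_pow, Subgroup.coe_one] at this ⊢
    rw [pow_add, pow_mul]
    exact this
  exact Cfsg.Agent.Lib.Helper76.le_pCore p _ Subgroup.normalClosure_normal hNp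
    (Subgroup.subset_normalClosure (Set.mem_singleton g))

/-- the members of a lower-star family relative to a subgroup containing `A` lie in `O_p(Y)` -/
theorem le_pCore_of_lowerStar (hsec : SecProp (ECN p) Y) (hcon : Constrained p Y) (T : Sylow p Y)
    (A : Subgroup Y) [hAn : A.Normal] (hAQ : A ≤ Cfsg.pCore p Y)
    (hA2 : ⁅A, A⁆ ≤ Subgroup.centralizer (A : Set Y))
    (hQA : ⁅Cfsg.pCore p Y, A⁆ ≤ A ⊓ Subgroup.centralizer (A : Set Y))
    (hCA : Cfsg.pCore p Y ⊓ Subgroup.centralizer (A : Set Y) ≤ A)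
    (R B : Subgroup Y) (hBT : B ≤ (T : Subgroup Y)) (hAR : A ≤ R) (hB : B ∈ Cfsg.kLowerStarFamily R) :
    B ≤ Cfsg.pCore p Y := by
  obtain ⟨hB2, hRB, hcond⟩ := hB
  set Q := Cfsg.pCore p Y with hQ
  have hQn : Q.Normal := Subgroup.sSup_normal _ (fun _ h => h.1)
  have hQp : IsPGroup p Q := Cfsg.Agent.Lib.Helper76.pCore_isPGroup p
  set Z := A ⊓ Subgroup.centralizer (A : Set Y) with hZdef
  have hZn : Z.Normal := inferInstance
  have hAp : IsPGroup p A := hQp.to_le hAQ
  have hZp : IsPGroup p Z := hAp.to_le inf_le_left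
  have hZA : Z ≤ A := inf_le_left
  have hZcA : Z ≤ Subgroup.centralizer (A : Set Y) := inf_le_right
  have hAcZ : A ≤ Subgroup.centralizer (Z : Set Y) := by
    rw [← Subgroup.commutator_eq_bot_iff_le_centralizer, Subgroup.commutator_comm,
      Subgroup.commutator_eq_bot_iff_le_centralizer]
    exact hZcA
  have hZZ : ⁅Z, Z⁆ = ⊥ := by
    rw [Subgroup.commutator_eq_bot_iff_le_centralizer]
    exact hZcA.trans (Subgroup.centralizer_le (fun x hx => hx.1))
  have hZtop : Subgroup.normalizer (Z : Set Y) = ⊤ := Subgroup.normalizer_eq_top_iff.mpr hZn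
  have hAtop : Subgroup.normalizer (A : Set Y) = ⊤ := Subgroup.normalizer_eq_top_iff.mpr hAn
  set ZB := B ⊓ Subgroup.centralizer (B : Set Y) with hZBdef
  have hAB : A ≤ Subgroup.normalizer (B : Set Y) := hAR.trans hRB
  have h3 : ⁅A, B⁆ ≤ B := Subgroup.le_normalizer_iff_commutator_le_right.mp hAB
  have h3' : ⁅A, B⁆ ≤ A := Subgroup.commutator_le_left A B
  have hAZB : ⁅A, ZB⁆ ≤ ZB :=
    Subgroup.le_normalizer_iff_commutator_le_right.mp (hAB.trans (normalizer_le_normalizer_zc B))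
  have hZBcB : ZB ≤ Subgroup.centralizer (B : Set Y) := inf_le_right
  have hZBab : ⁅ZB, ZB⁆ = ⊥ := by
    rw [Subgroup.commutator_eq_bot_iff_le_centralizer]
    exact hZBcB.trans (Subgroup.centralizer_le (fun x hx => hx.1))
  -- Step 1: `Z(B) ≤ Q`
  have hZBQ : ZB ≤ Q := by
    intro z hz
    have hzz : Subgroup.zpowers z ≤ ZB := Subgroup.zpowers_le.mpr hz
    have hq : ⁅⁅A, Subgroup.zpowers z⁆, Subgroup.zpowers z⁆ = ⊥ := by
      rw [eq_bot_iff, ← hZBab]
      exact Subgroup.commutator_mono ((Subgroup.commutator_mono le_rfl hzz).trans hAZB) hzz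
    apply mem_pCore_of_quadratic hsec hcon A hAQ hQA hCA z
    · rw [eq_bot_iff, ← hq]
      exact Subgroup.commutator_mono (Subgroup.commutator_mono hZA le_rfl) le_rfl
    · rw [hq]; exact bot_le
  -- Step 2: `[Z(A), B, B] = 1`
  have hZBB : ⁅⁅Z, B⁆, B⁆ = ⊥ := by
    have h4 := hcond Z (by
        show ⁅Z, Z⁆ ≤ _
        rw [hZZ]; exact bot_le) (hZA.trans hAR) (by rw [hZtop]; exact le_top)
      (by rw [hZZ]; simp)
      (by
        rw [eq_bot_iff, ← hZZ]
        exact Subgroup.commutator_mono (Subgroup.commutator_le_right _ Z) le_rfl)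
    rw [eq_bot_iff, Subgroup.commutator_comm Z B]
    calc ⁅⁅B, Z⁆, B⁆ ≤ ⁅Subgroup.centralizer (B : Set Y), B⁆ :=
          Subgroup.commutator_mono (h4.trans inf_le_right) le_rfl
      _ = ⊥ := Subgroup.commutator_eq_bot_iff_le_centralizer.mpr le_rfl
  -- Step 3: the subgroup `D_B`
  set M := Z ⊓ Subgroup.centralizer (B : Set Y) with hMdef
  have hMZ : M ≤ Z := inf_le_left
  have hMcA : M ≤ Subgroup.centralizer (A : Set Y) := hMZ.trans hZcA
  have hMcB : M ≤ Subgroup.centralizer (B : Set Y) := inf_le_right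
  set DB := centInto A M hMcA with hDBdef
  have hDBA : DB ≤ A := centInto_le A M hMcA
  have hZDB : Z ≤ DB := by
    intro z hz
    refine ⟨hZA hz, fun a' ha' => ?_⟩
    have : ⁅z, a'⁆ = 1 := by
      rw [commutatorElement_eq_one_iff_mul_comm]
      exact ((Subgroup.mem_centralizer_iff.mp (hZcA hz)) a' ha').symm
    rw [this]
    exact M.one_mem
  have hDBDB : ⁅DB, DB⁆ ≤ M := (Subgroup.commutator_mono le_rfl hDBA).trans (commutator_centInto_le A M hMcA)
  have hcMN : Subgroup.centralizer (M : Set Y) ≤ Subgroup.normalizer ((DB : Subgroup Y) : Set Y) := by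
    refine le_trans ?_ (normalizer_le_normalizer_centInto A M hMcA)
    intro y hy
    rw [Subgroup.mem_normalizer_iff]
    intro m
    constructor
    · intro hm
      have := (Subgroup.mem_centralizer_iff.mp hy) m hm
      have e : y * m * y⁻¹ = m := by rw [← this]; group
      rw [e]; exact hm
    · intro hm
      have := (Subgroup.mem_centralizer_iff.mp hy) _ hm
      have e : m = y * m * y⁻¹ := by
        calc m = y⁻¹ * (y * m * y⁻¹ * y) := by group
          _ = y⁻¹ * (y * (y * m * y⁻¹)) := by rw [this]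
          _ = y * m * y⁻¹ := by group
      rw [e]; exact hm
  have hBcM : B ≤ Subgroup.centralizer (M : Set Y) := by
    rw [← Subgroup.commutator_eq_bot_iff_le_centralizer, Subgroup.commutator_comm,
      Subgroup.commutator_eq_bot_iff_le_centralizer]
    exact hMcB
  have hCcM : Subgroup.centralizer (Z : Set Y) ≤ Subgroup.centralizer (M : Set Y) :=
    Subgroup.centralizer_le (fun x hx => hMZ hx)
  have hBDB : ⁅B, DB⁆ ≤ ZB := by
    apply hcond DB
    · show ⁅DB, DB⁆ ≤ Subgroup.centralizer ((DB : Subgroup Y) : Set Y)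
      exact hDBDB.trans (hMcA.trans (Subgroup.centralizer_le (fun x hx => hDBA hx)))
    · exact hDBA.trans hAR
    · exact hBcM.trans hcMN
    · rw [Subgroup.commutator_comm, Subgroup.commutator_eq_bot_iff_le_centralizer]
      exact hDBDB.trans hMcB
    · rw [Subgroup.commutator_eq_bot_iff_le_centralizer]
      calc ⁅ZB, DB⁆ ≤ ⁅Q, A⁆ := Subgroup.commutator_mono hZBQ hDBA
        _ ≤ Z := hQA
        _ ≤ Subgroup.centralizer (A : Set Y) := hZcA
        _ ≤ Subgroup.centralizer ((DB : Subgroup Y) : Set Y) := Subgroup.centralizer_le (fun x hx => hDBA hx)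
  have hq2 : ⁅⁅DB, B⁆, B⁆ = ⊥ := by
    rw [Subgroup.commutator_eq_bot_iff_le_centralizer, Subgroup.commutator_comm]
    exact hBDB.trans hZBcB
  have hAZBDB : A ⊓ ZB ≤ DB := by
    intro z hz
    refine ⟨hz.1, fun a' ha' => ?_⟩
    refine Subgroup.mem_inf.mpr ⟨?_, ?_⟩
    · refine Subgroup.mem_inf.mpr ⟨?_, ?_⟩
      · exact Subgroup.commutator_le_left A A (Subgroup.commutator_mem_commutator hz.1 ha')
      · exact hA2 (Subgroup.commutator_mem_commutator hz.1 ha')
    · apply hZBcB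
      apply hAZB
      rw [Subgroup.commutator_comm]
      exact Subgroup.commutator_mem_commutator hz.2 ha'
  have hq3 : ⁅⁅A, B⁆, B⁆ ≤ DB := by
    refine le_trans (le_inf ?_ ?_) hAZBDB
    · exact (Subgroup.commutator_mono h3' le_rfl).trans (Subgroup.commutator_le_left A B)
    · refine (Subgroup.commutator_mono h3 le_rfl).trans (le_inf ?_ hB2)
      rw [Subgroup.commutator_le]
      intro b1 hb1 b2 hb2
      rw [commutatorElement_def]
      exact B.mul_mem (B.mul_mem (B.mul_mem hb1 hb2) (B.inv_mem hb1)) (B.inv_mem hb2)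
  -- the elements of `B`
  set H := Subgroup.normalizer ((DB : Subgroup Y) : Set Y) with hHdef
  set C := Subgroup.centralizer (Z : Set Y) with hCdef
  have hCn : C.Normal := inferInstance
  have hCH : C ≤ H := hCcM.trans hcMN
  have hBH : B ≤ H := hBcM.trans hcMN
  have hAH : A ≤ H := hAcZ.trans hCH
  have hHbot : H ≤ Subgroup.normalizer (((⊥ : Subgroup Y) : Subgroup Y) : Set Y) := by
    rw [Subgroup.normalizer_eq_top_iff.mpr inferInstance]; exact le_top
  have hHZ : H ≤ Subgroup.normalizer (Z : Set Y) := by rw [hZtop]; exact le_top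
  have hHA : H ≤ Subgroup.normalizer (A : Set Y) := by rw [hAtop]; exact le_top
  have hDBp : IsPGroup p DB := hAp.to_le hDBA
  have hC := isPGroup_centralizer_critical hcon A hAQ hQA hCA
  have hpowOne : ∀ (E D : Subgroup Y), E ≤ A → ∀ e ∈ E, ∃ k : ℕ, e ^ p ^ k ∈ D := by
    intro E D hEA e he
    obtain ⟨k, hk⟩ := hAp ⟨e, hEA he⟩
    refine ⟨k, ?_⟩
    have : e ^ p ^ k = 1 := by
      have := congrArg Subtype.val hk
      simpa using this
    rw [this]
    exact D.one_mem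
  intro g hg
  have hzg : Subgroup.zpowers g ≤ B := Subgroup.zpowers_le.mpr hg
  have hgH : g ∈ H := hBH hg
  have hqZ : ⁅⁅Z, Subgroup.zpowers g⁆, Subgroup.zpowers g⁆ ≤ ⊥ := by
    rw [← hZBB]
    exact Subgroup.commutator_mono (Subgroup.commutator_mono le_rfl hzg) hzg
  have hqD : ⁅⁅DB, Subgroup.zpowers g⁆, Subgroup.zpowers g⁆ ≤ Z := by
    refine le_trans ?_ (bot_le (a := Z))
    rw [← hq2]
    exact Subgroup.commutator_mono (Subgroup.commutator_mono le_rfl hzg) hzg
  have hqA : ⁅⁅A, Subgroup.zpowers g⁆, Subgroup.zpowers g⁆ ≤ DB :=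
    (Subgroup.commutator_mono (Subgroup.commutator_mono le_rfl hzg) hzg).trans hq3
  -- the normal closure of `g` in `H` is a `p`-group
  have hNgp : ∀ x ∈ Subgroup.normalClosure ({(⟨g, hgH⟩ : ↥H)} : Set ↥H), ∃ n : ℕ, (x : Y) ^ p ^ n = 1 := by
    intro x hx
    obtain ⟨k1, hk1⟩ := ep_of_secProp hsec H ⊥ Z bot_le (hZA.trans hAH) hHbot hHZ (hpowOne Z ⊥ hZA) g hgH hqZ x hx
    obtain ⟨k2, hk2⟩ := ep_of_secProp hsec H Z DB hZDB (hDBA.trans hAH) hHZ le_rfl (hpowOne DB Z hDBA) g hgH hqD x hx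
    obtain ⟨k3, hk3⟩ := ep_of_secProp hsec H DB A hDBA hAH le_rfl hHA (hpowOne A DB le_rfl) g hgH hqA x hx
    have h1 := mem_centralizer_of_commutator_le_bot Z _ hk1
    obtain ⟨m1, hm1⟩ := exists_pow_mem_centralizer DB Z hZp (x : Y) k2 k1 hk2 h1
    obtain ⟨m2, hm2⟩ := exists_pow_mem_centralizer A DB hDBp (x : Y) k3 m1 hk3 hm1
    obtain ⟨k, hk⟩ := hC ⟨(x : Y) ^ p ^ m2, hm2⟩
    refine ⟨m2 + k, ?_⟩
    have := congrArg Subtype.val hk
    simp only [Subgroup.coe_pow, Subgroup.coe_one] at this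
    rw [pow_add, pow_mul]
    exact this
  set Ng : Subgroup Y := (Subgroup.normalClosure ({(⟨g, hgH⟩ : ↥H)} : Set ↥H)).map H.subtype with hNgdef
  have hNgP : IsPGroup p Ng := by
    rintro ⟨x, x0, hx0, rfl⟩
    obtain ⟨n, hn⟩ := hNgp x0 hx0
    exact ⟨n, Subtype.ext (by simpa using hn)⟩
  have hNgnorm : ∀ h ∈ H, ∀ x ∈ Ng, h * x * h⁻¹ ∈ Ng := by
    rintro h hh _ ⟨x0, hx0, rfl⟩
    exact ⟨⟨h, hh⟩ * x0 * ⟨h, hh⟩⁻¹, Subgroup.normalClosure_normal.conj_mem x0 hx0 ⟨h, hh⟩, rfl⟩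
  have hgNg : g ∈ Ng :=
    ⟨⟨g, hgH⟩, Subgroup.subset_normalClosure (Set.mem_singleton _), rfl⟩
  set P1 := Ng ⊓ C with hP1def
  have hP1p : IsPGroup p P1 := hNgP.to_le inf_le_left
  have hCP1 : C ≤ Subgroup.normalizer (P1 : Set Y) := by
    have key : ∀ c ∈ C, ∀ x ∈ P1, c * x * c⁻¹ ∈ P1 := by
      intro c hc x hx
      exact Subgroup.mem_inf.mpr ⟨hNgnorm c (hCH hc) x hx.1, hCn.conj_mem x hx.2 c⟩
    intro c hc
    rw [Subgroup.mem_normalizer_iff]
    intro x
    constructor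
    · exact key c hc x
    · intro hx
      have := key c⁻¹ (C.inv_mem hc) _ hx
      simpa [mul_assoc] using this
  have hP1Q : P1 ≤ Q := le_pCore_of_normalized C P1 inf_le_right hCP1 hP1p
  have h2 : ∀ c ∈ C, ⁅g, c⁆ ∈ Q := by
    intro c hc
    apply hP1Q
    refine Subgroup.mem_inf.mpr ⟨?_, ?_⟩
    · have e : ⁅g, c⁆ = g * (c * g⁻¹ * c⁻¹) := by rw [commutatorElement_def]; group
      rw [e]
      exact Ng.mul_mem hgNg (hNgnorm c (hCH hc) _ (Ng.inv_mem hgNg))
    · have e : ⁅g, c⁆ = (g * c * g⁻¹) * c⁻¹ := by rw [commutatorElement_def]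
      rw [e]
      exact C.mul_mem (hCn.conj_mem c hc g) (C.inv_mem hc)
  have h1 : ∀ m ∈ Subgroup.normalClosure ({g} : Set Y), ∃ k : ℕ, m ^ p ^ k ∈ C := by
    intro m hm
    obtain ⟨k, hk⟩ := eptop_of_secProp hsec ⊥ Z (hpowOne Z ⊥ hZA) g hqZ m hm
    exact ⟨k, mem_centralizer_of_commutator_le_bot Z _ hk⟩
  have hgp : ∃ k : ℕ, g ^ p ^ k = 1 := by
    obtain ⟨k, hk⟩ := T.isPGroup' ⟨g, hBT hg⟩
    refine ⟨k, ?_⟩
    have := congrArg Subtype.val hk
    simpa using this
  exact mem_pCore_of_central_mod g hgp C h1 h2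

/-- **Glauberman**: in a constrained group all of whose sections are `p`-stable, the K-infinity subgroups of a Sylow
`p`-subgroup are normal. -/
theorem kInf_normal_of_secPStable (hsec : SecProp (ECN p) Y) (hcon : Constrained p Y) (T : Sylow p Y) :
    (Cfsg.inducedFunctor Cfsg.kInfLower (T : Subgroup Y)).Normal ∧
      (Cfsg.inducedFunctor Cfsg.kInfUpper (T : Subgroup Y)).Normal := by
  set Q := Cfsg.pCore p Y with hQ
  have hQn : Q.Normal := Subgroup.sSup_normal _ (fun _ h => h.1)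
  have hQp : IsPGroup p Q := Cfsg.Agent.Lib.Helper76.pCore_isPGroup p
  have hQT : Q ≤ (T : Subgroup Y) := Cfsg.Agent.Lib.Helper76.pCore_le_sylow p T
  have hQnil : Group.IsNilpotent ↥Q := hQp.isNilpotent
  obtain ⟨A, hAn, hAQ, hA2, hQA, hCA⟩ := exists_critical Q
  have hTp : IsPGroup p (T : Subgroup Y) := T.isPGroup'
  set Z := A ⊓ Subgroup.centralizer (A : Set Y) with hZdef
  -- the three kinds of subgroups, in `Y`
  have Yc : ∀ B : Subgroup Y, ⁅⁅A, B⁆, B⁆ = ⊥ → B ≤ Q := by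
    intro B hB g hg
    have hzg : Subgroup.zpowers g ≤ B := Subgroup.zpowers_le.mpr hg
    have hq : ⁅⁅A, Subgroup.zpowers g⁆, Subgroup.zpowers g⁆ = ⊥ := by
      rw [eq_bot_iff, ← hB]
      exact Subgroup.commutator_mono (Subgroup.commutator_mono le_rfl hzg) hzg
    apply mem_pCore_of_quadratic hsec hcon A hAQ hQA hCA g
    · rw [eq_bot_iff, ← hq]
      exact Subgroup.commutator_mono (Subgroup.commutator_mono inf_le_left le_rfl) le_rfl
    · rw [hq]; exact bot_le
  have Ya : ∀ B : Subgroup Y, A ≤ Subgroup.normalizer (B : Set Y) → ⁅A, ⁅B, B⁆⁆ = ⊥ → ⁅⁅Z, B⁆, B⁆ = ⊥ → B ≤ Q := by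
    intro B hAB h1 h2 g hg
    have hzg : Subgroup.zpowers g ≤ B := Subgroup.zpowers_le.mpr hg
    have h3 : ⁅A, B⁆ ≤ B := Subgroup.le_normalizer_iff_commutator_le_right.mp hAB
    have h4 : ⁅B, B⁆ ≤ Subgroup.centralizer (A : Set Y) := by
      rw [← Subgroup.commutator_eq_bot_iff_le_centralizer, Subgroup.commutator_comm]
      exact h1
    apply mem_pCore_of_quadratic hsec hcon A hAQ hQA hCA g
    · rw [eq_bot_iff, ← h2]
      exact Subgroup.commutator_mono (Subgroup.commutator_mono le_rfl hzg) hzg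
    · refine (Subgroup.commutator_mono (Subgroup.commutator_mono le_rfl hzg) hzg).trans (le_inf ?_ ?_)
      · exact (Subgroup.commutator_mono (Subgroup.commutator_le_left A B) le_rfl).trans
          (Subgroup.commutator_le_left A B)
      · exact (Subgroup.commutator_mono h3 le_rfl).trans h4
  -- transport to the Sylow subgroup
  set Q' : Subgroup ↥(T : Subgroup Y) := Q.subgroupOf (T : Subgroup Y) with hQ'
  set A' : Subgroup ↥(T : Subgroup Y) := A.subgroupOf (T : Subgroup Y) with hA'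
  have hinj : Function.Injective (T : Subgroup Y).subtype := Subgroup.subtype_injective _
  have hQ'map : Q'.map (T : Subgroup Y).subtype = Q := Subgroup.map_subgroupOf_eq_of_le hQT
  have hA'map : A'.map (T : Subgroup Y).subtype = A := Subgroup.map_subgroupOf_eq_of_le (hAQ.trans hQT)
  have hA'n : A'.Normal := Subgroup.Normal.subgroupOf hAn _
  have hA'Q' : A' ≤ Q' := by
    rw [← Subgroup.map_le_map_iff_of_injective hinj, hQ'map, hA'map]; exact hAQ
  have hA'2 : ⁅A', A'⁆ ≤ Subgroup.centralizer (A' : Set ↥(T : Subgroup Y)) := by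
    have := (classTwo_map_iff hinj A').mpr (by rw [hA'map]; exact hA2)
    exact this
  have hQ'A' : ⁅Q', A'⁆ ≤ A' ⊓ Subgroup.centralizer (A' : Set ↥(T : Subgroup Y)) := by
    rw [← Subgroup.map_le_map_iff_of_injective hinj, zc_map hinj, Subgroup.map_commutator, hQ'map, hA'map]
    exact hQA
  have toQ' : ∀ B : Subgroup ↥(T : Subgroup Y), B.map (T : Subgroup Y).subtype ≤ Q → B ≤ Q' := by
    intro B hB
    rw [← Subgroup.map_le_map_iff_of_injective hinj, hQ'map]
    exact hB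
  have Ha : ∀ B : Subgroup ↥(T : Subgroup Y), B ∈ Cfsg.classTwoSubgroups ↥(T : Subgroup Y) →
      A' ≤ Subgroup.normalizer (B : Set ↥(T : Subgroup Y)) → ⁅A', ⁅B, B⁆⁆ = ⊥ →
      ⁅⁅A' ⊓ Subgroup.centralizer (A' : Set ↥(T : Subgroup Y)), B⁆, B⁆ = ⊥ → B ≤ Q' := by
    intro B _ hAB h1 h2
    apply toQ'
    apply Ya
    · rw [← hA'map]
      exact (le_normalizer_map_iff hinj B A').mp hAB
    · rw [← hA'map, ← Subgroup.map_commutator, ← Subgroup.map_commutator, h1, Subgroup.map_bot]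
    · rw [hZdef, ← hA'map, ← zc_map hinj, ← Subgroup.map_commutator, ← Subgroup.map_commutator, h2,
        Subgroup.map_bot]
  have Hb : ∀ R B : Subgroup ↥(T : Subgroup Y), A' ≤ R → B ∈ Cfsg.kLowerStarFamily R → B ≤ Q' := by
    intro R B hAR hB
    apply toQ'
    apply le_pCore_of_lowerStar hsec hcon T A hAQ hA2 hQA hCA (R.map (T : Subgroup Y).subtype)
    · exact Subgroup.map_subtype_le B
    · rw [← hA'map]
      exact Subgroup.map_mono hAR
    · exact (lower_map_iff hinj B R).mp hB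
  have Hc : ∀ B : Subgroup ↥(T : Subgroup Y), ⁅⁅A', B⁆, B⁆ = ⊥ → B ≤ Q' := by
    intro B hB
    apply toQ'
    apply Yc
    rw [← hA'map, ← Subgroup.map_commutator, ← Subgroup.map_commutator, hB, Subgroup.map_bot]
  have hseq := kSeq_le_of_hyp3 Q' A' hA'Q' hA'2 hQ'A' Ha Hb Hc
  have hTp' : IsPGroup p ↥(T : Subgroup Y) := hTp
  obtain ⟨hlow, hupp⟩ := Cfsg.Agent.S1979.result hTp' Q' hseq
  have hQ'p : IsPGroup p Q' := hTp'.to_subgroup Q'
  have key : ∀ W : ∀ (R : Type u) [Group R], Subgroup R, Cfsg.IsCharPFunctor.{u} p W →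
      (W ↥Q').map Q'.subtype = W ↥(T : Subgroup Y) → (Cfsg.inducedFunctor W (T : Subgroup Y)).Normal := by
    intro W hW heq
    have h1 := inducedFunctor_map_of_injOn W hW (T : Subgroup Y).subtype Q' hQ'p
      (fun x _ hx => hinj (by simpa using hx))
    rw [hQ'map] at h1
    have h2 : Cfsg.inducedFunctor W (T : Subgroup Y) = Cfsg.inducedFunctor W Q := by
      rw [h1]
      unfold Cfsg.inducedFunctor
      rw [heq]
    rw [h2]
    exact normal_inducedFunctor_of_normal hW Q hQp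
  exact ⟨key _ (isCharPFunctor_kInfLower p) hlow, key _ (isCharPFunctor_kInfUpper p) hupp⟩

end main

end Cfsg.Agent.Lib.Helper33
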