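import Cfsg.Agent.Lib.Helper33.KInfLocal
import Cfsg.Agent.Lib.Helper33.PStableSec

/-!
# K-infinity and `p`-stable sections: preparations (helper33 library)

* `kSeq_le_of_hyp3`: the three-hypothesis form of `kSeq_le_of_hyp`.
* stability group lemmas (`conj_pow_of_commute`, `pow_card_mem_centralizer_of_stable`, `exists_pow_mem_centralizer`).
* `isPGroup_centralizer_critical`: for a critical-type subgroup `A` of `O_p(Y)` in a constrained group, `C_Y(A)` is a `p`-group.
* `le_pCore_of_normalized`: a `p`-subgroup of a normal subgroup `C` normalized by `C` lies in `O_p(Y)`.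
* `mem_pCore_of_central_mod`: the final "nilpotent" step.
-/

set_option autoImplicit false

namespace Cfsg.Agent.Lib.Helper33

universe u

open scoped commutatorElement

section abstract

variable {P : Type*} [Group P]

theorem kSeq_le_of_hyp3 (Q A : Subgroup P) [hAn : A.Normal] (_hAQ : A ≤ Q)
    (hA2 : ⁅A, A⁆ ≤ Subgroup.centralizer (A : Set P))
    (hQA : ⁅Q, A⁆ ≤ A ⊓ Subgroup.centralizer (A : Set P))
    (Ha : ∀ A' : Subgroup P, A' ∈ Cfsg.classTwoSubgroups P → A ≤ Subgroup.normalizer (A' : Set P) →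
      ⁅A, ⁅A', A'⁆⁆ = ⊥ → ⁅⁅A ⊓ Subgroup.centralizer (A : Set P), A'⁆, A'⁆ = ⊥ → A' ≤ Q)
    (Hb : ∀ R B : Subgroup P, A ≤ R → B ∈ Cfsg.kLowerStarFamily R → B ≤ Q)
    (Hc : ∀ B : Subgroup P, ⁅⁅A, B⁆, B⁆ = ⊥ → B ≤ Q) :
    ∀ n : ℕ, Cfsg.kSeqEven P n ≤ Q ∧ Cfsg.kSeqOdd P (n + 1) ≤ Q := by
  have hAtop : Subgroup.normalizer (A : Set P) = ⊤ := Subgroup.normalizer_eq_top_iff.mpr hAn
  have F1 : A ∈ Cfsg.classTwoSubgroups P := hA2
  have F2 : ∀ R : Subgroup P, R ≤ Q → A ∈ Cfsg.kUpperStarFamily R := by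
    intro R hR
    refine ⟨F1, ?_⟩
    rw [Subgroup.commutator_comm]
    exact (Subgroup.commutator_mono hR le_rfl).trans hQA
  have F3 : ∀ R : Subgroup P, A ∈ Cfsg.kLowerStarFamily R := by
    intro R
    refine ⟨F1, by rw [hAtop]; exact le_top, ?_⟩
    intro A' hA' _ hAA' h1 h2
    have hA'Q : A' ≤ Q := Ha A' hA' hAA' h1 h2
    rw [Subgroup.commutator_comm]
    exact (Subgroup.commutator_mono hA'Q le_rfl).trans hQA
  have F5 : ∀ E : Subgroup P, A ≤ E → ∀ B ∈ Cfsg.kUpperStarFamily E, B ≤ Q := by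
    intro E hAE B hB
    obtain ⟨_, hBE⟩ := hB
    apply Hc B
    rw [eq_bot_iff, Subgroup.commutator_comm A B]
    calc ⁅⁅B, A⁆, B⁆ ≤ ⁅Subgroup.centralizer (B : Set P), B⁆ :=
          Subgroup.commutator_mono (((Subgroup.commutator_mono le_rfl hAE).trans hBE).trans inf_le_right) le_rfl
      _ = ⊥ := Subgroup.commutator_eq_bot_iff_le_centralizer.mpr le_rfl
  have step : ∀ n : ℕ, A ≤ Cfsg.kSeqOdd P n → Cfsg.kSeqEven P n ≤ Q ∧ Cfsg.kSeqOdd P (n + 1) ≤ Q := by
    intro n hAn'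
    have hE : Cfsg.kSeqEven P n ≤ Q := sSup_le (fun B hB => Hb _ B hAn' hB)
    have hAE : A ≤ Cfsg.kSeqEven P n := le_sSup (F3 _)
    exact ⟨hE, sSup_le (fun B hB => F5 _ hAE B hB)⟩
  intro n
  induction n with
  | zero => exact step 0 (by show A ≤ ⊤; exact le_top)
  | succ n ih =>
    apply step (n + 1)
    exact le_sSup (F2 _ ih.1)

end abstract

section stability

variable {Y : Type*} [Group Y]

theorem conj_pow_of_commute (y e d : Y) (h : y * e * y⁻¹ = d * e) (hd : Commute y d) :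
    ∀ n : ℕ, y ^ n * e * (y ^ n)⁻¹ = d ^ n * e := by
  intro n
  induction n with
  | zero => simp
  | succ n ih =>
    have hc : Commute (y ^ n) d := hd.pow_left n
    calc y ^ (n + 1) * e * (y ^ (n + 1))⁻¹ = y ^ n * (y * e * y⁻¹) * (y ^ n)⁻¹ := by
          rw [pow_succ]; group
      _ = y ^ n * d * e * (y ^ n)⁻¹ := by rw [h]; group
      _ = d * (y ^ n * e * (y ^ n)⁻¹) := by rw [hc.eq]; group
      _ = d ^ (n + 1) * e := by rw [ih, pow_succ']; group

theorem pow_card_mem_centralizer_of_stable (E D : Subgroup Y) [Finite D] (y : Y)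
    (h1 : ⁅E, Subgroup.zpowers y⁆ ≤ D) (h2 : y ∈ Subgroup.centralizer (D : Set Y)) :
    y ^ Nat.card D ∈ Subgroup.centralizer (E : Set Y) := by
  rw [Subgroup.mem_centralizer_iff]
  intro e he
  have hd : ⁅y, e⁆ ∈ D := by
    apply h1
    rw [Subgroup.commutator_comm]
    exact Subgroup.commutator_mem_commutator (Subgroup.mem_zpowers y) he
  have hc : Commute y ⁅y, e⁆ := ((Subgroup.mem_centralizer_iff.mp h2) _ hd).symm
  have h3 : y * e * y⁻¹ = ⁅y, e⁆ * e := by rw [commutatorElement_def]; group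
  have h4 := conj_pow_of_commute y e ⁅y, e⁆ h3 hc (Nat.card D)
  have h5 : ⁅y, e⁆ ^ Nat.card D = 1 := by
    have h := pow_card_eq_one' (G := ↥D) (x := ⟨⁅y, e⁆, hd⟩)
    have h' := congrArg Subtype.val h
    rw [Subgroup.coe_pow, Subgroup.coe_one] at h'
    exact h'
  rw [h5, one_mul] at h4
  calc e * y ^ Nat.card D = (y ^ Nat.card D * e * (y ^ Nat.card D)⁻¹) * y ^ Nat.card D := by rw [h4]
    _ = y ^ Nat.card D * e := by group

theorem pow_pow_mem_of_le {S : Subgroup Y} {x : Y} {j m : ℕ} {p : ℕ} (hjm : j ≤ m) (h : x ^ p ^ j ∈ S) :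
    x ^ p ^ m ∈ S := by
  obtain ⟨i, rfl⟩ := Nat.exists_eq_add_of_le hjm
  rw [pow_add, pow_mul]
  exact S.pow_mem h _

theorem zpowers_pow_pow_le {x : Y} {j m : ℕ} {p : ℕ} (hjm : j ≤ m) :
    Subgroup.zpowers (x ^ p ^ m) ≤ Subgroup.zpowers (x ^ p ^ j) := by
  rw [Subgroup.zpowers_le]
  exact pow_pow_mem_of_le hjm (Subgroup.mem_zpowers _)

/-- one step up a series: from `x ^ p ^ j` centralizing `D` and `[E, x ^ p ^ k] ≤ D` to a `p`-power centralizing `E` -/
theorem exists_pow_mem_centralizer {p : ℕ} [Fact p.Prime] (E D : Subgroup Y) [Finite D] (hD : IsPGroup p D) (x : Y)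
    (k j : ℕ) (h1 : ⁅E, Subgroup.zpowers (x ^ p ^ k)⁆ ≤ D) (h2 : x ^ p ^ j ∈ Subgroup.centralizer (D : Set Y)) :
    ∃ m : ℕ, x ^ p ^ m ∈ Subgroup.centralizer (E : Set Y) := by
  obtain ⟨i, hi⟩ := IsPGroup.iff_card.mp hD
  set m0 := max k j with hm0
  have h1' : ⁅E, Subgroup.zpowers (x ^ p ^ m0)⁆ ≤ D :=
    (Subgroup.commutator_mono le_rfl (zpowers_pow_pow_le (le_max_left k j))).trans h1
  have h2' : x ^ p ^ m0 ∈ Subgroup.centralizer (D : Set Y) := pow_pow_mem_of_le (le_max_right k j) h2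
  have h3 := pow_card_mem_centralizer_of_stable E D (x ^ p ^ m0) h1' h2'
  refine ⟨m0 + i, ?_⟩
  rw [pow_add, pow_mul, ← hi]
  exact h3

end stability

section constrained

variable {Y : Type u} [Group Y] [Finite Y] {p : ℕ} [Fact p.Prime]

theorem isPGroup_centralizer_critical (hcon : Constrained p Y) (A : Subgroup Y) [hAn : A.Normal]
    (hAQ : A ≤ Cfsg.pCore p Y)
    (hQA : ⁅Cfsg.pCore p Y, A⁆ ≤ A ⊓ Subgroup.centralizer (A : Set Y))
    (hCA : Cfsg.pCore p Y ⊓ Subgroup.centralizer (A : Set Y) ≤ A) :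
    IsPGroup p (Subgroup.centralizer (A : Set Y)) := by
  set Q := Cfsg.pCore p Y with hQ
  have hQn : Q.Normal := Subgroup.sSup_normal _ (fun _ h => h.1)
  have hQp : IsPGroup p Q := Cfsg.Agent.Lib.Helper76.pCore_isPGroup p
  set Z := A ⊓ Subgroup.centralizer (A : Set Y) with hZ
  have hZp : IsPGroup p Z := hQp.to_le (inf_le_left.trans hAQ)
  rintro ⟨c, hc⟩
  have hcA : ⁅Subgroup.zpowers c, A⁆ = ⊥ := by
    rw [Subgroup.commutator_eq_bot_iff_le_centralizer, Subgroup.zpowers_le]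
    exact hc
  have h1 : ⁅⁅Subgroup.zpowers c, A⁆, Q⁆ = ⊥ := by rw [hcA]; simp
  have h2 : ⁅⁅A, Q⁆, Subgroup.zpowers c⁆ = ⊥ := by
    rw [eq_bot_iff, ← hcA, Subgroup.commutator_comm (Subgroup.zpowers c) A, Subgroup.commutator_comm A Q]
    exact Subgroup.commutator_mono (hQA.trans inf_le_left) le_rfl
  have h3 : ⁅⁅Q, Subgroup.zpowers c⁆, A⁆ = ⊥ := Subgroup.commutator_commutator_eq_bot_of_rotate h1 h2
  have h4 : ⁅Q, Subgroup.zpowers c⁆ ≤ Z := by
    have ha : ⁅Q, Subgroup.zpowers c⁆ ≤ Subgroup.centralizer (A : Set Y) :=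
      Subgroup.commutator_eq_bot_iff_le_centralizer.mp h3
    have hb : ⁅Q, Subgroup.zpowers c⁆ ≤ Q := Subgroup.commutator_le_left Q _
    exact le_inf ((le_inf hb ha).trans hCA) ha
  have h5 : c ∈ Subgroup.centralizer (Z : Set Y) :=
    Subgroup.centralizer_le (show (Z : Set Y) ⊆ A from fun x hx => hx.1) hc
  have h6 := pow_card_mem_centralizer_of_stable Q Z c h4 h5
  obtain ⟨i, hi⟩ := IsPGroup.iff_card.mp hZp
  have h7 : c ^ Nat.card Z ∈ Q := hcon h6
  obtain ⟨k, hk⟩ := hQp ⟨c ^ Nat.card Z, h7⟩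
  refine ⟨i + k, ?_⟩
  apply Subtype.ext
  have := congrArg Subtype.val hk
  simp only [Subgroup.coe_pow, Subgroup.coe_one] at this ⊢
  rw [pow_add, pow_mul, ← hi]
  exact this

/-- a `p`-subgroup of a normal subgroup `C`, normalized by `C`, lies in `O_p(Y)` -/
theorem le_pCore_of_normalized (C P1 : Subgroup Y) [hCn : C.Normal] (hPC : P1 ≤ C)
    (hCP : C ≤ Subgroup.normalizer (P1 : Set Y)) (hP : IsPGroup p P1) : P1 ≤ Cfsg.pCore p Y := by
  set QC : Subgroup Y := (Cfsg.pCore p ↥C).map C.subtype with hQC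
  have hQCp : IsPGroup p QC := (Cfsg.Agent.Lib.Helper76.pCore_isPGroup p).map _
  have hconj : ∀ y : Y, P1.map (MulAut.conj y).toMonoidHom ≤ QC := by
    intro y
    set P2 := P1.map (MulAut.conj y).toMonoidHom with hP2
    have hP2C : P2 ≤ C := by
      rintro _ ⟨x, hx, rfl⟩
      exact hCn.conj_mem x (hPC hx) y
    have hP2p : IsPGroup p P2 := hP.map _
    have hCP2 : C ≤ Subgroup.normalizer (P2 : Set Y) := by
      intro c hc
      have hc' : y⁻¹ * c * y ∈ Subgroup.normalizer (P1 : Set Y) := by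
        apply hCP
        have := hCn.conj_mem c hc y⁻¹
        simpa using this
      rw [Subgroup.mem_normalizer_iff]
      intro h
      constructor
      · rintro ⟨x, hx, rfl⟩
        refine ⟨(y⁻¹ * c * y) * x * (y⁻¹ * c * y)⁻¹, (Subgroup.mem_normalizer_iff.mp hc' x).mp hx, ?_⟩
        simp only [MulEquiv.coe_toMonoidHom, MulAut.conj_apply]
        group
      · rintro ⟨x, hx, hxe⟩
        simp only [MulEquiv.coe_toMonoidHom, MulAut.conj_apply] at hxe
        have hx' : (y⁻¹ * c * y)⁻¹ * x * (y⁻¹ * c * y) ∈ P1 := by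
          have := (Subgroup.mem_normalizer_iff.mp (Subgroup.inv_mem _ hc') x).mp hx
          simpa using this
        refine ⟨(y⁻¹ * c * y)⁻¹ * x * (y⁻¹ * c * y), hx', ?_⟩
        simp only [MulEquiv.coe_toMonoidHom, MulAut.conj_apply]
        have : h = c⁻¹ * (y * x * y⁻¹) * c := by rw [hxe]; group
        rw [this]
        group
    have hnorm : (P2.subgroupOf C).Normal := (Subgroup.normal_subgroupOf_iff_le_normalizer hP2C).mpr hCP2
    have hle : P2.subgroupOf C ≤ Cfsg.pCore p ↥C :=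
      Cfsg.Agent.Lib.Helper76.le_pCore p _ hnorm (hP2p.comap_of_injective _ C.subtype_injective)
    have := Subgroup.map_mono (f := C.subtype) hle
    rwa [Subgroup.map_subgroupOf_eq_of_le hP2C] at this
  have hK : Subgroup.normalClosure (P1 : Set Y) ≤ QC := by
    unfold Subgroup.normalClosure
    rw [Subgroup.closure_le]
    intro z hz
    obtain ⟨x, hx, hxz⟩ := Group.mem_conjugatesOfSet_iff.mp hz
    obtain ⟨y, rfl⟩ := isConj_iff.mp hxz
    exact hconj y ⟨x, hx, rfl⟩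
  have hKp : IsPGroup p (Subgroup.normalClosure (P1 : Set Y)) := hQCp.to_le hK
  exact (Subgroup.subset_normalClosure).trans
    (Cfsg.Agent.Lib.Helper76.le_pCore p _ Subgroup.normalClosure_normal hKp)

/-- the final step: `g` is a `p`-element whose normal closure is a `p`-group modulo a normal subgroup `C` with
`[g, C] ≤ O_p(Y)`; then `g ∈ O_p(Y)` -/
theorem mem_pCore_of_central_mod (g : Y) (hgp : ∃ k : ℕ, g ^ p ^ k = 1) (C : Subgroup Y) [hCn : C.Normal]
    (h1 : ∀ m ∈ Subgroup.normalClosure ({g} : Set Y), ∃ k : ℕ, m ^ p ^ k ∈ C)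
    (h2 : ∀ c ∈ C, ⁅g, c⁆ ∈ Cfsg.pCore p Y) : g ∈ Cfsg.pCore p Y := by
  set Q := Cfsg.pCore p Y with hQ
  have hQn : Q.Normal := Subgroup.sSup_normal _ (fun _ h => h.1)
  have hQp : IsPGroup p Q := Cfsg.Agent.Lib.Helper76.pCore_isPGroup p
  set π : Y →* Y ⧸ Q := QuotientGroup.mk' Q with hπ
  have hπs : Function.Surjective π := QuotientGroup.mk'_surjective Q
  set M := Subgroup.normalClosure ({g} : Set Y) with hM
  set Mbar := M.map π with hMbar
  have hMn : Mbar.Normal := Subgroup.Normal.map Subgroup.normalClosure_normal π hπs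
  set Cbar := C.map π with hCbar
  have hCbn : Cbar.Normal := Subgroup.Normal.map hCn π hπs
  -- `Mbar` centralizes `Cbar`
  have hgc : π g ∈ Subgroup.centralizer (Cbar : Set (Y ⧸ Q)) := by
    rw [Subgroup.mem_centralizer_iff]
    rintro _ ⟨c, hc, rfl⟩
    have h3 := h2 c hc
    rw [← QuotientGroup.eq_one_iff, commutatorElement_def] at h3
    have h4 : π g * π c * (π g)⁻¹ * (π c)⁻¹ = 1 := by
      rw [← map_inv, ← map_inv, ← map_mul, ← map_mul, ← map_mul]
      exact h3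
    calc π c * π g = (π g * π c * (π g)⁻¹ * (π c)⁻¹)⁻¹ * (π g * π c) := by group
      _ = π g * π c := by rw [h4]; simp
  have hMc : Mbar ≤ Subgroup.centralizer (Cbar : Set (Y ⧸ Q)) := by
    rw [hMbar, Subgroup.map_le_iff_le_comap]
    apply Subgroup.normalClosure_le_normal
    intro x hx
    rw [Set.mem_singleton_iff.mp hx]
    exact hgc
  -- the quotient of `Mbar` by its centre is a `p`-group
  have hquot : IsPGroup p (↥Mbar ⧸ Subgroup.center ↥Mbar) := by
    intro q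
    induction q using QuotientGroup.induction_on with
    | H k =>
      obtain ⟨k0, hk0⟩ := k
      obtain ⟨m, hm, rfl⟩ := hk0
      obtain ⟨j, hj⟩ := h1 m hm
      refine ⟨j, ?_⟩
      rw [← QuotientGroup.mk_pow, QuotientGroup.eq_one_iff, Subgroup.mem_center_iff]
      rintro ⟨k', hk'⟩
      apply Subtype.ext
      have h5 : (π m) ^ p ^ j ∈ Cbar := by
        rw [← map_pow]
        exact Subgroup.mem_map_of_mem _ hj
      have h6 := (Subgroup.mem_centralizer_iff.mp (hMc hk')) _ h5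
      show k' * (π m) ^ p ^ j = (π m) ^ p ^ j * k'
      exact h6.symm
  have hnil : Group.IsNilpotent ↥Mbar := Group.of_quotient_center_nilpotent hquot.isNilpotent
  obtain P : Sylow p ↥Mbar := Classical.arbitrary _
  have htfae : Group.IsNilpotent ↥Mbar ↔
      ∀ (q : ℕ) (_ : Fact q.Prime) (P' : Sylow q ↥Mbar), (P' : Subgroup ↥Mbar).Normal :=
    (Group.isNilpotent_of_finite_tfae (G := ↥Mbar)).out 0 3
  have hPn : (P : Subgroup ↥Mbar).Normal := htfae.mp hnil p inferInstance P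
  have hPc : (P : Subgroup ↥Mbar).Characteristic := Sylow.characteristic_of_normal P hPn
  have hN'n : ((P : Subgroup ↥Mbar).map Mbar.subtype).Normal := ConjAct.normal_of_characteristic_of_normal
  have hN'p : IsPGroup p ((P : Subgroup ↥Mbar).map Mbar.subtype) := P.2.map _
  have hN''p : IsPGroup p (((P : Subgroup ↥Mbar).map Mbar.subtype).comap π) := by
    apply hN'p.comap_of_ker_isPGroup
    rw [hπ, QuotientGroup.ker_mk']
    exact hQp
  have hN''le : ((P : Subgroup ↥Mbar).map Mbar.subtype).comap π ≤ Q :=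
    Cfsg.Agent.Lib.Helper76.le_pCore p _ (hN'n.comap π) hN''p
  apply hN''le
  rw [Subgroup.mem_comap]
  have hgM : π g ∈ Mbar := Subgroup.mem_map_of_mem _ (Subgroup.subset_normalClosure (Set.mem_singleton g))
  obtain ⟨k, hk⟩ := hgp
  have hzp : IsPGroup p (Subgroup.zpowers (⟨π g, hgM⟩ : ↥Mbar)) := by
    rintro ⟨x, hx⟩
    obtain ⟨n, rfl⟩ := Subgroup.mem_zpowers_iff.mp hx
    refine ⟨k, ?_⟩
    apply Subtype.ext
    apply Subtype.ext
    simp only [Subgroup.coe_pow, Subgroup.coe_zpow, Subgroup.coe_one]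
    rw [← zpow_natCast, zpow_comm, zpow_natCast, ← map_pow, hk, map_one, one_zpow]
  obtain ⟨P', hP'⟩ := hzp.exists_le_sylow
  have : Unique (Sylow p ↥Mbar) := Sylow.unique_of_normal P hPn
  have hPP' : P' = P := Subsingleton.elim _ _
  rw [hPP'] at hP'
  exact ⟨⟨π g, hgM⟩, hP' (Subgroup.mem_zpowers _), rfl⟩

end constrained

end Cfsg.Agent.Lib.Helper33
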