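import Mathlib
import Cfsg.Agent.Lib.Helper43.MonoStar

/-!
# S5634-[GL-L5] (helper43's project): `gl_finish`

`q ≥ 5`, `card ι ≥ 3`, all diagonal elements in `Y`, every element of `Y` with a zero entry is
monomial: then `Y` is monomial.
-/

set_option autoImplicit false
set_option linter.unusedSectionVars false
set_option linter.unusedVariables false

namespace Cfsg.Agent.Lib.Helper33

open Matrix Cfsg.Geo Cfsg.Agent.Lib.Helper93 Cfsg.Agent.Lib.Helper43

variable {ι : Type} [Fintype ι] [DecidableEq ι] {F : Type*} [Field F]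

/-- two distinct elements of a field with at least 5 elements avoiding three given values -/
theorem exists_two_avoiding [Fintype F] (hq : 5 ≤ Fintype.card F) (x y z : F) :
    ∃ s₁ s₂ : F, s₁ ≠ s₂ ∧ s₁ ≠ x ∧ s₁ ≠ y ∧ s₁ ≠ z ∧ s₂ ≠ x ∧ s₂ ≠ y ∧ s₂ ≠ z := by
  classical
  have hT : ({x, y, z} : Finset F).card ≤ 3 := Finset.card_le_three
  have hcard : 1 < (Finset.univ \ ({x, y, z} : Finset F)).card := by
    have h1 := Finset.card_sdiff_add_card_eq_card (Finset.subset_univ ({x, y, z} : Finset F))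
    rw [Finset.card_univ] at h1
    omega
  obtain ⟨s₁, hs₁, s₂, hs₂, hne⟩ := Finset.one_lt_card.1 hcard
  simp only [Finset.mem_sdiff, Finset.mem_univ, true_and, Finset.mem_insert,
    Finset.mem_singleton, not_or] at hs₁ hs₂
  exact ⟨s₁, s₂, hne, hs₁.1, hs₁.2.1, hs₁.2.2, hs₂.1, hs₂.2.1, hs₂.2.2⟩

/-- entries of `g * dg d * g⁻¹` for `d` equal to `1` outside `a`, `b`. -/
theorem conj_dg_two_apply (g : GL ι F) {a b : ι} (hab : a ≠ b) (ua ub : Fˣ) (i' k' : ι) :
    ((g * dg (Function.update (Function.update (1 : ι → Fˣ) a ua) b ub) * g⁻¹ : GL ι F) :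
        Matrix ι ι F) i' k' =
      (1 : Matrix ι ι F) i' k' +
        (((ua : F) - 1) * (g : Matrix ι ι F) i' a * ((g⁻¹ : GL ι F) : Matrix ι ι F) a k' +
          ((ub : F) - 1) * (g : Matrix ι ι F) i' b * ((g⁻¹ : GL ι F) : Matrix ι ι F) b k') := by
  classical
  rw [mul_dg_mul_apply]
  have hGΦ : (g : Matrix ι ι F) * ((g⁻¹ : GL ι F) : Matrix ι ι F) = 1 := by
    rw [← Units.val_mul, mul_inv_cancel, Units.val_one]
  have hterm : ∀ j, (g : Matrix ι ι F) i' j *
      ((Function.update (Function.update (1 : ι → Fˣ) a ua) b ub j : Fˣ) : F) *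
        ((g⁻¹ : GL ι F) : Matrix ι ι F) j k' =
      (g : Matrix ι ι F) i' j * ((g⁻¹ : GL ι F) : Matrix ι ι F) j k' +
        ((if j = a then ((ua : F) - 1) * (g : Matrix ι ι F) i' a *
            ((g⁻¹ : GL ι F) : Matrix ι ι F) a k' else 0) +
          (if j = b then ((ub : F) - 1) * (g : Matrix ι ι F) i' b *
            ((g⁻¹ : GL ι F) : Matrix ι ι F) b k' else 0)) := by
    intro j
    by_cases hjb : j = b
    · subst hjb
      rw [Function.update_self, if_neg (Ne.symm hab), if_pos rfl]
      ring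
    · by_cases hja : j = a
      · subst hja
        rw [Function.update_of_ne hjb, Function.update_self, if_pos rfl, if_neg hjb]
        ring
      · rw [Function.update_of_ne hjb, Function.update_of_ne hja, if_neg hja, if_neg hjb]
        simp
  rw [Finset.sum_congr rfl (fun j _ => hterm j), Finset.sum_add_distrib, Finset.sum_add_distrib,
    Finset.sum_ite_eq' Finset.univ a, Finset.sum_ite_eq' Finset.univ b, if_pos (Finset.mem_univ _),
    if_pos (Finset.mem_univ _), ← Matrix.mul_apply, hGΦ]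

/-- **[GL-L5]** -/
theorem gl_finish [Fintype F] (hq : 5 ≤ Fintype.card F) (hcard : 3 ≤ Fintype.card ι)
    {Y : Subgroup (GL ι F)} (hD : ∀ d : ι → Fˣ, dg d ∈ Y)
    (hzero : ∀ g ∈ Y, (∃ l i, (g : Matrix ι ι F) l i = 0) → g ∈ Mono ι F) : Y ≤ Mono ι F := by
  classical
  intro g hgY
  by_contra hgM
  have hφY : g⁻¹ ∈ Y := Y.inv_mem hgY
  have hφM : g⁻¹ ∉ Mono ι F := fun h => hgM ((Mono ι F).inv_mem_iff.1 h)
  have hG : ∀ i j, (g : Matrix ι ι F) i j ≠ 0 := fun i j h => hgM (hzero g hgY ⟨i, j, h⟩)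
  have hΦ : ∀ i j, ((g⁻¹ : GL ι F) : Matrix ι ι F) i j ≠ 0 :=
    fun i j h => hφM (hzero _ hφY ⟨i, j, h⟩)
  have hΦG : ((g⁻¹ : GL ι F) : Matrix ι ι F) * (g : Matrix ι ι F) = 1 := by
    rw [← Units.val_mul, inv_mul_cancel, Units.val_one]
  generalize hGdef : (g : Matrix ι ι F) = G at hG hΦG
  generalize hΦdef : ((g⁻¹ : GL ι F) : Matrix ι ι F) = Φ at hΦ hΦG
  obtain ⟨a, b, hab⟩ : ∃ a b : ι, a ≠ b := Fintype.one_lt_card_iff.1 (by omega)
  -- the key proportionality
  have key : ∀ i k k', i ≠ k → i ≠ k' → Φ b k * Φ a k' = Φ a k * Φ b k' := by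
    intro i k k' hik hik'
    by_contra hm
    have hca : G i a * Φ a k ≠ 0 := mul_ne_zero (hG i a) (hΦ a k)
    have hcb : G i b * Φ b k ≠ 0 := mul_ne_zero (hG i b) (hΦ b k)
    set ca := G i a * Φ a k with hca_def
    set cb := G i b * Φ b k with hcb_def
    -- for every admissible `s`: `1 + s κ = 0`
    have hadm : ∀ s : F, s ≠ 0 → s ≠ -cb⁻¹ → s ≠ ca⁻¹ →
        1 + s * (cb * G i a * Φ a i - ca * G i b * Φ b i) = 0 := by
      intro s hs0 hs1 hs2
      have hua : 1 + s * cb ≠ 0 := by
        intro h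
        apply hs1
        field_simp
        linear_combination h
      have hub : 1 - s * ca ≠ 0 := by
        intro h
        apply hs2
        field_simp
        linear_combination -h
      set ua : Fˣ := Units.mk0 _ hua with hua_def
      set ub : Fˣ := Units.mk0 _ hub with hub_def
      set y : GL ι F := g * dg (Function.update (Function.update (1 : ι → Fˣ) a ua) b ub) * g⁻¹
        with hy
      have hyY : y ∈ Y := Y.mul_mem (Y.mul_mem hgY (hD _)) hφY
      have hent : ∀ i' k', (y : Matrix ι ι F) i' k' = (1 : Matrix ι ι F) i' k' +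
          s * (cb * G i' a * Φ a k' - ca * G i' b * Φ b k') := by
        intro i' k'
        rw [hy, conj_dg_two_apply g hab ua ub i' k', hGdef, hΦdef, hua_def, hub_def,
          Units.val_mk0, Units.val_mk0]
        ring
      have hyik : (y : Matrix ι ι F) i k = 0 := by
        rw [hent, Matrix.one_apply_ne hik, hca_def, hcb_def]
        ring
      have hyM : y ∈ Mono ι F := hzero y hyY ⟨i, k, hyik⟩
      have hyik' : (y : Matrix ι ι F) i k' ≠ 0 := by
        rw [hent, Matrix.one_apply_ne hik', zero_add]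
        have : s * (cb * G i a * Φ a k' - ca * G i b * Φ b k') =
            s * G i a * G i b * (Φ b k * Φ a k' - Φ a k * Φ b k') := by
          rw [hca_def, hcb_def]; ring
        rw [this]
        exact mul_ne_zero (mul_ne_zero (mul_ne_zero hs0 (hG i a)) (hG i b)) (sub_ne_zero.2 hm)
      have hyii : (y : Matrix ι ι F) i i = 0 := by
        by_contra hne
        exact hik' (IsMono.row_unique hyM hne hyik')
      rw [hent, Matrix.one_apply_eq] at hyii
      exact hyii
    obtain ⟨s₁, s₂, hne, h10, h11, h12, h20, h21, h22⟩ := exists_two_avoiding hq 0 (-cb⁻¹) ca⁻¹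
    have e1 := hadm s₁ h10 h11 h12
    have e2 := hadm s₂ h20 h21 h22
    have hκ : (s₁ - s₂) * (cb * G i a * Φ a i - ca * G i b * Φ b i) = 0 := by
      linear_combination e1 - e2
    rcases mul_eq_zero.1 hκ with h | h
    · exact hne (sub_eq_zero.1 h)
    · rw [h, mul_zero, add_zero] at e1
      exact one_ne_zero e1
  have key' : ∀ k k', Φ b k * Φ a k' = Φ a k * Φ b k' := by
    intro k k'
    obtain ⟨i, hi⟩ : ∃ i : ι, i ∉ ({k, k'} : Finset ι) := by
      have h2 : ({k, k'} : Finset ι).card ≤ 2 := Finset.card_le_two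
      have hlt : ({k, k'} : Finset ι).card < (Finset.univ : Finset ι).card := by
        rw [Finset.card_univ]; omega
      obtain ⟨i, -, hi⟩ := Finset.exists_mem_notMem_of_card_lt_card hlt
      exact ⟨i, hi⟩
    simp only [Finset.mem_insert, Finset.mem_singleton, not_or] at hi
    exact key i k k' hi.1 hi.2
  -- contradiction
  have haa : ∑ k', Φ a k' * G k' a = 1 := by
    have := congrFun (congrFun hΦG a) a
    rwa [Matrix.mul_apply, Matrix.one_apply_eq] at this
  have hba : ∑ k', Φ b k' * G k' a = 0 := by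
    have := congrFun (congrFun hΦG b) a
    rwa [Matrix.mul_apply, Matrix.one_apply_ne (Ne.symm hab)] at this
  have : Φ b a = 0 := by
    calc Φ b a = Φ b a * ∑ k', Φ a k' * G k' a := by rw [haa, mul_one]
      _ = ∑ k', Φ b a * Φ a k' * G k' a := by
        rw [Finset.mul_sum]; exact Finset.sum_congr rfl (fun _ _ => by ring)
      _ = ∑ k', Φ a a * Φ b k' * G k' a :=
        Finset.sum_congr rfl (fun k' _ => by rw [key' a k'])
      _ = Φ a a * ∑ k', Φ b k' * G k' a := by
        rw [Finset.mul_sum]; exact Finset.sum_congr rfl (fun _ _ => by ring)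
      _ = 0 := by rw [hba, mul_zero]
  exact hΦ b a this

end Cfsg.Agent.Lib.Helper33
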