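import Cfsg.Agent.Lib.Helper11.NoSL2Stable

/-!
# `p`-stability from `SL₂(p)`-freeness of automizers (helper33 library)

Variants of helper11's `NoSL2Stable` results where only the automizer `Γ ⧸ C_Γ(R)` of the normal `p`-subgroup `R`
is assumed not to involve `SL₂(p)`.
-/

set_option autoImplicit false
set_option linter.style.haveILetI false

namespace Cfsg.Agent.Lib.Helper33

open Cfsg Cfsg.Agent.Lib.Helper11
open scoped commutatorElement

universe u v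

/-- elementary abelian case -/
theorem mem_stabCore_of_quadratic_of_autNoSL2 {G : Type u} [Group G] [Finite G]
    {p : ℕ} [Fact p.Prime] (hp : p ≠ 2) (V : Subgroup G) [hVn : V.Normal]
    (hno : ¬ InvolvesSL2 p (G ⧸ Subgroup.centralizer (V : Set G)))
    (hV : IsElementaryAbelian p V) (a : G)
    (ha : ⁅⁅V, Subgroup.zpowers a⁆, Subgroup.zpowers a⁆ = ⊥) : a ∈ stabCore p V := by
  classical
  have hcV : ∀ x y : ↥V, x * y = y * x := fun x y => hV.1.is_comm.comm x y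
  have hVexp : ∀ v : ↥V, v ^ p = 1 := fun v => Subtype.ext (by simpa using hV.2 _ v.2)
  obtain ⟨φ, hφ⟩ : ∃ φ : G →* MulAut ↥V, φ = MulAut.conjNormal := ⟨_, rfl⟩
  have hφa : ∀ (g : G) (v : ↥V), ((φ g v : ↥V) : G) = g * v * g⁻¹ := by
    intro g v
    rw [hφ]
    exact MulAut.conjNormal_apply g v
  have hquad : ∀ c : G, ⁅⁅V, Subgroup.zpowers c⁆, Subgroup.zpowers c⁆ = ⊥ →
      ∀ v : ↥V, φ c (φ c v) * v = φ c v * φ c v := by
    intro c hc v
    have hq1 := (Cfsg.Agent.Lib.Helper97.quad_iff V c).mp hc v v.2 c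
      (Subgroup.mem_zpowers c) c (Subgroup.mem_zpowers c)
    have e1 : ⁅⁅(v : G), c⁆, c⁆ =
        (v : G) * (c * v * c⁻¹)⁻¹ * ((c * (c * v * c⁻¹) * c⁻¹) * (c * v * c⁻¹)⁻¹) := by
      rw [commutatorElement_def, commutatorElement_def]
      group
    rw [e1] at hq1
    have hq2 : v * (φ c v)⁻¹ * (φ c (φ c v) * (φ c v)⁻¹) = 1 := by
      apply Subtype.ext
      simp only [Subgroup.coe_mul, Subgroup.coe_inv, hφa, Subgroup.coe_one]
      exact hq1
    exact Cfsg.Agent.Lib.Helper97.comm_rearr hcV _ _ _ hq2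
  set C := Subgroup.centralizer (V : Set G) with hC
  set π := QuotientGroup.mk' C with hπ
  have hker : C ≤ φ.ker := by
    intro x hx
    rw [MonoidHom.mem_ker, hφ]
    exact (mem_ker_conjNormal V x).mpr hx
  obtain ⟨φb, hφb⟩ : ∃ φb : G ⧸ C →* MulAut ↥V, φb = QuotientGroup.lift C φ hker := ⟨_, rfl⟩
  have hφbπ : ∀ x : G, φb (π x) = φ x := by
    intro x
    rw [hφb, hπ, QuotientGroup.mk'_apply, QuotientGroup.lift_mk]
  have hpair : ∀ g : G, ∀ h ∈ Subgroup.closure ({a, g * a * g⁻¹} : Set G),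
      ∃ k : ℕ, h ^ (p ^ k) ∈ C := by
    intro g h hh
    letI : CommGroup ↥V := { (inferInstance : Group ↥V) with mul_comm := hcV }
    have hmem : π h ∈ Subgroup.closure ({π a, π (g * a * g⁻¹)} : Set (G ⧸ C)) := by
      have h1 := Subgroup.mem_map_of_mem π hh
      rw [MonoidHom.map_closure, Set.image_pair] at h1
      exact h1
    have hqa : ∀ v : ↥V, φb (π a) (φb (π a) v) * v = φb (π a) v * φb (π a) v := by
      intro v
      rw [hφbπ]
      exact hquad a ha v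
    have hqb : ∀ v : ↥V, φb (π (g * a * g⁻¹)) (φb (π (g * a * g⁻¹)) v) * v =
        φb (π (g * a * g⁻¹)) v * φb (π (g * a * g⁻¹)) v := by
      intro v
      rw [hφbπ]
      exact hquad _ (Cfsg.Agent.Lib.Helper97.quad_conj ha g) v
    obtain ⟨k, hk⟩ := exists_pow_eq_one_of_quad_pair_noSL2 hp hno (p := p) (A := ↥V) hVexp φb (π a)
      (π (g * a * g⁻¹)) hqa hqb (π h) hmem
    refine ⟨k, ?_⟩
    rw [← map_pow, hφbπ, hφ] at hk
    exact (mem_ker_conjNormal V _).mp hk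
  have hBS : ∀ g' : G ⧸ C, IsPGroup p ↥(Subgroup.zpowers (π a) ⊔
      (Subgroup.zpowers (π a)).map (MulAut.conj g').toMonoidHom) := by
    intro g'
    obtain ⟨g, rfl⟩ := QuotientGroup.mk'_surjective C g'
    have hle : Subgroup.zpowers (π a) ⊔
        (Subgroup.zpowers (π a)).map (MulAut.conj (QuotientGroup.mk' C g)).toMonoidHom ≤
        (Subgroup.closure ({a, g * a * g⁻¹} : Set G)).map π := by
      apply sup_le
      · rw [Subgroup.zpowers_le]
        exact Subgroup.mem_map_of_mem _ (Subgroup.subset_closure (by simp))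
      · rw [MonoidHom.map_zpowers, Subgroup.zpowers_le]
        refine ⟨g * a * g⁻¹, Subgroup.subset_closure (by simp), ?_⟩
        simp [hπ, MulAut.conj_apply]
    refine IsPGroup.to_le ?_ hle
    rintro ⟨_, h, hh, rfl⟩
    obtain ⟨k, hk⟩ := hpair g h hh
    refine ⟨k, Subtype.ext ?_⟩
    rw [Subgroup.coe_pow, Subgroup.coe_one]
    show (π h) ^ (p ^ k) = 1
    rw [← map_pow]
    exact (QuotientGroup.eq_one_iff _).mpr hk
  have hX : IsPGroup p ↥(Subgroup.zpowers (π a)) := IsPGroup.to_le (hBS 1) le_sup_left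
  obtain ⟨N, hNn, hNp, hXN⟩ := Cfsg.Agent.S0199.result (Subgroup.zpowers (π a)) hX hBS
  rw [mem_stabCore_iff]
  exact Cfsg.Agent.Lib.Helper97.le_pCore_of_normal hNn hNp (hXN (Subgroup.mem_zpowers _))

theorem exists_normal_of_quadratic_autNoSL2 {G : Type u} [Group G] [Finite G]
    {p : ℕ} [Fact p.Prime] (hp : p ≠ 2) (V : Subgroup G) [V.Normal]
    (hno : ¬ InvolvesSL2 p (G ⧸ Subgroup.centralizer (V : Set G)))
    (hV : IsElementaryAbelian p V) (a : G)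
    (ha : ⁅⁅V, Subgroup.zpowers a⁆, Subgroup.zpowers a⁆ = ⊥) :
    ∃ D : Subgroup G, D.Normal ∧ a ∈ D ∧
      ∀ d ∈ D, ∃ k : ℕ, d ^ (p ^ k) ∈ Subgroup.centralizer (V : Set G) :=
  ⟨stabCore p V, inferInstance, mem_stabCore_of_quadratic_of_autNoSL2 hp V hno hV a ha,
    fun _ hd => exists_pow_mem_centralizer_of_mem_stabCore p V hd⟩

/-- Section version: `Q / Φ` elementary abelian, `a` quadratic on `Q / Φ`. -/
theorem exists_normal_of_quadratic_mod_autNoSL2 {Γ : Type u} [Group Γ] [Finite Γ] {p : ℕ}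
    [Fact p.Prime] (hp : p ≠ 2) (Q Φ : Subgroup Γ) [hQn : Q.Normal] [hΦn : Φ.Normal]
    (hno : ¬ InvolvesSL2 p (Γ ⧸ Subgroup.centralizer (Q : Set Γ)))
    (hcomm : ⁅Q, Q⁆ ≤ Φ) (hpow : ∀ x ∈ Q, x ^ p ∈ Φ) (a : Γ)
    (ha : ⁅⁅Q, Subgroup.zpowers a⁆, Subgroup.zpowers a⁆ ≤ Φ) :
    ∃ D : Subgroup Γ, D.Normal ∧ a ∈ D ∧
      ∀ d ∈ D, ∃ k : ℕ, ∀ r ∈ Q, d ^ (p ^ k) * r * (d ^ (p ^ k))⁻¹ * r⁻¹ ∈ Φ := by
  have hsurj := QuotientGroup.mk'_surjective Φ
  set V' : Subgroup (Γ ⧸ Φ) := Q.map (QuotientGroup.mk' Φ) with hV'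
  have hVn : V'.Normal := hQn.map _ hsurj
  have hVel : IsElementaryAbelian p V' := by
    refine ⟨⟨⟨?_⟩⟩, ?_⟩
    · rintro ⟨_, x, hx, rfl⟩ ⟨_, y, hy, rfl⟩
      apply Subtype.ext
      show (QuotientGroup.mk' Φ) x * (QuotientGroup.mk' Φ) y =
        (QuotientGroup.mk' Φ) y * (QuotientGroup.mk' Φ) x
      have h1 : ⁅x, y⁆ ∈ Φ := hcomm (Subgroup.commutator_mem_commutator hx hy)
      have h2 : (QuotientGroup.mk' Φ) ⁅x, y⁆ = 1 := (QuotientGroup.eq_one_iff _).mpr h1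
      rw [map_commutatorElement, commutatorElement_eq_one_iff_commute] at h2
      exact h2.eq
    · rintro _ ⟨x, hx, rfl⟩
      rw [← map_pow]
      exact (QuotientGroup.eq_one_iff _).mpr (hpow x hx)
  have hquad : ⁅⁅V', Subgroup.zpowers ((QuotientGroup.mk' Φ) a)⁆,
      Subgroup.zpowers ((QuotientGroup.mk' Φ) a)⁆ = ⊥ := by
    rw [hV', ← MonoidHom.map_zpowers, ← Subgroup.map_commutator, ← Subgroup.map_commutator,
      eq_bot_iff]
    calc _ ≤ Φ.map (QuotientGroup.mk' Φ) := Subgroup.map_mono ha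
      _ = ⊥ := QuotientGroup.map_mk'_self Φ
  -- the automizer of `V'` is a quotient of the automizer of `Q`
  have hno' : ¬ InvolvesSL2 p ((Γ ⧸ Φ) ⧸ Subgroup.centralizer (V' : Set (Γ ⧸ Φ))) := by
    intro hinv
    apply hno
    have hker : Subgroup.centralizer (Q : Set Γ) ≤
        ((QuotientGroup.mk' (Subgroup.centralizer (V' : Set (Γ ⧸ Φ)))).comp (QuotientGroup.mk' Φ)).ker := by
      intro x hx
      rw [MonoidHom.mem_ker, MonoidHom.comp_apply, QuotientGroup.mk'_apply, QuotientGroup.eq_one_iff,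
        Subgroup.mem_centralizer_iff]
      rintro _ ⟨q, hq, rfl⟩
      have h1 := (Subgroup.mem_centralizer_iff.mp hx) q hq
      rw [← map_mul, ← map_mul, h1]
    refine InvolvesSL2.of_surjective (QuotientGroup.lift (Subgroup.centralizer (Q : Set Γ)) _ hker) ?_ hinv
    intro y
    obtain ⟨y1, rfl⟩ := QuotientGroup.mk'_surjective _ y
    obtain ⟨y2, rfl⟩ := QuotientGroup.mk'_surjective Φ y1
    exact ⟨QuotientGroup.mk y2, by rw [QuotientGroup.lift_mk]; rfl⟩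
  obtain ⟨D', hD'n, haD', hD'⟩ := exists_normal_of_quadratic_autNoSL2 hp V' hno' hVel _ hquad
  refine ⟨D'.comap (QuotientGroup.mk' Φ), hD'n.comap _, haD', ?_⟩
  intro d hd
  obtain ⟨k, hk⟩ := hD' _ hd
  refine ⟨k, fun r hr => ?_⟩
  rw [Subgroup.mem_centralizer_iff] at hk
  have h1 := hk _ (Subgroup.mem_map_of_mem (QuotientGroup.mk' Φ) hr)
  rw [← QuotientGroup.eq_one_iff]
  have h2 : ((d ^ (p ^ k) * r * (d ^ (p ^ k))⁻¹ * r⁻¹ : Γ) : Γ ⧸ Φ) =
      (QuotientGroup.mk' Φ d) ^ (p ^ k) * (QuotientGroup.mk' Φ r) *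
        ((QuotientGroup.mk' Φ d) ^ (p ^ k))⁻¹ * (QuotientGroup.mk' Φ r)⁻¹ := by
    simp
  rw [h2, ← h1]
  group

/-- Version for an arbitrary normal `p`-subgroup whose automizer does not involve `SL₂(p)`. -/
theorem exists_normal_of_quadratic_pgroup_autNoSL2 {Γ : Type u} [Group Γ] [Finite Γ] {p : ℕ}
    [Fact p.Prime] (hp2 : p ≠ 2) (R : Subgroup Γ) [hRn : R.Normal]
    (hno : ¬ InvolvesSL2 p (Γ ⧸ Subgroup.centralizer (R : Set Γ)))
    (hR : IsPGroup p R) (a : Γ)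
    (ha : ⁅⁅R, Subgroup.zpowers a⁆, Subgroup.zpowers a⁆ = ⊥) :
    ∃ D : Subgroup Γ, D.Normal ∧ a ∈ D ∧
      ∀ d ∈ D, ∃ k : ℕ, d ^ (p ^ k) ∈ Subgroup.centralizer (R : Set Γ) := by
  have hp : p.Prime := Fact.out
  have hΦn : (Cfsg.Agent.Lib.Helper70.frattiniIn R).Normal := inferInstance
  have hcomm : ⁅R, R⁆ ≤ Cfsg.Agent.Lib.Helper70.frattiniIn R :=
    Cfsg.Agent.Lib.Helper97.commutator_le_map_frattini hR
  have hpow : ∀ x ∈ R, x ^ p ∈ Cfsg.Agent.Lib.Helper70.frattiniIn R :=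
    fun x hx => Cfsg.Agent.Lib.Helper97.pow_prime_mem_map_frattini hR hx
  have ha' : ⁅⁅R, Subgroup.zpowers a⁆, Subgroup.zpowers a⁆ ≤
      Cfsg.Agent.Lib.Helper70.frattiniIn R := by
    rw [ha]; exact bot_le
  obtain ⟨D, hDn, haD, hD⟩ := exists_normal_of_quadratic_mod_autNoSL2 hp2 R
    (Cfsg.Agent.Lib.Helper70.frattiniIn R) hno hcomm hpow a ha'
  refine ⟨D, hDn, haD, ?_⟩
  intro d hd
  obtain ⟨k, hk⟩ := hD d hd
  set y := d ^ (p ^ k) with hy
  have hyT : y ∈ Cfsg.Agent.Lib.Helper70.trivOnFrattiniQuot R :=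
    (Cfsg.Agent.Lib.Helper70.mem_trivOnFrattiniQuot R y).mpr hk
  have ho : orderOf y ≠ 0 := (orderOf_pos y).ne'
  obtain ⟨m, n, hn, hmn⟩ := Nat.exists_eq_pow_mul_and_not_dvd ho p hp.ne_one
  have hzT : y ^ (p ^ m) ∈ Cfsg.Agent.Lib.Helper70.trivOnFrattiniQuot R := pow_mem hyT _
  have hzo : orderOf (y ^ (p ^ m)) ∣ n := by
    apply orderOf_dvd_of_pow_eq_one
    rw [← pow_mul, ← hmn]
    exact pow_orderOf_eq_one y
  have hcop : (orderOf (y ^ (p ^ m))).Coprime p :=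
    Nat.Coprime.coprime_dvd_left hzo ((Nat.Prime.coprime_iff_not_dvd hp).mpr hn).symm
  have hzC := Cfsg.Agent.Lib.Helper70.mem_centralizer_of_coprime R hR _ hzT hcop
  refine ⟨k + m, ?_⟩
  have : d ^ (p ^ (k + m)) = y ^ (p ^ m) := by
    rw [hy, ← pow_mul, pow_add]
  rw [this]
  exact hzC

/-- the conclusion in the form of `ECN` -/
theorem exists_pow_mem_centralizer_of_autNoSL2 {Y : Type u} [Group Y] [Finite Y] {p : ℕ}
    [Fact p.Prime] (hp2 : p ≠ 2) (P : Subgroup Y) [hPn : P.Normal]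
    (hno : ¬ InvolvesSL2 p (Y ⧸ Subgroup.centralizer (P : Set Y)))
    (hP : IsPGroup p P) (g : Y)
    (hquad : ⁅⁅P, Subgroup.zpowers g⁆, Subgroup.zpowers g⁆ = ⊥) :
    ∀ y ∈ Subgroup.normalClosure ({g} : Set Y), ∃ k : ℕ, y ^ p ^ k ∈ Subgroup.centralizer (P : Set Y) := by
  obtain ⟨D, hDn, hgD, hD⟩ := exists_normal_of_quadratic_pgroup_autNoSL2 hp2 P hno hP g hquad
  intro y hy
  have hle : Subgroup.normalClosure ({g} : Set Y) ≤ D :=
    Subgroup.normalClosure_le_normal (by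
      intro x hx
      rw [Set.mem_singleton_iff.mp hx]
      exact hgD)
  exact hD y (hle hy)

end Cfsg.Agent.Lib.Helper33
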