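import Mathlib
import Cfsg.Agent.Lib.Helper44.O7.Defs

set_option autoImplicit false

/-!
# S2647 module [IRRED] (helper33, for helper44)

The even-weight sign vectors of length `7` form an irreducible module for `A₇`.
-/



namespace Cfsg.Agent.Lib.Helper33.O7
open Cfsg.Agent.Lib.Helper44.O7

/-- the sign vector with `-1` exactly at `a` and `b` -/
def dd (a b : Fin 7) : Fin 7 → ℤˣ := fun k => if k = a ∨ k = b then -1 else 1

theorem dd_comm (a b : Fin 7) : dd a b = dd b a := by
  funext k
  exact if_congr or_comm rfl rfl

theorem dd_conj (σ : Equiv.Perm (Fin 7)) (a b : Fin 7) :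
    (fun k => dd a b (σ⁻¹ k)) = dd (σ a) (σ b) := by
  funext k
  exact if_congr (by rw [Equiv.Perm.inv_eq_iff_eq, Equiv.Perm.inv_eq_iff_eq]) rfl rfl

theorem dd_mul_self (a b : Fin 7) : dd a b * dd a b = 1 := by
  funext k
  exact Int.units_mul_self _

/-- 2-homogeneity of `A₇` on weight-two vectors. -/
theorem dd_mem_of_dd_mem (Λ : Subgroup (Fin 7 → ℤˣ))
    (hinv : ∀ σ : Equiv.Perm (Fin 7), Equiv.Perm.sign σ = 1 → ∀ ε ∈ Λ, (fun k => ε (σ⁻¹ k)) ∈ Λ)
    {a b a' b' : Fin 7} (hab : a ≠ b) (hab' : a' ≠ b') (h : dd a b ∈ Λ) : dd a' b' ∈ Λ := by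
  -- a permutation with `a ↦ a'`, `b ↦ b'`
  obtain ⟨σ, hσa, hσb⟩ : ∃ σ : Equiv.Perm (Fin 7), σ a = a' ∧ σ b = b' := by
    refine ⟨Equiv.swap (Equiv.swap a a' b) b' * Equiv.swap a a', ?_, ?_⟩
    · rw [Equiv.Perm.mul_apply, Equiv.swap_apply_left]
      apply Equiv.swap_apply_of_ne_of_ne
      · intro h1
        have h2 : Equiv.swap a a' a = Equiv.swap a a' b := by rw [Equiv.swap_apply_left]; exact h1
        exact hab ((Equiv.swap a a').injective h2)
      · exact hab'
    · rw [Equiv.Perm.mul_apply, Equiv.swap_apply_left]
  rcases Int.units_eq_one_or (Equiv.Perm.sign σ) with hs | hs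
  · have := hinv σ hs _ h
    rwa [dd_conj, hσa, hσb] at this
  · have hs' : Equiv.Perm.sign (σ * Equiv.swap a b) = 1 := by
      rw [Equiv.Perm.sign_mul, hs, Equiv.Perm.sign_swap hab]
      rfl
    have := hinv _ hs' _ h
    rw [dd_conj, Equiv.Perm.mul_apply, Equiv.Perm.mul_apply, Equiv.swap_apply_left,
      Equiv.swap_apply_right, hσa, hσb, dd_comm] at this
    exact this

theorem evenSign_irreducible (Λ : Subgroup (Fin 7 → ℤˣ)) (hΛ : Λ ≤ evenSign) (hne : Λ ≠ ⊥)
    (hinv : ∀ σ : Equiv.Perm (Fin 7), Equiv.Perm.sign σ = 1 → ∀ ε ∈ Λ, (fun k => ε (σ⁻¹ k)) ∈ Λ) :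
    Λ = evenSign := by
  classical
  -- a nontrivial element
  obtain ⟨ε, hε, hε1⟩ : ∃ ε ∈ Λ, ε ≠ 1 := by
    rcases Subgroup.bot_or_exists_ne_one Λ with h | h
    · exact absurd h hne
    · exact h
  have hεeven : ∏ k, ε k = 1 := mem_evenSign.mp (hΛ hε)
  obtain ⟨i, hi⟩ : ∃ i, ε i = -1 := by
    by_contra hcon
    push Not at hcon
    apply hε1
    funext k
    rcases Int.units_eq_one_or (ε k) with h | h
    · exact h
    · exact absurd h (hcon k)
  obtain ⟨j, hj⟩ : ∃ j, ε j = 1 := by
    by_contra hcon
    push Not at hcon
    have hall : ∀ k, ε k = -1 := by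
      intro k
      rcases Int.units_eq_one_or (ε k) with h | h
      · exact absurd h (hcon k)
      · exact h
    have : ∏ k, ε k = -1 := by
      rw [Finset.prod_congr rfl (fun k _ => hall k)]
      decide
    rw [this] at hεeven
    exact absurd hεeven (by decide)
  have hij : i ≠ j := by
    intro h
    rw [h, hj] at hi
    exact absurd hi (by decide)
  -- two further positions with equal entries
  obtain ⟨k, hk, l, hl, hkl, hεkl⟩ : ∃ k ∈ (Finset.univ \ {i, j} : Finset (Fin 7)),
      ∃ l ∈ (Finset.univ \ {i, j} : Finset (Fin 7)), k ≠ l ∧ ε k = ε l := by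
    apply Finset.exists_ne_map_eq_of_card_lt_of_maps_to (t := (Finset.univ : Finset ℤˣ))
    · have h1 : ((Finset.univ : Finset (Fin 7)) \ {i, j}).card = 7 - 2 := by
        rw [Finset.card_sdiff_of_subset (Finset.subset_univ _), Finset.card_univ, Fintype.card_fin,
          Finset.card_pair hij]
      rw [h1]
      decide
    · intro a _
      exact Finset.mem_univ _
  have hki : k ≠ i := by
    intro h
    rw [h] at hk
    simp at hk
  have hkj : k ≠ j := by
    intro h
    rw [h] at hk
    simp at hk
  have hli : l ≠ i := by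
    intro h
    rw [h] at hl
    simp at hl
  have hlj : l ≠ j := by
    intro h
    rw [h] at hl
    simp at hl
  -- a weight-two vector in `Λ`
  have hdd : dd i j ∈ Λ := by
    have hs : Equiv.Perm.sign (Equiv.swap i j * Equiv.swap k l) = 1 := by
      rw [Equiv.Perm.sign_mul, Equiv.Perm.sign_swap hij, Equiv.Perm.sign_swap hkl]
      rfl
    have h1 := Λ.mul_mem hε (hinv _ hs ε hε)
    have h2 : ε * (fun x => ε ((Equiv.swap i j * Equiv.swap k l)⁻¹ x)) = dd i j := by
      funext x
      have hinv' : (Equiv.swap i j * Equiv.swap k l)⁻¹ x = Equiv.swap k l (Equiv.swap i j x) := by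
        rw [mul_inv_rev, Equiv.swap_inv, Equiv.swap_inv, Equiv.Perm.mul_apply]
      rw [Pi.mul_apply, hinv']
      unfold dd
      by_cases hxi : x = i
      · rw [hxi, Equiv.swap_apply_left, Equiv.swap_apply_of_ne_of_ne hkj.symm hlj.symm, hi, hj,
          if_pos (Or.inl rfl)]
        rfl
      by_cases hxj : x = j
      · rw [hxj, Equiv.swap_apply_right, Equiv.swap_apply_of_ne_of_ne hki.symm hli.symm, hi, hj,
          if_pos (Or.inr rfl)]
        rfl
      rw [Equiv.swap_apply_of_ne_of_ne hxi hxj, if_neg (by tauto)]
      by_cases hxk : x = k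
      · rw [hxk, Equiv.swap_apply_left, hεkl]
        exact Int.units_mul_self _
      by_cases hxl : x = l
      · rw [hxl, Equiv.swap_apply_right, hεkl]
        exact Int.units_mul_self _
      rw [Equiv.swap_apply_of_ne_of_ne hxk hxl]
      exact Int.units_mul_self _
    rwa [h2] at h1
  have hall : ∀ a b : Fin 7, a ≠ b → dd a b ∈ Λ := fun a b hab =>
    dd_mem_of_dd_mem Λ hinv hij hab hdd
  -- every even vector is a product of weight-two vectors
  apply le_antisymm hΛ
  have key : ∀ (n : ℕ) (η : Fin 7 → ℤˣ), η ∈ evenSign →
      (Finset.univ.filter (fun x => η x = -1)).card = n → η ∈ Λ := by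
    intro n
    induction n using Nat.strong_induction_on with
    | _ n ih =>
      intro η hη hn
      by_cases hempty : Finset.univ.filter (fun x => η x = -1) = ∅
      · have : η = 1 := by
          funext x
          rcases Int.units_eq_one_or (η x) with h | h
          · exact h
          · have : x ∈ Finset.univ.filter (fun x => η x = -1) := by simp [h]
            rw [hempty] at this
            simp at this
        rw [this]
        exact Λ.one_mem
      · obtain ⟨a, ha⟩ := Finset.nonempty_iff_ne_empty.mpr hempty
        have ha' : η a = -1 := (Finset.mem_filter.mp ha).2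
        obtain ⟨b, hb, hba⟩ : ∃ b, η b = -1 ∧ b ≠ a := by
          by_contra hcon
          push Not at hcon
          have hη' : η = fun x => if x = a then -1 else 1 := by
            funext x
            by_cases hxa : x = a
            · rw [if_pos hxa, hxa, ha']
            · rw [if_neg hxa]
              rcases Int.units_eq_one_or (η x) with h | h
              · exact h
              · exact absurd (hcon x h) hxa
          have hprod : ∏ x, η x = -1 := by
            rw [hη', Finset.prod_ite_eq' Finset.univ a (fun _ => (-1 : ℤˣ))]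
            simp
          rw [mem_evenSign.mp hη] at hprod
          exact absurd hprod (by decide)
        have hmem : η * dd a b ∈ evenSign := by
          apply evenSign.mul_mem hη
          exact hΛ (hall a b hba.symm)
        have hcard : (Finset.univ.filter (fun x => (η * dd a b) x = -1)).card < n := by
          rw [← hn]
          apply Finset.card_lt_card
          rw [Finset.ssubset_iff_of_subset]
          · refine ⟨a, ha, ?_⟩
            simp only [Finset.mem_filter, Finset.mem_univ, true_and, Pi.mul_apply]
            unfold dd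
            rw [if_pos (Or.inl rfl), ha']
            decide
          · intro x hx
            simp only [Finset.mem_filter, Finset.mem_univ, true_and, Pi.mul_apply] at hx ⊢
            unfold dd at hx
            by_cases hxab : x = a ∨ x = b
            · rcases hxab with h | h
              · rw [h]; exact ha'
              · rw [h]; exact hb
            · rw [if_neg hxab, mul_one] at hx
              exact hx
        have h1 := ih _ hcard (η * dd a b) hmem rfl
        have h2 := Λ.mul_mem h1 (hall a b hba.symm)
        rwa [mul_assoc, dd_mul_self, mul_one] at h2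
  intro η hη
  exact key _ η hη rfl

end Cfsg.Agent.Lib.Helper33.O7
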