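import Mathlib
import Cfsg.Agent.Lib.Helper44.O7.Defs

set_option autoImplicit false

/-!
# S2647 module [NORMD8] (helper33, for helper44)

`d8 = ⟨(0123)(45), (02)(45)⟩` is self-normalizing in `A₇`.
-/



namespace Cfsg.Agent.Lib.Helper33.O7
open Cfsg.Agent.Lib.Helper44.O7

theorem aP_fix : ∀ v : Fin 7, aP v = v → v = 6 := by decide

theorem aP_sq_ne : ∀ v : Fin 7, aP (aP v) ≠ v → v = 0 ∨ v = 1 ∨ v = 2 ∨ v = 3 := by decide

theorem aP_rest : ∀ v w : Fin 7, (w = 0 ∨ w = 1 ∨ w = 2 ∨ w = 3) → v ≠ w → v ≠ aP w →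
    v ≠ aP (aP w) → v ≠ aP (aP (aP w)) → v ≠ 6 → v = 4 ∨ v = 5 := by decide

theorem perm_ext7 {σ τ : Equiv.Perm (Fin 7)} (h0 : σ 0 = τ 0) (h1 : σ 1 = τ 1) (h2 : σ 2 = τ 2)
    (h3 : σ 3 = τ 3) (h4 : σ 4 = τ 4) (h5 : σ 5 = τ 5) (h6 : σ 6 = τ 6) : σ = τ := by
  apply Equiv.ext
  intro i
  fin_cases i
  · exact h0
  · exact h1
  · exact h2
  · exact h3
  · exact h4
  · exact h5
  · exact h6

/-- A permutation commuting with `aP` is determined by its values at `0` and `4`. -/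
theorem eq_of_commute {σ τ : Equiv.Perm (Fin 7)} (hσ : ∀ i, σ (aP i) = aP (σ i))
    (hτ : ∀ i, τ (aP i) = aP (τ i)) (h0 : σ 0 = τ 0) (h4 : σ 4 = τ 4) : σ = τ := by
  have s1 : σ 1 = aP (σ 0) := hσ 0
  have s2 : σ 2 = aP (σ 1) := hσ 1
  have s3 : σ 3 = aP (σ 2) := hσ 2
  have s5 : σ 5 = aP (σ 4) := hσ 4
  have s6 : σ 6 = 6 := aP_fix _ (hσ 6).symm
  have t1 : τ 1 = aP (τ 0) := hτ 0
  have t2 : τ 2 = aP (τ 1) := hτ 1
  have t3 : τ 3 = aP (τ 2) := hτ 2
  have t5 : τ 5 = aP (τ 4) := hτ 4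
  have t6 : τ 6 = 6 := aP_fix _ (hτ 6).symm
  have h1 : σ 1 = τ 1 := by rw [s1, t1, h0]
  have h2 : σ 2 = τ 2 := by rw [s2, t2, h1]
  have h3 : σ 3 = τ 3 := by rw [s3, t3, h2]
  have h5 : σ 5 = τ 5 := by rw [s5, t5, h4]
  exact perm_ext7 h0 h1 h2 h3 h4 h5 (s6.trans t6.symm)

theorem sign_mul_swap45 {τ : Equiv.Perm (Fin 7)} (hτ : τ ∈ d8) :
    Equiv.Perm.sign (τ * Equiv.swap 4 5) ≠ 1 := by
  rw [Equiv.Perm.sign_mul, sign_of_mem_d8 hτ, Equiv.Perm.sign_swap (by decide)]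
  decide

/-- Even permutations centralizing `aP` lie in `d8`. -/
theorem mem_d8_of_commute (σ : Equiv.Perm (Fin 7)) (hs : Equiv.Perm.sign σ = 1)
    (hc : σ * aP = aP * σ) : σ ∈ d8 := by
  have key : ∀ i, σ (aP i) = aP (σ i) := fun i => by
    have := congrArg (fun f : Equiv.Perm (Fin 7) => f i) hc
    simpa using this
  have e1 : σ 1 = aP (σ 0) := key 0
  have e2 : σ 2 = aP (σ 1) := key 1
  have e3 : σ 3 = aP (σ 2) := key 2
  have e6 : σ 6 = aP (σ 6) := key 6
  have h6 : σ 6 = 6 := aP_fix _ e6.symm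
  have hinj := σ.injective
  have h0 : σ 0 = 0 ∨ σ 0 = 1 ∨ σ 0 = 2 ∨ σ 0 = 3 := by
    apply aP_sq_ne
    rw [← e1, ← e2]
    intro h
    exact absurd (hinj h) (by decide)
  have h4 : σ 4 = 4 ∨ σ 4 = 5 := by
    apply aP_rest (σ 4) (σ 0) h0
    · intro h; exact absurd (hinj h) (by decide)
    · rw [← e1]; intro h; exact absurd (hinj h) (by decide)
    · rw [← e1, ← e2]; intro h; exact absurd (hinj h) (by decide)
    · rw [← e1, ← e2, ← e3]; intro h; exact absurd (hinj h) (by decide)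
    · rw [← h6]; intro h; exact absurd (hinj h) (by decide)
  have h1m : (1 : Equiv.Perm (Fin 7)) ∈ d8 := d8.one_mem
  have ham : aP ∈ d8 := mem_d8.mpr (by tauto)
  have ha2m : a2P ∈ d8 := mem_d8.mpr (by tauto)
  have ha3m : a3P ∈ d8 := mem_d8.mpr (by tauto)
  rcases h0 with h0 | h0 | h0 | h0 <;> rcases h4 with h4 | h4
  · -- (0,4)
    have : σ = 1 := eq_of_commute key (by decide) (h0.trans (by decide)) (h4.trans (by decide))
    rw [this]; exact h1m
  · -- (0,5)
    have : σ = 1 * Equiv.swap 4 5 :=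
      eq_of_commute key (by decide) (h0.trans (by decide)) (h4.trans (by decide))
    rw [this] at hs
    exact absurd hs (sign_mul_swap45 h1m)
  · -- (1,4)
    have : σ = aP * Equiv.swap 4 5 :=
      eq_of_commute key (by decide) (h0.trans (by decide)) (h4.trans (by decide))
    rw [this] at hs
    exact absurd hs (sign_mul_swap45 ham)
  · -- (1,5)
    have : σ = aP := eq_of_commute key (by decide) (h0.trans (by decide)) (h4.trans (by decide))
    rw [this]; exact ham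
  · -- (2,4)
    have : σ = a2P := eq_of_commute key (by decide) (h0.trans (by decide)) (h4.trans (by decide))
    rw [this]; exact ha2m
  · -- (2,5)
    have : σ = a2P * Equiv.swap 4 5 :=
      eq_of_commute key (by decide) (h0.trans (by decide)) (h4.trans (by decide))
    rw [this] at hs
    exact absurd hs (sign_mul_swap45 ha2m)
  · -- (3,4)
    have : σ = a3P * Equiv.swap 4 5 :=
      eq_of_commute key (by decide) (h0.trans (by decide)) (h4.trans (by decide))
    rw [this] at hs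
    exact absurd hs (sign_mul_swap45 ha3m)
  · -- (3,5)
    have : σ = a3P := eq_of_commute key (by decide) (h0.trans (by decide)) (h4.trans (by decide))
    rw [this]; exact ha3m

theorem sq_ne_one_of_conj {σ τ : Equiv.Perm (Fin 7)} (h : σ * aP * σ⁻¹ = τ) : τ ^ 2 ≠ 1 := by
  intro h2
  rw [← h, conj_pow, conj_eq_one_iff] at h2
  exact absurd h2 (by decide)

/-- `d8` is self-normalizing in `A₇`. -/
theorem mem_d8_of_normalizes (σ : Equiv.Perm (Fin 7)) (hs : Equiv.Perm.sign σ = 1)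
    (h : ∀ τ ∈ d8, σ * τ * σ⁻¹ ∈ d8) : σ ∈ d8 := by
  have ham : aP ∈ d8 := mem_d8.mpr (by tauto)
  have hbm : bP ∈ d8 := mem_d8.mpr (by tauto)
  have h1 := h aP ham
  rw [mem_d8] at h1
  rcases h1 with h1 | h1 | h1 | h1 | h1 | h1 | h1 | h1
  · exact absurd (by decide) (sq_ne_one_of_conj h1)
  · -- centralizes
    exact mem_d8_of_commute σ hs (mul_inv_eq_iff_eq_mul.mp h1)
  · exact absurd (by decide) (sq_ne_one_of_conj h1)
  · -- inverts
    have h3 : σ * a3P * σ⁻¹ = aP := by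
      have e1 : a3P = aP ^ 3 := by decide
      have e2 : aP = a3P ^ 3 := by decide
      rw [e1, ← conj_pow, h1, ← e2]
    have hb : bP * aP * bP⁻¹ = a3P := by decide
    have hc : (σ * bP) * aP = aP * (σ * bP) := by
      have : (σ * bP) * aP * (σ * bP)⁻¹ = aP := by
        calc (σ * bP) * aP * (σ * bP)⁻¹ = σ * (bP * aP * bP⁻¹) * σ⁻¹ := by group
          _ = σ * a3P * σ⁻¹ := by rw [hb]
          _ = aP := h3
      exact mul_inv_eq_iff_eq_mul.mp this
    have hs' : Equiv.Perm.sign (σ * bP) = 1 := by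
      rw [Equiv.Perm.sign_mul, hs, sign_of_mem_d8 hbm]
      rfl
    have := d8.mul_mem (mem_d8_of_commute _ hs' hc) (d8.inv_mem hbm)
    rwa [mul_inv_cancel_right] at this
  · exact absurd (by decide) (sq_ne_one_of_conj h1)
  · exact absurd (by decide) (sq_ne_one_of_conj h1)
  · exact absurd (by decide) (sq_ne_one_of_conj h1)
  · exact absurd (by decide) (sq_ne_one_of_conj h1)

end Cfsg.Agent.Lib.Helper33.O7
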