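import Mathlib
import Cfsg.Agent.Lib.Helper29.OddProdDefs
import Cfsg.Agent.Lib.Helper29.OddProdIns
import Cfsg.Agent.Lib.Helper29.OddProdSpec
import Cfsg.Agent.Lib.Helper65.OddProdEmb
import Cfsg.Agent.Lib.Helper65.OddProdExc

set_option autoImplicit false
set_option linter.unusedSectionVars false

/-!
# S3265 modules [D1] [D2] [D3] [D4] (helper33, for helper29)

The four direct solutions around an exceptional pair, transported from explicit permutations of
`Fin 5`, `Fin 6`, `Fin 8`, `Fin 8` along an embedding.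
-/

namespace Cfsg.Agent.Lib.Helper33.OddProd
open Equiv Cfsg.Agent.Lib.Helper29.OddProd Cfsg.Agent.Lib.Helper65.OddProd
variable {α : Type*} [DecidableEq α] [Fintype α]

/-- embedding of `Fin m` from an injective vector -/
def embOfNodup {m : ℕ} (v : Fin m → α) (h : (List.ofFn v).Nodup) : Fin m ↪ α :=
  ⟨v, List.nodup_ofFn.mp h⟩

theorem embOfNodup_apply {m : ℕ} (v : Fin m → α) (h : (List.ofFn v).Nodup) (i : Fin m) :
    embOfNodup v h i = v i := rfl


theorem moved_of_two_swaps {a b c d : α} (hnd : [a, b, c, d].Nodup) {x : Perm α}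
    (hx : x = swap a b * swap c d) {p : α} (hp : x p = p) : p ≠ a ∧ p ≠ b ∧ p ≠ c ∧ p ≠ d := by
  simp only [List.nodup_cons, List.mem_cons, List.not_mem_nil, or_false, not_or, List.nodup_nil,
    and_true] at hnd
  obtain ⟨⟨hab, hac, had⟩, ⟨hbc, hbd⟩, hcd, -⟩ := hnd
  subst hx
  refine ⟨?_, ?_, ?_, ?_⟩
  · rintro rfl
    rw [Perm.mul_apply, swap_apply_of_ne_of_ne hac had, swap_apply_left] at hp
    exact hab hp.symm
  · rintro rfl
    rw [Perm.mul_apply, swap_apply_of_ne_of_ne hbc hbd, swap_apply_right] at hp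
    exact hab hp
  · rintro rfl
    rw [Perm.mul_apply, swap_apply_left, swap_apply_of_ne_of_ne (Ne.symm had) (Ne.symm hbd)] at hp
    exact hcd hp.symm
  · rintro rfl
    rw [Perm.mul_apply, swap_apply_right, swap_apply_of_ne_of_ne (Ne.symm hac) (Ne.symm hbc)] at hp
    exact hcd hp


theorem exists_moved_of_exc {x y : Perm α} (h : Exc x y) : ∃ a, x a ≠ a := by
  have h1 : x.support.Nonempty := by
    rw [← Finset.card_pos, h.1]
    norm_num
  obtain ⟨a, ha⟩ := h1
  exact ⟨a, Perm.mem_support.mp ha⟩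

theorem direct_one : SpecD1 α := by
  intro x y hx hy hE p hxp hyp
  obtain ⟨a, ha⟩ := exists_moved_of_exc hE
  obtain ⟨c, d, hnd, hxe, hye⟩ := exc_struct x y hx hy hE a ha
  obtain ⟨b, hb⟩ : ∃ b, b = x a := ⟨_, rfl⟩
  rw [← hb] at hnd hxe hye
  obtain ⟨hpa, hpb, hpc, hpd⟩ := moved_of_two_swaps hnd hxe hxp
  have hnd5 : (List.ofFn ![a, b, c, d, p]).Nodup := by
    show [a, b, c, d, p].Nodup
    simp only [List.nodup_cons, List.mem_cons, List.not_mem_nil, or_false, not_or, List.nodup_nil,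
      and_true] at hnd ⊢
    obtain ⟨⟨hab, hac, had⟩, ⟨hbc, hbd⟩, hcd, -⟩ := hnd
    exact ⟨⟨hab, hac, had, Ne.symm hpa⟩, ⟨hbc, hbd, Ne.symm hpb⟩, ⟨hcd, Ne.symm hpc⟩,
      Ne.symm hpd, not_false⟩
  have hx0 : x = Perm.viaEmbeddingHom (embOfNodup _ hnd5) (swap 0 1 * swap 2 3) := by
    rw [map_mul, viaEmbeddingHom_swap, viaEmbeddingHom_swap, hxe]
    rfl
  have hy0 : y = Perm.viaEmbeddingHom (embOfNodup _ hnd5) (swap 0 2 * swap 1 3) := by
    rw [map_mul, viaEmbeddingHom_swap, viaEmbeddingHom_swap, hye]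
    rfl
  have hE0 : ({p} : Finset α) = ({4} : Finset (Fin 5)).map (embOfNodup _ hnd5) := by
    rw [Finset.map_singleton]
    rfl
  rw [hx0, hy0, hE0]
  apply sol_transfer _ _ _ _ (swap 1 2 * swap 3 4)
  · decide
  · decide
  · decide
  · exact odd_orderOf_of_pow_eq_one (N := 5) (by decide) (by decide)
  · exact odd_orderOf_of_pow_eq_one (N := 5) (by decide) (by decide)


theorem nodup_append_of_fixed {a b c d : α} (hnd : [a, b, c, d].Nodup) {x : Perm α}
    (hx : x = swap a b * swap c d) (l : List α) (hl : l.Nodup) (hfix : ∀ p ∈ l, x p = p) :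
    ([a, b, c, d] ++ l).Nodup := by
  apply List.Nodup.append hnd hl
  intro u hu1 hu2
  obtain ⟨h1, h2, h3, h4⟩ := moved_of_two_swaps hnd hx (hfix u hu2)
  simp only [List.mem_cons, List.not_mem_nil, or_false] at hu1
  rcases hu1 with h | h | h | h
  · exact h1 h
  · exact h2 h
  · exact h3 h
  · exact h4 h

theorem direct_two : SpecD2 α := by
  intro x y hx hy hE p q hpq hxp hxq hyp hyq
  obtain ⟨a, ha⟩ := exists_moved_of_exc hE
  obtain ⟨c, d, hnd, hxe, hye⟩ := exc_struct x y hx hy hE a ha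
  obtain ⟨b, hb⟩ : ∃ b, b = x a := ⟨_, rfl⟩
  rw [← hb] at hnd hxe hye
  have hnd6 : (List.ofFn ![a, b, c, d, p, q]).Nodup := by
    show ([a, b, c, d] ++ [p, q]).Nodup
    apply nodup_append_of_fixed hnd hxe
    · simp [hpq]
    · intro u hu
      simp only [List.mem_cons, List.not_mem_nil, or_false] at hu
      rcases hu with rfl | rfl
      · exact hxp
      · exact hxq
  have hx0 : x * swap p q =
      Perm.viaEmbeddingHom (embOfNodup _ hnd6) (swap 0 1 * swap 2 3 * swap 4 5) := by
    rw [map_mul, map_mul, viaEmbeddingHom_swap, viaEmbeddingHom_swap, viaEmbeddingHom_swap, hxe]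
    rfl
  have hy0 : y * swap p q =
      Perm.viaEmbeddingHom (embOfNodup _ hnd6) (swap 0 2 * swap 1 3 * swap 4 5) := by
    rw [map_mul, map_mul, viaEmbeddingHom_swap, viaEmbeddingHom_swap, viaEmbeddingHom_swap, hye]
    rfl
  have hE0 : (∅ : Finset α) = (∅ : Finset (Fin 6)).map (embOfNodup _ hnd6) := by
    rw [Finset.map_empty]
  rw [hx0, hy0, hE0]
  apply sol_transfer _ _ _ _ (swap 0 3 * swap 1 4 * swap 2 5)
  · decide
  · decide
  · decide
  · exact odd_orderOf_of_pow_eq_one (N := 3) (by decide) (by decide)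
  · exact odd_orderOf_of_pow_eq_one (N := 3) (by decide) (by decide)

set_option maxRecDepth 100000 in
theorem direct_three : SpecD3 α := by
  intro x y hx hy hE r1 r2 b1 b2 hnd4 hxfix hyfix
  obtain ⟨a, ha⟩ := exists_moved_of_exc hE
  obtain ⟨c, d, hnd, hxe, hye⟩ := exc_struct x y hx hy hE a ha
  obtain ⟨b, hb⟩ : ∃ b, b = x a := ⟨_, rfl⟩
  rw [← hb] at hnd hxe hye
  have hnd8 : (List.ofFn ![a, b, c, d, r1, r2, b1, b2]).Nodup := by
    show ([a, b, c, d] ++ [r1, r2, b1, b2]).Nodup
    exact nodup_append_of_fixed hnd hxe _ hnd4 hxfix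
  have hx0 : x * swap r1 r2 =
      Perm.viaEmbeddingHom (embOfNodup _ hnd8) (swap 0 1 * swap 2 3 * swap 4 5) := by
    rw [map_mul, map_mul, viaEmbeddingHom_swap, viaEmbeddingHom_swap, viaEmbeddingHom_swap, hxe]
    rfl
  have hy0 : y * swap b1 b2 =
      Perm.viaEmbeddingHom (embOfNodup _ hnd8) (swap 0 2 * swap 1 3 * swap 6 7) := by
    rw [map_mul, map_mul, viaEmbeddingHom_swap, viaEmbeddingHom_swap, viaEmbeddingHom_swap, hye]
    rfl
  have hE0 : (∅ : Finset α) = (∅ : Finset (Fin 8)).map (embOfNodup _ hnd8) := by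
    rw [Finset.map_empty]
  rw [hx0, hy0, hE0]
  apply sol_transfer _ _ _ _ (swap 1 2 * swap 3 4 * swap 5 6)
  · decide
  · decide
  · decide
  · exact odd_orderOf_of_pow_eq_one (N := 7) (by decide) (by decide)
  · exact odd_orderOf_of_pow_eq_one (N := 15) (by decide) (by decide)

theorem ne_of_swap_fixed {u v p : α} (huv : u ≠ v) (h : swap u v p = p) : p ≠ u ∧ p ≠ v := by
  constructor
  · rintro rfl
    rw [swap_apply_left] at h
    exact huv h.symm
  · rintro rfl
    rw [swap_apply_right] at h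
    exact huv h

set_option maxRecDepth 100000 in
theorem direct_four : SpecD4 α := by
  intro x0 y a b c d e f hnd6 hxfix hyfix hx0 hy hE
  have hxa : x0 a = a := hxfix a (by simp)
  have hxf : x0 f = f := hxfix f (by simp)
  have hX : (x0 * swap a f) * (x0 * swap a f) = 1 := mul_swap_mul_self hx0 hxa hxf
  have hXa : (x0 * swap a f) a = f := mul_swap_apply_left hxf
  have haf : a ≠ f := by
    simp only [List.nodup_cons, List.mem_cons, List.not_mem_nil, or_false, not_or] at hnd6
    exact hnd6.1.2.2.2.2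
  have hmoved : (x0 * swap a f) a ≠ a := by
    rw [hXa]
    exact Ne.symm haf
  obtain ⟨c', d', hnd, hxe, hye⟩ := exc_struct _ y hX hy hE a hmoved
  rw [hXa] at hnd hxe hye
  have hnd' := hnd
  simp only [List.nodup_cons, List.mem_cons, List.not_mem_nil, or_false, not_or, List.nodup_nil,
    and_true] at hnd'
  obtain ⟨⟨-, hac', had'⟩, ⟨hfc', hfd'⟩, hcd', -⟩ := hnd'
  -- `x0 = swap c' d'`
  have hx0e : x0 = swap c' d' := by
    have hcomm : swap c' d' * swap a f = swap a f * swap c' d' :=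
      commute_swap_of_fixed (swap_apply_of_ne_of_ne hac' had') (swap_apply_of_ne_of_ne hfc' hfd')
    calc x0 = (x0 * swap a f) * swap a f := by rw [mul_assoc, swap_mul_self, mul_one]
      _ = swap a f * swap c' d' * swap a f := by rw [hxe]
      _ = swap c' d' * swap a f * swap a f := by rw [hcomm]
      _ = swap c' d' := by rw [mul_assoc, swap_mul_self, mul_one]
  have hnd8 : (List.ofFn ![a, b, c, d, e, f, d', c']).Nodup := by
    show ([a, b, c, d, e, f] ++ [d', c']).Nodup
    apply List.Nodup.append hnd6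
    · simp [Ne.symm hcd']
    · intro u hu1 hu2
      have h1 := hxfix u hu1
      rw [hx0e] at h1
      obtain ⟨h2, h3⟩ := ne_of_swap_fixed hcd' h1
      simp only [List.mem_cons, List.not_mem_nil, or_false] at hu2
      rcases hu2 with h | h
      · exact h3 h
      · exact h2 h
  have hx0' : x0 * swap a b * swap c d * swap e f =
      Perm.viaEmbeddingHom (embOfNodup _ hnd8) (swap 7 6 * swap 0 1 * swap 2 3 * swap 4 5) := by
    rw [map_mul, map_mul, map_mul, viaEmbeddingHom_swap, viaEmbeddingHom_swap, viaEmbeddingHom_swap,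
      viaEmbeddingHom_swap, hx0e]
    rfl
  have hy0 : y * swap b c * swap d e =
      Perm.viaEmbeddingHom (embOfNodup _ hnd8) (swap 0 7 * swap 5 6 * swap 1 2 * swap 3 4) := by
    rw [map_mul, map_mul, map_mul, viaEmbeddingHom_swap, viaEmbeddingHom_swap, viaEmbeddingHom_swap,
      viaEmbeddingHom_swap, hye]
    rfl
  have hE0 : (∅ : Finset α) = (∅ : Finset (Fin 8)).map (embOfNodup _ hnd8) := by
    rw [Finset.map_empty]
  rw [hx0', hy0, hE0]
  apply sol_transfer _ _ _ _ (swap 0 1 * swap 2 4 * swap 3 7 * swap 5 6)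
  · decide
  · decide
  · decide
  · exact odd_orderOf_of_pow_eq_one (N := 3) (by decide) (by decide)
  · exact odd_orderOf_of_pow_eq_one (N := 3) (by decide) (by decide)

end Cfsg.Agent.Lib.Helper33.OddProd
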