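import Mathlib
import Cfsg.Agent.Lib.Helper58.PFNineCnt
import Cfsg.Agent.Lib.Helper80.CharBasic

/-!
# Counting characters over two "moved" chief sections (helper33)

Two-axis companion of helper58's `PFNineCnt` (abstract form of the second count of Peterfalvi
(9.8)(d), module [ND2] of helper64's PF sec.11 sheet #2).  `N₁, N₂ ≤ B ≤ A₁, A₂` are normal
subgroups of the finite group `G` with `N₁ N₂ = B`; for `i = 1, 2` the triple `(Nᵢ, B, Aᵢ)`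
satisfies the hypotheses of `PFNineCnt` (`Aᵢ/Nᵢ` abelian, no subgroup strictly between `Nᵢ` and
`B`, every `g ∉ Aᵢ` moves an element of `N₃₋ᵢ` modulo `Nᵢ`).  Then every irreducible character of
`G` with `N₁ ∩ N₂` in its kernel, but neither `N₁` nor `N₂`, has degree `|G : A₁ ∩ A₂|`, and their
number is given by inclusion-exclusion.
-/

set_option autoImplicit false
set_option linter.unusedSectionVars false

namespace Cfsg.Agent.Lib.Helper33.PF9Cnt2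

open Cfsg
open Cfsg.Agent.Lib.Helper75 Cfsg.Agent.Lib.Helper77 Cfsg.Agent.Lib.Helper78
open Cfsg.Agent.Lib.Helper58.PF9Cnt

universe u

variable {G : Type u} [Group G] [Fintype G]

variable (N₁ N₂ B A₁ : Subgroup G) [hN₁ : N₁.Normal] [hN₂ : N₂.Normal]

omit [Fintype G] in
/-- a linear character of `A ≥ N₂`, trivial on `N₁ ∩ N₂` and nontrivial on `N₂`, can only be
fixed by elements of `A₁` -/
theorem mem_of_conjFun_eq_two {A : Subgroup G} [hA : A.Normal] [Fintype A] (hN₂A : N₂ ≤ A)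
    (hN₂B : N₂ ≤ B)
    (hgen₁ : ∀ M : Subgroup G, N₁ ≤ M → (∃ c ∈ B, c ∈ M ∧ c ∉ N₁) → B ≤ M)
    (hmove₁ : ∀ g : G, g ∉ A₁ → ∃ b ∈ N₂, g * b * g⁻¹ * b⁻¹ ∉ N₁)
    (ν : A →* ℂˣ) (hνN : ∀ n : A, (n : G) ∈ N₁ ⊓ N₂ → ν n = 1)
    (hνB : ∃ b : A, (b : G) ∈ N₂ ∧ ν b ≠ 1) {g : G}
    (hg : Cfsg.Agent.Lib.Helper75.conjFun A g (fun a : A => ((ν a : ℂˣ) : ℂ)) =
      fun a : A => ((ν a : ℂˣ) : ℂ)) :
    g ∈ A₁ := by
  by_contra hgA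
  obtain ⟨b, hbN₂, hc⟩ := hmove₁ g hgA
  have hbA : b ∈ A := hN₂A hbN₂
  have hgbA : g * b * g⁻¹ ∈ A := hA.conj_mem b hbA g
  have h1 := congrFun hg ⟨b, hbA⟩
  rw [conjFun_apply] at h1
  have h2 : ν ⟨g * b * g⁻¹, hgbA⟩ = ν ⟨b, hbA⟩ := Units.ext h1
  have h3 : ν (⟨g * b * g⁻¹, hgbA⟩ * ⟨b, hbA⟩⁻¹) = 1 := by
    rw [map_mul, map_inv, h2, mul_inv_cancel]
  have hcN₂ : g * b * g⁻¹ * b⁻¹ ∈ N₂ := N₂.mul_mem (hN₂.conj_mem b hbN₂ g) (N₂.inv_mem hbN₂)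
  let M : Subgroup G := ((ν.ker.map A.subtype) ⊓ N₂) ⊔ N₁
  have hcM : g * b * g⁻¹ * b⁻¹ ∈ M := by
    apply Subgroup.mem_sup_left
    exact Subgroup.mem_inf.mpr ⟨Subgroup.mem_map.mpr
      ⟨⟨g * b * g⁻¹, hgbA⟩ * ⟨b, hbA⟩⁻¹, (MonoidHom.mem_ker).mpr h3, rfl⟩, hcN₂⟩
  have hBM : B ≤ M := hgen₁ M le_sup_right ⟨_, hN₂B hcN₂, hcM, hc⟩
  obtain ⟨b', hb'N₂, hb'⟩ := hνB
  apply hb'
  have h4 : (b' : G) ∈ M := hBM (hN₂B hb'N₂)
  rw [← SetLike.mem_coe, Subgroup.mul_normal] at h4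
  obtain ⟨k, hk, n, hn, hkn⟩ := Set.mem_mul.mp h4
  obtain ⟨hk1, hk2⟩ := Subgroup.mem_inf.mp hk
  obtain ⟨x, hx, hxk⟩ := Subgroup.mem_map.mp hk1
  have hnN₂ : n ∈ N₂ := by
    have : n = k⁻¹ * (b' : G) := by rw [← hkn]; group
    rw [this]
    exact N₂.mul_mem (N₂.inv_mem hk2) hb'N₂
  have hnA : n ∈ A := hN₂A hnN₂
  have hb'eq : b' = x * ⟨n, hnA⟩ := by
    apply Subtype.ext
    rw [Subgroup.coe_mul]
    show (b' : G) = (A.subtype x) * n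
    rw [hxk, hkn]
  rw [hb'eq, map_mul, (MonoidHom.mem_ker).mp hx, one_mul]
  exact hνN ⟨n, hnA⟩ ⟨hn, hnN₂⟩

variable (A₂ : Subgroup G) [hB : B.Normal] [hA₁ : A₁.Normal] [hA₂ : A₂.Normal]

/-- every irreducible character of `G` with `N₁ ∩ N₂` in its kernel, but neither `N₁` nor `N₂`,
has degree `|G : A₁ ∩ A₂|` -/
theorem degree_eq_index_two (hN₁B : N₁ ≤ B) (hN₂B : N₂ ≤ B) (hBA₁ : B ≤ A₁) (hBA₂ : B ≤ A₂)
    (hab₁ : ∀ a ∈ A₁, ∀ b ∈ A₁, a * b * a⁻¹ * b⁻¹ ∈ N₁)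
    (hab₂ : ∀ a ∈ A₂, ∀ b ∈ A₂, a * b * a⁻¹ * b⁻¹ ∈ N₂)
    (hgen₁ : ∀ M : Subgroup G, N₁ ≤ M → (∃ c ∈ B, c ∈ M ∧ c ∉ N₁) → B ≤ M)
    (hgen₂ : ∀ M : Subgroup G, N₂ ≤ M → (∃ c ∈ B, c ∈ M ∧ c ∉ N₂) → B ≤ M)
    (hmove₁ : ∀ g : G, g ∉ A₁ → ∃ b ∈ N₂, g * b * g⁻¹ * b⁻¹ ∉ N₁)
    (hmove₂ : ∀ g : G, g ∉ A₂ → ∃ b ∈ N₁, g * b * g⁻¹ * b⁻¹ ∉ N₂)
    {θ : G → ℂ} (hθ : IsIrrCharacter G θ) (hθN : ∀ n ∈ N₁ ⊓ N₂, θ n = θ 1)
    (hθ1 : ∃ b ∈ N₁, θ b ≠ θ 1) (hθ2 : ∃ b ∈ N₂, θ b ≠ θ 1) :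
    θ 1 = ((A₁ ⊓ A₂).index : ℂ) := by
  classical
  set A : Subgroup G := A₁ ⊓ A₂ with hAdef
  set N : Subgroup G := N₁ ⊓ N₂ with hNdef
  have hAn : A.Normal := Subgroup.normal_inf_normal A₁ A₂
  have hNn : N.Normal := Subgroup.normal_inf_normal N₁ N₂
  have : Fintype A := Fintype.ofFinite A
  have hBA : B ≤ A := le_inf hBA₁ hBA₂
  have hN₁A : N₁ ≤ A := le_trans hN₁B hBA
  have hN₂A : N₂ ≤ A := le_trans hN₂B hBA
  have hab : ∀ a ∈ A, ∀ b ∈ A, a * b * a⁻¹ * b⁻¹ ∈ N := fun a ha b hb =>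
    ⟨hab₁ a ha.1 b hb.1, hab₂ a ha.2 b hb.2⟩
  have hθc : IsCharacter G θ := IsIrrCharacter.isCharacter hθ
  have hθcl : IsClassFunction G θ := IsCharacter.isClassFunction hθc
  obtain ⟨lam, hlam⟩ := exists_constituent_res A hθ
  have hres : IsCharacter A (fun a : A => θ a) := isCharacter_res A hθc
  have hlamN : ∀ n : A, (n : G) ∈ N → (lam : A → ℂ) n = (lam : A → ℂ) 1 := by
    intro n hn
    exact constituent_ker hres lam hlam n (hθN _ hn)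
  obtain ⟨ν, hν⟩ := exists_hom_of_abelian_mod A N hab lam.2 hlamN
  have hlamν : (lam : A → ℂ) = fun a : A => ((ν a : ℂˣ) : ℂ) := funext hν
  have hνN : ∀ n : A, (n : G) ∈ N → ν n = 1 := by
    intro n hn
    have h1 := hlamN n hn
    rw [hν, hν, map_one] at h1
    exact Units.ext h1
  -- `θ` is a constituent of the induced character
  have hind : IsCharacter G (indFun A (lam : A → ℂ)) :=
    Cfsg.Agent.S0148.result A _ (IsIrrCharacter.isCharacter lam.2)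
  have hindθ : classInner (indFun A (lam : A → ℂ)) θ ≠ 0 := by
    rw [frobenius_reciprocity A _ hθcl]
    intro h0
    apply hlam
    have h1 := classInner_conj_symm (fun a : A => θ a) (lam : A → ℂ)
    rw [h0] at h1
    exact (map_eq_zero _).mp h1
  -- `ν` is nontrivial on a normal subgroup `X ≤ A` on which `θ` is nontrivial
  have hνX : ∀ (X : Subgroup G) [X.Normal], X ≤ A → (∃ b ∈ X, θ b ≠ θ 1) →
      ∃ b : A, (b : G) ∈ X ∧ ν b ≠ 1 := by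
    intro X hXn hXA hθX
    by_contra hcon
    push Not at hcon
    obtain ⟨b, hbX, hb⟩ := hθX
    apply hb
    have h1 : ∀ a : A, (a : G) ∈ X → (lam : A → ℂ) a = (lam : A → ℂ) 1 := by
      intro a ha
      rw [hν, hν, hcon a ha, map_one]
    have h2 := indFun_eq_of_forall_eq A X hXA (lam : A → ℂ) h1 b hbX
    exact constituent_ker hind ⟨θ, hθ⟩ hindθ b h2
  have hν1 := hνX N₁ hN₁A hθ1
  have hν2 := hνX N₂ hN₂A hθ2
  have hνN' : ∀ n : A, (n : G) ∈ N₂ ⊓ N₁ → ν n = 1 := fun n hn => hνN n ⟨hn.2, hn.1⟩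
  have hT : ∀ g : G, g ∈ A ↔
      Cfsg.Agent.Lib.Helper75.conjFun A g (lam : A → ℂ) = (lam : A → ℂ) := by
    intro g
    constructor
    · intro hg
      exact conjFun_of_mem A (IsCharacter.isClassFunction (IsIrrCharacter.isCharacter lam.2))
        ⟨g, hg⟩
    · intro hg
      rw [hlamν] at hg
      exact ⟨mem_of_conjFun_eq_two N₁ N₂ B A₁ hN₂A hN₂B hgen₁ hmove₁ ν hνN hν2 hg,
        mem_of_conjFun_eq_two N₂ N₁ B A₂ hN₁A hN₁B hgen₂ hmove₂ ν hνN' hν1 hg⟩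
  obtain ⟨ψ, hψ, hψind, hψlam⟩ := exists_indFun_eq_of_over A A le_rfl lam.2 hT hθ hlam
  have hψeq : ψ = (lam : A → ℂ) := by
    by_contra hne
    apply hlam
    rw [← hψlam]
    have : resNT A A le_rfl ψ = ψ := by
      funext a
      rfl
    rw [this]
    exact classInner_irr_ne hψ lam.2 hne
  rw [← hψind, indFun_one, hψeq, hν, map_one, Units.val_one, mul_one]

omit [Fintype G] hN₁ in
/-- `|G : N₁ ∩ N₂| |G : N₁ N₂| = |G : N₁| |G : N₂|` -/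
theorem index_inf_mul_index_sup [Finite G] :
    (N₁ ⊓ N₂).index * (N₁ ⊔ N₂).index = N₁.index * N₂.index := by
  have h1 : (N₁ ⊓ N₂).relIndex N₁ * N₁.index = (N₁ ⊓ N₂).index :=
    Subgroup.relIndex_mul_index inf_le_left
  have h2 : N₂.relIndex (N₁ ⊔ N₂) * (N₁ ⊔ N₂).index = N₂.index :=
    Subgroup.relIndex_mul_index le_sup_right
  have h3 : (N₁ ⊓ N₂).relIndex N₁ = N₂.relIndex (N₁ ⊔ N₂) := by
    rw [Subgroup.relIndex_sup_right, Subgroup.inf_relIndex_left]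
  rw [← h1, ← h2, h3]
  ring

open Classical in
/-- the number of irreducible characters of `G` with `N₁ ∩ N₂` in the kernel but neither `N₁`
nor `N₂` -/
theorem index_sq_mul_card_add_two (hN₁B : N₁ ≤ B) (hN₂B : N₂ ≤ B) (hBA₁ : B ≤ A₁)
    (hBA₂ : B ≤ A₂) (hsup : B ≤ N₁ ⊔ N₂)
    (hab₁ : ∀ a ∈ A₁, ∀ b ∈ A₁, a * b * a⁻¹ * b⁻¹ ∈ N₁)
    (hab₂ : ∀ a ∈ A₂, ∀ b ∈ A₂, a * b * a⁻¹ * b⁻¹ ∈ N₂)
    (hgen₁ : ∀ M : Subgroup G, N₁ ≤ M → (∃ c ∈ B, c ∈ M ∧ c ∉ N₁) → B ≤ M)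
    (hgen₂ : ∀ M : Subgroup G, N₂ ≤ M → (∃ c ∈ B, c ∈ M ∧ c ∉ N₂) → B ≤ M)
    (hmove₁ : ∀ g : G, g ∉ A₁ → ∃ b ∈ N₂, g * b * g⁻¹ * b⁻¹ ∉ N₁)
    (hmove₂ : ∀ g : G, g ∉ A₂ → ∃ b ∈ N₁, g * b * g⁻¹ * b⁻¹ ∉ N₂) :
    (A₁ ⊓ A₂).index ^ 2 * (Finset.univ.filter (fun θ : IrrCharacter G =>
        (∀ n ∈ N₁ ⊓ N₂, (θ : G → ℂ) n = (θ : G → ℂ) 1) ∧
          (∃ b ∈ N₁, (θ : G → ℂ) b ≠ (θ : G → ℂ) 1) ∧
          (∃ b ∈ N₂, (θ : G → ℂ) b ≠ (θ : G → ℂ) 1))).card + N₁.index + N₂.index =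
      (N₁ ⊓ N₂).index + B.index := by
  have hNn : (N₁ ⊓ N₂).Normal := Subgroup.normal_inf_normal N₁ N₂
  set f : IrrCharacter G → ℕ := fun χ => charDegree (χ : G → ℂ) ^ 2 with hf
  set P : Subgroup G → IrrCharacter G → Prop :=
    fun X χ => ∀ n ∈ X, (χ : G → ℂ) n = (χ : G → ℂ) 1 with hP
  have h0 : ∑ χ ∈ Finset.univ.filter (P (N₁ ⊓ N₂)), f χ = (N₁ ⊓ N₂).index :=
    Cfsg.Agent.Lib.Helper74.sum_charDegree_sq_trivial_on (N₁ ⊓ N₂)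
  have h1 : ∑ χ ∈ Finset.univ.filter (P N₁), f χ = N₁.index :=
    Cfsg.Agent.Lib.Helper74.sum_charDegree_sq_trivial_on N₁
  have h2 : ∑ χ ∈ Finset.univ.filter (P N₂), f χ = N₂.index :=
    Cfsg.Agent.Lib.Helper74.sum_charDegree_sq_trivial_on N₂
  have h3 : ∑ χ ∈ Finset.univ.filter (P B), f χ = B.index :=
    Cfsg.Agent.Lib.Helper74.sum_charDegree_sq_trivial_on B
  -- trivial on `N₁` and `N₂` iff trivial on `B`
  have hPB : ∀ χ : IrrCharacter G, P B χ ↔ P N₁ χ ∧ P N₂ χ := by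
    intro χ
    constructor
    · intro h
      exact ⟨fun n hn => h n (hN₁B hn), fun n hn => h n (hN₂B hn)⟩
    · rintro ⟨h1, h2⟩ n hn
      have hχc : IsCharacter G (χ : G → ℂ) := IsIrrCharacter.isCharacter χ.2
      have hle : N₁ ⊔ N₂ ≤ Cfsg.Agent.Lib.Helper80.charKer (χ : G → ℂ) hχc := sup_le h1 h2
      exact hle (hsup hn)
  -- split the sum over `P (N₁ ⊓ N₂)`
  have hs1 : ∑ χ ∈ Finset.univ.filter (P (N₁ ⊓ N₂)), f χ =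
      ∑ χ ∈ Finset.univ.filter (P N₁), f χ +
        ∑ χ ∈ Finset.univ.filter (fun χ => P (N₁ ⊓ N₂) χ ∧ ¬ P N₁ χ), f χ := by
    rw [← Finset.sum_filter_add_sum_filter_not (Finset.univ.filter (P (N₁ ⊓ N₂))) (P N₁),
      Finset.filter_filter, Finset.filter_filter]
    congr 1
    apply Finset.sum_congr _ (fun _ _ => rfl)
    ext χ
    simp only [Finset.mem_filter, Finset.mem_univ, true_and]
    exact ⟨fun h => h.2, fun h => ⟨fun n hn => h n hn.1, h⟩⟩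
  have hs2 : ∑ χ ∈ Finset.univ.filter (fun χ => P (N₁ ⊓ N₂) χ ∧ ¬ P N₁ χ), f χ =
      ∑ χ ∈ Finset.univ.filter (fun χ => P N₂ χ ∧ ¬ P N₁ χ), f χ +
        ∑ χ ∈ Finset.univ.filter (fun χ => P (N₁ ⊓ N₂) χ ∧ ¬ P N₁ χ ∧ ¬ P N₂ χ), f χ := by
    rw [← Finset.sum_filter_add_sum_filter_not
      (Finset.univ.filter (fun χ => P (N₁ ⊓ N₂) χ ∧ ¬ P N₁ χ)) (P N₂),
      Finset.filter_filter, Finset.filter_filter]
    congr 1
    · apply Finset.sum_congr _ (fun _ _ => rfl)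
      ext χ
      simp only [Finset.mem_filter, Finset.mem_univ, true_and]
      exact ⟨fun h => ⟨h.2, h.1.2⟩, fun h => ⟨⟨fun n hn => h.1 n hn.2, h.2⟩, h.1⟩⟩
    · apply Finset.sum_congr _ (fun _ _ => rfl)
      ext χ
      simp only [Finset.mem_filter, Finset.mem_univ, true_and]
      exact ⟨fun h => ⟨h.1.1, h.1.2, h.2⟩, fun h => ⟨⟨h.1, h.2.1⟩, h.2.2⟩⟩
  have hs3 : ∑ χ ∈ Finset.univ.filter (P N₂), f χ =
      ∑ χ ∈ Finset.univ.filter (P B), f χ +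
        ∑ χ ∈ Finset.univ.filter (fun χ => P N₂ χ ∧ ¬ P N₁ χ), f χ := by
    rw [← Finset.sum_filter_add_sum_filter_not (Finset.univ.filter (P N₂)) (P N₁),
      Finset.filter_filter, Finset.filter_filter]
    congr 1
    apply Finset.sum_congr _ (fun _ _ => rfl)
    ext χ
    simp only [Finset.mem_filter, Finset.mem_univ, true_and]
    rw [hPB]
    exact ⟨fun h => ⟨h.2, h.1⟩, fun h => ⟨h.2, h.1⟩⟩
  -- the remaining sum
  have hs4 : ∑ χ ∈ Finset.univ.filter (fun χ => P (N₁ ⊓ N₂) χ ∧ ¬ P N₁ χ ∧ ¬ P N₂ χ), f χ =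
      (A₁ ⊓ A₂).index ^ 2 * (Finset.univ.filter (fun θ : IrrCharacter G =>
        (∀ n ∈ N₁ ⊓ N₂, (θ : G → ℂ) n = (θ : G → ℂ) 1) ∧
          (∃ b ∈ N₁, (θ : G → ℂ) b ≠ (θ : G → ℂ) 1) ∧
          (∃ b ∈ N₂, (θ : G → ℂ) b ≠ (θ : G → ℂ) 1))).card := by
    have hfil : (Finset.univ.filter (fun χ => P (N₁ ⊓ N₂) χ ∧ ¬ P N₁ χ ∧ ¬ P N₂ χ)) =
        (Finset.univ.filter (fun θ : IrrCharacter G =>
        (∀ n ∈ N₁ ⊓ N₂, (θ : G → ℂ) n = (θ : G → ℂ) 1) ∧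
          (∃ b ∈ N₁, (θ : G → ℂ) b ≠ (θ : G → ℂ) 1) ∧
          (∃ b ∈ N₂, (θ : G → ℂ) b ≠ (θ : G → ℂ) 1))) := by
      ext χ
      simp only [Finset.mem_filter, Finset.mem_univ, true_and, hP]
      constructor
      · rintro ⟨h1, h2, h3⟩
        push Not at h2 h3
        exact ⟨h1, h2, h3⟩
      · rintro ⟨h1, h2, h3⟩
        refine ⟨h1, ?_, ?_⟩
        · push Not
          exact h2
        · push Not
          exact h3
    rw [hfil, Finset.sum_congr rfl (g := fun _ => (A₁ ⊓ A₂).index ^ 2), Finset.sum_const,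
      smul_eq_mul, mul_comm]
    intro χ hχ
    rw [Finset.mem_filter] at hχ
    have h5 := degree_eq_index_two N₁ N₂ B A₁ A₂ hN₁B hN₂B hBA₁ hBA₂ hab₁ hab₂ hgen₁ hgen₂
      hmove₁ hmove₂ χ.2 hχ.2.1 hχ.2.2.1 hχ.2.2.2
    rw [IsCharacter.apply_one_eq_charDegree (IsIrrCharacter.isCharacter χ.2)] at h5
    have h6 : charDegree (χ : G → ℂ) = (A₁ ⊓ A₂).index := by exact_mod_cast h5
    show charDegree (χ : G → ℂ) ^ 2 = _
    rw [h6]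
  rw [← hs4, ← h0, ← h1, ← h2, ← h3, hs1, hs2, hs3]
  ring

end Cfsg.Agent.Lib.Helper33.PF9Cnt2
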