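import Mathlib
import Cfsg.Agent.Lib.Helper58.PFNineNDGrp

/-!
# Peterfalvi (9.8)(d), second count: group-theoretic part (helper33)

Two-axis companion of helper58's `PFNineNDGrp` (module [ND2] of helper64's PF sec.11 sheet #2).
For `1 ≠ w ∈ W₁` the conjugate `axis H₁ w` is again an axis; `Y₁`, `Y₂` are the joins of the axes
other than `H₁`, resp. other than `axis H₁ w`.  Then `Y₁ Y₂ = H`, every axis other than these two
lies in `Y₁ ∩ Y₂`, `Y₂ ≤ H₁ (Y₁ ∩ Y₂)`, `Y₁ ≤ (axis H₁ w) (Y₁ ∩ Y₂)` and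
`H C₁ ∩ H C₂ = H (C₁ ∩ C₂)` for subgroups `C₁, C₂ ≤ U`.
-/

set_option autoImplicit false

namespace Cfsg.Agent.Lib.Helper33.PF9ND2

open Cfsg Cfsg.Agent.Lib.Helper58.PF9 Cfsg.Agent.Lib.Helper58.PF9ND
  Cfsg.Agent.Lib.Helper16.PFNineNB Cfsg.Agent.Lib.Helper16.PFNineNC

universe u

variable {L : Type u} [Group L] {K H U W₁ W₂ H₀ H₁ : Subgroup L} {p q : ℕ}

/-- a conjugate of a conjugate -/
theorem axis_axis (H₁ : Subgroup L) (w v : L) : axis (axis H₁ w) v = axis H₁ (v * w) := by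
  ext g
  constructor
  · intro hg
    obtain ⟨h, hh, rfl⟩ := mem_axis.mp hg
    obtain ⟨h', hh', rfl⟩ := mem_axis.mp hh
    exact mem_axis.mpr ⟨h', hh', by group⟩
  · intro hg
    obtain ⟨h, hh, rfl⟩ := mem_axis.mp hg
    exact mem_axis.mpr ⟨w * h * w⁻¹, mem_axis.mpr ⟨h, hh, rfl⟩, by group⟩

/-- a `W₁`-conjugate of an axis is an axis -/
theorem isAxis_axis (c : Ctx K H U W₁ W₂ H₀ p q) (hA : IsAxis H U W₁ H₀ H₁ p) {w : L}
    (hw : w ∈ W₁) : IsAxis H U W₁ H₀ (axis H₁ w) p := by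
  have hH := c.H_normal
  have hH₀ := c.H₀_normal
  refine ⟨le_axis hA.H₀_le w, axis_le hA.le_H w, ?_, ?_, ?_⟩
  · rw [relIndex_axis, hA.relIndex]
  · apply le_normalizer_of_conj_mem'
    intro x hx g hg
    exact U_le_normalizer_axis c hA hw hx hg
  · apply le_antisymm
    · apply iSup_le
      intro v
      exact axis_le (axis_le hA.le_H w) (v : L)
    · rw [← hA.iSup_eq]
      apply iSup_le
      intro v
      have h1 : axis H₁ (v : L) = axis (axis H₁ w) (((v * ⟨w, hw⟩⁻¹ : ↥W₁)) : L) := by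
        rw [axis_axis]
        congr 1
        simp
      refine le_iSup_of_le (v * ⟨w, hw⟩⁻¹) ?_
      exact h1.le

/-- an axis other than `axis H₁ w` lies in the join of the axes other than `axis H₁ w` -/
theorem axis_le_Yoth_axis {w v : L} (hw : w ∈ W₁) (hv : v ∈ W₁) (hvw : v ≠ w) :
    axis H₁ v ≤ Yoth H₀ (axis H₁ w) W₁ := by
  have h1 : axis H₁ v = axis (axis H₁ w) (v * w⁻¹) := by
    rw [axis_axis]
    congr 1
    group
  rw [h1]
  apply axis_le_Yoth (W₁.mul_mem hv (W₁.inv_mem hw))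
  intro h
  apply hvw
  have : v = v * w⁻¹ * w := by group
  rw [this, h, one_mul]

/-- `H₁` lies in the join of the axes other than `axis H₁ w`, `w ≠ 1` -/
theorem le_Yoth_axis {w : L} (hw : w ∈ W₁) (hw1 : w ≠ 1) : H₁ ≤ Yoth H₀ (axis H₁ w) W₁ := by
  have h := axis_le_Yoth_axis (H₀ := H₀) (H₁ := H₁) hw W₁.one_mem (Ne.symm hw1)
  rwa [axis_one] at h

/-- `Y₂ ≤ H₁ (Y₁ ∩ Y₂)` -/
theorem Yoth_axis_le {w : L} (hw : w ∈ W₁) :
    Yoth H₀ (axis H₁ w) W₁ ≤ H₁ ⊔ (Yoth H₀ H₁ W₁ ⊓ Yoth H₀ (axis H₁ w) W₁) := by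
  unfold Yoth
  apply sup_le
  · exact le_trans (le_inf le_sup_left le_sup_left) le_sup_right
  · apply iSup₂_le
    intro v hv
    have hv' : (v : L) ≠ 1 := fun h => hv (Subtype.ext h)
    rw [axis_axis]
    by_cases h1 : (v : L) * w = 1
    · rw [h1, axis_one]
      exact le_sup_left
    · refine le_trans (le_inf ?_ ?_) le_sup_right
      · exact axis_le_Yoth (W₁.mul_mem v.2 hw) h1
      · apply axis_le_Yoth_axis hw (W₁.mul_mem v.2 hw)
        intro h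
        apply hv'
        have : (v : L) = (v : L) * w * w⁻¹ := by group
        rw [this, h, mul_inv_cancel]

/-- `Y₁ ≤ (axis H₁ w) (Y₁ ∩ Y₂)` -/
theorem Yoth_le_axis_sup {w : L} (hw : w ∈ W₁) :
    Yoth H₀ H₁ W₁ ≤ axis H₁ w ⊔ (Yoth H₀ H₁ W₁ ⊓ Yoth H₀ (axis H₁ w) W₁) := by
  have hle : Yoth H₀ H₁ W₁ ≤ Yoth H₀ H₁ W₁ := le_rfl
  conv_lhs => unfold Yoth
  apply sup_le
  · exact le_trans (le_inf le_Yoth le_Yoth) le_sup_right
  · apply iSup₂_le
    intro v hv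
    have hv' : (v : L) ≠ 1 := fun h => hv (Subtype.ext h)
    by_cases h1 : (v : L) = w
    · rw [h1]
      exact le_sup_left
    · refine le_trans (le_inf ?_ ?_) le_sup_right
      · exact axis_le_Yoth v.2 hv'
      · exact axis_le_Yoth_axis hw v.2 h1

/-- an axis other than `H₁` and `axis H₁ w` lies in `Y₁ ∩ Y₂` -/
theorem axis_le_inf {w v : L} (hw : w ∈ W₁) (hv : v ∈ W₁) (hv1 : v ≠ 1) (hvw : v ≠ w) :
    axis H₁ v ≤ Yoth H₀ H₁ W₁ ⊓ Yoth H₀ (axis H₁ w) W₁ :=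
  le_inf (axis_le_Yoth hv hv1) (axis_le_Yoth_axis hw hv hvw)

section Fin

variable [Finite L]

/-- `H U' ≤ (Y₁ U') (Y₂ U')` -/
theorem H_sup_le_sup (c : Ctx K H U W₁ W₂ H₀ p q) (hA : IsAxis H U W₁ H₀ H₁ p) {w : L}
    (hw : w ∈ W₁) (hw1 : w ≠ 1) (D : Subgroup L) :
    H ⊔ D ≤ (Yoth H₀ H₁ W₁ ⊔ D) ⊔ (Yoth H₀ (axis H₁ w) W₁ ⊔ D) := by
  apply sup_le
  · rw [← sup_Yoth c hA]
    apply sup_le
    · exact le_trans (le_Yoth_axis hw hw1) (le_trans le_sup_left le_sup_right)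
    · exact le_trans le_sup_left le_sup_left
  · exact le_trans le_sup_right le_sup_left

end Fin

/-- `H C₁ ∩ H C₂ = H (C₁ ∩ C₂)` for `C₁, C₂ ≤ U` -/
theorem H_sup_inf_H_sup (c : Ctx K H U W₁ W₂ H₀ p q) {C₁ C₂ : Subgroup L} (h1 : C₁ ≤ U)
    (h2 : C₂ ≤ U) : (H ⊔ C₁) ⊓ (H ⊔ C₂) = H ⊔ (C₁ ⊓ C₂) := by
  have hH := c.H_normal
  have hnorm : ∀ X : Subgroup L, X ≤ Subgroup.normalizer (H : Set L) := by
    intro X
    rw [Subgroup.normalizer_eq_top]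
    exact le_top
  apply le_antisymm
  · rintro x ⟨hx1, hx2⟩
    obtain ⟨a, ha, u, hu, rfl⟩ := exists_mul_of_mem_sup (hnorm C₁) hx1
    obtain ⟨b, hb, v, hv, hab⟩ := exists_mul_of_mem_sup (hnorm C₂) hx2
    have h3 : b⁻¹ * a = v * u⁻¹ := by
      have : a = b * v * u⁻¹ := by rw [← hab]; group
      rw [this]; group
    have h4 : v * u⁻¹ ∈ H ⊓ U :=
      ⟨by rw [← h3]; exact H.mul_mem (H.inv_mem hb) ha, U.mul_mem (h2 hv) (U.inv_mem (h1 hu))⟩
    rw [c.HU_inf, Subgroup.mem_bot] at h4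
    have h5 : v = u := by
      have : v = v * u⁻¹ * u := by group
      rw [this, h4, one_mul]
    exact Subgroup.mul_mem _ (Subgroup.mem_sup_left ha)
      (Subgroup.mem_sup_right ⟨hu, by rw [← h5]; exact hv⟩)
  · exact le_inf (sup_le_sup_left inf_le_left H) (sup_le_sup_left inf_le_right H)

end Cfsg.Agent.Lib.Helper33.PF9ND2
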