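import Mathlib
import Cfsg.Agent.Lib.Helper58.PFNineND
import Cfsg.Agent.Lib.Helper33.PFNineCnt2
import Cfsg.Agent.Lib.Helper33.PFNineND2Grp

/-!
# Peterfalvi (9.8)(d), second count: module [ND2] `axis_count_two` (helper33)

In the non-Galois case, if `|U : C₁| = a` and `|U : C₁ ∩ C_w| = a²` for every `1 ≠ w ∈ W₁`
(`C_w = C_U(H₁^w/H₀)`), then `S(H₀U')` contains at least `(q - 1)(p - 1)² |U : U'| / (2 a⁴)`
irreducible members of degree `q a²`.  They are induced from the irreducible characters of `K`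
which are nontrivial exactly on the two axes `H₁` and `H₁^w` (and trivial on `U'`): by
`PFNineCnt2.index_sq_mul_card_add_two` there are `(p - 1)² |U : U'| / a⁴` of those for each `w`,
all of degree `a²`; they are not `W₁`-invariant, and at most two of them induce the same character.
-/

set_option autoImplicit false
set_option linter.unusedSectionVars false

namespace Cfsg.Agent.Lib.Helper33.PF9ND2

open Cfsg Cfsg.Agent.Lib.Helper58.PF9 Cfsg.Agent.Lib.Helper58.PF9ND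
  Cfsg.Agent.Lib.Helper58.PF9Cnt Cfsg.Agent.Lib.Helper16.PFNineNB
  Cfsg.Agent.Lib.Helper16.PFNineNC
open Cfsg.Agent.Lib.Helper78 Cfsg.Agent.Lib.Helper80
open Cfsg.Agent.Lib.Helper33.PF9Cnt2

universe u

variable {L : Type u} [Group L] [Fintype L] {K H U W₁ W₂ H₀ H₁ : Subgroup L} {p q : ℕ}

/-- `θ` is trivial on the part of `X` inside `K` -/
def TrivOn (K : Subgroup L) (θ : ↥K → ℂ) (X : Subgroup L) : Prop :=
  ∀ a : ↥K, (a : L) ∈ X → θ a = θ 1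

omit [Fintype L] in
theorem trivOn_mono {θ : ↥K → ℂ} {X Y : Subgroup L} (h : X ≤ Y) (hY : TrivOn K θ Y) :
    TrivOn K θ X := fun a ha => hY a (h ha)

theorem trivOn_sup {θ : ↥K → ℂ} (hθ : IsCharacter ↥K θ) {X Y : Subgroup L} (hX : X ≤ K)
    (hY : Y ≤ K) (h1 : TrivOn K θ X) (h2 : TrivOn K θ Y) : TrivOn K θ (X ⊔ Y) := by
  have hle : X ⊔ Y ≤ (charKer θ hθ).map K.subtype := by
    apply sup_le
    · intro x hx
      exact Subgroup.mem_map.mpr ⟨⟨x, hX hx⟩, h1 _ hx, rfl⟩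
    · intro x hx
      exact Subgroup.mem_map.mpr ⟨⟨x, hY hx⟩, h2 _ hx, rfl⟩
  intro a ha
  obtain ⟨b, hb, hba⟩ := Subgroup.mem_map.mp (hle ha)
  have : b = a := Subtype.ext hba
  rw [← this]
  exact hb

/-- the members of `T_w`: trivial on `Y₁U' ∩ Y₂U'`, nontrivial on `Y₁U'` and on `Y₂U'` -/
def PT (K U W₁ H₀ H₁ : Subgroup L) (w : L) (θ : ↥K → ℂ) : Prop :=
  (∀ n ∈ (Yoth H₀ H₁ W₁ ⊔ ⁅U, U⁆).subgroupOf K ⊓
      (Yoth H₀ (axis H₁ w) W₁ ⊔ ⁅U, U⁆).subgroupOf K, θ n = θ 1) ∧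
    (∃ b ∈ (Yoth H₀ H₁ W₁ ⊔ ⁅U, U⁆).subgroupOf K, θ b ≠ θ 1) ∧
    (∃ b ∈ (Yoth H₀ (axis H₁ w) W₁ ⊔ ⁅U, U⁆).subgroupOf K, θ b ≠ θ 1)

section Support

variable {θ : ↥K → ℂ} {w : L}

omit [Fintype L] in
theorem PT.trivOn_inf (h : PT K U W₁ H₀ H₁ w θ) :
    TrivOn K θ ((Yoth H₀ H₁ W₁ ⊔ ⁅U, U⁆) ⊓ (Yoth H₀ (axis H₁ w) W₁ ⊔ ⁅U, U⁆)) :=
  fun a ha => h.1 a ⟨ha.1, ha.2⟩

omit [Fintype L] in
theorem PT.trivOn_D (h : PT K U W₁ H₀ H₁ w θ) : TrivOn K θ (H₀ ⊔ ⁅U, U⁆) :=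
  trivOn_mono (le_inf (sup_le_sup_right le_Yoth _) (sup_le_sup_right le_Yoth _)) h.trivOn_inf

omit [Fintype L] in
theorem PT.trivOn_axis (h : PT K U W₁ H₀ H₁ w θ) (hw : w ∈ W₁) {v : L} (hv : v ∈ W₁)
    (hv1 : v ≠ 1) (hvw : v ≠ w) : TrivOn K θ (axis H₁ v) :=
  trivOn_mono (le_trans (axis_le_inf hw hv hv1 hvw) (inf_le_inf le_sup_left le_sup_left))
    h.trivOn_inf

theorem PT.not_trivOn_H₁ (c : Ctx K H U W₁ W₂ H₀ p q) (hA : IsAxis H U W₁ H₀ H₁ p)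
    (hθ : IsCharacter ↥K θ) (h : PT K U W₁ H₀ H₁ w θ) (hw : w ∈ W₁) : ¬ TrivOn K θ H₁ := by
  intro h1
  have hHK : H ≤ K := by rw [← c.HU_sup]; exact le_sup_left
  have hUK : U ≤ K := by rw [← c.HU_sup]; exact le_sup_right
  have hDK : ⁅U, U⁆ ≤ K := le_trans (Subgroup.commutator_le_self U) hUK
  have hYK : Yoth H₀ H₁ W₁ ⊓ Yoth H₀ (axis H₁ w) W₁ ≤ K :=
    le_trans inf_le_left (le_trans (Yoth_le c hA) hHK)
  have h2 : TrivOn K θ (Yoth H₀ H₁ W₁ ⊓ Yoth H₀ (axis H₁ w) W₁) :=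
    trivOn_mono (inf_le_inf le_sup_left le_sup_left) h.trivOn_inf
  have h3 : TrivOn K θ ⁅U, U⁆ := trivOn_mono le_sup_right h.trivOn_D
  have h4 := trivOn_sup hθ (sup_le (le_trans hA.le_H hHK) hYK) hDK
    (trivOn_sup hθ (le_trans hA.le_H hHK) hYK h1 h2) h3
  obtain ⟨b, hb, hne⟩ := h.2.2
  exact hne (trivOn_mono (sup_le_sup_right (Yoth_axis_le hw) _) h4 b hb)

theorem PT.not_trivOn_axis (c : Ctx K H U W₁ W₂ H₀ p q) (hA : IsAxis H U W₁ H₀ H₁ p)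
    (hθ : IsCharacter ↥K θ) (h : PT K U W₁ H₀ H₁ w θ) (hw : w ∈ W₁) :
    ¬ TrivOn K θ (axis H₁ w) := by
  intro h1
  have hH := c.H_normal
  have hHK : H ≤ K := by rw [← c.HU_sup]; exact le_sup_left
  have hUK : U ≤ K := by rw [← c.HU_sup]; exact le_sup_right
  have hDK : ⁅U, U⁆ ≤ K := le_trans (Subgroup.commutator_le_self U) hUK
  have hYK : Yoth H₀ H₁ W₁ ⊓ Yoth H₀ (axis H₁ w) W₁ ≤ K :=
    le_trans inf_le_left (le_trans (Yoth_le c hA) hHK)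
  have haK : axis H₁ w ≤ K := le_trans (axis_le hA.le_H w) hHK
  have h2 : TrivOn K θ (Yoth H₀ H₁ W₁ ⊓ Yoth H₀ (axis H₁ w) W₁) :=
    trivOn_mono (inf_le_inf le_sup_left le_sup_left) h.trivOn_inf
  have h3 : TrivOn K θ ⁅U, U⁆ := trivOn_mono le_sup_right h.trivOn_D
  have h4 := trivOn_sup hθ (sup_le haK hYK) hDK (trivOn_sup hθ haK hYK h1 h2) h3
  obtain ⟨b, hb, hne⟩ := h.2.1
  exact hne (trivOn_mono (sup_le_sup_right (Yoth_le_axis_sup hw) _) h4 b hb)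

omit [Fintype L] in
/-- if `ψ` is the `v`-conjugate of `θ` and `θ` is trivial on `v X v⁻¹` then `ψ` is trivial on `X` -/
theorem trivOn_conj (hK : K.Normal) {ψ : ↥K → ℂ} {v : L}
    (hψ : ∀ k : ↥K, ψ k = θ ⟨v * k * v⁻¹, hK.conj_mem (k : L) k.2 v⟩) {X : Subgroup L}
    (h : TrivOn K θ (axis X v)) : TrivOn K ψ X := by
  intro a ha
  rw [hψ a, hψ 1]
  have h1 : v * (a : L) * v⁻¹ ∈ axis X v := mem_axis.mpr ⟨a, ha, rfl⟩
  rw [h _ h1]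
  congr 1
  apply Subtype.ext
  simp

end Support

section Data

/-- the single-axis data: `N = Y U'`, `B = H U'`, `A = H C_U(H₁/H₀)` as subgroups of `K` -/
theorem axis_data (c : Ctx K H U W₁ W₂ H₀ p q) (hA : IsAxis H U W₁ H₀ H₁ p) :
    ((Yoth H₀ H₁ W₁ ⊔ ⁅U, U⁆).subgroupOf K).Normal ∧
    ((H ⊔ ⁅U, U⁆).subgroupOf K).Normal ∧
    ((H ⊔ coreC U H₁ H₀).subgroupOf K).Normal ∧
    (Yoth H₀ H₁ W₁ ⊔ ⁅U, U⁆).subgroupOf K ≤ (H ⊔ ⁅U, U⁆).subgroupOf K ∧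
    (H ⊔ ⁅U, U⁆).subgroupOf K ≤ (H ⊔ coreC U H₁ H₀).subgroupOf K ∧
    (∀ x ∈ (H ⊔ coreC U H₁ H₀).subgroupOf K, ∀ y ∈ (H ⊔ coreC U H₁ H₀).subgroupOf K,
      x * y * x⁻¹ * y⁻¹ ∈ (Yoth H₀ H₁ W₁ ⊔ ⁅U, U⁆).subgroupOf K) ∧
    (∀ M : Subgroup ↥K, (Yoth H₀ H₁ W₁ ⊔ ⁅U, U⁆).subgroupOf K ≤ M →
      (∃ z ∈ (H ⊔ ⁅U, U⁆).subgroupOf K, z ∈ M ∧ z ∉ (Yoth H₀ H₁ W₁ ⊔ ⁅U, U⁆).subgroupOf K) →
      (H ⊔ ⁅U, U⁆).subgroupOf K ≤ M) ∧
    ((Yoth H₀ H₁ W₁ ⊔ ⁅U, U⁆).subgroupOf K).index = p * (⁅U, U⁆).relIndex U := by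
  have hK := c.K_normal
  have hHn := c.H_normal
  have hDI : ⁅U, U⁆ ≤ coreC U H₁ H₀ := commutator_le_coreC_one c hA
  have hIU : coreC U H₁ H₀ ≤ U := coreC_le U H₁ H₀
  have hDU : ⁅U, U⁆ ≤ U := Subgroup.commutator_le_self U
  have hHK : H ≤ K := by rw [← c.HU_sup]; exact le_sup_left
  have hUK : U ≤ K := by rw [← c.HU_sup]; exact le_sup_right
  have hHD_le : H ⊔ ⁅U, U⁆ ≤ K := H_sup_commutator_le c
  have hYD_le : Yoth H₀ H₁ W₁ ⊔ ⁅U, U⁆ ≤ K := le_trans (Yoth_sup_le c hA) hHD_le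
  have hHI_le : H ⊔ coreC U H₁ H₀ ≤ K := sup_le hHK (le_trans hIU hUK)
  refine ⟨?_, ?_, ?_, ?_, ?_, ?_, ?_, ?_⟩
  · exact (Subgroup.normal_subgroupOf_iff_le_normalizer hYD_le).mpr
      (K_le_normalizer_Yoth_sup c hA)
  · exact (Subgroup.normal_subgroupOf_iff_le_normalizer hHD_le).mpr
      (K_le_normalizer_H_sup c le_rfl hDU)
  · exact (Subgroup.normal_subgroupOf_iff_le_normalizer hHI_le).mpr
      (K_le_normalizer_H_sup c hDI hIU)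
  · exact Subgroup.comap_mono (Yoth_sup_le c hA)
  · exact Subgroup.comap_mono (sup_le_sup_left hDI H)
  · intro x hx y hy
    have := comm_mem_Yoth_sup c hA x hx y hy
    exact this
  · rintro M hNM ⟨z, hzB, hzM, hzN⟩
    have h1 := H_sup_le_of_mem c hA (M.map K.subtype)
      (fun y hy => Subgroup.mem_map.mpr ⟨⟨y, hYD_le hy⟩, hNM hy, rfl⟩)
      ⟨z, hzB, Subgroup.mem_map.mpr ⟨z, hzM, rfl⟩, hzN⟩
    intro b hb
    obtain ⟨m, hm, hmb⟩ := Subgroup.mem_map.mp (h1 hb)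
    have : m = b := Subtype.ext hmb
    rwa [← this]
  · exact relIndex_Yoth_sup c hA

/-- the count and the degree for a fixed `w` -/
theorem count_and_degree (c : Ctx K H U W₁ W₂ H₀ p q) (hA : IsAxis H U W₁ H₀ H₁ p) (a : ℕ)
    {w : L} (hw : w ∈ W₁) (hw1 : w ≠ 1)
    (hind : (coreC U H₁ H₀ ⊓ coreC U (axis H₁ w) H₀).relIndex U = a ^ 2) :
    (∀ θ : IrrCharacter ↥K, PT K U W₁ H₀ H₁ w (θ : ↥K → ℂ) → (θ : ↥K → ℂ) 1 = ((a ^ 2 : ℕ) : ℂ)) ∧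
    (∀ [DecidablePred fun θ : IrrCharacter ↥K => PT K U W₁ H₀ H₁ w (θ : ↥K → ℂ)],
      a ^ 4 * (Finset.univ.filter
        (fun θ : IrrCharacter ↥K => PT K U W₁ H₀ H₁ w (θ : ↥K → ℂ))).card =
        (p - 1) ^ 2 * (⁅U, U⁆).relIndex U) := by
  classical
  have hA' : IsAxis H U W₁ H₀ (axis H₁ w) p := isAxis_axis c hA hw
  obtain ⟨hN₁n, hBn, hA₁n, hN₁B, hBA₁, hab₁, hgen₁, hN₁i⟩ := axis_data c hA
  obtain ⟨hN₂n, -, hA₂n, hN₂B, hBA₂, hab₂, hgen₂, hN₂i⟩ := axis_data c hA'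
  have hHK : H ≤ K := by rw [← c.HU_sup]; exact le_sup_left
  have hUK : U ≤ K := by rw [← c.HU_sup]; exact le_sup_right
  have hDU : ⁅U, U⁆ ≤ U := Subgroup.commutator_le_self U
  have hHD_le : H ⊔ ⁅U, U⁆ ≤ K := H_sup_commutator_le c
  have hY₁D_le : Yoth H₀ H₁ W₁ ⊔ ⁅U, U⁆ ≤ K := le_trans (Yoth_sup_le c hA) hHD_le
  have hY₂D_le : Yoth H₀ (axis H₁ w) W₁ ⊔ ⁅U, U⁆ ≤ K := le_trans (Yoth_sup_le c hA') hHD_le
  set N₁ : Subgroup ↥K := (Yoth H₀ H₁ W₁ ⊔ ⁅U, U⁆).subgroupOf K with hN₁def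
  set N₂ : Subgroup ↥K := (Yoth H₀ (axis H₁ w) W₁ ⊔ ⁅U, U⁆).subgroupOf K with hN₂def
  set B : Subgroup ↥K := (H ⊔ ⁅U, U⁆).subgroupOf K with hBdef
  set A₁ : Subgroup ↥K := (H ⊔ coreC U H₁ H₀).subgroupOf K with hA₁def
  set A₂ : Subgroup ↥K := (H ⊔ coreC U (axis H₁ w) H₀).subgroupOf K with hA₂def
  have hsup : B ≤ N₁ ⊔ N₂ := by
    rw [hN₁def, hN₂def, ← Subgroup.subgroupOf_sup hY₁D_le hY₂D_le]
    exact Subgroup.comap_mono (H_sup_le_sup c hA hw hw1 _)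
  have hmove₁ : ∀ g : ↥K, g ∉ A₁ → ∃ b ∈ N₂, g * b * g⁻¹ * b⁻¹ ∉ N₁ := by
    intro g hg
    obtain ⟨b, hb, hbN⟩ := exists_moved c hA g.2 hg
    exact ⟨⟨b, hHK (hA.le_H hb)⟩, Subgroup.mem_sup_left (le_Yoth_axis hw hw1 hb), hbN⟩
  have hmove₂ : ∀ g : ↥K, g ∉ A₂ → ∃ b ∈ N₁, g * b * g⁻¹ * b⁻¹ ∉ N₂ := by
    intro g hg
    obtain ⟨b, hb, hbN⟩ := exists_moved c hA' g.2 hg
    exact ⟨⟨b, hHK (hA'.le_H hb)⟩, Subgroup.mem_sup_left (axis_le_Yoth hw hw1 hb), hbN⟩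
  -- the index of `A₁ ⊓ A₂`
  have hAidx : (A₁ ⊓ A₂).index = a ^ 2 := by
    have e : A₁ ⊓ A₂ = (H ⊔ (coreC U H₁ H₀ ⊓ coreC U (axis H₁ w) H₀)).subgroupOf K := by
      rw [← H_sup_inf_H_sup c (coreC_le U H₁ H₀) (coreC_le U (axis H₁ w) H₀)]
      ext x
      simp only [hA₁def, hA₂def, Subgroup.mem_inf, Subgroup.mem_subgroupOf]
    rw [e]
    have := relIndex_H_sup c (le_trans inf_le_left (coreC_le U H₁ H₀) :
      coreC U H₁ H₀ ⊓ coreC U (axis H₁ w) H₀ ≤ U)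
    rw [hind] at this
    exact this
  have hBi : B.index = (⁅U, U⁆).relIndex U := relIndex_H_sup c hDU
  refine ⟨?_, ?_⟩
  · intro θ hθ
    have := degree_eq_index_two N₁ N₂ B A₁ A₂ hN₁B hN₂B hBA₁ hBA₂ hab₁ hab₂ hgen₁ hgen₂
      hmove₁ hmove₂ θ.2 hθ.1 hθ.2.1 hθ.2.2
    rw [this, hAidx]
  · intro inst
    have hcnt := index_sq_mul_card_add_two N₁ N₂ B A₁ A₂ hN₁B hN₂B hBA₁ hBA₂ hsup hab₁ hab₂
      hgen₁ hgen₂ hmove₁ hmove₂
    have hinf := index_inf_mul_index_sup N₁ N₂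
    have hsupeq : N₁ ⊔ N₂ = B := le_antisymm (sup_le hN₁B hN₂B) hsup
    rw [hsupeq, hN₁i, hN₂i, hBi] at hinf
    rw [hAidx, hN₁i, hN₂i, hBi] at hcnt
    set m := (⁅U, U⁆).relIndex U with hm
    have hmpos : 0 < m := by
      apply Nat.pos_of_ne_zero
      exact Subgroup.index_ne_zero_of_finite
    have hX : (N₁ ⊓ N₂).index = p * p * m := by
      have : (N₁ ⊓ N₂).index * m = (p * p * m) * m := by rw [hinf]; ring
      exact Nat.eq_of_mul_eq_mul_right hmpos this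
    rw [hX] at hcnt
    have hfil : (Finset.univ.filter
        (fun θ : IrrCharacter ↥K => PT K U W₁ H₀ H₁ w (θ : ↥K → ℂ))) =
        (Finset.univ.filter (fun θ : IrrCharacter ↥K =>
          (∀ n ∈ N₁ ⊓ N₂, (θ : ↥K → ℂ) n = (θ : ↥K → ℂ) 1) ∧
          (∃ b ∈ N₁, (θ : ↥K → ℂ) b ≠ (θ : ↥K → ℂ) 1) ∧
          (∃ b ∈ N₂, (θ : ↥K → ℂ) b ≠ (θ : ↥K → ℂ) 1))) := by
      ext θ
      simp only [Finset.mem_filter, Finset.mem_univ, true_and]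
      rfl
    rw [hfil]
    set t := (Finset.univ.filter (fun θ : IrrCharacter ↥K =>
          (∀ n ∈ N₁ ⊓ N₂, (θ : ↥K → ℂ) n = (θ : ↥K → ℂ) 1) ∧
          (∃ b ∈ N₁, (θ : ↥K → ℂ) b ≠ (θ : ↥K → ℂ) 1) ∧
          (∃ b ∈ N₂, (θ : ↥K → ℂ) b ≠ (θ : ↥K → ℂ) 1))).card with ht
    obtain ⟨r, hr⟩ : ∃ r, p = r + 1 := ⟨p - 1, by have := c.p_prime.one_lt; omega⟩
    rw [hr] at hcnt ⊢
    have e1 : r + 1 - 1 = r := by omega
    rw [e1]
    have e2 : (a ^ 2) ^ 2 = a ^ 4 := by ring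
    rw [e2] at hcnt
    nlinarith [hcnt]

end Data

section Main

/-- a third element of `W₁` -/
theorem exists_third (c : Ctx K H U W₁ W₂ H₀ p q) {w : L} (hw : w ∈ W₁) (hw1 : w ≠ 1) :
    ∃ v ∈ W₁, v ≠ 1 ∧ v ≠ w := by
  have hq : Odd q := by
    have h1 : q ∣ Nat.card L := by
      rw [← c.card_W₁]
      exact Subgroup.card_subgroup_dvd_card W₁
    exact Odd.of_dvd_nat c.odd h1
  have ho : orderOf w ∣ q := by
    rw [← c.card_W₁]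
    have := orderOf_dvd_natCard (⟨w, hw⟩ : ↥W₁)
    rwa [Subgroup.orderOf_mk] at this
  have ho1 : orderOf w ≠ 1 := fun h => hw1 (orderOf_eq_one_iff.mp h)
  have hoq : orderOf w = q := ((Nat.dvd_prime c.q_prime).mp ho).resolve_left ho1
  refine ⟨w * w, W₁.mul_mem hw hw, ?_, ?_⟩
  · intro h
    have h2 : orderOf w ∣ 2 := orderOf_dvd_of_pow_eq_one (by rw [pow_two]; exact h)
    rw [hoq] at h2
    have h3 : q ≤ 2 := Nat.le_of_dvd (by norm_num) h2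
    have h4 := c.q_prime.two_le
    have h5 : q = 2 := le_antisymm h3 h4
    rw [h5] at hq
    exact absurd hq (by decide)
  · intro h
    apply hw1
    have : w = w⁻¹ * (w * w) := by group
    rw [this, h, inv_mul_cancel]

/-- **Peterfalvi (9.8)(d), second count**: module [ND2]. -/
theorem axis_count_two (c : Ctx K H U W₁ W₂ H₀ p q) (hA : IsAxis H U W₁ H₀ H₁ p)
    (a : ℕ) (ha : (coreC U H₁ H₀).relIndex U = a)
    (hind : ∀ w ∈ W₁, w ≠ 1 →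
      (coreC U H₁ H₀ ⊓ coreC U (H₁.map (MulAut.conj w).toMonoidHom) H₀).relIndex U = a ^ 2) :
    (q - 1) * (p - 1) ^ 2 * (⁅U, U⁆).relIndex U ≤ 2 * a ^ 4 *
      {φ : L → ℂ | φ ∈ Sbook K H (H₀ ⊔ ⁅U, U⁆) ∧ IsIrrCharacter L φ ∧
        φ 1 = ((q * a ^ 2 : ℕ) : ℂ)}.ncard := by
  classical
  have hK := c.K_normal
  have hHK : H ≤ K := by rw [← c.HU_sup]; exact le_sup_left
  have hUK : U ≤ K := by rw [← c.HU_sup]; exact le_sup_right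
  have : Fintype ↥W₁ := Fintype.ofFinite _
  set m := (⁅U, U⁆).relIndex U with hm
  set S := {φ : L → ℂ | φ ∈ Sbook K H (H₀ ⊔ ⁅U, U⁆) ∧ IsIrrCharacter L φ ∧
    φ 1 = ((q * a ^ 2 : ℕ) : ℂ)} with hSdef
  let T : L → Finset (IrrCharacter ↥K) := fun w =>
    Finset.univ.filter (fun θ : IrrCharacter ↥K => PT K U W₁ H₀ H₁ w (θ : ↥K → ℂ))
  have hTmem : ∀ (w : L) (θ : IrrCharacter ↥K), θ ∈ T w ↔ PT K U W₁ H₀ H₁ w (θ : ↥K → ℂ) := by
    intro w θ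
    simp only [T, Finset.mem_filter, Finset.mem_univ, true_and]
  let J : Finset ↥W₁ := Finset.univ.erase 1
  have hJ : ∀ w : ↥W₁, w ∈ J ↔ (w : L) ≠ 1 := by
    intro w
    simp only [J, Finset.mem_erase, Finset.mem_univ, and_true]
    exact ⟨fun h h' => h (Subtype.ext h'), fun h h' => h (congrArg Subtype.val h')⟩
  have hJcard : J.card = q - 1 := by
    rw [Finset.card_erase_of_mem (Finset.mem_univ _), Finset.card_univ, ← Nat.card_eq_fintype_card,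
      c.card_W₁]
  let TT : Finset (IrrCharacter ↥K) := J.biUnion (fun w => T (w : L))
  have hchar : ∀ θ : IrrCharacter ↥K, IsCharacter ↥K (θ : ↥K → ℂ) :=
    fun θ => IsIrrCharacter.isCharacter θ.2
  -- the pieces are pairwise disjoint
  have hdisj : ∀ w ∈ J, ∀ w' ∈ J, w ≠ w' → Disjoint (T (w : L)) (T (w' : L)) := by
    intro w hw w' hw' hne
    rw [Finset.disjoint_left]
    intro θ hθ hθ'
    rw [hTmem] at hθ hθ'
    have h1 := PT.not_trivOn_axis c hA (hchar θ) hθ w.2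
    exact h1 (PT.trivOn_axis hθ' w'.2 w.2 ((hJ w).mp hw)
      (fun h => hne (Subtype.ext h)))
  have hTTcard : TT.card = ∑ w ∈ J, (T (w : L)).card := Finset.card_biUnion hdisj
  have htot : a ^ 4 * TT.card = (q - 1) * ((p - 1) ^ 2 * m) := by
    rw [hTTcard, Finset.mul_sum, Finset.sum_congr rfl (g := fun _ => (p - 1) ^ 2 * m),
      Finset.sum_const, hJcard, smul_eq_mul]
    intro w hw
    exact (count_and_degree c hA a w.2 ((hJ w).mp hw) (hind w w.2 ((hJ w).mp hw))).2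
  -- properties of the members
  have hprop : ∀ θ ∈ TT, ∃ w ∈ W₁, w ≠ 1 ∧ PT K U W₁ H₀ H₁ w (θ : ↥K → ℂ) := by
    intro θ hθ
    obtain ⟨w, hw, hθw⟩ := Finset.mem_biUnion.mp hθ
    exact ⟨w, w.2, (hJ w).mp hw, (hTmem _ _).mp hθw⟩
  have hX : ∀ θ ∈ TT, (θ : ↥K → ℂ) ∈ Xset K H (H₀ ⊔ ⁅U, U⁆) := by
    intro θ hθ
    obtain ⟨w, hw, hw1, hP⟩ := hprop θ hθ
    refine ⟨θ.2, hP.trivOn_D, ?_⟩
    have h1 := PT.not_trivOn_H₁ c hA (hchar θ) hP hw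
    unfold TrivOn at h1
    push Not at h1
    obtain ⟨b, hb, hne⟩ := h1
    exact ⟨b, hA.le_H hb, hne⟩
  have hninv : ∀ θ ∈ TT, ¬ IsW1Inv K W₁ c.K_normal (θ : ↥K → ℂ) := by
    intro θ hθ hinv
    obtain ⟨w, hw, hw1, hP⟩ := hprop θ hθ
    obtain ⟨v, hv, hv1, hvw⟩ := exists_third c hw hw1
    have h1 : TrivOn K (θ : ↥K → ℂ) (axis H₁ v) := hP.trivOn_axis hw hv hv1 hvw
    have h2 : TrivOn K (θ : ↥K → ℂ) H₁ :=
      trivOn_conj c.K_normal (fun k => (congrFun (hinv v hv) k).symm) h1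
    exact PT.not_trivOn_H₁ c hA (hchar θ) hP hw h2
  have hirr : ∀ θ ∈ TT, IsIrrCharacter L (indFun K (θ : ↥K → ℂ)) := fun θ hθ =>
    (Cfsg.Agent.Lib.Helper59.PF9.irr_iff_not_W1Inv c _ (hX θ hθ)).1.mpr (hninv θ hθ)
  have hmem : ∀ θ ∈ TT, indFun K (θ : ↥K → ℂ) ∈ S := by
    intro θ hθ
    obtain ⟨w, hw, hw1, hP⟩ := hprop θ hθ
    refine ⟨⟨_, hX θ hθ, rfl⟩, hirr θ hθ, ?_⟩
    rw [indFun_one_of_ctx c, (count_and_degree c hA a hw hw1 (hind w hw hw1)).1 θ hP]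
    push_cast
    ring
  -- members with the same induced character are `W₁`-conjugate
  have hconj : ∀ θ ∈ TT, ∀ θ' ∈ TT, indFun K (θ : ↥K → ℂ) = indFun K (θ' : ↥K → ℂ) →
      ∃ v ∈ W₁, Cfsg.Agent.Lib.Helper75.conjFun K v (θ : ↥K → ℂ) = (θ' : ↥K → ℂ) := by
    intro θ hθ θ' hθ' heq
    have hex : ∃ g : L, Cfsg.Agent.Lib.Helper75.conjFun K g (θ : ↥K → ℂ) = (θ' : ↥K → ℂ) := by
      by_contra hcon
      push Not at hcon
      have h0 := Cfsg.Agent.Lib.Helper75.classInner_indFun_indFun_eq_zero K θ.2 θ'.2 hcon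
      rw [← heq, classInner_irr_self (hirr θ hθ)] at h0
      exact one_ne_zero h0
    obtain ⟨g, hg⟩ := hex
    obtain ⟨h, hh, x, hx, w, hw, rfl⟩ := exists_decomp c g
    have hk : h * x ∈ K := K.mul_mem (hHK hh) (hUK hx)
    refine ⟨w, hw, ?_⟩
    rw [← hg, Cfsg.Agent.Lib.Helper75.conjFun_mul]
    congr 1
    exact (Cfsg.Agent.Lib.Helper75.conjFun_of_mem K
      (IsCharacter.isClassFunction (hchar θ)) ⟨h * x, hk⟩).symm
  -- the fibres have at most two elements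
  let f : IrrCharacter ↥K → (L → ℂ) := fun θ => indFun K (θ : ↥K → ℂ)
  have hfib : ∀ φ ∈ TT.image f, (TT.filter (fun θ => f θ = φ)).card ≤ 2 := by
    intro φ hφ
    obtain ⟨θ₀, hθ₀, hfθ₀⟩ := Finset.mem_image.mp hφ
    obtain ⟨w₀, hw₀, hw₀1, hP₀⟩ := hprop θ₀ hθ₀
    have hsub : TT.filter (fun θ => f θ = φ) ⊆
        insert θ₀ (TT.filter (fun θ : IrrCharacter ↥K => (θ : ↥K → ℂ) =
          Cfsg.Agent.Lib.Helper75.conjFun K w₀ (θ₀ : ↥K → ℂ))) := by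
      intro θ' hθ'
      rw [Finset.mem_filter] at hθ'
      obtain ⟨hθ'T, hfθ'⟩ := hθ'
      obtain ⟨v, hv, hvθ⟩ := hconj θ₀ hθ₀ θ' hθ'T (by show f θ₀ = f θ'; rw [hfθ₀, hfθ'])
      obtain ⟨w', hw', hw'1, hP'⟩ := hprop θ' hθ'T
      have h1 : ¬ TrivOn K (θ₀ : ↥K → ℂ) (axis H₁ v) := by
        intro h
        have h2 : TrivOn K (θ' : ↥K → ℂ) H₁ :=
          trivOn_conj c.K_normal (fun k => by rw [← hvθ]; rfl) h
        exact PT.not_trivOn_H₁ c hA (hchar θ') hP' hw' h2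
      by_cases hv1 : v = 1
      · apply Finset.mem_insert.mpr
        left
        apply Subtype.ext
        rw [← hvθ, hv1, Cfsg.Agent.Lib.Helper75.conjFun_one]
      · by_cases hvw : v = w₀
        · apply Finset.mem_insert_of_mem
          rw [Finset.mem_filter]
          exact ⟨hθ'T, by rw [← hvθ, hvw]⟩
        · exact absurd (hP₀.trivOn_axis hw₀ hv hv1 hvw) h1
    have hone : (TT.filter (fun θ : IrrCharacter ↥K => (θ : ↥K → ℂ) =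
        Cfsg.Agent.Lib.Helper75.conjFun K w₀ (θ₀ : ↥K → ℂ))).card ≤ 1 := by
      rw [Finset.card_le_one]
      intro x hx y hy
      rw [Finset.mem_filter] at hx hy
      exact Subtype.ext (hx.2.trans hy.2.symm)
    calc (TT.filter (fun θ => f θ = φ)).card
        ≤ (insert θ₀ (TT.filter (fun θ : IrrCharacter ↥K => (θ : ↥K → ℂ) =
          Cfsg.Agent.Lib.Helper75.conjFun K w₀ (θ₀ : ↥K → ℂ)))).card := Finset.card_le_card hsub
      _ ≤ (TT.filter (fun θ : IrrCharacter ↥K => (θ : ↥K → ℂ) =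
          Cfsg.Agent.Lib.Helper75.conjFun K w₀ (θ₀ : ↥K → ℂ))).card + 1 :=
        Finset.card_insert_le _ _
      _ ≤ 2 := by omega
  have h2 : TT.card ≤ 2 * (TT.image f).card := Finset.card_le_mul_card_image TT 2 hfib
  have hSfin : S.Finite :=
    (Cfsg.Agent.Lib.Helper59.PF9.Sbook_finite (K := K) (H := H) (H₀ ⊔ ⁅U, U⁆)).subset
      (fun φ hφ => hφ.1)
  have hcard : (TT.image f).card ≤ S.ncard := by
    rw [← Set.ncard_coe_finset]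
    apply Set.ncard_le_ncard _ hSfin
    intro φ hφ
    rw [Finset.mem_coe, Finset.mem_image] at hφ
    obtain ⟨θ, hθ, rfl⟩ := hφ
    exact hmem θ hθ
  calc (q - 1) * (p - 1) ^ 2 * m = a ^ 4 * TT.card := by rw [htot]; ring
    _ ≤ a ^ 4 * (2 * S.ncard) := Nat.mul_le_mul_left _ (le_trans h2 (Nat.mul_le_mul_left _ hcard))
    _ = 2 * a ^ 4 * S.ncard := by ring

end Main

end Cfsg.Agent.Lib.Helper33.PF9ND2
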