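import Cfsg.Agent.Lib.Helper33.StabChain

/-!
# Control of strong fusion from the quotient by `O_p(G)` (helper33 library)

If `P = O_p(G)` is not centric, control of strong fusion in `G ⧸ P` and in the proper normalizers `N_G(X)` (`X ⊴ S`)
gives control of strong fusion in `G`.
-/

set_option autoImplicit false

namespace Cfsg.Agent.Lib.Helper33

universe u

variable {p : ℕ} {𝓦 : Set (∀ (Q : Type u) [Group Q], Subgroup Q)}

/-- lifting a chain from `G ⧸ P` to `G` when `P ≤ T` -/
theorem lift_reach_quot {G : Type*} [Group G] (P : Subgroup G) [P.Normal] (T : Subgroup G) (hPT : P ≤ T)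
    {Rb : Set (G ⧸ P)} {A : Set G} {yb : G ⧸ P}
    (h : Reach Rb (T.map (QuotientGroup.mk' P)) ((QuotientGroup.mk' P) '' A) yb) :
    ∃ y, QuotientGroup.mk' P y = yb ∧ Reach ((QuotientGroup.mk' P) ⁻¹' Rb) T A y := by
  induction h with
  | refl => exact ⟨1, map_one _, Reach.refl _ _ _⟩
  | @tail b c hb hbc ih =>
    obtain ⟨y', hy', hreach⟩ := ih
    obtain ⟨x, hx⟩ := QuotientGroup.mk'_surjective P (c * b⁻¹)
    have hxy : QuotientGroup.mk' P (x * y') = c := by
      rw [map_mul, hx, hy']; group
    refine ⟨x * y', hxy, ?_⟩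
    refine Relation.ReflTransGen.tail hreach ⟨?_, ?_⟩
    · have : x * y' * y'⁻¹ = x := by group
      rw [this]
      show QuotientGroup.mk' P x ∈ Rb
      rw [hx]; exact hbc.1
    · rintro _ ⟨a, ha, rfl⟩
      have h1 : QuotientGroup.mk' P (x * y' * a * (x * y')⁻¹) ∈ T.map (QuotientGroup.mk' P) := by
        apply hbc.2
        refine ⟨QuotientGroup.mk' P a, ⟨a, ha, rfl⟩, ?_⟩
        show c * QuotientGroup.mk' P a * c⁻¹ = _
        rw [← hxy, ← map_inv, ← map_mul, ← map_mul]
      rw [← Subgroup.mem_comap, Subgroup.comap_map_eq, QuotientGroup.ker_mk', sup_eq_left.mpr hPT] at h1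
      exact h1

theorem stepSet_subset_top {G : Type*} [Group G] (𝓥 : Set (Subgroup G → Subgroup G)) (H T : Subgroup G) :
    stepSet 𝓥 H T ⊆ stepSet 𝓥 ⊤ T := by
  rintro x ⟨W, hW, hx⟩
  exact ⟨W, hW, ⟨Subgroup.mem_top _, hx.2⟩⟩

section stab

variable {G : Type u} [Group G] [Finite G] [hp : Fact p.Prime] (S : Sylow p G) (P : Subgroup G) [hPn : P.Normal]
  (R : Set G)

/-- the step `b2`: elements of `N_G(U)` acting trivially on `U/P` -/
theorem good_of_stab (hPS : P ≤ (S : Subgroup G))
    (hPmax : ∀ N : Subgroup G, N.Normal → IsPGroup p N → N ≤ P)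
    (hPnc : ¬ ((S : Subgroup G) ⊓ Subgroup.centralizer (P : Set G) ≤ P))
    (H2' : ∀ X : Subgroup G, X ≤ (S : Subgroup G) → (S : Subgroup G) ≤ Subgroup.normalizer (X : Set G) →
      Subgroup.normalizer (X : Set G) ≠ ⊤ → ∀ z ∈ Subgroup.normalizer (X : Set G), ∀ C : Set G,
        C ⊆ (S : Subgroup G) → lc z C ⊆ (S : Subgroup G) → Good R (S : Subgroup G) C z)
    (U : Subgroup G) (hUS : U ≤ (S : Subgroup G)) (hUfn : FullyNormalized p (S : Subgroup G) U)
    (hPU : P ≤ U)
    (IH : ∀ Q : Subgroup G, Q ≤ (S : Subgroup G) → Nat.card U < Nat.card Q →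
        ∀ g, cj g Q ≤ (S : Subgroup G) → Good R (S : Subgroup G) (Q : Set G) g)
    (h : G) (hhN : h ∈ Subgroup.normalizer (U : Set G)) (hh : ∀ a ∈ U, h * a * h⁻¹ * a⁻¹ ∈ P) :
    Good R (S : Subgroup G) (U : Set G) h := by
  have hCn : (Subgroup.centralizer (P : Set G)).Normal := Subgroup.normal_centralizer
  have hcjC : ∀ g : G, cj g (Subgroup.centralizer (P : Set G)) = Subgroup.centralizer (P : Set G) := by
    intro g
    apply cj_eq_self_of_mem_normalizer
    rw [Subgroup.normalizer_eq_top (H := Subgroup.centralizer (P : Set G))]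
    exact Subgroup.mem_top g
  have hSp : IsPGroup p (S : Subgroup G) := S.isPGroup'
  have hhU : lc h (U : Set G) ⊆ (S : Subgroup G) := by
    rw [lc_coe_subgroup, cj_eq_self_of_mem_normalizer hhN]
    exact hUS
  by_cases hY : (S : Subgroup G) ⊓ Subgroup.normalizer (U : Set G) ⊓ Subgroup.centralizer (P : Set G) ≤ U
  · -- then `S ∩ C(P) ≤ U`
    have hSCU : (S : Subgroup G) ⊓ Subgroup.centralizer (P : Set G) ≤ U := by
      by_contra hnot
      have hlt : U < U ⊔ ((S : Subgroup G) ⊓ Subgroup.centralizer (P : Set G)) :=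
        lt_of_le_of_ne le_sup_left (fun e => hnot (le_sup_right.trans e.symm.le))
      obtain ⟨x, hx, hxU⟩ := exists_mem_normalizer_not_mem_of_lt
        (hSp.to_le (sup_le hUS inf_le_left)) hlt
      have hxS : x ∈ (S : Subgroup G) := (sup_le hUS inf_le_left : _ ≤ (S : Subgroup G)) hx.1
      have hxUC : x ∈ U ⊔ Subgroup.centralizer (P : Set G) :=
        (sup_le_sup_left inf_le_right U) hx.1
      obtain ⟨u, hu, c, hc, rfl⟩ := exists_mul_of_mem_sup_normal hxUC
      have hcS : c ∈ (S : Subgroup G) := by
        have : c = u⁻¹ * (u * c) := by group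
        rw [this]
        exact mul_mem (inv_mem (hUS hu)) hxS
      have hcN : c ∈ Subgroup.normalizer (U : Set G) := by
        have : c = u⁻¹ * (u * c) := by group
        rw [this]
        exact mul_mem (inv_mem (Subgroup.le_normalizer hu)) hx.2
      have hcU : c ∈ U := hY ⟨⟨hcS, hcN⟩, hc⟩
      exact hxU (mul_mem hu hcU)
    have hSCeq : U ⊓ Subgroup.centralizer (P : Set G) =
        (S : Subgroup G) ⊓ Subgroup.centralizer (P : Set G) :=
      le_antisymm (inf_le_inf_right _ hUS) (le_inf hSCU inf_le_right)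
    have hhNSC : h ∈ Subgroup.normalizer
        ((((S : Subgroup G) ⊓ Subgroup.centralizer (P : Set G) : Subgroup G)) : Set G) := by
      rw [← hSCeq, mem_normalizer_iff_cj_eq, cj_inf, cj_eq_self_of_mem_normalizer hhN, hcjC]
    have hSNSC : (S : Subgroup G) ≤ Subgroup.normalizer
        ((((S : Subgroup G) ⊓ Subgroup.centralizer (P : Set G) : Subgroup G)) : Set G) := by
      intro s hs
      rw [mem_normalizer_iff_cj_eq, cj_inf, cj_eq_self_of_mem hs, hcjC]
    refine H2' _ inf_le_left hSNSC ?_ h hhNSC (U : Set G) hUS hhU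
    intro htop
    have hn : ((S : Subgroup G) ⊓ Subgroup.centralizer (P : Set G)).Normal :=
      Subgroup.normalizer_eq_top_iff.mp htop
    exact hPnc (hPmax _ hn (hSp.to_le inf_le_left))
  · -- apply the stabilizer lemma inside `N_G(U)`
    have hPN : P ≤ Subgroup.normalizer (U : Set G) := hPU.trans Subgroup.le_normalizer
    have hPn' : (P.subgroupOf (Subgroup.normalizer (U : Set G))).Normal := hPn.subgroupOf _
    have hUn' : (U.subgroupOf (Subgroup.normalizer (U : Set G))).Normal := Subgroup.normal_in_normalizer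
    have hP' : IsPGroup p (P.subgroupOf (Subgroup.normalizer (U : Set G))) :=
      (hSp.to_le hPS).comap_subtype
    have hPU' : P.subgroupOf (Subgroup.normalizer (U : Set G)) ≤
        U.subgroupOf (Subgroup.normalizer (U : Set G)) := fun x hx => hPU hx
    have hh' : ∀ a ∈ U.subgroupOf (Subgroup.normalizer (U : Set G)),
        (⟨h, hhN⟩ : ↥(Subgroup.normalizer (U : Set G))) * a * (⟨h, hhN⟩ : ↥(Subgroup.normalizer (U : Set G)))⁻¹ * a⁻¹ ∈
          P.subgroupOf (Subgroup.normalizer (U : Set G)) := by
      intro a ha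
      rw [Subgroup.mem_subgroupOf]
      exact hh a.1 ha
    obtain ⟨c', hc', hn'⟩ := exists_centralizer_mul_mem_normalizer_of_stab hUfn.sylIn.toSylow
      (U.subgroupOf (Subgroup.normalizer (U : Set G))) (P.subgroupOf (Subgroup.normalizer (U : Set G)))
      hP' hPU' hh'
    have hcU : c'.1 ∈ Subgroup.centralizer (U : Set G) := by
      rw [Subgroup.mem_centralizer_iff]
      intro u hu
      have := (Subgroup.mem_centralizer_iff.mp hc') ⟨u, Subgroup.le_normalizer hu⟩
        (Subgroup.mem_subgroupOf.mpr hu)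
      exact congrArg Subtype.val this
    have hYle : (S : Subgroup G) ⊓ Subgroup.normalizer (U : Set G) ⊓ Subgroup.centralizer (P : Set G) ≤
        Subgroup.normalizer (U : Set G) := inf_le_left.trans inf_le_right
    have hYeq : ((hUfn.sylIn.toSylow : Sylow p ↥(Subgroup.normalizer (U : Set G))) :
          Subgroup ↥(Subgroup.normalizer (U : Set G))) ⊓
        Subgroup.centralizer ((P.subgroupOf (Subgroup.normalizer (U : Set G)) :
          Subgroup ↥(Subgroup.normalizer (U : Set G))) : Set ↥(Subgroup.normalizer (U : Set G))) =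
        ((S : Subgroup G) ⊓ Subgroup.normalizer (U : Set G) ⊓
          Subgroup.centralizer (P : Set G)).subgroupOf (Subgroup.normalizer (U : Set G)) := by
      ext x
      rw [Subgroup.mem_inf, hUfn.sylIn.coe_toSylow, Subgroup.mem_subgroupOf, Subgroup.mem_subgroupOf,
        Subgroup.mem_centralizer_iff,
        Subgroup.mem_inf (p := (S : Subgroup G) ⊓ Subgroup.normalizer (U : Set G)),
        Subgroup.mem_centralizer_iff]
      constructor
      · rintro ⟨h1, h2⟩
        refine ⟨h1, ?_⟩
        intro π hπ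
        have := h2 ⟨π, hPN hπ⟩ (Subgroup.mem_subgroupOf.mpr hπ)
        exact congrArg Subtype.val this
      · rintro ⟨h1, h2⟩
        refine ⟨h1, ?_⟩
        intro π hπ
        apply Subtype.ext
        exact h2 π.1 (Subgroup.mem_subgroupOf.mp hπ)
    have hnY : c'.1 * h ∈ Subgroup.normalizer
        ((((S : Subgroup G) ⊓ Subgroup.normalizer (U : Set G) ⊓ Subgroup.centralizer (P : Set G) :
          Subgroup G)) : Set G) := by
      rw [hYeq, ← Subgroup.subgroupOf_normalizer_eq hYle, Subgroup.mem_subgroupOf] at hn'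
      exact hn'
    have hchN : c'.1 * h ∈ Subgroup.normalizer (U : Set G) :=
      mul_mem (Subgroup.centralizer_le_normalizer _ hcU) hhN
    have hlt : U < U ⊔ ((S : Subgroup G) ⊓ Subgroup.normalizer (U : Set G) ⊓
        Subgroup.centralizer (P : Set G)) :=
      lt_of_le_of_ne le_sup_left (fun e => hY (le_sup_right.trans e.symm.le))
    have hle : U ⊔ ((S : Subgroup G) ⊓ Subgroup.normalizer (U : Set G) ⊓
        Subgroup.centralizer (P : Set G)) ≤ (S : Subgroup G) :=
      sup_le hUS (inf_le_left.trans inf_le_left)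
    have hcj : cj (c'.1 * h) (U ⊔ ((S : Subgroup G) ⊓ Subgroup.normalizer (U : Set G) ⊓
        Subgroup.centralizer (P : Set G))) = U ⊔ ((S : Subgroup G) ⊓ Subgroup.normalizer (U : Set G) ⊓
        Subgroup.centralizer (P : Set G)) := by
      have e1 := cj_sup (c'.1 * h) U ((S : Subgroup G) ⊓ Subgroup.normalizer (U : Set G) ⊓
        Subgroup.centralizer (P : Set G))
      rw [e1, cj_eq_self_of_mem_normalizer hchN, cj_eq_self_of_mem_normalizer hnY]
    have h1 := IH _ hle (card_lt_card_of_lt hlt) (c'.1 * h) (hcj.le.trans hle)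
    have h2 : Good R (S : Subgroup G) (U : Set G) (c'.1 * h) :=
      h1.mono le_rfl le_rfl (fun x hx => (le_sup_left : U ≤ _) hx)
    refine h2.congr ?_
    intro x hx
    have hgx : h * x * h⁻¹ ∈ U := by
      have := conj_mem_cj (g := h) hx
      rwa [cj_eq_self_of_mem_normalizer hhN] at this
    have hcomm := (Subgroup.mem_centralizer_iff.mp hcU) (h * x * h⁻¹) hgx
    calc c'.1 * h * x * (c'.1 * h)⁻¹ = c'.1 * (h * x * h⁻¹) * (c'.1)⁻¹ := by group
      _ = (h * x * h⁻¹) * c'.1 * (c'.1)⁻¹ := by rw [hcomm]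
      _ = h * x * h⁻¹ := by group

end stab

/-- **Control of strong fusion from the quotient by a non-centric `O_p(G)`** and from proper normalizers of normal
subgroups of `S`. -/
theorem familyControls_of_pQuot [hp : Fact p.Prime] (h𝓦 : ∀ W ∈ 𝓦, Cfsg.IsCharPFunctor.{u} p W)
    {G : Type u} [Group G] [Finite G] (S : Sylow p G) (P : Subgroup G) [hPn : P.Normal]
    (hPS : P ≤ (S : Subgroup G))
    (hPmax : ∀ N : Subgroup G, N.Normal → IsPGroup p N → N ≤ P)
    (hPnc : ¬ ((S : Subgroup G) ⊓ Subgroup.centralizer (P : Set G) ≤ P))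
    (H1 : Cfsg.FamilyControlsStrongFusionIn p (indFam 𝓦 (G ⧸ P)) ⊤)
    (H2 : ∀ X : Subgroup G, X ≤ (S : Subgroup G) → (S : Subgroup G) ≤ Subgroup.normalizer (X : Set G) →
      Subgroup.normalizer (X : Set G) ≠ ⊤ →
      Cfsg.FamilyControlsStrongFusionIn p (indFam 𝓦 G) (Subgroup.normalizer (X : Set G))) :
    Cfsg.FamilyControlsStrongFusionIn p (indFam 𝓦 G) ⊤ := by
  have hcfG := indFam_isConjugacyFunctor 𝓦 h𝓦 G
  have hSp : IsPGroup p (S : Subgroup G) := S.isPGroup'
  have H2' : ∀ X : Subgroup G, X ≤ (S : Subgroup G) → (S : Subgroup G) ≤ Subgroup.normalizer (X : Set G) →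
      Subgroup.normalizer (X : Set G) ≠ ⊤ → ∀ z ∈ Subgroup.normalizer (X : Set G), ∀ C : Set G,
        C ⊆ (S : Subgroup G) → lc z C ⊆ (S : Subgroup G) →
        Good (stepSet (indFam 𝓦 G) ⊤ (S : Subgroup G)) (S : Subgroup G) C z := by
    intro X hXS hSN hne z hz C hC hzC
    have := good_of_familyControls hcfG (H2 X hXS hSN hne) (sylIn_of_sylow_le S hSN) C z hz hC hzC
    exact this.mono (stepSet_subset_top _ _ _) le_rfl le_rfl
  have hcjP : ∀ g : G, cj g P = P := by
    intro g
    apply cj_eq_self_of_mem_normalizer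
    rw [Subgroup.normalizer_eq_top (H := P)]
    exact Subgroup.mem_top g
  rw [familyControls_iff_good]
  refine ⟨(S : Subgroup G), sylIn_top S, ?_⟩
  have key := alperin_induction S
    (fun Q g => Good (stepSet (indFam 𝓦 G) ⊤ (S : Subgroup G)) (S : Subgroup G) (Q : Set G) g) Set.univ
    (by
      intro Q hQ
      obtain ⟨g, hle, hfn⟩ := exists_fullyNormalized_cj S hQ
      exact ⟨cj g Q, trivial, ⟨g, rfl⟩, hle, hfn⟩)
    (by
      intro Q g h _ _ _ h1 h2
      apply h1.comp
      rw [lc_coe_subgroup]; exact h2)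
    (by
      intro Q Q' g hle _ _ h1
      exact h1.mono le_rfl le_rfl hle)
    (by
      intro Q g hQ _ h1
      have := h1.inv (fun x hx => stepSet_inv hx) hQ
      rwa [lc_coe_subgroup] at this)
    (by
      intro U _ hUS hUfn IH g hg
      by_cases hPU : P ≤ U
      · -- the quotient by `P`
        have hSb : SylIn p ((S : Subgroup G).map (QuotientGroup.mk' P)) ⊤ := by
          refine ⟨le_top, hSp.map _, ?_⟩
          rw [Subgroup.relIndex_top_right]
          intro hdvd
          exact S.not_dvd_index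
            (dvd_trans hdvd (Subgroup.index_map_dvd _ (QuotientGroup.mk'_surjective _)))
        have hgoodb := good_of_familyControls (indFam_isConjugacyFunctor 𝓦 h𝓦 (G ⧸ P)) H1 hSb
        have hgU : ∀ a ∈ U, g * a * g⁻¹ ∈ U := by
          intro a ha
          have := conj_mem_cj (g := g) ha
          rwa [cj_eq_self_of_mem_normalizer hg] at this
        have hUb : (QuotientGroup.mk' P) '' (U : Set G) ⊆ (S : Subgroup G).map (QuotientGroup.mk' P) := by
          rintro _ ⟨a, ha, rfl⟩
          exact Subgroup.mem_map_of_mem _ (hUS ha)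
        have hgUb : lc (QuotientGroup.mk' P g) ((QuotientGroup.mk' P) '' (U : Set G)) ⊆
            (S : Subgroup G).map (QuotientGroup.mk' P) := by
          rw [lc_image]
          rintro _ ⟨_, ⟨a, ha, rfl⟩, rfl⟩
          exact Subgroup.mem_map_of_mem _ (hUS (hgU a ha))
        obtain ⟨yb, hreachb, hagreeb⟩ := hgoodb _ _ (Subgroup.mem_top _) hUb hgUb
        obtain ⟨y, hy, hreach⟩ := lift_reach_quot P (S : Subgroup G) hPS hreachb
        have hstep : ∀ z ∈ (QuotientGroup.mk' P) ⁻¹'
            (stepSet (indFam 𝓦 (G ⧸ P)) ⊤ ((S : Subgroup G).map (QuotientGroup.mk' P))),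
            ∀ C : Set G, C ⊆ (S : Subgroup G) → lc z C ⊆ (S : Subgroup G) →
              Good (stepSet (indFam 𝓦 G) ⊤ (S : Subgroup G)) (S : Subgroup G) C z := by
          rintro z ⟨_, ⟨W, hW, rfl⟩, hz⟩ C hC hzC
          have hcfb := isConjugacyFunctor_inducedFunctor W (h𝓦 W hW) (G := G ⧸ P)
          have hSbp : IsPGroup p ((S : Subgroup G).map (QuotientGroup.mk' P)) := hSp.map _
          have hVbS : Cfsg.inducedFunctor W ((S : Subgroup G).map (QuotientGroup.mk' P)) ≤
              (S : Subgroup G).map (QuotientGroup.mk' P) := cf_le hcfb hSbp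
          have hXS : (Cfsg.inducedFunctor W ((S : Subgroup G).map (QuotientGroup.mk' P))).comap
              (QuotientGroup.mk' P) ≤ (S : Subgroup G) := by
            have := Subgroup.comap_mono (f := QuotientGroup.mk' P) hVbS
            rwa [Subgroup.comap_map_eq, QuotientGroup.ker_mk', sup_eq_left.mpr hPS] at this
          have hSN : (S : Subgroup G) ≤ Subgroup.normalizer
              ((((Cfsg.inducedFunctor W ((S : Subgroup G).map (QuotientGroup.mk' P))).comap
                (QuotientGroup.mk' P) : Subgroup G)) : Set G) := by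
            intro s hs
            apply Subgroup.le_normalizer_comap (QuotientGroup.mk' P)
            rw [Subgroup.mem_comap]
            exact (Subgroup.le_normalizer.trans (cf_normalizer_le hcfb hSbp))
              (Subgroup.mem_map_of_mem _ hs)
          have hzN : z ∈ Subgroup.normalizer
              ((((Cfsg.inducedFunctor W ((S : Subgroup G).map (QuotientGroup.mk' P))).comap
                (QuotientGroup.mk' P) : Subgroup G)) : Set G) := by
            apply Subgroup.le_normalizer_comap (QuotientGroup.mk' P)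
            rw [Subgroup.mem_comap]
            exact hz.2
          refine H2' _ hXS hSN ?_ z hzN C hC hzC
          intro htop
          have hXn := Subgroup.normalizer_eq_top_iff.mp htop
          have hXP := hPmax _ hXn (hSp.to_le hXS)
          have hVbot : Cfsg.inducedFunctor W ((S : Subgroup G).map (QuotientGroup.mk' P)) = ⊥ := by
            have h1 := Subgroup.map_mono (f := QuotientGroup.mk' P) hXP
            rw [Subgroup.map_comap_eq_self_of_surjective (QuotientGroup.mk'_surjective P)] at h1
            have hPb : P.map (QuotientGroup.mk' P) = ⊥ := by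
              rw [Subgroup.map_eq_bot_iff, QuotientGroup.ker_mk']
            exact le_bot_iff.mp (h1.trans hPb.le)
          have hSbot : (S : Subgroup G).map (QuotientGroup.mk' P) = ⊥ := by
            by_contra hne'
            exact cf_ne_bot hcfb hSbp hne' hVbot
          rw [Subgroup.map_eq_bot_iff, QuotientGroup.ker_mk'] at hSbot
          exact hPnc (inf_le_left.trans hSbot)
        have hΦy : Good (stepSet (indFam 𝓦 G) ⊤ (S : Subgroup G)) (S : Subgroup G) (U : Set G) y :=
          Good.of_reach (T' := (S : Subgroup G)) hUS hstep hreach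
        have hagree' : ∀ a ∈ U, QuotientGroup.mk' P (y * a * y⁻¹) = QuotientGroup.mk' P (g * a * g⁻¹) := by
          intro a ha
          have := hagreeb (QuotientGroup.mk' P a) ⟨a, ha, rfl⟩
          rw [← hy] at this
          simpa only [map_mul, map_inv] using this
        have hyN : y ∈ Subgroup.normalizer (U : Set G) := by
          rw [mem_normalizer_iff_cj_eq]
          apply Subgroup.eq_of_le_of_card_ge
          · intro x hx
            rw [mem_cj] at hx
            have h1 := hagree' _ hx
            have e : y * (y⁻¹ * x * y) * y⁻¹ = x := by group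
            rw [e] at h1
            have h2 : (g * (y⁻¹ * x * y) * g⁻¹)⁻¹ * x ∈ P := by
              rw [← QuotientGroup.eq_one_iff, ← QuotientGroup.mk'_apply, map_mul, map_inv, h1,
                inv_mul_cancel]
            have h3 := hgU _ hx
            have e2 : x = (g * (y⁻¹ * x * y) * g⁻¹) * ((g * (y⁻¹ * x * y) * g⁻¹)⁻¹ * x) := by group
            rw [e2]
            exact mul_mem h3 (hPU h2)
          · rw [card_cj]
        have hhN : y⁻¹ * g ∈ Subgroup.normalizer (U : Set G) := mul_mem (inv_mem hyN) hg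
        have hh : ∀ a ∈ U, y⁻¹ * g * a * (y⁻¹ * g)⁻¹ * a⁻¹ ∈ P := by
          intro a ha
          rw [← QuotientGroup.eq_one_iff, ← QuotientGroup.mk'_apply]
          have e := hagree' a ha
          simp only [map_mul, map_inv] at e ⊢
          calc (QuotientGroup.mk' P y)⁻¹ * QuotientGroup.mk' P g * QuotientGroup.mk' P a *
                ((QuotientGroup.mk' P y)⁻¹ * QuotientGroup.mk' P g)⁻¹ * (QuotientGroup.mk' P a)⁻¹
              = (QuotientGroup.mk' P y)⁻¹ * (QuotientGroup.mk' P g * QuotientGroup.mk' P a *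
                (QuotientGroup.mk' P g)⁻¹) * QuotientGroup.mk' P y * (QuotientGroup.mk' P a)⁻¹ := by group
            _ = (QuotientGroup.mk' P y)⁻¹ * (QuotientGroup.mk' P y * QuotientGroup.mk' P a *
                (QuotientGroup.mk' P y)⁻¹) * QuotientGroup.mk' P y * (QuotientGroup.mk' P a)⁻¹ := by rw [e]
            _ = 1 := by group
        have hΦh := good_of_stab S P (stepSet (indFam 𝓦 G) ⊤ (S : Subgroup G)) hPS hPmax hPnc H2' U hUS
          hUfn hPU IH (y⁻¹ * g) hhN hh
        have hlc : lc (y⁻¹ * g) (U : Set G) = (U : Set G) := by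
          rw [lc_coe_subgroup, cj_eq_self_of_mem_normalizer hhN]
        have := hΦh.comp (hlc.symm ▸ hΦy)
        have e : y * (y⁻¹ * g) = g := by group
        rwa [e] at this
      · -- `U < U P`
        have hlt : U < U ⊔ P := lt_of_le_of_ne le_sup_left (fun e => hPU (le_sup_right.trans e.symm.le))
        have hle : U ⊔ P ≤ (S : Subgroup G) := sup_le hUS hPS
        have hcj : cj g (U ⊔ P) = U ⊔ P := by
          have e1 := cj_sup g U P
          rw [e1, cj_eq_self_of_mem_normalizer hg, hcjP]
        have h1 := IH _ hle (card_lt_card_of_lt hlt) g (hcj.le.trans hle)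
        exact h1.mono le_rfl le_rfl (fun x hx => (le_sup_left : U ≤ _) hx))
  intro A g _ hA hAg
  have hQ : Subgroup.closure A ≤ (S : Subgroup G) := (Subgroup.closure_le _).mpr hA
  have hQg : cj g (Subgroup.closure A) ≤ (S : Subgroup G) := lc_subset_subgroup_iff.mp hAg
  exact (key _ hQ g hQg).mono le_rfl le_rfl Subgroup.subset_closure

end Cfsg.Agent.Lib.Helper33
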