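/-
Helper33, hedge of module S4125-[LASTQ] of helper75's sheet (q-Baer groups, Camina–Camina Thm A):
if all `q`-elements of `G` have centralizers of `p`-power index (`p ≠ q`), then `G ⧸ O_{q'}(G)` is
solvable.  `_of` form: the statements of [PNQ] (for the Sylow `q`-subgroups of `G`) and [LASTABS] (for
the quotient `G ⧸ O_{q'}(G)`) are hypotheses.
-/
import Mathlib
import Cfsg.Prelude.Def_Solvable
import Cfsg.Agent.Lib.Helper76.PCore

set_option autoImplicit false
set_option linter.unusedSectionVars false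
set_option linter.unusedVariables false
set_option linter.style.haveILetI false

namespace Cfsg.Agent.Lib.Helper33.QBaer

universe u

open Cfsg

/-- [LASTQ] with [PNQ] and [LASTABS] as hypotheses -/
theorem solvable_quotient_pPrimeCore_of {G : Type u} [Group G] [Finite G] (q p : ℕ) [Fact q.Prime]
    [Fact p.Prime] (hpq : p ≠ q)
    (h : ∀ x : G, (∃ k : ℕ, orderOf x = q ^ k) →
      ∃ a : ℕ, (Subgroup.centralizer ({x} : Set G)).index = p ^ a)
    (_h : (Cfsg.pPrimeCore q G).Normal)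
    (hPNQ : ∀ Q : Sylow q G,
      IsMulCommutative (Q : Subgroup G) ∧ (Cfsg.pCore p G ⊔ (Q : Subgroup G)).Normal)
    (hLA : ∀ (A : Subgroup (G ⧸ Cfsg.pPrimeCore q G)) [A.Normal], IsMulCommutative A →
      IsPGroup q A → A.index.Coprime q →
      Subgroup.centralizer (A : Set (G ⧸ Cfsg.pPrimeCore q G)) ≤ A →
      (∀ v ∈ A, ∃ k : ℕ,
        (Subgroup.centralizer ({v} : Set (G ⧸ Cfsg.pPrimeCore q G))).index = p ^ k) →
      Group.IsSolvable (G ⧸ Cfsg.pPrimeCore q G)) :
    Group.IsSolvable (G ⧸ Cfsg.pPrimeCore q G) := by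
  classical
  have hq : q.Prime := Fact.out
  have hp : p.Prime := Fact.out
  obtain ⟨Q⟩ : Nonempty (Sylow q G) := inferInstance
  obtain ⟨hQc, hQn⟩ := hPNQ Q
  -- `O_p(G) ≤ O_{q'}(G)`
  have hpK : Cfsg.pCore p G ≤ Cfsg.pPrimeCore q G := by
    apply Cfsg.Agent.Lib.Helper76.le_pPrimeCore q _ inferInstance
    obtain ⟨k, hk⟩ := IsPGroup.iff_card.mp (Cfsg.Agent.Lib.Helper76.pCore_isPGroup (G := G) p)
    rw [hk]
    exact Nat.Coprime.pow_left k ((Nat.coprime_primes hp hq).2 hpq)
  have hπs : Function.Surjective (QuotientGroup.mk' (Cfsg.pPrimeCore q G)) :=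
    QuotientGroup.mk'_surjective _
  obtain ⟨A, hAdef⟩ : ∃ A : Subgroup (G ⧸ Cfsg.pPrimeCore q G),
      A = (Q : Subgroup G).map (QuotientGroup.mk' (Cfsg.pPrimeCore q G)) := ⟨_, rfl⟩
  have hAn : A.Normal := by
    have e : A = (Cfsg.pCore p G ⊔ (Q : Subgroup G)).map
        (QuotientGroup.mk' (Cfsg.pPrimeCore q G)) := by
      rw [Subgroup.map_sup, hAdef]
      have e0 : (Cfsg.pCore p G).map (QuotientGroup.mk' (Cfsg.pPrimeCore q G)) = ⊥ := by
        rw [eq_bot_iff]
        rintro _ ⟨x, hx, rfl⟩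
        rw [Subgroup.mem_bot]
        exact (QuotientGroup.eq_one_iff x).2 (hpK hx)
      rw [e0, bot_sup_eq]
    rw [e]
    exact hQn.map _ hπs
  have hAc : IsMulCommutative A := by
    rw [hAdef]
    refine ⟨⟨?_⟩⟩
    rintro ⟨_, x, hx, rfl⟩ ⟨_, y, hy, rfl⟩
    apply Subtype.ext
    have hxy : x * y = y * x := by
      have := hQc.is_comm.comm (⟨x, hx⟩ : (Q : Subgroup G)) ⟨y, hy⟩
      exact congrArg Subtype.val this
    show QuotientGroup.mk' _ x * QuotientGroup.mk' _ y = QuotientGroup.mk' _ y * QuotientGroup.mk' _ x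
    rw [← map_mul, ← map_mul, hxy]
  have hAq : IsPGroup q A := by
    rw [hAdef]
    exact Q.2.map _
  have hAi : A.index.Coprime q := by
    have h1 : A.index ∣ (Q : Subgroup G).index := by
      rw [hAdef]
      exact Subgroup.index_map_dvd _ hπs
    have h2 : ¬ q ∣ (Q : Subgroup G).index := Q.not_dvd_index
    have h3 : ¬ q ∣ A.index := fun h4 => h2 (dvd_trans h4 h1)
    exact ((Nat.Prime.coprime_iff_not_dvd hq).2 h3).symm
  have hcl : ∀ v ∈ A, ∃ k : ℕ,
      (Subgroup.centralizer ({v} : Set (G ⧸ Cfsg.pPrimeCore q G))).index = p ^ k := by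
    intro v hv
    rw [hAdef] at hv
    obtain ⟨x, hx, rfl⟩ := hv
    obtain ⟨k, hk⟩ := IsPGroup.iff_orderOf.1 Q.2 (⟨x, hx⟩ : (Q : Subgroup G))
    rw [Subgroup.orderOf_mk] at hk
    obtain ⟨a, ha⟩ := h x ⟨k, hk⟩
    have hle : (Subgroup.centralizer ({x} : Set G)).map (QuotientGroup.mk' (Cfsg.pPrimeCore q G)) ≤
        Subgroup.centralizer ({QuotientGroup.mk' (Cfsg.pPrimeCore q G) x} : Set _) := by
      rintro _ ⟨y, hy, rfl⟩
      have hy : y ∈ Subgroup.centralizer ({x} : Set G) := hy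
      rw [Subgroup.mem_centralizer_iff] at hy ⊢
      intro z hz
      rw [Set.mem_singleton_iff] at hz
      subst hz
      have := hy x (Set.mem_singleton x)
      rw [← map_mul, ← map_mul, this]
    have h1 := Subgroup.index_dvd_of_le hle
    have h2 : ((Subgroup.centralizer ({x} : Set G)).map
        (QuotientGroup.mk' (Cfsg.pPrimeCore q G))).index ∣ p ^ a := by
      rw [← ha]
      exact Subgroup.index_map_dvd _ hπs
    obtain ⟨j, -, hj⟩ := (Nat.dvd_prime_pow hp).1 (dvd_trans h1 h2)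
    exact ⟨j, hj⟩
  have hcent : Subgroup.centralizer (A : Set (G ⧸ Cfsg.pPrimeCore q G)) ≤ A := by
    haveI := hAn
    apply Cfsg.Agent.Lib.Helper76.le_of_central_coprime_relIndex q
      (fun N hN hcop => Cfsg.Agent.Lib.Helper76.quotient_pPrimeCore_core_trivial q N hN hcop)
      (Subgroup.centralizer (A : Set (G ⧸ Cfsg.pPrimeCore q G))) A Subgroup.normal_centralizer
      ?_ hAn hAq ?_ ?_
    · intro a ha
      rw [Subgroup.mem_centralizer_iff]
      intro b hb
      have := hAc.is_comm.comm (⟨b, hb⟩ : A) ⟨a, ha⟩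
      exact congrArg Subtype.val this
    · intro b hb a ha
      rw [Subgroup.mem_centralizer_iff] at ha
      exact (ha b hb).symm
    · exact Nat.Coprime.coprime_dvd_left (Subgroup.relIndex_dvd_index_of_normal _ _) hAi
  haveI := hAn
  exact hLA A hAc hAq hAi hcent hcl

end Cfsg.Agent.Lib.Helper33.QBaer
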