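import Mathlib
import Cfsg.Agent.Lib.Helper78.FiniteAbelianDual

/-!
# RU-[A], part 1: Parseval on a finite group with commuting elements (helper33)

The group `A` carries only a `Group` instance together with a hypothesis `hcomm` (this is the
shape in which a commutative normal subgroup `Q` appears in project RU = S4751).
-/

set_option autoImplicit false
set_option linter.style.haveILetI false

namespace Cfsg.Agent.Lib.Helper33.RU

open Cfsg
open scoped ComplexConjugate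

section Comm

variable {A : Type*} [CommGroup A] [Fintype A]

/-- Parseval for a finite commutative group, complex form. -/
theorem parseval_commGroup [Fintype (A →* ℂˣ)] (F : A → ℂ) :
    ∑ x : A, F x * conj (F x) = (Fintype.card A : ℂ) *
      ∑ ψ : A →* ℂˣ,
        ((Fintype.card A : ℂ)⁻¹ * ∑ y : A, F y * conj ((ψ y : ℂˣ) : ℂ)) *
          conj ((Fintype.card A : ℂ)⁻¹ * ∑ y : A, F y * conj ((ψ y : ℂˣ) : ℂ)) := by
  classical
  have hA : (Fintype.card A : ℂ) ≠ 0 := by exact_mod_cast Fintype.card_ne_zero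
  set c : (A →* ℂˣ) → ℂ := fun ψ =>
    (Fintype.card A : ℂ)⁻¹ * ∑ y : A, F y * conj ((ψ y : ℂˣ) : ℂ) with hc
  have h1 : ∀ x : A, F x * conj (F x) = ∑ ψ : A →* ℂˣ, c ψ * (((ψ x : ℂˣ) : ℂ) * conj (F x)) := by
    intro x
    have h0 : F x = ∑ ψ : A →* ℂˣ, c ψ * ((ψ x : ℂˣ) : ℂ) := Helper78.dual_inversion F x
    calc F x * conj (F x) = (∑ ψ : A →* ℂˣ, c ψ * ((ψ x : ℂˣ) : ℂ)) * conj (F x) := by
          rw [← h0]
      _ = _ := by
          rw [Finset.sum_mul]
          apply Finset.sum_congr rfl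
          intro ψ _
          rw [mul_assoc]
  rw [Finset.sum_congr rfl (fun x _ => h1 x), Finset.sum_comm, Finset.mul_sum]
  apply Finset.sum_congr rfl
  intro ψ _
  rw [← Finset.mul_sum]
  have h2 : ∑ x : A, ((ψ x : ℂˣ) : ℂ) * conj (F x) = (Fintype.card A : ℂ) * conj (c ψ) := by
    rw [hc]
    simp only [map_mul, map_sum, map_inv₀, Complex.conj_conj, Complex.conj_natCast]
    rw [← mul_assoc, mul_inv_cancel₀ hA, one_mul]
    apply Finset.sum_congr rfl
    intro x _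
    rw [mul_comm]
  rw [h2]
  ring

end Comm

section Grp

variable {A : Type*} [Group A] [Fintype A]

theorem finite_monoidHom_of_comm (hcomm : ∀ a b : A, a * b = b * a) : Finite (A →* ℂˣ) := by
  letI : CommGroup A := { ‹Group A› with mul_comm := hcomm }
  haveI := Helper78.hasEnoughRoots_exponent (A := A)
  have h := CommGroup.card_monoidHom_of_hasEnoughRootsOfUnity A ℂ
  apply Nat.finite_of_card_ne_zero
  rw [h]
  exact Nat.card_pos.ne'

theorem card_monoidHom_of_comm (hcomm : ∀ a b : A, a * b = b * a) :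
    Nat.card (A →* ℂˣ) = Nat.card A := by
  letI : CommGroup A := { ‹Group A› with mul_comm := hcomm }
  haveI := Helper78.hasEnoughRoots_exponent (A := A)
  exact CommGroup.card_monoidHom_of_hasEnoughRootsOfUnity A ℂ

theorem norm_monoidHom_apply (φ : A →* ℂˣ) (x : A) : ‖((φ x : ℂˣ) : ℂ)‖ = 1 := by
  have h : ((φ x : ℂˣ) : ℂ) ^ orderOf x = 1 := by
    rw [← Units.val_pow_eq_pow_val, ← map_pow, pow_orderOf_eq_one, map_one, Units.val_one]
  exact Complex.norm_eq_one_of_pow_eq_one h (orderOf_pos x).ne'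

theorem conj_monoidHom_apply (φ : A →* ℂˣ) (x : A) :
    conj ((φ x : ℂˣ) : ℂ) = (((φ x)⁻¹ : ℂˣ) : ℂ) := by
  rw [Units.val_inv_eq_inv_val, Complex.inv_eq_conj (norm_monoidHom_apply φ x)]

/-- Parseval, with the Fourier coefficient written with `(φ x)⁻¹`. -/
theorem parseval_of_comm (hcomm : ∀ a b : A, a * b = b * a) [Fintype (A →* ℂˣ)] (F : A → ℂ) :
    ∑ x : A, ‖F x‖ ^ 2 = (Fintype.card A : ℝ) *
      ∑ φ : A →* ℂˣ, ‖(Fintype.card A : ℂ)⁻¹ * ∑ x : A, (((φ x)⁻¹ : ℂˣ) : ℂ) * F x‖ ^ 2 := by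
  letI : CommGroup A := { ‹Group A› with mul_comm := hcomm }
  have h := parseval_commGroup (A := A) F
  have e1 : ∀ z : ℂ, z * conj z = ((‖z‖ ^ 2 : ℝ) : ℂ) := by
    intro z
    rw [Complex.mul_conj, Complex.normSq_eq_norm_sq]
  have e2 : ∀ φ : A →* ℂˣ, (Fintype.card A : ℂ)⁻¹ * ∑ y : A, F y * conj ((φ y : ℂˣ) : ℂ) =
      (Fintype.card A : ℂ)⁻¹ * ∑ x : A, (((φ x)⁻¹ : ℂˣ) : ℂ) * F x := by
    intro φ
    congr 1
    apply Finset.sum_congr rfl
    intro x _
    rw [conj_monoidHom_apply, mul_comm]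
  have h' : ((∑ x : A, ‖F x‖ ^ 2 : ℝ) : ℂ) = (((Fintype.card A : ℝ) *
      ∑ φ : A →* ℂˣ, ‖(Fintype.card A : ℂ)⁻¹ * ∑ x : A, (((φ x)⁻¹ : ℂˣ) : ℂ) * F x‖ ^ 2 : ℝ) : ℂ) := by
    push_cast
    simp only [e1] at h
    simp only [e2] at h
    push_cast at h
    exact h
  exact_mod_cast h'

end Grp

end Cfsg.Agent.Lib.Helper33.RU
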