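import Mathlib

/-!
# RU-[A], part 3: an operator commuting with a rank one idempotent (helper33)
-/

set_option autoImplicit false
set_option linter.style.haveILetI false

namespace Cfsg.Agent.Lib.Helper33.RU

variable {V : Type*} [AddCommGroup V] [Module ℂ V] [FiniteDimensional ℂ V]

/-- An idempotent of trace one has a line as its range. -/
theorem exists_vector_of_trace_eq_one (E : Module.End ℂ V) (hE : IsIdempotentElem E)
    (htr : LinearMap.trace ℂ V E = 1) :
    ∃ v : V, v ≠ 0 ∧ E v = v ∧ ∀ w : V, ∃ a : ℂ, E w = a • v := by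
  have h1 := (LinearMap.IsIdempotentElem.isProj_range E hE).trace
  rw [htr] at h1
  have h2 : Module.finrank ℂ (LinearMap.range E) = 1 := by
    have : ((Module.finrank ℂ (LinearMap.range E) : ℕ) : ℂ) = ((1 : ℕ) : ℂ) := by
      rw [← h1, Nat.cast_one]
    exact_mod_cast this
  obtain ⟨v, hv0, hv⟩ := finrank_eq_one_iff'.mp h2
  refine ⟨(v : V), ?_, ?_, ?_⟩
  · intro h
    apply hv0
    exact Subtype.ext h
  · obtain ⟨w, hw⟩ := v.2
    rw [← hw, ← Module.End.mul_apply, hE.eq]
  · intro w
    obtain ⟨a, ha⟩ := hv ⟨E w, LinearMap.mem_range_self E w⟩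
    refine ⟨a, ?_⟩
    have := congrArg Subtype.val ha
    simpa using this.symm

theorem norm_trace_mul_eq_one (E T : Module.End ℂ V) (hE : IsIdempotentElem E)
    (htr : LinearMap.trace ℂ V E = 1) (hcomm : T * E = E * T) {k : ℕ} (hk : k ≠ 0)
    (hT : T ^ k = 1) : ‖LinearMap.trace ℂ V (T * E)‖ = 1 := by
  obtain ⟨v, hv0, hEv, hv⟩ := exists_vector_of_trace_eq_one E hE htr
  -- `T v` lies in the range of `E`
  obtain ⟨c, hc⟩ : ∃ c : ℂ, T v = c • v := by
    obtain ⟨a, ha⟩ := hv (T v)
    refine ⟨a, ?_⟩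
    rw [← ha, ← Module.End.mul_apply, ← hcomm, Module.End.mul_apply, hEv]
  have hTE : T * E = c • E := by
    apply LinearMap.ext
    intro w
    obtain ⟨a, ha⟩ := hv w
    rw [Module.End.mul_apply, LinearMap.smul_apply, ha, map_smul, hc, smul_comm]
  have hpow : ∀ n : ℕ, (T ^ n) v = c ^ n • v := by
    intro n
    induction n with
    | zero => simp
    | succ n ih =>
      rw [pow_succ, Module.End.mul_apply, hc, map_smul, ih, smul_smul, pow_succ, mul_comm]
  have hck : c ^ k = 1 := by
    have h1 := hpow k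
    rw [hT, Module.End.one_apply] at h1
    have h2 : (c ^ k - 1) • v = 0 := by
      rw [sub_smul, one_smul, ← h1, sub_self]
    rcases smul_eq_zero.mp h2 with h3 | h3
    · exact sub_eq_zero.mp h3
    · exact absurd h3 hv0
  rw [hTE, map_smul, htr, smul_eq_mul, mul_one]
  exact Complex.norm_eq_one_of_pow_eq_one hck hk

end Cfsg.Agent.Lib.Helper33.RU
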