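import Mathlib
import Cfsg.Agent.Lib.Helper58.RU.Defs
import Cfsg.Agent.Lib.Helper33.RUAFourier

/-!
# RU-[A], part 2: the isotypic projections of a representation on a normal subgroup (helper33)
-/

set_option autoImplicit false
set_option linter.style.haveILetI false
set_option linter.unusedSectionVars false

namespace Cfsg.Agent.Lib.Helper33.RU

open Cfsg Cfsg.Agent.Lib.Helper58.RU
open scoped ComplexConjugate

universe u

variable {G : Type u} [Group G]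
variable {V : Type*} [AddCommGroup V] [Module ℂ V]

/-- The projection `E_φ = |Q|⁻¹ ∑_{x ∈ Q} φ(x)⁻¹ ρ(x)` onto the `φ`-isotypic part. -/
noncomputable def isoProj (ρ : Representation ℂ G V) (Q : Subgroup G) [Fintype Q]
    (φ : Q →* ℂˣ) : Module.End ℂ V :=
  (Fintype.card Q : ℂ)⁻¹ • ∑ x : Q, (((φ x)⁻¹ : ℂˣ) : ℂ) • ρ (x : G)

variable (ρ : Representation ℂ G V) (Q : Subgroup G) [Fintype Q]

theorem isoProj_mul (ψ : Q →* ℂˣ) (T : Module.End ℂ V) :
    isoProj ρ Q ψ * T =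
      (Fintype.card Q : ℂ)⁻¹ • ∑ x : Q, (((ψ x)⁻¹ : ℂˣ) : ℂ) • (ρ (x : G) * T) := by
  unfold isoProj
  rw [smul_mul_assoc, Finset.sum_mul]
  simp only [smul_mul_assoc]

theorem mul_isoProj (ψ : Q →* ℂˣ) (T : Module.End ℂ V) :
    T * isoProj ρ Q ψ =
      (Fintype.card Q : ℂ)⁻¹ • ∑ x : Q, (((ψ x)⁻¹ : ℂˣ) : ℂ) • (T * ρ (x : G)) := by
  unfold isoProj
  rw [mul_smul_comm, Finset.mul_sum]
  simp only [mul_smul_comm]

theorem rho_mul_isoProj (φ : Q →* ℂˣ) (x : Q) :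
    ρ (x : G) * isoProj ρ Q φ = ((φ x : ℂˣ) : ℂ) • isoProj ρ Q φ := by
  rw [mul_isoProj]
  unfold isoProj
  rw [smul_comm ((φ x : ℂˣ) : ℂ) ((Fintype.card Q : ℂ)⁻¹)]
  congr 1
  rw [Finset.smul_sum]
  refine Fintype.sum_equiv (Equiv.mulLeft x) _ _ ?_
  intro x'
  simp only [Equiv.coe_mulLeft, Subgroup.coe_mul, map_mul, mul_inv_rev, Units.val_mul,
    smul_smul]
  congr 1
  rw [mul_comm, mul_assoc, ← Units.val_mul, inv_mul_cancel, Units.val_one, mul_one]

theorem card_ne_zero_C : (Fintype.card Q : ℂ) ≠ 0 := by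
  exact_mod_cast Fintype.card_ne_zero

theorem isoProj_mul_isoProj_self (φ : Q →* ℂˣ) :
    isoProj ρ Q φ * isoProj ρ Q φ = isoProj ρ Q φ := by
  rw [isoProj_mul]
  have h : ∀ x : Q, (((φ x)⁻¹ : ℂˣ) : ℂ) • (ρ (x : G) * isoProj ρ Q φ) = isoProj ρ Q φ := by
    intro x
    rw [rho_mul_isoProj, smul_smul, ← Units.val_mul, inv_mul_cancel,
      Units.val_one, one_smul]
  rw [Finset.sum_congr rfl (fun x _ => h x), Finset.sum_const, Finset.card_univ,
    ← Nat.cast_smul_eq_nsmul ℂ, smul_smul, inv_mul_cancel₀ (card_ne_zero_C Q), one_smul]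

theorem isoProj_mul_isoProj_of_ne {ψ φ : Q →* ℂˣ} (h : ψ ≠ φ) :
    isoProj ρ Q ψ * isoProj ρ Q φ = 0 := by
  rw [isoProj_mul]
  have h1 : ∀ x : Q, (((ψ x)⁻¹ : ℂˣ) : ℂ) • (ρ (x : G) * isoProj ρ Q φ) =
      ((Units.coeHom ℂ).comp (ψ⁻¹ * φ)) x • isoProj ρ Q φ := by
    intro x
    rw [rho_mul_isoProj, smul_smul]
    simp
  rw [Finset.sum_congr rfl (fun x _ => h1 x), ← Finset.sum_smul, sum_hom_units_eq_zero, zero_smul,
    smul_zero]
  intro h2
  apply h
  ext x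
  have h3 := DFunLike.congr_fun h2 x
  simp only [MonoidHom.coe_comp, Units.coeHom_apply, Function.comp_apply, MonoidHom.mul_apply,
    MonoidHom.inv_apply, MonoidHom.one_apply, Units.val_mul, Units.val_inv_eq_inv_val] at h3
  have h4 : ((ψ x : ℂˣ) : ℂ) ≠ 0 := Units.ne_zero _
  field_simp at h3
  exact h3.symm

theorem isIdempotentElem_isoProj (φ : Q →* ℂˣ) : IsIdempotentElem (isoProj ρ Q φ) :=
  isoProj_mul_isoProj_self ρ Q φ

theorem trace_isoProj (φ : Q →* ℂˣ) :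
    LinearMap.trace ℂ V (isoProj ρ Q φ) =
      (Fintype.card Q : ℂ)⁻¹ * ∑ x : Q, (((φ x)⁻¹ : ℂˣ) : ℂ) * ρ.character (x : G) := by
  unfold isoProj Representation.character
  rw [map_smul, map_sum, smul_eq_mul]
  congr 1
  apply Finset.sum_congr rfl
  intro x _
  rw [map_smul, smul_eq_mul]

theorem trace_rho_mul_isoProj (φ : Q →* ℂˣ) (y : G) :
    LinearMap.trace ℂ V (ρ y * isoProj ρ Q φ) =
      (Fintype.card Q : ℂ)⁻¹ * ∑ x : Q, (((φ x)⁻¹ : ℂˣ) : ℂ) * ρ.character (y * x) := by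
  rw [mul_isoProj]
  have h : ∀ x : Q, ρ y * ρ (x : G) = ρ (y * x) := fun x => (map_mul ρ y x).symm
  simp only [h]
  unfold Representation.character
  rw [map_smul, map_sum, smul_eq_mul]
  congr 1
  apply Finset.sum_congr rfl
  intro x _
  rw [map_smul, smul_eq_mul]

variable [hQn : Q.Normal]

theorem rho_mul_isoProj_conj (φ : Q →* ℂˣ) (y : G) :
    ρ y * isoProj ρ Q φ = isoProj ρ Q (conjHom Q y⁻¹ φ) * ρ y := by
  rw [mul_isoProj, isoProj_mul]
  congr 1
  refine Fintype.sum_equiv (MulAut.conjNormal y : MulAut Q).toEquiv _ _ ?_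
  intro x
  have h1 : conjHom Q y⁻¹ φ ((MulAut.conjNormal y : MulAut Q).toEquiv x) = φ x := by
    rw [conjHom_apply]
    congr 1
    apply Subtype.ext
    simp [MulAut.conjNormal_apply, mul_assoc]
  have h2 : ρ (((MulAut.conjNormal y : MulAut Q).toEquiv x : Q) : G) * ρ y = ρ y * ρ (x : G) := by
    rw [← map_mul, ← map_mul]
    congr 1
    simp [MulAut.conjNormal_apply]
  rw [h1, h2]

theorem conjHom_inv_conjHom (φ : Q →* ℂˣ) (y : G) : conjHom Q y⁻¹ (conjHom Q y φ) = φ := by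
  ext x
  simp only [conjHom_apply]
  congr 3
  simp [mul_assoc]

theorem conjHom_inv_eq_iff (φ : Q →* ℂˣ) (y : G) : conjHom Q y⁻¹ φ = φ ↔ conjHom Q y φ = φ := by
  constructor
  · intro h
    have := conjHom_inv_conjHom Q φ y⁻¹
    rw [inv_inv] at this
    rw [h] at this
    exact this
  · intro h
    have := conjHom_inv_conjHom Q φ y
    rw [h] at this
    exact this

/-- non-fixed characters contribute nothing -/
theorem trace_rho_mul_isoProj_of_ne (φ : Q →* ℂˣ) (y : G) (h : conjHom Q y φ ≠ φ) :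
    LinearMap.trace ℂ V (ρ y * isoProj ρ Q φ) = 0 := by
  have h' : conjHom Q y⁻¹ φ ≠ φ := fun h0 => h ((conjHom_inv_eq_iff Q φ y).mp h0)
  calc LinearMap.trace ℂ V (ρ y * isoProj ρ Q φ)
      = LinearMap.trace ℂ V (ρ y * (isoProj ρ Q φ * isoProj ρ Q φ)) := by
        rw [isoProj_mul_isoProj_self]
    _ = LinearMap.trace ℂ V (isoProj ρ Q (conjHom Q y⁻¹ φ) * (ρ y * isoProj ρ Q φ)) := by
        conv_lhs => rw [← mul_assoc, rho_mul_isoProj_conj, mul_assoc]
    _ = LinearMap.trace ℂ V ((ρ y * isoProj ρ Q φ) * isoProj ρ Q (conjHom Q y⁻¹ φ)) := by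
        rw [LinearMap.trace_mul_comm]
    _ = 0 := by
        rw [mul_assoc, isoProj_mul_isoProj_of_ne ρ Q h'.symm, mul_zero, map_zero]

end Cfsg.Agent.Lib.Helper33.RU
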