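import Mathlib
import Cfsg.Agent.Lib.Helper58.RU.Defs
import Cfsg.Agent.Lib.Helper33.RUAFourier
import Cfsg.Agent.Lib.Helper33.RUAProj
import Cfsg.Agent.Lib.Helper33.RUALin

/-!
# RU-[A] twisted Parseval (project RU = S4751, owner helper58; formalized by helper33)
-/

set_option autoImplicit false
set_option linter.style.haveILetI false
set_option linter.unusedSectionVars false

namespace Cfsg.Agent.Lib.Helper33.RU

open Cfsg Cfsg.Agent.Lib.Helper58.RU
open scoped ComplexConjugate

universe u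

variable {G : Type u} [Group G]

/-- the Fourier coefficient of `x ↦ χ (y x)` at `φ`, for the character `χ` of `ρ` -/
theorem coeff_cases [Finite G] (Q : Subgroup G) [Q.Normal] [Fintype Q] {n : ℕ}
    (ρ : Representation ℂ G (Fin n → ℂ)) (hcore : Core Q ρ.character) (y : G)
    (φ : Q →* ℂˣ) :
    ‖(Fintype.card Q : ℂ)⁻¹ * ∑ x : Q, (((φ x)⁻¹ : ℂˣ) : ℂ) * ρ.character (y * x)‖ ^ 2 =
      @ite ℝ (φ ∈ fixedHoms Q y) (Classical.propDecidable _) 1 0 := by
  rw [← trace_rho_mul_isoProj]
  -- the trace of the projection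
  have htr : LinearMap.trace ℂ _ (isoProj ρ Q φ) =
      classInner (fun x : Q => ρ.character x) (fun x : Q => ((φ x : ℂˣ) : ℂ)) := by
    rw [trace_isoProj, classInner, Nat.card_eq_fintype_card]
    congr 1
    apply Finset.sum_congr rfl
    intro x _
    rw [conj_monoidHom_apply, mul_comm]
  by_cases h1 : φ = 1
  · -- the trivial character does not occur
    have h0 : LinearMap.trace ℂ _ (isoProj ρ Q φ) = 0 := by
      rw [htr, h1]
      have := hcore.mult_triv
      simpa using this
    have hz : isoProj ρ Q φ = 0 :=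
      LinearMap.IsIdempotentElem.eq_zero_of_trace_eq_zero (isIdempotentElem_isoProj ρ Q φ) h0
    have hnot : φ ∉ fixedHoms Q y := fun h => h.1 h1
    rw [if_neg hnot, hz, mul_zero, map_zero, norm_zero]
    norm_num
  · by_cases h2 : conjHom Q y φ = φ
    · have hin : φ ∈ fixedHoms Q y := ⟨h1, h2⟩
      rw [if_pos hin]
      have h0 : LinearMap.trace ℂ _ (isoProj ρ Q φ) = 1 := by
        rw [htr]
        exact hcore.mult_one φ h1
      have hcomm : ρ y * isoProj ρ Q φ = isoProj ρ Q φ * ρ y := by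
        rw [rho_mul_isoProj_conj, (conjHom_inv_eq_iff Q φ y).mpr h2]
      have hk : orderOf y ≠ 0 := (orderOf_pos y).ne'
      have hT : ρ y ^ orderOf y = 1 := by
        rw [← map_pow, pow_orderOf_eq_one, map_one]
      rw [norm_trace_mul_eq_one (isoProj ρ Q φ) (ρ y) (isIdempotentElem_isoProj ρ Q φ) h0 hcomm hk hT]
      norm_num
    · have hnot : φ ∉ fixedHoms Q y := fun h => h2 h.2
      rw [if_neg hnot, trace_rho_mul_isoProj_of_ne ρ Q φ y h2, norm_zero]
      norm_num

/-- **RU-[A]**: twisted Parseval. -/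
theorem coset_norm_sq_sum [Finite G] (Q : Subgroup G) [Q.Normal] [Fintype Q] {χ : G → ℂ}
    (hχ : IsCharacter G χ) (hcore : Core Q χ) (y : G) :
    ∑ x : Q, ‖χ (y * x)‖ ^ 2 = (Nat.card Q : ℝ) * ((fixedHoms Q y).ncard : ℝ) := by
  classical
  obtain ⟨n, ρ, rfl⟩ := hχ
  have hcomm : ∀ a b : Q, a * b = b * a := by
    intro a b
    apply Subtype.ext
    exact hcore.comm a a.2 b b.2
  haveI : Finite (Q →* ℂˣ) := finite_monoidHom_of_comm hcomm
  letI : Fintype (Q →* ℂˣ) := Fintype.ofFinite _
  rw [parseval_of_comm hcomm (fun x : Q => ρ.character (y * x)), Nat.card_eq_fintype_card]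
  congr 1
  rw [Finset.sum_congr rfl (fun φ _ => coeff_cases Q ρ hcore y φ)]
  rw [Finset.sum_boole]
  congr 1
  rw [← Set.ncard_coe_finset]
  congr 1
  ext φ
  simp

end Cfsg.Agent.Lib.Helper33.RU
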