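import Cfsg.Agent.Lib.Helper33.WellPlaced

/-!
# Chains of conjugations (helper33 library)

`Reach R T A g`: `g` is a product `sₙ ⋯ s₁` of elements of `R` such that all partial products conjugate
the set `A` into `T` (the inductive form of the chain condition in `Cfsg.FamilyControlsStrongFusionIn`).
`Good R T A g`: conjugation by `g` on `A` agrees with conjugation by some such product.
-/

set_option autoImplicit false

namespace Cfsg.Agent.Lib.Helper33

variable {G : Type*} [Group G] {p : ℕ}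

/-- left conjugation of a set: `g A g⁻¹` -/
def lc (g : G) (A : Set G) : Set G := (fun a => g * a * g⁻¹) '' A

theorem lc_def (g : G) (A : Set G) : lc g A = (fun a => g * a * g⁻¹) '' A := rfl

theorem mem_lc {g x : G} {A : Set G} : x ∈ lc g A ↔ g⁻¹ * x * g ∈ A := by
  unfold lc
  constructor
  · rintro ⟨a, ha, rfl⟩
    simpa [mul_assoc] using ha
  · intro h
    exact ⟨g⁻¹ * x * g, h, by group⟩

theorem conj_mem_lc {g a : G} {A : Set G} (ha : a ∈ A) : g * a * g⁻¹ ∈ lc g A := ⟨a, ha, rfl⟩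

theorem lc_one (A : Set G) : lc 1 A = A := by
  ext x; simp [mem_lc]

theorem lc_mul (g h : G) (A : Set G) : lc (g * h) A = lc g (lc h A) := by
  ext x; simp [mem_lc, mul_assoc]

theorem lc_mono {g : G} {A B : Set G} (h : A ⊆ B) : lc g A ⊆ lc g B := Set.image_mono h

theorem lc_inv_lc (g : G) (A : Set G) : lc g⁻¹ (lc g A) = A := by
  rw [← lc_mul]; simp [lc_one]

theorem lc_lc_inv (g : G) (A : Set G) : lc g (lc g⁻¹ A) = A := by
  rw [← lc_mul]; simp [lc_one]

theorem lc_coe_subgroup (g : G) (P : Subgroup G) : lc g (P : Set G) = ((cj g P : Subgroup G) : Set G) :=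
  (cj_coe g P).symm

theorem lc_subset_iff {g : G} {A B : Set G} : lc g A ⊆ B ↔ A ⊆ lc g⁻¹ B := by
  constructor
  · intro h
    have := lc_mono (g := g⁻¹) h
    rwa [lc_inv_lc] at this
  · intro h
    have := lc_mono (g := g) h
    rwa [lc_lc_inv] at this

theorem lc_subset_subgroup_iff {g : G} {A : Set G} {T : Subgroup G} :
    lc g A ⊆ T ↔ cj g (Subgroup.closure A) ≤ T := by
  rw [cj_closure, Subgroup.closure_le]
  rfl

theorem lc_congr {g h : G} {A : Set G} (hgh : ∀ a ∈ A, g * a * g⁻¹ = h * a * h⁻¹) : lc g A = lc h A := by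
  unfold lc
  exact Set.image_congr hgh

/-- one step of a chain: from `g` to `g'` -/
def FStep (R : Set G) (T : Subgroup G) (A : Set G) (g g' : G) : Prop :=
  g' * g⁻¹ ∈ R ∧ lc g' A ⊆ T

/-- `g` is reachable from `1` -/
def Reach (R : Set G) (T : Subgroup G) (A : Set G) (g : G) : Prop :=
  Relation.ReflTransGen (FStep R T A) 1 g

theorem Reach.refl (R : Set G) (T : Subgroup G) (A : Set G) : Reach R T A 1 :=
  Relation.ReflTransGen.refl

theorem Reach.mono {R R' : Set G} {T T' : Subgroup G} {A A' : Set G} {g : G} (hR : R ⊆ R')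
    (hT : T ≤ T') (hA : A' ⊆ A) (h : Reach R T A g) : Reach R' T' A' g := by
  refine Relation.ReflTransGen.mono ?_ _ _ h
  intro a b hab
  exact ⟨hR hab.1, (lc_mono hA).trans (hab.2.trans hT)⟩

theorem Reach.lc_subset {R : Set G} {T : Subgroup G} {A : Set G} {g : G} (h : Reach R T A g)
    (hA : A ⊆ T) : lc g A ⊆ T := by
  induction h with
  | refl => rwa [lc_one]
  | tail _ hstep _ => exact hstep.2

/-- right translation of a chain -/
theorem reach_translate {R : Set G} {T : Subgroup G} {A : Set G} (k : G) {a b : G}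
    (h : Relation.ReflTransGen (FStep R T (lc k A)) a b) :
    Relation.ReflTransGen (FStep R T A) (a * k) (b * k) := by
  refine Relation.ReflTransGen.lift (fun x => x * k) ?_ _ _ h
  intro x y hxy
  refine ⟨?_, ?_⟩
  · have : y * k * (x * k)⁻¹ = y * x⁻¹ := by group
    rw [this]; exact hxy.1
  · rw [lc_mul]; exact hxy.2

theorem Reach.comp {R : Set G} {T : Subgroup G} {A : Set G} {g h : G} (hg : Reach R T A g)
    (hh : Reach R T (lc g A) h) : Reach R T A (h * g) := by
  have := reach_translate g hh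
  rw [one_mul] at this
  exact Relation.ReflTransGen.trans hg this

theorem Reach.single {R : Set G} {T : Subgroup G} {A : Set G} {x : G} (hx : x ∈ R)
    (hA : lc x A ⊆ T) : Reach R T A x := by
  apply Relation.ReflTransGen.single
  exact ⟨by simpa using hx, hA⟩

theorem Reach.inv {R : Set G} {T : Subgroup G} {A : Set G} {g : G}
    (hR : ∀ x ∈ R, x⁻¹ ∈ R) (hA : A ⊆ T) (h : Reach R T A g) : Reach R T (lc g A) g⁻¹ := by
  induction h with
  | refl => rw [lc_one]; simpa using Reach.refl R T A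
  | @tail b c hb hstep ih =>
    -- path 1 → b, step b → c
    have hbA : lc b A ⊆ T := Reach.lc_subset hb hA
    -- first step: 1 → b * c⁻¹ relative to lc c A
    have h1 : Reach R T (lc c A) (b * c⁻¹) := by
      apply Reach.single
      · have := hR _ hstep.1
        simpa [mul_inv_rev] using this
      · rw [← lc_mul]
        have : b * c⁻¹ * c = b := by group
        rw [this]; exact hbA
    have h2 : Reach R T (lc (b * c⁻¹) (lc c A)) b⁻¹ := by
      rw [← lc_mul]
      have : b * c⁻¹ * c = b := by group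
      rw [this]; exact ih
    have := h1.comp h2
    have e : b⁻¹ * (b * c⁻¹) = c⁻¹ := by group
    rwa [e] at this

/-- conjugating a chain by `u` -/
theorem Reach.conj {R R' : Set G} {T : Subgroup G} {A : Set G} {g : G} (u : G)
    (hR : ∀ x ∈ R, u * x * u⁻¹ ∈ R') (h : Reach R T A g) :
    Reach R' (cj u T) (lc u A) (u * g * u⁻¹) := by
  have : Relation.ReflTransGen (FStep R' (cj u T) (lc u A)) (u * 1 * u⁻¹) (u * g * u⁻¹) := by
    refine Relation.ReflTransGen.lift (fun x => u * x * u⁻¹) ?_ _ _ h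
    intro x y hxy
    refine ⟨?_, ?_⟩
    · have : u * y * u⁻¹ * (u * x * u⁻¹)⁻¹ = u * (y * x⁻¹) * u⁻¹ := by group
      rw [this]; exact hR _ hxy.1
    · rw [← lc_mul]
      have : u * y * u⁻¹ * u = u * y := by group
      rw [this, lc_mul, ← lc_coe_subgroup]
      exact lc_mono hxy.2
  have e : u * 1 * u⁻¹ = 1 := by group
  rw [e] at this
  exact this

/-- conjugation by `g` on `A` is realized by a chain -/
def Good (R : Set G) (T : Subgroup G) (A : Set G) (g : G) : Prop :=
  ∃ g', Reach R T A g' ∧ ∀ a ∈ A, g' * a * g'⁻¹ = g * a * g⁻¹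

theorem Good.one (R : Set G) (T : Subgroup G) (A : Set G) : Good R T A 1 :=
  ⟨1, Reach.refl R T A, fun _ _ => rfl⟩

theorem Good.congr {R : Set G} {T : Subgroup G} {A : Set G} {g h : G} (hg : Good R T A g)
    (hgh : ∀ a ∈ A, g * a * g⁻¹ = h * a * h⁻¹) : Good R T A h := by
  obtain ⟨g', h1, h2⟩ := hg
  exact ⟨g', h1, fun a ha => (h2 a ha).trans (hgh a ha)⟩

theorem Good.mono {R R' : Set G} {T T' : Subgroup G} {A A' : Set G} {g : G} (hR : R ⊆ R')
    (hT : T ≤ T') (hA : A' ⊆ A) (h : Good R T A g) : Good R' T' A' g := by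
  obtain ⟨g', h1, h2⟩ := h
  exact ⟨g', h1.mono hR hT hA, fun a ha => h2 a (hA ha)⟩

theorem Good.comp {R : Set G} {T : Subgroup G} {A : Set G} {g h : G} (hg : Good R T A g)
    (hh : Good R T (lc g A) h) : Good R T A (h * g) := by
  obtain ⟨g', h1, h2⟩ := hg
  obtain ⟨h', h3, h4⟩ := hh
  have e : lc g' A = lc g A := lc_congr h2
  rw [← e] at h3
  refine ⟨h' * g', h1.comp h3, ?_⟩
  intro a ha
  have := h4 (g * a * g⁻¹) (conj_mem_lc ha)
  calc h' * g' * a * (h' * g')⁻¹ = h' * (g' * a * g'⁻¹) * h'⁻¹ := by group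
    _ = h' * (g * a * g⁻¹) * h'⁻¹ := by rw [h2 a ha]
    _ = h * (g * a * g⁻¹) * h⁻¹ := this
    _ = h * g * a * (h * g)⁻¹ := by group

theorem Good.inv {R : Set G} {T : Subgroup G} {A : Set G} {g : G}
    (hR : ∀ x ∈ R, x⁻¹ ∈ R) (hA : A ⊆ T) (h : Good R T A g) : Good R T (lc g A) g⁻¹ := by
  obtain ⟨g', h1, h2⟩ := h
  have e : lc g' A = lc g A := lc_congr h2
  refine ⟨g'⁻¹, e ▸ h1.inv hR hA, ?_⟩
  intro b hb
  obtain ⟨a, ha, rfl⟩ := hb
  have := h2 a ha
  calc g'⁻¹ * (g * a * g⁻¹) * g'⁻¹⁻¹ = g'⁻¹ * (g' * a * g'⁻¹) * g'⁻¹⁻¹ := by rw [this]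
    _ = a := by group
    _ = g⁻¹ * (g * a * g⁻¹) * g⁻¹⁻¹ := by group

theorem Good.single {R : Set G} {T : Subgroup G} {A : Set G} {x : G} (hx : x ∈ R)
    (hA : lc x A ⊆ T) : Good R T A x :=
  ⟨x, Reach.single hx hA, fun _ _ => rfl⟩

theorem Good.lc_subset {R : Set G} {T : Subgroup G} {A : Set G} {g : G} (h : Good R T A g)
    (hA : A ⊆ T) : lc g A ⊆ T := by
  obtain ⟨g', h1, h2⟩ := h
  rw [← lc_congr h2]
  exact h1.lc_subset hA

/-- If every step of a chain (relative to `R'`, `T'`) is good relative to `R`, `T`, so is the chain. -/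
theorem Good.of_reach {R R' : Set G} {T T' : Subgroup G} {A : Set G} {g : G}
    (hA : A ⊆ T')
    (hstep : ∀ z ∈ R', ∀ C : Set G, C ⊆ T' → lc z C ⊆ T' → Good R T C z)
    (h : Reach R' T' A g) : Good R T A g := by
  induction h with
  | refl => exact Good.one R T A
  | @tail b c hb hbc ih =>
    have hbA : lc b A ⊆ T' := Reach.lc_subset hb hA
    have h1 : Good R T (lc b A) (c * b⁻¹) := by
      apply hstep _ hbc.1 _ hbA
      rw [← lc_mul]
      have : c * b⁻¹ * b = c := by group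
      rw [this]; exact hbc.2
    have := ih.comp h1
    have e : c * b⁻¹ * b = c := by group
    rwa [e] at this

theorem Good.conj {R R' : Set G} {T : Subgroup G} {A : Set G} {g : G} (u : G)
    (hR : ∀ x ∈ R, u * x * u⁻¹ ∈ R') (h : Good R T A g) :
    Good R' (cj u T) (lc u A) (u * g * u⁻¹) := by
  obtain ⟨g', h1, h2⟩ := h
  refine ⟨u * g' * u⁻¹, h1.conj u hR, ?_⟩
  rintro _ ⟨a, ha, rfl⟩
  have := h2 a ha
  calc u * g' * u⁻¹ * (u * a * u⁻¹) * (u * g' * u⁻¹)⁻¹ = u * (g' * a * g'⁻¹) * u⁻¹ := by group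
    _ = u * (g * a * g⁻¹) * u⁻¹ := by rw [this]
    _ = u * g * u⁻¹ * (u * a * u⁻¹) * (u * g * u⁻¹)⁻¹ := by group

end Cfsg.Agent.Lib.Helper33
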