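import Mathlib
import Cfsg.Agent.Lib.Helper22.S1936Defs

/-!
helper33, S1936, module END-[F1] in `_of` form (the dichotomy D1 enters as a hypothesis, in the weak form
"a proper subgroup of order divisible by 4 lies in a conjugate of `N(T)`"): for `a ∈ T#` and an involution
`u ∉ N(T)` the centralizers `C(a)` and `C(u)` meet trivially.
-/

set_option autoImplicit false
set_option linter.unusedVariables false
set_option linter.unusedSectionVars false
set_option linter.style.haveILetI false
universe u
open Cfsg.Agent.Lib.Helper22.S1936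

namespace Cfsg.Agent.Lib.Helper33.S1936

variable {G : Type u} [Group G] [Finite G] {p : ℕ} [Fact p.Prime]

/-- a `2`-subgroup of `N(T)` lies in the Sylow `2`-subgroup `T` -/
theorem le_sylow_of_le_normalizer (T : Sylow 2 G) {Q : Subgroup G} (hQ : IsPGroup 2 ↥Q)
    (hQN : Q ≤ Subgroup.normalizer ((T : Subgroup G) : Set G)) : Q ≤ (T : Subgroup G) := by
  have h : Q ⊓ Subgroup.normalizer ((T : Subgroup G) : Set G) = Q ⊓ (T : Subgroup G) :=
    hQ.inf_normalizer_sylow T
  have h1 : Q ⊓ Subgroup.normalizer ((T : Subgroup G) : Set G) = Q := inf_eq_left.mpr hQN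
  rw [h1] at h
  exact inf_eq_left.mp h.symm

/-- if a conjugate `g T g⁻¹` lies in `N(T)` then `g ∈ N(T)` -/
theorem mem_normalizer_of_conj_le (T : Sylow 2 G) (g : G)
    (h : (T : Subgroup G).map (MulAut.conj g).toMonoidHom ≤
      Subgroup.normalizer ((T : Subgroup G) : Set G)) :
    g ∈ Subgroup.normalizer ((T : Subgroup G) : Set G) := by
  have hPG : IsPGroup 2 ↥((T : Subgroup G).map (MulAut.conj g).toMonoidHom) :=
    T.isPGroup'.map _
  have hle := le_sylow_of_le_normalizer T hPG h
  have hcard : Nat.card ↥((T : Subgroup G).map (MulAut.conj g).toMonoidHom) =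
      Nat.card ↥(T : Subgroup G) :=
    Nat.card_congr (Subgroup.equivMapOfInjective _ _ (MulAut.conj g).injective).symm.toEquiv
  have heq : (T : Subgroup G).map (MulAut.conj g).toMonoidHom = (T : Subgroup G) :=
    Subgroup.eq_of_le_of_card_ge hle (le_of_eq hcard.symm)
  rw [Subgroup.mem_normalizer_iff]
  intro x
  constructor
  · intro hx
    rw [← heq]
    exact ⟨x, hx, rfl⟩
  · intro hx
    rw [← heq] at hx
    obtain ⟨y, hy, hyx⟩ := hx
    have : y = x := by
      have h1 : g * y * g⁻¹ = g * x * g⁻¹ := hyx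
      have h2 := mul_right_cancel h1
      exact mul_left_cancel h2
    rw [← this]
    exact hy

/-- END-[F1], `_of` form. -/
theorem centralizer_inf_centralizer_eq_bot_of (hG : MinCE p G) {T : Sylow 2 G}
    (h8 : 8 ≤ Nat.card ↥(T : Subgroup G))
    (hdich : ∀ L : Subgroup G, L ≠ ⊤ → 4 ∣ Nat.card ↥L →
      ∃ g : G, L ≤ conjSub (Subgroup.normalizer ((T : Subgroup G) : Set G)) g)
    (hC : ∀ a ∈ (T : Subgroup G), a ≠ 1 →
      Subgroup.centralizer ({a} : Set G) = Subgroup.centralizer ((T : Subgroup G) : Set G))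
    {a u : G} (haT : a ∈ (T : Subgroup G)) (ha1 : a ≠ 1)
    (hu : orderOf u = 2) (huN : u ∉ Subgroup.normalizer ((T : Subgroup G) : Set G)) :
    Subgroup.centralizer ({a} : Set G) ⊓ Subgroup.centralizer ({u} : Set G) = ⊥ := by
  haveI := hG.simple
  -- a Sylow 2-subgroup through `u`, written as a conjugate of `T`
  have huPG : IsPGroup 2 ↥(Subgroup.zpowers u) := by
    apply IsPGroup.of_card (n := 1)
    rw [Nat.card_zpowers, hu, pow_one]
  obtain ⟨T', hT'⟩ := huPG.exists_le_sylow
  obtain ⟨y, hy⟩ := MulAction.exists_smul_eq G T T'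
  have huT' : u ∈ (T' : Subgroup G) := hT' (Subgroup.mem_zpowers u)
  have hT'eq : (T' : Subgroup G) = (T : Subgroup G).map (MulAut.conj y).toMonoidHom := by
    rw [← hy]
    rfl
  rw [hT'eq] at huT'
  obtain ⟨a', ha'T, ha'u⟩ := huT'
  have ha'u' : y * a' * y⁻¹ = u := ha'u
  have ha'1 : a' ≠ 1 := by
    rintro rfl
    rw [mul_one, mul_inv_cancel] at ha'u'
    rw [← ha'u', orderOf_one] at hu
    omega
  -- `y ∉ N(T)`
  have hyN : y ∉ Subgroup.normalizer ((T : Subgroup G) : Set G) := by
    intro hyN
    apply huN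
    apply Subgroup.le_normalizer (H := (T : Subgroup G))
    rw [← ha'u']
    exact (Subgroup.mem_normalizer_iff.mp hyN a').mp ha'T
  -- the subgroup generated by `T` and its conjugate
  set Ty : Subgroup G := (T : Subgroup G).map (MulAut.conj y).toMonoidHom with hTy
  set L : Subgroup G := (T : Subgroup G) ⊔ Ty with hL
  have hLtop : L = ⊤ := by
    by_contra hne
    have h4 : 4 ∣ Nat.card ↥L := by
      have h1 : Nat.card ↥(T : Subgroup G) ∣ Nat.card ↥L := Subgroup.card_dvd_of_le le_sup_left
      obtain ⟨n, hn⟩ := IsPGroup.iff_card.mp T.isPGroup'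
      rw [hn] at h1 h8
      have hn2 : 2 ≤ n := by
        by_contra hlt
        push Not at hlt
        interval_cases n <;> omega
      exact (pow_dvd_pow 2 hn2).trans h1
    obtain ⟨g, hg⟩ := hdich L hne h4
    -- `T ≤ g N(T) g⁻¹`, so `g⁻¹ T g ≤ N(T)`, so `g ∈ N(T)`
    have hTle : (T : Subgroup G) ≤ conjSub (Subgroup.normalizer ((T : Subgroup G) : Set G)) g :=
      le_sup_left.trans hg
    have hginv : g⁻¹ ∈ Subgroup.normalizer ((T : Subgroup G) : Set G) := by
      apply mem_normalizer_of_conj_le T g⁻¹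
      rintro x ⟨t, ht, rfl⟩
      obtain ⟨n, hn, hnt⟩ := hTle ht
      have hnt' : g * n * g⁻¹ = t := hnt
      have : (MulAut.conj g⁻¹).toMonoidHom t = n := by
        show g⁻¹ * t * g⁻¹⁻¹ = n
        rw [← hnt']
        group
      rw [this]
      exact hn
    have hgN : g ∈ Subgroup.normalizer ((T : Subgroup G) : Set G) := by
      have := Subgroup.inv_mem _ hginv
      rwa [inv_inv] at this
    have hconj : conjSub (Subgroup.normalizer ((T : Subgroup G) : Set G)) g =
        Subgroup.normalizer ((T : Subgroup G) : Set G) := by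
      ext x
      constructor
      · rintro ⟨n, hn, rfl⟩
        exact Subgroup.mul_mem _ (Subgroup.mul_mem _ hgN hn) (Subgroup.inv_mem _ hgN)
      · intro hx
        refine ⟨g⁻¹ * x * g, ?_, ?_⟩
        · exact Subgroup.mul_mem _ (Subgroup.mul_mem _ hginv hx) hgN
        · show g * (g⁻¹ * x * g) * g⁻¹ = x
          group
    rw [hconj] at hg
    exact hyN (mem_normalizer_of_conj_le T y (le_sup_right.trans hg))
  -- `C(a) ⊓ C(u)` centralizes `L = ⊤`
  rw [eq_bot_iff]
  intro c hc
  rw [Subgroup.mem_inf] at hc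
  obtain ⟨hca, hcu⟩ := hc
  rw [hC a haT ha1] at hca
  -- `c` centralizes `T` and `y T y⁻¹`
  have hcT : ∀ t ∈ (T : Subgroup G), t * c = c * t := fun t ht =>
    Subgroup.mem_centralizer_iff.mp hca t ht
  have hcTy : ∀ t ∈ Ty, t * c = c * t := by
    rintro t ⟨s, hs, rfl⟩
    show y * s * y⁻¹ * c = c * (y * s * y⁻¹)
    -- `y⁻¹ c y` centralizes `a'`, hence `T`
    have h1 : y⁻¹ * c * y ∈ Subgroup.centralizer ({a'} : Set G) := by
      rw [Subgroup.mem_centralizer_iff]
      intro z hz
      rw [Set.mem_singleton_iff] at hz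
      subst hz
      have h2 : u * c = c * u :=
        Subgroup.mem_centralizer_iff.mp hcu u (Set.mem_singleton u)
      rw [← ha'u'] at h2
      calc z * (y⁻¹ * c * y) = y⁻¹ * ((y * z * y⁻¹) * c) * y := by group
        _ = y⁻¹ * (c * (y * z * y⁻¹)) * y := by rw [h2]
        _ = y⁻¹ * c * y * z := by group
    rw [hC a' ha'T ha'1] at h1
    have h3 : s * (y⁻¹ * c * y) = y⁻¹ * c * y * s := Subgroup.mem_centralizer_iff.mp h1 s hs
    calc y * s * y⁻¹ * c = y * (s * (y⁻¹ * c * y)) * y⁻¹ := by group
      _ = y * (y⁻¹ * c * y * s) * y⁻¹ := by rw [h3]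
      _ = c * (y * s * y⁻¹) := by group
  have hcL : ∀ x ∈ L, x * c = c * x := by
    intro x hx
    rw [hL, Subgroup.sup_eq_closure] at hx
    induction hx using Subgroup.closure_induction with
    | mem z hz =>
      rcases hz with hz | hz
      · exact hcT z hz
      · exact hcTy z hz
    | one => simp
    | mul x y _ _ hx hy => rw [mul_assoc, hy, ← mul_assoc, hx, mul_assoc]
    | inv x _ hx =>
      have : x⁻¹ * c = x⁻¹ * (c * x) * x⁻¹ := by group
      rw [this, ← hx]
      group
  have hcen : c ∈ Subgroup.center G := by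
    rw [Subgroup.mem_center_iff]
    intro x
    exact hcL x (hLtop ▸ Subgroup.mem_top x)
  -- the centre of a non-solvable simple group is trivial
  have hZ : Subgroup.center G = ⊥ := by
    rcases (Subgroup.Normal.eq_bot_or_eq_top (inferInstance : (Subgroup.center G).Normal)) with h | h
    · exact h
    · exfalso
      apply hG.nonsolv
      apply Group.isSolvable_of_comm
      intro a b
      have : a ∈ Subgroup.center G := h ▸ Subgroup.mem_top a
      exact (Subgroup.mem_center_iff.mp this b).symm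
  rw [hZ] at hcen
  exact hcen

end Cfsg.Agent.Lib.Helper33.S1936
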