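import Cfsg.Agent.Lib.Helper33.S1936TopOf
import Cfsg.Agent.Lib.Helper75.S1936.ElemRegExact
import Cfsg.Agent.Lib.Helper93.S1936SigF
import Cfsg.Agent.Lib.Helper93.S1936Bal
import Cfsg.Agent.Lib.Helper93.S1936Star
import Cfsg.Agent.Lib.Helper72.S1936SE0
import Cfsg.Agent.Lib.Helper25.S1936Trans
import Cfsg.Agent.Lib.Helper25.S1936Apart
import Cfsg.Agent.Lib.Helper42.S1936SigmExact
import Cfsg.Agent.Lib.Helper47.S1936ZJCentOf
import Cfsg.Agent.Lib.Helper19.S1936ZJAutD2
import Cfsg.Agent.Lib.Helper22.S1936Dich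
import Cfsg.Agent.Lib.Helper51.S1936EndSkel
import Cfsg.Agent.Lib.Helper43.S1936Min
import Cfsg.Agent.Lib.Helper15.S1936Quot
import Cfsg.Agent.Lib.Helper25.S1936Small

/-!
helper33, S1936, module [TOP]: instantiation of `not_minCE_of` / `solvable_of_hp_of` with the landed modules.
The Odd Order Theorem enters as the hypothesis `hFT` (so that this file does not import the closure of S0205).
-/

set_option autoImplicit false
universe u
open Cfsg.Agent.Lib.Helper22.S1936

namespace Cfsg.Agent.Lib.Helper33.S1936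

variable {G : Type u} [Group G] [Finite G] {p : ℕ} [Fact p.Prime]

/-- SIGM-[M0], exact skeleton statement (helper42's `_of` form + helper93's [RK] [FUN] [STAR]). -/
theorem exists_stronglyEmbedded (hG : MinCE p G) (T : Sylow 2 G) :
    ∃ M : Subgroup G, Cfsg.IsStronglyEmbedded M ∧
      Subgroup.normalizer ((T : Subgroup G) : Set G) ≤ M ∧
      ∀ a ∈ (T : Subgroup G), orderOf a = 2 → Subgroup.centralizer ({a} : Set G) ≤ M :=
  Cfsg.Agent.Lib.Helper42.S1936.exists_stronglyEmbedded_of hG T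
    (Cfsg.Agent.Lib.Helper93.S1936.card_omega1_ge hG T)
    (Cfsg.Agent.Lib.Helper93.S1936.theta_signalizer hG T)
    (fun {_} haT ha c hc => Cfsg.Agent.Lib.Helper93.S1936.centralizer_factor hG T haT ha c hc)

/-- ZJ-[AUT], exact skeleton statement (helper19's `_of_d2` form + helper22's D2). -/
theorem two_group_centralizer_index_le (hG : MinCE p G) {T : Sylow 2 G} {M : Subgroup G}
    (hD : SEDatum T M) (Q V : Subgroup G) (hQ : IsPGroup p ↥Q) (hV : IsPGroup 2 ↥V)
    (hVQ : V ≤ Subgroup.normalizer (Q : Set G)) :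
    (V ⊓ Subgroup.centralizer (Q : Set G)).relIndex V ≤ 2 :=
  Cfsg.Agent.Lib.Helper19.S1936.two_group_centralizer_index_le_of_d2 hG hD
    (fun _ _ ha hu hau => Cfsg.Agent.Lib.Helper22.S1936.exists_sylow_of_apart hG hD ha hu hau)
    (fun _ _ ha hu hau L hL haL huL =>
      Cfsg.Agent.Lib.Helper22.S1936.not_four_dvd_of_apart hG hD ha hu hau L hL haL huL)
    Q V hQ hV hVQ

/-- ZJ-[CENT], exact skeleton statement (helper47's `_of` form + [AUT] + helper93's [BAL]). -/
theorem sylow_two_centralizes_theta (hG : MinCE p G) {T : Sylow 2 G} {M : Subgroup G}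
    (hD : SEDatum T M)
    (htr : ∀ a ∈ (T : Subgroup G), ∀ b ∈ (T : Subgroup G), a ≠ 1 → b ≠ 1 →
      ∃ n ∈ Subgroup.normalizer ((T : Subgroup G) : Set G), n * a * n⁻¹ = b)
    {a : G} (haT : a ∈ (T : Subgroup G)) (ha1 : a ≠ 1) :
    (T : Subgroup G) ≤ Subgroup.centralizer ((theta p a : Subgroup G) : Set G) :=
  Cfsg.Agent.Lib.Helper47.S1936ZJ.sylow_two_centralizes_theta_of hD
    (fun Q V hQ hV hVQ => two_group_centralizer_index_le hG hD Q V hQ hV hVQ)
    (fun {_ _} ha hb hab => Cfsg.Agent.Lib.Helper93.S1936.theta_balance hG ha hb hab)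
    htr haT ha1

/-- END-[F6], exact skeleton statement (helper51's `_of` form + TRANS, ELEM, REG, DICH, AP). -/
theorem final_contradiction (hG : MinCE p G) {T : Sylow 2 G}
    (hD : SEDatum T (Subgroup.normalizer ((T : Subgroup G) : Set G)))
    (hC : ∀ a ∈ (T : Subgroup G), a ≠ 1 →
      Subgroup.centralizer ({a} : Set G) = Subgroup.centralizer ((T : Subgroup G) : Set G)) :
    False := by
  have htr : ∀ a ∈ (T : Subgroup G), ∀ b ∈ (T : Subgroup G), orderOf a = 2 → orderOf b = 2 →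
      ∃ n ∈ Subgroup.normalizer ((T : Subgroup G) : Set G), n * a * n⁻¹ = b :=
    fun a ha b hb ha2 hb2 =>
      Cfsg.Agent.Lib.Helper25.S1936.normalizer_transitive hG T _ hD.se Subgroup.le_normalizer
        ha hb ha2 hb2
  obtain ⟨helem, hcard⟩ := Cfsg.Agent.Lib.Helper75.S1936.sylow_two_elementary hG T htr
  have htr' : ∀ a ∈ (T : Subgroup G), ∀ b ∈ (T : Subgroup G), a ≠ 1 → b ≠ 1 →
      ∃ n ∈ Subgroup.normalizer ((T : Subgroup G) : Set G), n * a * n⁻¹ = b :=
    fun a ha b hb ha1 hb1 => htr a ha b hb (orderOf_eq_two_of_sq (helem a ha) ha1)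
      (orderOf_eq_two_of_sq (helem b hb) hb1)
  obtain ⟨hreg, -⟩ :=
    Cfsg.Agent.Lib.Helper75.S1936.centralizer_inf_normalizer hG T helem hcard htr'
  exact Cfsg.Agent.Lib.Helper51.S1936.final_contradiction_of hG hD hC hcard htr hreg
    (fun L hL he => (Cfsg.Agent.Lib.Helper22.S1936.dichotomy hG hD L hL he).imp id And.left)
    (fun {_ _} ha hu hau L hL haL huL =>
      Cfsg.Agent.Lib.Helper22.S1936.not_four_dvd_of_apart hG hD ha hu hau L hL haL huL)
    (fun {_ _} ha hu hau => Cfsg.Agent.Lib.Helper22.S1936.mul_isPElement_of_apart hG hD ha hu hau)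
    (fun {_ _} ha hu hau => Cfsg.Agent.Lib.Helper22.S1936.exists_sylow_of_apart hG hD ha hu hau)
    (fun {_ _} ha haM huM => Cfsg.Agent.Lib.Helper25.S1936.apart_of_mem_of_not_mem hD ha haM huM)

/-- TOP-[NOCE]: there is no `MinCE`. -/
theorem not_minCE (hG : MinCE p G) : False :=
  not_minCE_of hG
    (fun T => Cfsg.Agent.Lib.Helper93.S1936.card_omega1_ge hG T)
    (fun T M hM hN hC => Cfsg.Agent.Lib.Helper72.S1936.stronglyEmbedded_of hG T M hM hN hC)
    (fun T => exists_stronglyEmbedded hG T)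
    (fun T M hM hTM {_ _} ha hb ha2 hb2 =>
      Cfsg.Agent.Lib.Helper25.S1936.normalizer_transitive hG T M hM hTM ha hb ha2 hb2)
    (fun T htr => Cfsg.Agent.Lib.Helper75.S1936.sylow_two_elementary hG T htr)
    (fun T helem hcard htr =>
      Cfsg.Agent.Lib.Helper75.S1936.centralizer_inf_normalizer hG T helem hcard htr)
    (fun {_ _} hD htr {_} ha ha1 => sylow_two_centralizes_theta hG hD htr ha ha1)
    (fun {_ _} hD hreg hcen {_} ha ha1 =>
      Cfsg.Agent.Lib.Helper93.S1936.centralizer_eq_centralizer_sylow hG hD hreg hcen ha ha1)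
    (fun {_} hD hC => final_contradiction hG hD hC)

/-- TOP-[MAIN] with the Odd Order Theorem as a hypothesis. -/
theorem solvable_of_hp_of_ft
    (hFT : ∀ (H : Type u) [Group H] [Finite H], Odd (Nat.card H) → Group.IsSolvable H)
    (h : HP p G) : Group.IsSolvable G :=
  solvable_of_hp_of
    (fun G _ _ h hns hmin =>
      Cfsg.Agent.Lib.Helper43.S1936.minCE_of_minimal_of h hns hmin
        (fun N _ => Cfsg.Agent.Lib.Helper15.S1936.hp_quotient h N)
        (fun hp => Cfsg.Agent.Lib.Helper25.S1936.solvable_of_small h hp)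
        (fun hodd => hFT G hodd))
    (fun G _ _ hG => not_minCE hG) h

end Cfsg.Agent.Lib.Helper33.S1936
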