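import Mathlib
import Cfsg.Agent.Lib.Helper22.S1936Defs

/-!
helper33, S1936, module [TOP] in `_of` form: the assembly `MinCE p G → False` and the strong induction
`HP p G → IsSolvable G`, with the module statements of `notes/helper22_S1936_modules.lean.txt` as hypotheses.
-/

set_option autoImplicit false
set_option linter.unusedVariables false
set_option linter.unusedSectionVars false
set_option linter.style.haveILetI false
universe u
open Cfsg.Agent.Lib.Helper22.S1936

namespace Cfsg.Agent.Lib.Helper33.S1936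

variable {G : Type u} [Group G] [Finite G] {p : ℕ} [Fact p.Prime]

/-- an element `a ≠ 1` with `a ^ 2 = 1` has order two -/
theorem orderOf_eq_two_of_sq {a : G} (ha : a ^ 2 = 1) (ha1 : a ≠ 1) : orderOf a = 2 :=
  orderOf_eq_prime ha ha1

/-- an element of order two is `≠ 1` -/
theorem ne_one_of_orderOf_two {a : G} (ha : orderOf a = 2) : a ≠ 1 := by
  rintro rfl
  rw [orderOf_one] at ha
  omega

/-- TOP-[NOCE], `_of` form. -/
theorem not_minCE_of (hG : MinCE p G)
    (h_card_omega1_ge : ∀ T : Sylow 2 G, 8 ≤ Nat.card ↥(omega1 (T : Subgroup G)))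
    (h_stronglyEmbedded_of : ∀ (T : Sylow 2 G) (M : Subgroup G), M ≠ ⊤ →
      Subgroup.normalizer ((T : Subgroup G) : Set G) ≤ M →
      (∀ a ∈ (T : Subgroup G), orderOf a = 2 → Subgroup.centralizer ({a} : Set G) ≤ M) →
      Cfsg.IsStronglyEmbedded M)
    (h_exists_stronglyEmbedded : ∀ T : Sylow 2 G,
      ∃ M : Subgroup G, Cfsg.IsStronglyEmbedded M ∧
        Subgroup.normalizer ((T : Subgroup G) : Set G) ≤ M ∧
        ∀ a ∈ (T : Subgroup G), orderOf a = 2 → Subgroup.centralizer ({a} : Set G) ≤ M)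
    (h_normalizer_transitive : ∀ (T : Sylow 2 G) (M : Subgroup G),
      Cfsg.IsStronglyEmbedded M → (T : Subgroup G) ≤ M → ∀ {a b : G},
      a ∈ (T : Subgroup G) → b ∈ (T : Subgroup G) → orderOf a = 2 → orderOf b = 2 →
      ∃ n ∈ Subgroup.normalizer ((T : Subgroup G) : Set G), n * a * n⁻¹ = b)
    (h_sylow_two_elementary : ∀ T : Sylow 2 G,
      (∀ a ∈ (T : Subgroup G), ∀ b ∈ (T : Subgroup G), orderOf a = 2 → orderOf b = 2 →
        ∃ n ∈ Subgroup.normalizer ((T : Subgroup G) : Set G), n * a * n⁻¹ = b) →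
      (∀ t ∈ (T : Subgroup G), t ^ 2 = 1) ∧ Nat.card ↥(T : Subgroup G) = p + 1)
    (h_centralizer_inf_normalizer : ∀ T : Sylow 2 G,
      (∀ t ∈ (T : Subgroup G), t ^ 2 = 1) → Nat.card ↥(T : Subgroup G) = p + 1 →
      (∀ a ∈ (T : Subgroup G), ∀ b ∈ (T : Subgroup G), a ≠ 1 → b ≠ 1 →
        ∃ n ∈ Subgroup.normalizer ((T : Subgroup G) : Set G), n * a * n⁻¹ = b) →
      (Subgroup.centralizer ((T : Subgroup G) : Set G)).relIndex
          (Subgroup.normalizer ((T : Subgroup G) : Set G)) = p ∧
        ∀ a ∈ (T : Subgroup G), a ≠ 1 →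
          Subgroup.centralizer ({a} : Set G) ⊓ Subgroup.normalizer ((T : Subgroup G) : Set G) =
            Subgroup.centralizer ((T : Subgroup G) : Set G))
    (h_sylow_two_centralizes_theta : ∀ {T : Sylow 2 G} {M : Subgroup G}, SEDatum T M →
      (∀ a ∈ (T : Subgroup G), ∀ b ∈ (T : Subgroup G), a ≠ 1 → b ≠ 1 →
        ∃ n ∈ Subgroup.normalizer ((T : Subgroup G) : Set G), n * a * n⁻¹ = b) →
      ∀ {a : G}, a ∈ (T : Subgroup G) → a ≠ 1 →
      (T : Subgroup G) ≤ Subgroup.centralizer ((theta p a : Subgroup G) : Set G))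
    (h_centralizer_eq_centralizer_sylow : ∀ {T : Sylow 2 G} {M : Subgroup G}, SEDatum T M →
      (∀ a ∈ (T : Subgroup G), a ≠ 1 →
        Subgroup.centralizer ({a} : Set G) ⊓ Subgroup.normalizer ((T : Subgroup G) : Set G) =
          Subgroup.centralizer ((T : Subgroup G) : Set G)) →
      (∀ a ∈ (T : Subgroup G), a ≠ 1 →
        (T : Subgroup G) ≤ Subgroup.centralizer ((theta p a : Subgroup G) : Set G)) →
      ∀ {a : G}, a ∈ (T : Subgroup G) → a ≠ 1 →
      Subgroup.centralizer ({a} : Set G) = Subgroup.centralizer ((T : Subgroup G) : Set G))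
    (h_final_contradiction : ∀ {T : Sylow 2 G},
      SEDatum T (Subgroup.normalizer ((T : Subgroup G) : Set G)) →
      (∀ a ∈ (T : Subgroup G), a ≠ 1 →
        Subgroup.centralizer ({a} : Set G) = Subgroup.centralizer ((T : Subgroup G) : Set G)) →
      False) : False := by
  haveI := hG.simple
  obtain ⟨T⟩ : Nonempty (Sylow 2 G) := inferInstance
  obtain ⟨M, hMse, hNM, hCM⟩ := h_exists_stronglyEmbedded T
  have hTN : (T : Subgroup G) ≤ Subgroup.normalizer ((T : Subgroup G) : Set G) :=
    Subgroup.le_normalizer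
  have hTM : (T : Subgroup G) ≤ M := hTN.trans hNM
  -- transitivity on involutions
  have htr : ∀ a ∈ (T : Subgroup G), ∀ b ∈ (T : Subgroup G), orderOf a = 2 → orderOf b = 2 →
      ∃ n ∈ Subgroup.normalizer ((T : Subgroup G) : Set G), n * a * n⁻¹ = b :=
    fun a ha b hb ha2 hb2 => h_normalizer_transitive T M hMse hTM ha hb ha2 hb2
  obtain ⟨helem, hcard⟩ := h_sylow_two_elementary T htr
  have htr' : ∀ a ∈ (T : Subgroup G), ∀ b ∈ (T : Subgroup G), a ≠ 1 → b ≠ 1 →
      ∃ n ∈ Subgroup.normalizer ((T : Subgroup G) : Set G), n * a * n⁻¹ = b :=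
    fun a ha b hb ha1 hb1 => htr a ha b hb (orderOf_eq_two_of_sq (helem a ha) ha1)
      (orderOf_eq_two_of_sq (helem b hb) hb1)
  have h8 : 8 ≤ Nat.card ↥(T : Subgroup G) := by
    have h1 := h_card_omega1_ge T
    have h2 : Nat.card ↥(omega1 (T : Subgroup G)) ≤ Nat.card ↥(T : Subgroup G) :=
      Subgroup.card_le_of_le (omega1_le (T : Subgroup G))
    omega
  have hD : SEDatum T M :=
    { elem := helem
      card8 := h8
      se := hMse
      normT := hNM
      cent := fun a ha ha1 => hCM a ha (orderOf_eq_two_of_sq (helem a ha) ha1) }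
  obtain ⟨_, hreg⟩ := h_centralizer_inf_normalizer T helem hcard htr'
  have hcen : ∀ a ∈ (T : Subgroup G), a ≠ 1 →
      (T : Subgroup G) ≤ Subgroup.centralizer ((theta p a : Subgroup G) : Set G) :=
    fun a ha ha1 => h_sylow_two_centralizes_theta hD htr' ha ha1
  have hC : ∀ a ∈ (T : Subgroup G), a ≠ 1 →
      Subgroup.centralizer ({a} : Set G) = Subgroup.centralizer ((T : Subgroup G) : Set G) :=
    fun a ha ha1 => h_centralizer_eq_centralizer_sylow hD hreg hcen ha ha1
  -- `N(T)` is a proper subgroup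
  have hNtop : Subgroup.normalizer ((T : Subgroup G) : Set G) ≠ ⊤ := by
    intro htop
    have hnormal : (T : Subgroup G).Normal := Subgroup.normalizer_eq_top_iff.mp htop
    rcases hnormal.eq_bot_or_eq_top with hbot | htop'
    · rw [hbot] at h8
      simp at h8
    · apply hG.nonsolv
      have hPG : IsPGroup 2 G := by
        have := T.isPGroup'
        rw [htop'] at this
        exact IsPGroup.of_equiv this Subgroup.topEquiv
      haveI : Group.IsNilpotent G := hPG.isNilpotent
      infer_instance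
  have hCN : ∀ a ∈ (T : Subgroup G), orderOf a = 2 →
      Subgroup.centralizer ({a} : Set G) ≤ Subgroup.normalizer ((T : Subgroup G) : Set G) := by
    intro a ha ha2
    rw [hC a ha (ne_one_of_orderOf_two ha2)]
    exact Subgroup.centralizer_le_normalizer (s := ((T : Subgroup G) : Set G))
  have hse' : Cfsg.IsStronglyEmbedded (Subgroup.normalizer ((T : Subgroup G) : Set G)) :=
    h_stronglyEmbedded_of T _ hNtop le_rfl hCN
  have hD' : SEDatum T (Subgroup.normalizer ((T : Subgroup G) : Set G)) :=
    { elem := helem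
      card8 := h8
      se := hse'
      normT := le_rfl
      cent := fun a ha ha1 => hCN a ha (orderOf_eq_two_of_sq (helem a ha) ha1) }
  exact h_final_contradiction hD' hC

/-- TOP-[MAIN], `_of` form: strong induction on the order. -/
theorem solvable_of_hp_of
    (h_minCE_of_minimal : ∀ (G : Type u) [Group G] [Finite G], HP p G → ¬ Group.IsSolvable G →
      (∀ (H : Type u) [Group H] [Finite H], Nat.card H < Nat.card G → HP p H →
        Group.IsSolvable H) → MinCE p G)
    (h_not_minCE : ∀ (G : Type u) [Group G] [Finite G], MinCE p G → False)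
    (h : HP p G) : Group.IsSolvable G := by
  suffices H : ∀ (n : ℕ) (G : Type u) [Group G] [Finite G], Nat.card G = n → HP p G →
      Group.IsSolvable G from H _ G rfl h
  intro n
  induction n using Nat.strong_induction_on with
  | _ n ih =>
    intro G _ _ hn h
    by_contra hns
    apply h_not_minCE G
    apply h_minCE_of_minimal G h hns
    intro H _ _ hlt hH
    exact ih (Nat.card H) (hn ▸ hlt) H rfl hH

end Cfsg.Agent.Lib.Helper33.S1936
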