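import Mathlib
import Cfsg.Prelude.Def_Local
import Cfsg.Prelude.Def_CaseTheorems
import Cfsg.Agent.Lib.Helper55.S2924.API
import Cfsg.Agent.Lib.Helper31.CharPLocals

/-!
# S2924-[STEP1] (helper55's project S2924): `th_inf_centralizer_eq_bot`

If `C_X(z)` has characteristic 2 and `y` is an involution (or 1) commuting with `z`, then `z` acts
fixed-point-freely on `O(C_X(y))`.
-/

set_option autoImplicit false
set_option linter.style.haveILetI false

namespace Cfsg.Agent.Lib.Helper33.S2924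

open Cfsg.Agent.Lib.Helper55.S2924 Cfsg.Agent.Lib.Helper49

variable {X : Type*} [Group X]

theorem th_inf_centralizer_eq_bot [Finite X] {y z : X} (hy : y ^ 2 = 1) (hyz : Commute y z)
    (hz : Cfsg.generalizedFittingSubgroup ↥(Subgroup.centralizer ({z} : Set X)) =
      Cfsg.pCore 2 ↥(Subgroup.centralizer ({z} : Set X))) :
    th y ⊓ Subgroup.centralizer ({z} : Set X) = ⊥ := by
  classical
  haveI : Fact (Nat.Prime 2) := ⟨Nat.prime_two⟩
  have hM : Cfsg.Agent.Lib.Helper31.CharP 2 (Subgroup.centralizer ({z} : Set X)) :=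
    Cfsg.Agent.Lib.Helper31.charP_iff_generalizedFittingSubgroup_eq.2 hz
  have hVM : Subgroup.zpowers y ≤ Subgroup.centralizer ({z} : Set X) := by
    rw [Subgroup.zpowers_le, Subgroup.mem_centralizer_iff]
    intro h hh
    rw [Set.mem_singleton_iff] at hh
    rw [hh]
    exact hyz.eq.symm
  have hV : IsPGroup 2 (Subgroup.zpowers y) := by
    intro g
    refine ⟨1, ?_⟩
    obtain ⟨n, hn⟩ := Subgroup.mem_zpowers_iff.1 g.2
    apply Subtype.ext
    rw [Subgroup.coe_pow, Subgroup.coe_one, ← hn, pow_one, ← zpow_natCast, ← zpow_mul, mul_comm,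
      zpow_mul, zpow_natCast]
    rw [hy, one_zpow]
  have hL := Cfsg.Agent.Lib.Helper31.charP_inf_centralizer hM hVM hV
  have hforall := Cfsg.Agent.Lib.Helper31.charP_iff_forall.1 hL
  rw [eq_bot_iff]
  intro x hx
  rw [Subgroup.mem_bot]
  obtain ⟨hxth, hxz⟩ := hx
  have hxth : x ∈ th y := hxth
  have hxz : x ∈ Subgroup.centralizer ({z} : Set X) := hxz
  have hxy : Commute x y := by
    have := th_le y hxth
    rw [Subgroup.mem_centralizer_iff] at this
    exact (this y rfl).symm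
  have hcV : ∀ {g : X}, Commute g y → g ∈ Subgroup.centralizer ((Subgroup.zpowers y : Subgroup X) : Set X) := by
    intro g hg
    rw [Subgroup.mem_centralizer_iff]
    intro h hh
    obtain ⟨n, rfl⟩ := Subgroup.mem_zpowers_iff.1 hh
    exact ((hg.zpow_right n).eq).symm
  have hxL : x ∈ Subgroup.centralizer ({z} : Set X) ⊓
      Subgroup.centralizer ((Subgroup.zpowers y : Subgroup X) : Set X) := ⟨hxz, hcV hxy⟩
  have hcop2 : ∀ c ∈ th y, (orderOf c).Coprime 2 := by
    intro c hc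
    exact (th_card_coprime y).coprime_dvd_left (Subgroup.orderOf_dvd_natCard _ hc)
  apply hforall x hxL ?_ (hcop2 x hxth)
  rw [Subgroup.mem_centralizer_iff]
  intro r hr
  -- the commutator `x r x⁻¹ r⁻¹` is trivial
  have hrL := pCoreIn_le 2 _ hr
  have hry : r ∈ Subgroup.centralizer ({y} : Set X) := by
    have h0 : r ∈ Subgroup.centralizer ((Subgroup.zpowers y : Subgroup X) : Set X) := hrL.2
    rw [Subgroup.mem_centralizer_iff] at h0 ⊢
    intro h hh
    rw [Set.mem_singleton_iff] at hh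
    rw [hh]
    exact h0 y (Subgroup.mem_zpowers y)
  have h1 : r * x⁻¹ * r⁻¹ ∈ th y :=
    ((Subgroup.mem_normalizer_iff.1 (th_normalized y hry)) x⁻¹).1 ((th y).inv_mem hxth)
  have hcth : x * r * x⁻¹ * r⁻¹ ∈ th y := by
    have : x * r * x⁻¹ * r⁻¹ = x * (r * x⁻¹ * r⁻¹) := by group
    rw [this]
    exact (th y).mul_mem hxth h1
  have h2 : x * r * x⁻¹ ∈ pCoreIn 2 (Subgroup.centralizer ({z} : Set X) ⊓
      Subgroup.centralizer ((Subgroup.zpowers y : Subgroup X) : Set X)) :=
    ((Subgroup.mem_normalizer_iff.1 (le_normalizer_pCoreIn 2 _ hxL)) r).1 hr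
  have hcR : x * r * x⁻¹ * r⁻¹ ∈ pCoreIn 2 (Subgroup.centralizer ({z} : Set X) ⊓
      Subgroup.centralizer ((Subgroup.zpowers y : Subgroup X) : Set X)) :=
    Subgroup.mul_mem _ h2 (Subgroup.inv_mem _ hr)
  obtain ⟨k, hk⟩ := pow_eq_one_of_mem_pCoreIn hcR
  have hord : orderOf (x * r * x⁻¹ * r⁻¹) = 1 := by
    have hd : orderOf (x * r * x⁻¹ * r⁻¹) ∣ 2 ^ k := orderOf_dvd_of_pow_eq_one hk
    have hc : (orderOf (x * r * x⁻¹ * r⁻¹)).Coprime (2 ^ k) := (hcop2 _ hcth).pow_right k
    exact Nat.eq_one_of_dvd_coprimes hc dvd_rfl hd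
  have hc1 : x * r * x⁻¹ * r⁻¹ = 1 := orderOf_eq_one_iff.1 hord
  have : x * r = r * x := by
    have h3 : x * r = (x * r * x⁻¹ * r⁻¹) * (r * x) := by group
    rw [h3, hc1, one_mul]
  exact this.symm

end Cfsg.Agent.Lib.Helper33.S2924
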