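import Cfsg.Agent.Lib.Helper67.S3Defs

/-!
# S4305 (Shult's `S₃` theorem), MODULE SGN (helper33)

`struct_sgn_false_of`: in the configuration `Ctx` with the structure `Struct ψ p S T s t` (`Q = S ⋊ T`), the element `f` of order
three cannot centralize `T`. The two counting statements (T1W for `𝔸` and for `Q` acting on itself by conjugation) and
`C_V(S) = 0` are explicit hypotheses, so that the file only depends on `S3Defs`.
-/

set_option autoImplicit false

namespace Cfsg.Agent.Lib.Helper33.S3Sgn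

open Cfsg.Agent.Lib.Helper67.S3

variable {𝔸 Q V : Type*} [Group 𝔸] [Group Q] [Finite Q] [AddCommGroup V] [Finite V] {p : ℕ}
  [Fact p.Prime] [Module (ZMod p) V] {f h : 𝔸} {ψ : 𝔸 →* MulAut Q}
  {ρ : Representation (ZMod p) Q V} {σ : Representation (ZMod p) 𝔸 V}

omit [Finite Q] in
/-- a subgroup of `Q` mapped into itself by `f` and by `h` is `𝔸`-invariant -/
theorem invQ_of_gen (r : Rel f h) (K : Subgroup Q) (hf : ∀ x ∈ K, ψ f x ∈ K) (hh : ∀ x ∈ K, ψ h x ∈ K) :
    InvQ ψ K := by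
  intro a
  have ha : a ∈ Subgroup.closure ({f, h} : Set 𝔸) := by rw [r.gen]; trivial
  have hfinv : f⁻¹ = f * f := by
    have h3 : f * f * f = 1 := by rw [← r.f3, pow_succ, pow_two]
    exact inv_eq_of_mul_eq_one_right (by rw [← mul_assoc]; exact h3)
  have hhinv : h⁻¹ = h := by
    have h2 : h * h = 1 := by rw [← r.h2, pow_two]
    exact inv_eq_of_mul_eq_one_right h2
  have key : (∀ x ∈ K, ψ a x ∈ K) ∧ (∀ x ∈ K, ψ a⁻¹ x ∈ K) := by
    induction ha using Subgroup.closure_induction with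
    | mem y hy =>
      rcases hy with rfl | rfl
      · refine ⟨hf, fun x hx => ?_⟩
        rw [hfinv, map_mul, MulAut.mul_apply]
        exact hf _ (hf x hx)
      · refine ⟨hh, fun x hx => ?_⟩
        rw [hhinv]
        exact hh x hx
    | one => exact ⟨fun x hx => by simpa using hx, fun x hx => by simpa using hx⟩
    | mul y z _ _ hy hz =>
      refine ⟨fun x hx => ?_, fun x hx => ?_⟩
      · rw [map_mul, MulAut.mul_apply]
        exact hy.1 _ (hz.1 x hx)
      · rw [mul_inv_rev, map_mul, MulAut.mul_apply]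
        exact hz.2 _ (hy.2 x hx)
    | inv y _ hy =>
      refine ⟨hy.2, fun x hx => ?_⟩
      rw [inv_inv]
      exact hy.1 x hx
  exact key.1

omit [Finite Q] [Finite V] in
/-- `h` inverts an invariant abelian subgroup centralized by `f` -/
theorem h_inv_of_f_fix (c : Ctx f h ψ ρ σ) {T : Subgroup Q} (hT : InvQ ψ T)
    (hcomm : ∀ x ∈ T, ∀ y ∈ T, x * y = y * x) (hTf : ∀ y ∈ T, ψ f y = y) :
    ∀ y ∈ T, ψ h y = y⁻¹ := by
  intro y hy
  have hh2 : ψ h (ψ h y) = y := by
    rw [← MulAut.mul_apply, ← map_mul, ← sq, c.rel.h2, map_one, MulAut.one_apply]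
  have hz : ψ h (y * ψ h y) = y * ψ h y := by
    rw [map_mul, hh2]
    exact hcomm _ (hT h y hy) _ hy
  have hzf : ψ f (y * ψ h y) = y * ψ h y := hTf _ (T.mul_mem hy (hT h y hy))
  exact eq_inv_of_mul_eq_one_right (c.fixQ _ hzf hz)

/-- MODULE SGN of S4305, with the counting statements as hypotheses. -/
theorem struct_sgn_false_of (c : Ctx f h ψ ρ σ) {S T : Subgroup Q} {s t : ℕ}
    (st : Struct ψ p S T s t) (hTf : ∀ y ∈ T, ψ f y = y)
    (hT1A : ∀ (a : 𝔸) (n : ℕ), n.Prime → orderOf a = n → ∀ (N : Subgroup Q) (W : Submodule (ZMod p) V),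
      (∀ x ∈ N, ψ a x ∈ N) → (∀ w ∈ W, σ a w ∈ W) → (∀ x ∈ N, ∀ w ∈ W, ρ x w ∈ W) →
      Group.IsNilpotent N → (∀ x ∈ N, ψ a x = x → x = 1) →
      (∀ w ∈ W, (∀ x ∈ N, ρ x w = w) → w = 0) →
      Nat.card W = Nat.card ↥(W ⊓ FixL (σ a)) ^ n)
    (hT1Q : ∀ (a : Q) (n : ℕ), n.Prime → orderOf a = n → ∀ (N : Subgroup Q) (W : Submodule (ZMod p) V),
      (∀ x ∈ N, MulAut.conj a x ∈ N) → (∀ w ∈ W, ρ a w ∈ W) → (∀ x ∈ N, ∀ w ∈ W, ρ x w ∈ W) →
      Group.IsNilpotent N → (∀ x ∈ N, MulAut.conj a x = x → x = 1) →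
      (∀ w ∈ W, (∀ x ∈ N, ρ x w = w) → w = 0) →
      Nat.card W = Nat.card ↥(W ⊓ FixL (ρ a)) ^ n)
    (hCV : CV ρ S = ⊥) : False := by
  classical
  obtain ⟨hs, ht, hsp, hst, hSn, hSinv, hTinv, hScomm, hSexp, hTcomm, hTexp, hsup, hSne, hTne, hcST, hcTS,
    hTmin, hSmin⟩ := st
  have := hSn
  have : Fact t.Prime := ⟨ht⟩
  -- `h` inverts `T`
  have hhinv : ∀ y ∈ T, ψ h y = y⁻¹ := h_inv_of_f_fix c hTinv hTcomm hTf
  -- every subgroup of `T` is invariant
  have hsubinv : ∀ T₀ : Subgroup Q, T₀ ≤ T → InvQ ψ T₀ := by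
    intro T₀ h₀
    apply invQ_of_gen c.rel
    · intro x hx
      rw [hTf x (h₀ hx)]
      exact hx
    · intro x hx
      rw [hhinv x (h₀ hx)]
      exact T₀.inv_mem hx
  -- a generator of `T`
  obtain ⟨y₀, hy₀T, hy₀ne⟩ : ∃ y ∈ T, y ≠ 1 := by
    by_contra hcon
    push Not at hcon
    exact hTne ((Subgroup.eq_bot_iff_forall T).mpr hcon)
  have hTz : Subgroup.zpowers y₀ = T := by
    rcases hTmin _ ((Subgroup.zpowers_le).mpr hy₀T) (hsubinv _ ((Subgroup.zpowers_le).mpr hy₀T)) with h1 | h1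
    · exfalso
      apply hy₀ne
      have : y₀ ∈ Subgroup.zpowers y₀ := Subgroup.mem_zpowers y₀
      rw [h1, Subgroup.mem_bot] at this
      exact this
    · exact h1
  have hord : orderOf y₀ = t := orderOf_eq_prime (hTexp y₀ hy₀T) hy₀ne
  have ht5 : 5 ≤ t := by
    have hdvd : t ∣ Nat.card Q := hord ▸ orderOf_dvd_natCard y₀
    apply ht.five_le_of_ne_two_of_ne_three
    · intro h2
      have : t ∣ Nat.gcd (Nat.card Q) 6 := Nat.dvd_gcd hdvd (by rw [h2]; norm_num)
      rw [c.q6] at this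
      rw [h2] at this
      norm_num at this
    · intro h3
      have : t ∣ Nat.gcd (Nat.card Q) 6 := Nat.dvd_gcd hdvd (by rw [h3]; norm_num)
      rw [c.q6] at this
      rw [h3] at this
      norm_num at this
  -- every element of `Q` is a product
  have hQ : ∀ g : Q, ∃ x ∈ S, ∃ y ∈ T, g = x * y := by
    intro g
    have hg : g ∈ ((S ⊔ T : Subgroup Q) : Set Q) := by rw [hsup]; trivial
    rw [Subgroup.normal_mul] at hg
    obtain ⟨x, hx, y, hy, rfl⟩ := Set.mem_mul.mp hg
    exact ⟨x, hx, y, hy, rfl⟩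
  -- relations in `𝔸`
  have hfh : f * h = h * f⁻¹ := by
    calc f * h = (h * f * h⁻¹)⁻¹ * h := by rw [c.rel.hf, inv_inv]
      _ = h * f⁻¹ := by group
  have hh2 : ∀ x : Q, ψ h (ψ h x) = x := by
    intro x
    rw [← MulAut.mul_apply, ← map_mul, ← sq, c.rel.h2, map_one, MulAut.one_apply]
  have hfinvfix : ∀ x : Q, ψ f x = x → ψ f⁻¹ x = x := by
    intro x hx
    have : ψ f⁻¹ (ψ f x) = x := by
      rw [← MulAut.mul_apply, ← map_mul, inv_mul_cancel, map_one, MulAut.one_apply]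
    rwa [hx] at this
  -- the fixed points of `f` on `S`
  let CSf : Subgroup Q :=
    { carrier := {x | x ∈ S ∧ ψ f x = x}
      mul_mem' := fun {a b} ha hb => ⟨S.mul_mem ha.1 hb.1, by rw [map_mul, ha.2, hb.2]⟩
      one_mem' := ⟨S.one_mem, map_one _⟩
      inv_mem' := fun {a} ha => ⟨S.inv_mem ha.1, by rw [map_inv, ha.2]⟩ }
  have hCSf_le : CSf ≤ S := fun x hx => hx.1
  have hCSf_n : CSf.Normal := by
    refine ⟨fun n hn g => ?_⟩
    obtain ⟨x, hx, y, hy, rfl⟩ := hQ g
    have h1 : y * n * y⁻¹ ∈ S := hSn.conj_mem n hn.1 y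
    have h2 : x * y * n * (x * y)⁻¹ = y * n * y⁻¹ := by
      have := hScomm x hx (y * n * y⁻¹) h1
      calc x * y * n * (x * y)⁻¹ = x * (y * n * y⁻¹) * x⁻¹ := by group
        _ = (y * n * y⁻¹) * x * x⁻¹ := by rw [this]
        _ = y * n * y⁻¹ := by group
    rw [h2]
    refine ⟨h1, ?_⟩
    rw [map_mul, map_mul, map_inv, hTf y hy, hn.2]
  have hCSf_inv : InvQ ψ CSf := by
    apply invQ_of_gen c.rel
    · intro x hx
      rw [hx.2]
      exact hx
    · intro x hx
      refine ⟨hSinv h x hx.1, ?_⟩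
      rw [← MulAut.mul_apply, ← map_mul, hfh, map_mul, MulAut.mul_apply, hfinvfix x hx.2]
  have hfpfS : ∀ x ∈ S, ψ f x = x → x = 1 := by
    rcases hSmin CSf hCSf_le hCSf_n hCSf_inv with h1 | h1
    · intro x hx hfx
      have : x ∈ CSf := ⟨hx, hfx⟩
      rw [h1, Subgroup.mem_bot] at this
      exact this
    · exfalso
      -- `f` is trivial on `Q`, so `h` is fixed point free on `Q` and `Q` is abelian
      have hfS : ∀ x ∈ S, ψ f x = x := by
        intro x hx
        have : x ∈ CSf := by rw [h1]; exact hx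
        exact this.2
      have hfQ : ∀ g : Q, ψ f g = g := by
        intro g
        obtain ⟨x, hx, y, hy, rfl⟩ := hQ g
        rw [map_mul, hfS x hx, hTf y hy]
      have hfpf : MonoidHom.FixedPointFree (ψ h) := fun g hg => c.fixQ g (hfQ g) hg
      have hinvol : Function.Involutive (ψ h) := hh2
      apply hSne
      rw [Subgroup.eq_bot_iff_forall]
      intro x hx
      apply hcST x hx
      intro y _
      exact (hfpf.commute_all_of_involutive hinvol y x).eq
  -- `S` is nilpotent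
  have hnilS : Group.IsNilpotent ↥S := by
    let _ : CommGroup ↥S :=
      { (inferInstance : Group ↥S) with
        mul_comm := fun a b => Subtype.ext (hScomm a a.2 b b.2) }
    exact CommGroup.isNilpotent
  have hfixS : ∀ w ∈ (⊤ : Submodule (ZMod p) V), (∀ x ∈ S, ρ x w = w) → w = 0 := by
    intro w _ hw
    have : w ∈ CV ρ S := hw
    rw [hCV, Submodule.mem_bot] at this
    exact this
  have hcardtop : Nat.card ↥(⊤ : Submodule (ZMod p) V) = Nat.card V :=
    Nat.card_congr (Submodule.topEquiv (R := ZMod p) (M := V)).toEquiv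
  -- first count: `|V| = |C_V(f)|³`
  have hordf : orderOf f = 3 := orderOf_eq_prime c.rel.f3 c.rel.f_ne
  have e1 := hT1A f 3 Nat.prime_three hordf S ⊤ (fun x hx => hSinv f x hx) (fun w _ => Submodule.mem_top)
    (fun x _ w _ => Submodule.mem_top) hnilS hfpfS hfixS
  rw [hcardtop, top_inf_eq] at e1
  -- `h` acts as `-1` on `C_V(f)`
  have hCf_h : ∀ v ∈ FixL (σ f), σ h v ∈ FixL (σ f) := by
    intro v hv
    rw [mem_FixL] at hv ⊢
    have h1 : σ f (σ h v) = σ (f * h) v := by rw [map_mul]; rfl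
    have h2 : σ (h * f⁻¹) v = σ h (σ f⁻¹ v) := by rw [map_mul]; rfl
    have h3 : σ f⁻¹ v = v := by
      have : σ f⁻¹ (σ f v) = v := by
        have h4 : σ f⁻¹ (σ f v) = σ (f⁻¹ * f) v := by rw [map_mul]; rfl
        rw [h4, inv_mul_cancel, map_one]
        rfl
      rwa [hv] at this
    rw [h1, hfh, h2, h3]
  have hneg : ∀ v ∈ FixL (σ f), σ h v = -v := by
    intro v hv
    have hhh : σ h (σ h v) = v := by
      have h4 : σ h (σ h v) = σ (h * h) v := by rw [map_mul]; rfl
      rw [h4, ← sq, c.rel.h2, map_one]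
      rfl
    have h1 : σ f (v + σ h v) = v + σ h v := by
      rw [map_add, (mem_FixL.mp hv), (mem_FixL.mp (hCf_h v hv))]
    have h2 : σ h (v + σ h v) = v + σ h v := by
      rw [map_add, hhh, add_comm]
    have := c.fixV _ h1 h2
    exact (neg_eq_of_add_eq_zero_right this).symm
  -- `T` acts trivially on `C_V(f)`
  have htodd : Odd t := ht.odd_of_ne_two (by omega)
  have hTtriv : ∀ y ∈ T, ∀ v ∈ FixL (σ f), ρ y v = v := by
    intro y hy v hv
    have hyv : ρ y v ∈ FixL (σ f) := by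
      rw [mem_FixL, c.compat, hTf y hy, mem_FixL.mp hv]
    have h1 : σ h (ρ y v) = -(ρ y⁻¹ v) := by
      rw [c.compat, hhinv y hy, hneg v hv, map_neg]
    have h2 : ρ y v = ρ y⁻¹ v := by
      have := hneg _ hyv
      rw [h1] at this
      exact (neg_injective this).symm
    have h3 : ρ (y ^ 2) v = v := by
      have h4 : ρ (y ^ 2) v = ρ y (ρ y v) := by rw [sq, map_mul]; rfl
      have h5 : ρ y (ρ y⁻¹ v) = v := by
        have h6 : ρ y (ρ y⁻¹ v) = ρ (y * y⁻¹) v := by rw [map_mul]; rfl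
        rw [h6, mul_inv_cancel, map_one]
        rfl
      rw [h4, h2, h5]
    obtain ⟨k, hk⟩ := htodd
    have h7 : y = (y ^ 2) ^ (k + 1) := by
      rw [← pow_mul]
      have : 2 * (k + 1) = t + 1 := by omega
      rw [this, pow_succ, hTexp y hy, one_mul]
    have h8 : ρ ((y ^ 2) ^ (k + 1)) v = v := by
      rw [map_pow, Module.End.pow_apply]
      exact Function.iterate_fixed h3 _
    rw [h7]
    exact h8
  -- second count: `|V| = |C_V(y₀)|^t`
  have hfpfy : ∀ x ∈ S, MulAut.conj y₀ x = x → x = 1 := by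
    intro x hx hxy
    apply hcST x hx
    intro y hy
    rw [← hTz] at hy
    obtain ⟨k, rfl⟩ := Subgroup.mem_zpowers_iff.mp hy
    have hcomm : Commute y₀ x := by
      rw [MulAut.conj_apply] at hxy
      show y₀ * x = x * y₀
      calc y₀ * x = y₀ * x * y₀⁻¹ * y₀ := by group
        _ = x * y₀ := by rw [hxy]
    exact (hcomm.zpow_left k).eq
  have e2 := hT1Q y₀ t ht hord S ⊤ (fun x hx => hSn.conj_mem x hx y₀) (fun w _ => Submodule.mem_top)
    (fun x _ w _ => Submodule.mem_top) hnilS hfpfy hfixS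
  rw [hcardtop, top_inf_eq] at e2
  -- comparison
  have hle : FixL (σ f) ≤ FixL (ρ y₀) := fun v hv => mem_FixL.mpr (hTtriv y₀ hy₀T v hv)
  have hcardle : Nat.card ↥(FixL (σ f)) ≤ Nat.card ↥(FixL (ρ y₀)) :=
    Nat.card_le_card_of_injective (Submodule.inclusion hle) (Submodule.inclusion_injective hle)
  have hm1 : Nat.card ↥(FixL (σ f)) = 1 := by
    set m := Nat.card ↥(FixL (σ f)) with hm
    set M := Nat.card ↥(FixL (ρ y₀)) with hM
    have hmpos : 0 < m := Nat.card_pos
    by_contra hne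
    have hm2 : 1 < m := by omega
    have h1 : m ^ 3 < m ^ 5 := Nat.pow_lt_pow_right hm2 (by norm_num)
    have h2 : m ^ 5 ≤ m ^ t := Nat.pow_le_pow_right hmpos ht5
    have h3 : m ^ t ≤ M ^ t := Nat.pow_le_pow_left hcardle t
    have h4 : m ^ 3 = M ^ t := by rw [← e1, ← e2]
    omega
  have hV1 : Nat.card V = 1 := by rw [e1, hm1, one_pow]
  have hVsub : Subsingleton V := (Nat.card_eq_one_iff_unique.mp hV1).1
  -- `Q` is trivial
  apply hSne
  rw [Subgroup.eq_bot_iff_forall]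
  intro x _
  apply c.faithful
  ext v
  exact Subsingleton.elim _ _

end Cfsg.Agent.Lib.Helper33.S3Sgn
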