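import Mathlib
import Cfsg.Agent.Lib.Helper67.S3C
import Cfsg.Agent.Lib.Helper67.S3ZDefs
import Cfsg.Agent.Lib.Helper67.S3Tools
import Cfsg.Agent.Lib.Helper33.S3CardAS

/-!
# MODULE ZA of the `S₃` theorem S4305 (helper33, for helper67)

If the centre of `Q` is nontrivial and `f` is fixed-point-free on it, then the central elements
inverted by `h` have a nonzero common fixed vector: `CV ρ (Zm ψ h) ≠ ⊥`.
-/

set_option autoImplicit false
set_option linter.unusedSectionVars false

namespace Cfsg.Agent.Lib.Helper33.S3ZA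

open Cfsg.Agent.Lib.Helper67.S3

variable {𝔸 Q V : Type*} [Group 𝔸] [Group Q] [Finite Q] [AddCommGroup V] [Finite V]
  {p : ℕ} [Fact p.Prime] [Module (ZMod p) V]
  {f h : 𝔸} {ψ : 𝔸 →* MulAut Q} {ρ : Representation (ZMod p) Q V}
  {σ : Representation (ZMod p) 𝔸 V}

omit [Finite Q] in
/-- the centre is `𝔸`-invariant -/
theorem invQ_center (ψ : 𝔸 →* MulAut Q) : InvQ ψ (Subgroup.center Q) := by
  intro a x hx
  rw [Subgroup.mem_center_iff] at hx ⊢
  intro y
  have hy : y = ψ a ((ψ a).symm y) := by simp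
  rw [hy, ← map_mul, ← map_mul, hx]

theorem card_top_submodule : Nat.card ↥(⊤ : Submodule (ZMod p) V) = Nat.card V :=
  Nat.card_congr (Submodule.topEquiv (R := ZMod p) (M := V)).toEquiv

theorem CV_Zm_ne_bot (c : Ctx f h ψ ρ σ) [Group.IsSolvable Q] (hOp : HOp p Q) (h3 : H3 ρ σ)
    (hZ : Subgroup.center Q ≠ ⊥) (hZf : ∀ z ∈ Subgroup.center Q, ψ f z = z → z = 1)
    (hV : ∃ v : V, v ≠ 0) : CV ρ (Zm ψ h) ≠ ⊥ := by
  intro hbot
  -- `C_V(Z) = 0`
  have hCZ : CV ρ (Subgroup.center Q) = ⊥ :=
    CV_eq_bot c hOp h3 (Subgroup.center Q) (invQ_center ψ) hZ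
  -- `|V| = |C_V(f)|³`
  have h1 : Nat.card V = Nat.card ↥(FixL (σ f)) ^ 3 := by
    have key := card_pow_of_fpf_prime (ψ := ψ) (ρ := ρ) (σ := σ) c.compat f 3 Nat.prime_three
      c.rel.orderOf_f (Subgroup.center Q) (⊤ : Submodule (ZMod p) V)
      (fun x hx => invQ_center ψ f x hx) (fun w _ => Submodule.mem_top)
      (fun x _ w _ => Submodule.mem_top)
      (by
        have hcz : ∀ a b : ↥(Subgroup.center Q), a * b = b * a := by
          intro a b
          apply Subtype.ext
          exact (Subgroup.mem_center_iff.mp a.2 b).symm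
        let _ : CommGroup ↥(Subgroup.center Q) :=
          { (inferInstance : Group ↥(Subgroup.center Q)) with mul_comm := hcz }
        exact CommGroup.isNilpotent)
      hZf
      (fun w _ hw => by
        have : w ∈ CV ρ (Subgroup.center Q) := hw
        rw [hCZ] at this
        exact (Submodule.mem_bot _).mp this)
    rw [card_top_submodule, top_inf_eq] at key
    exact key
  -- `|C_V(h)|² |C_V(f)| = |V|`
  have h2 := Cfsg.Agent.Lib.Helper33.S3CardAS.card_AS c
  -- `|V| = |C_V(h)|²`
  have hodd : ∀ x : Q, x * x = 1 → x = 1 := by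
    intro x hx
    have h2' : orderOf x ∣ 2 := orderOf_dvd_of_pow_eq_one (by rw [pow_two]; exact hx)
    have h3' : orderOf x ∣ Nat.card Q := orderOf_dvd_natCard x
    have hc2 : (Nat.card Q).Coprime 2 :=
      Nat.Coprime.coprime_dvd_right (by norm_num : 2 ∣ 6) c.q6
    have : orderOf x ∣ 1 := by
      rw [← Nat.Coprime.gcd_eq_one hc2]
      exact Nat.dvd_gcd h3' h2'
    exact orderOf_eq_one_iff.mp (Nat.dvd_one.mp this)
  have hcomm : ∀ a b : ↥(Zm ψ h), a * b = b * a := by
    intro a b
    apply Subtype.ext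
    exact (Subgroup.mem_center_iff.mp a.2.1 b).symm
  have h4 : Nat.card V = Nat.card ↥(FixL (σ h)) ^ 2 := by
    have key := card_pow_of_fpf_prime (ψ := ψ) (ρ := ρ) (σ := σ) c.compat h 2 Nat.prime_two
      c.rel.orderOf_h (Zm ψ h) (⊤ : Submodule (ZMod p) V)
      (fun x hx => by
        rw [hx.2]; exact inv_mem hx)
      (fun w _ => Submodule.mem_top)
      (fun x _ w _ => Submodule.mem_top)
      (by
        let _ : CommGroup ↥(Zm ψ h) := { (inferInstance : Group ↥(Zm ψ h)) with mul_comm := hcomm }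
        exact CommGroup.isNilpotent)
      (fun x hx hfx => by
        have : x⁻¹ = x := by rw [← hx.2, hfx]
        apply hodd
        calc x * x = x * x⁻¹ := by rw [this]
          _ = 1 := mul_inv_cancel x)
      (fun w _ hw => by
        have : w ∈ CV ρ (Zm ψ h) := hw
        rw [hbot] at this
        exact (Submodule.mem_bot _).mp this)
    rw [card_top_submodule, top_inf_eq] at key
    exact key
  -- arithmetic
  set a := Nat.card ↥(FixL (σ f)) with ha
  set b := Nat.card ↥(FixL (σ h)) with hb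
  have hapos : 0 < a := Nat.card_pos
  have hbpos : 0 < b := Nat.card_pos
  have e1 : b ^ 2 * a = a ^ 3 := by rw [h2, h1]
  have e2 : b ^ 2 = a ^ 2 := by
    have : b ^ 2 * a = a ^ 2 * a := by rw [e1]; ring
    exact Nat.eq_of_mul_eq_mul_right hapos this
  have e3 : a ^ 3 = a ^ 2 := by rw [← h1, h4, e2]
  have e4 : a = 1 := by
    have : a ^ 2 * a = a ^ 2 * 1 := by
      rw [mul_one]
      calc a ^ 2 * a = a ^ 3 := by ring
        _ = a ^ 2 := e3
    exact Nat.eq_of_mul_eq_mul_left (pow_pos hapos 2) this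
  have e5 : Nat.card V = 1 := by rw [h1, e4, one_pow]
  obtain ⟨v, hv⟩ := hV
  have : Subsingleton V := (Nat.card_eq_one_iff_unique.mp e5).1
  exact hv (Subsingleton.elim v 0)

end Cfsg.Agent.Lib.Helper33.S3ZA
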