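import Cfsg.Agent.Lib.Helper53.SUReg.Act
import Cfsg.Agent.Lib.Helper53.SUReg.Defs2
import Cfsg.Agent.Lib.Helper23.SU3GHilb

set_option autoImplicit false
set_option linter.unusedSectionVars false
set_option linter.unusedVariables false

/-!
helper33, S2282, module [TRANSFER] (`_of` form): the pair `(u, a)` in the standard `SU_{2m+1}(q)`,
transported from the explicit model `(hM, uM, aM)` along an orthonormal basis.  The facts about the
model (modules [MFORM], [MISO], [MDET], [MTRI], [MGRAM]) enter as hypotheses.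
-/

namespace Cfsg.Agent.Lib.Helper33.SURegTransfer

open Matrix Cfsg.Agent.S0837 Cfsg.Agent.S0781 Cfsg.Agent.S2644 Cfsg.Agent.Lib.Helper53.SUReg

variable {F : Type*} [Field F] {σ : F →+* F} {q : ℕ} {m : ℕ}

theorem hM_add_left' (x x' y : MI m → F) : hM σ m (x + x') y = hM σ m x y + hM σ m x' y := by
  simp only [hM, Pi.add_apply, add_mul, Finset.sum_add_distrib]
  ring

theorem hM_smul_left' (c : F) (x y : MI m → F) : hM σ m (c • x) y = c * hM σ m x y := by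
  simp only [hM, Pi.smul_apply, smul_eq_mul, mul_add, Finset.mul_sum, mul_assoc]

theorem hM_zero_left' (y : MI m → F) : hM σ m 0 y = 0 := by
  have := hM_smul_left' (σ := σ) (m := m) 0 0 y
  simpa using this

theorem hM_symm' (hσ2 : ∀ x, σ (σ x) = x) (x y : MI m → F) : σ (hM σ m x y) = hM σ m y x := by
  simp only [hM, map_add, map_sum, map_mul, hσ2]
  congr 1
  · apply Finset.sum_congr rfl
    intro i _
    ring
  · ring

theorem hM_sum_left' {ι : Type*} (s : Finset ι) (f : ι → MI m → F) (y : MI m → F) :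
    hM σ m (∑ i ∈ s, f i) y = ∑ i ∈ s, hM σ m (f i) y := by
  classical
  induction s using Finset.induction_on with
  | empty => simp [hM_zero_left']
  | insert a s ha ih => rw [Finset.sum_insert ha, Finset.sum_insert ha, hM_add_left', ih]

/-- the data of the transport: an orthonormal basis with the expansion property -/
structure OBasis (σ : F →+* F) (m : ℕ) (b : Fin (2 * m + 1) → (MI m → F)) : Prop where
  orth : ∀ i j, hM σ m (b i) (b j) = if i = j then 1 else 0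
  expand : ∀ v : MI m → F, v = ∑ i, hM σ m v (b i) • b i

/-- `x ↦ Σ_k x k • b k` -/
noncomputable def Pmap (b : Fin (2 * m + 1) → (MI m → F)) :
    (Fin (2 * m + 1) → F) →ₗ[F] (MI m → F) where
  toFun x := ∑ k, x k • b k
  map_add' x y := by
    simp only [Pi.add_apply, add_smul, Finset.sum_add_distrib]
  map_smul' c x := by
    simp only [Pi.smul_apply, smul_eq_mul, mul_smul, Finset.smul_sum, RingHom.id_apply]

/-- `v ↦ (hM v (b k))_k` -/
noncomputable def Qmap (σ : F →+* F) (b : Fin (2 * m + 1) → (MI m → F)) :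
    (MI m → F) →ₗ[F] (Fin (2 * m + 1) → F) where
  toFun v := fun k => hM σ m v (b k)
  map_add' x y := by
    funext k
    simp only [Pi.add_apply, hM_add_left']
  map_smul' c x := by
    funext k
    simp only [Pi.smul_apply, smul_eq_mul, hM_smul_left', RingHom.id_apply]

/-- the matrix of `Pmap` -/
noncomputable def Pm (b : Fin (2 * m + 1) → (MI m → F)) : Matrix (MI m) (Fin (2 * m + 1)) F :=
  LinearMap.toMatrix' (Pmap b)

/-- the matrix of `Qmap` -/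
noncomputable def Qm (σ : F →+* F) (b : Fin (2 * m + 1) → (MI m → F)) :
    Matrix (Fin (2 * m + 1)) (MI m) F :=
  LinearMap.toMatrix' (Qmap σ b)

theorem Pm_mulVec (b : Fin (2 * m + 1) → (MI m → F)) (x : Fin (2 * m + 1) → F) :
    Pm b *ᵥ x = ∑ k, x k • b k := by
  unfold Pm
  rw [LinearMap.toMatrix'_mulVec]
  rfl

theorem Qm_mulVec (b : Fin (2 * m + 1) → (MI m → F)) (v : MI m → F) (k : Fin (2 * m + 1)) :
    (Qm σ b *ᵥ v) k = hM σ m v (b k) := by
  unfold Qm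
  rw [LinearMap.toMatrix'_mulVec]
  rfl

theorem Qm_Pm_mulVec {b : Fin (2 * m + 1) → (MI m → F)} (hb : OBasis σ m b)
    (x : Fin (2 * m + 1) → F) : Qm σ b *ᵥ (Pm b *ᵥ x) = x := by
  funext k
  rw [Qm_mulVec, Pm_mulVec, hM_sum_left']
  simp only [hM_smul_left', hb.orth]
  simp

theorem Pm_Qm_mulVec {b : Fin (2 * m + 1) → (MI m → F)} (hb : OBasis σ m b)
    (v : MI m → F) : Pm b *ᵥ (Qm σ b *ᵥ v) = v := by
  rw [Pm_mulVec]
  simp only [Qm_mulVec]
  exact (hb.expand v).symm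

theorem Qm_mul_Pm {b : Fin (2 * m + 1) → (MI m → F)} (hb : OBasis σ m b) :
    Qm σ b * Pm b = 1 := by
  rw [Matrix.ext_iff_mulVec]
  intro x
  rw [← Matrix.mulVec_mulVec, Qm_Pm_mulVec hb, Matrix.one_mulVec]

theorem Pm_mul_Qm {b : Fin (2 * m + 1) → (MI m → F)} (hb : OBasis σ m b) :
    Pm b * Qm σ b = 1 := by
  rw [Matrix.ext_iff_mulVec]
  intro x
  rw [← Matrix.mulVec_mulVec, Pm_Qm_mulVec hb, Matrix.one_mulVec]

/-- `Q` is an isometry from the model form to the standard form -/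
theorem hf_Qm (hσ2 : ∀ x, σ (σ x) = x) {b : Fin (2 * m + 1) → (MI m → F)} (hb : OBasis σ m b)
    (v w : MI m → F) : hf σ (Qm σ b *ᵥ v) (Qm σ b *ᵥ w) = hM σ m v w := by
  conv_rhs => rw [hb.expand v]
  rw [hM_sum_left']
  unfold hf
  apply Finset.sum_congr rfl
  intro k _
  rw [Qm_mulVec, Qm_mulVec, hM_smul_left', hM_symm' hσ2]

/-- the transported matrix -/
noncomputable def Mm (σ : F →+* F) (b : Fin (2 * m + 1) → (MI m → F)) (κ : F) :
    Matrix (Fin (2 * m + 1)) (Fin (2 * m + 1)) F :=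
  Qm σ b * uM σ m κ * Pm b

theorem Mm_pow {b : Fin (2 * m + 1) → (MI m → F)} (hb : OBasis σ m b) (κ : F) (k : ℕ) :
    Mm σ b κ ^ k = Qm σ b * uM σ m κ ^ k * Pm b := by
  induction k with
  | zero => rw [pow_zero, pow_zero, Matrix.mul_one, Qm_mul_Pm hb]
  | succ k ih =>
    rw [pow_succ, ih, pow_succ]
    unfold Mm
    calc Qm σ b * uM σ m κ ^ k * Pm b * (Qm σ b * uM σ m κ * Pm b)
        = Qm σ b * uM σ m κ ^ k * (Pm b * Qm σ b) * uM σ m κ * Pm b := by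
          simp only [Matrix.mul_assoc]
      _ = Qm σ b * (uM σ m κ ^ k * uM σ m κ) * Pm b := by
          rw [Pm_mul_Qm hb, Matrix.mul_one]
          simp only [Matrix.mul_assoc]

theorem Mm_sub_one {b : Fin (2 * m + 1) → (MI m → F)} (hb : OBasis σ m b) (κ : F) :
    Mm σ b κ - 1 = Qm σ b * (uM σ m κ - 1) * Pm b := by
  unfold Mm
  rw [Matrix.mul_sub, Matrix.sub_mul, Matrix.mul_one, Qm_mul_Pm hb]

theorem Mm_sub_one_pow {b : Fin (2 * m + 1) → (MI m → F)} (hb : OBasis σ m b) (κ : F) (k : ℕ) :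
    (Mm σ b κ - 1) ^ k = Qm σ b * (uM σ m κ - 1) ^ k * Pm b := by
  induction k with
  | zero => rw [pow_zero, pow_zero, Matrix.mul_one, Qm_mul_Pm hb]
  | succ k ih =>
    rw [pow_succ, ih, pow_succ, Mm_sub_one hb]
    calc Qm σ b * (uM σ m κ - 1) ^ k * Pm b * (Qm σ b * (uM σ m κ - 1) * Pm b)
        = Qm σ b * (uM σ m κ - 1) ^ k * (Pm b * Qm σ b) * (uM σ m κ - 1) * Pm b := by
          simp only [Matrix.mul_assoc]
      _ = Qm σ b * ((uM σ m κ - 1) ^ k * (uM σ m κ - 1)) * Pm b := by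
          rw [Pm_mul_Qm hb, Matrix.mul_one]
          simp only [Matrix.mul_assoc]

theorem Mm_det {b : Fin (2 * m + 1) → (MI m → F)} (hb : OBasis σ m b) (κ : F)
    (hdet : (uM σ m κ).det = 1) : (Mm σ b κ).det = 1 := by
  unfold Mm
  rw [Matrix.det_conj_of_mul_eq_one (Qm_mul_Pm hb) (Pm_mul_Qm hb), hdet]

theorem Mm_hf (hσ2 : ∀ x, σ (σ x) = x) {b : Fin (2 * m + 1) → (MI m → F)} (hb : OBasis σ m b)
    (κ : F)
    (hiso : ∀ x y : MI m → F, hM σ m (uM σ m κ *ᵥ x) (uM σ m κ *ᵥ y) = hM σ m x y)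
    (x y : Fin (2 * m + 1) → F) :
    hf σ (Mm σ b κ *ᵥ x) (Mm σ b κ *ᵥ y) = hf σ x y := by
  unfold Mm
  rw [← Matrix.mulVec_mulVec, ← Matrix.mulVec_mulVec, ← Matrix.mulVec_mulVec,
    ← Matrix.mulVec_mulVec, hf_Qm hσ2 hb, hiso, ← hf_Qm hσ2 hb, Qm_Pm_mulVec hb, Qm_Pm_mulVec hb]

/-- [TRANSFER], `_of` form: the model facts as hypotheses -/
theorem exists_ugood_of [Finite F] (hσq : ∀ x, σ x = x ^ q) (hσ : σ ≠ RingHom.id F)
    (hσ2 : ∀ x, σ (σ x) = x) (hm : 1 ≤ m)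
    (hbasis : ∃ b : Fin (2 * m + 1) → (MI m → F),
      (∀ i j, hM σ m (b i) (b j) = if i = j then 1 else 0) ∧
      (∀ v : MI m → F, v = ∑ i, hM σ m v (b i) • b i))
    (hiso : ∀ κ : F, κ + σ κ = -1 → ∀ x y : MI m → F,
      hM σ m (uM σ m κ *ᵥ x) (uM σ m κ *ᵥ y) = hM σ m x y)
    (hdet : ∀ κ : F, (uM σ m κ).det = 1)
    (hnil : ∀ κ : F, (uM σ m κ - 1) ^ (2 * m + 1) = 0)
    (hspan : ∀ (κ : F) (v : MI m → F),
      v ∈ Submodule.span F (Set.range fun k : Fin (2 * m + 1) => (uM σ m κ ^ (k : ℕ)) *ᵥ aM m))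
    (hgram0 : ∀ (κ : F) (d : ℕ), d < m → hM σ m (aM m) ((uM σ m κ ^ d) *ᵥ aM m) = 0)
    (hgramm : ∀ κ : F, hM σ m (aM m) ((uM σ m κ ^ m) *ᵥ aM m) = κ * (-1) ^ (m - 1)) :
    ∃ (u : ↥(Cfsg.SU (2 * m + 1) F q)) (a : Fin (2 * m + 1) → F) (φ : F),
      φ ≠ 0 ∧ UGood σ q m u a φ := by
  obtain ⟨κ, hκ⟩ := Cfsg.Agent.Lib.Helper23.SU3G.exists_trace_eq σ hσ hσ2 (-1) (by simp)
  have hκ0 : κ ≠ 0 := by
    rintro rfl
    simp at hκ
  obtain ⟨b, hb1, hb2⟩ := hbasis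
  have hb : OBasis σ m b := ⟨hb1, hb2⟩
  have hMdet : (Mm σ b κ).det = 1 := Mm_det hb κ (hdet κ)
  have hMhf : ∀ x y, Cfsg.hermForm (2 * m + 1) F q (Mm σ b κ *ᵥ x) (Mm σ b κ *ᵥ y) =
      Cfsg.hermForm (2 * m + 1) F q x y := by
    intro x y
    rw [hermForm_eq_hf σ hσq, hermForm_eq_hf σ hσq]
    exact Mm_hf hσ2 hb κ (hiso κ hκ) x y
  have hcoe := matU_coe q (Mm σ b κ) hMdet hMhf
  have hpow : ∀ k : ℕ, ((((matU q (Mm σ b κ) : ↥(Cfsg.SU (2 * m + 1) F q)) ^ (k : ℤ) :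
      ↥(Cfsg.SU (2 * m + 1) F q)) : Matrix.SpecialLinearGroup (Fin (2 * m + 1)) F) :
      Matrix (Fin (2 * m + 1)) (Fin (2 * m + 1)) F) = Mm σ b κ ^ k := by
    intro k
    rw [zpow_natCast, SubgroupClass.coe_pow, Matrix.SpecialLinearGroup.coe_pow, hcoe]
  have huvec : ∀ k : ℕ, uvec q (matU q (Mm σ b κ)) (Qm σ b *ᵥ aM m) (k : ℤ) =
      Qm σ b *ᵥ ((uM σ m κ ^ k) *ᵥ aM m) := by
    intro k
    unfold uvec
    rw [hpow k, Mm_pow hb, ← Matrix.mulVec_mulVec, ← Matrix.mulVec_mulVec, Pm_Qm_mulVec hb]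
  refine ⟨matU q (Mm σ b κ), Qm σ b *ᵥ aM m, κ * (-1) ^ (m - 1), ?_, ?_, ?_, ?_, ?_⟩
  · exact mul_ne_zero hκ0 (pow_ne_zero _ (neg_ne_zero.mpr one_ne_zero))
  · intro d hd
    rw [huvec d, hf_Qm hσ2 hb]
    exact hgram0 κ d hd
  · rw [huvec m, hf_Qm hσ2 hb]
    exact hgramm κ
  · rw [hcoe, Mm_sub_one_pow hb, hnil κ, Matrix.mul_zero, Matrix.zero_mul]
  · intro v
    have hv : v = Qm σ b *ᵥ (Pm b *ᵥ v) := (Qm_Pm_mulVec hb v).symm
    have h1 := hspan κ (Pm b *ᵥ v)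
    have h2 : (Qm σ b).mulVecLin (Pm b *ᵥ v) ∈ Submodule.map (Qm σ b).mulVecLin
        (Submodule.span F (Set.range fun k : Fin (2 * m + 1) => (uM σ m κ ^ (k : ℕ)) *ᵥ aM m)) :=
      Submodule.mem_map_of_mem h1
    rw [Submodule.map_span, ← Set.range_comp] at h2
    have hfun : (fun k : Fin (2 * m + 1) =>
        uvec q (matU q (Mm σ b κ)) (Qm σ b *ᵥ aM m) ((k : ℕ) : ℤ)) =
        (⇑(Qm σ b).mulVecLin ∘ fun k : Fin (2 * m + 1) => (uM σ m κ ^ (k : ℕ)) *ᵥ aM m) := by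
      funext k
      rw [huvec]
      rfl
    rw [hv, hfun]
    exact h2

end Cfsg.Agent.Lib.Helper33.SURegTransfer
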