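import Cfsg.Agent.Lib.Helper33.SURegTransfer
import Cfsg.Agent.Lib.Helper61.SURegMDet
import Cfsg.Agent.Lib.Helper61.SURegMGram
import Cfsg.Agent.Lib.Helper61.SURegMTri
import Cfsg.Agent.Lib.Helper65.SURegMForm
import Cfsg.Agent.Lib.Helper92.SURegMiso

set_option autoImplicit false

/-!
helper33, S2282, module [TRANSFER]: exact sheet statement `exists_ugood`, from the `_of` form and
the landed model modules [MFORM] (helper65), [MISO] (helper92), [MDET], [MTRI], [MGRAM] (helper61).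
-/

namespace Cfsg.Agent.Lib.Helper33.SUReg

open Matrix Cfsg.Agent.S0837 Cfsg.Agent.S0781 Cfsg.Agent.S2644 Cfsg.Agent.Lib.Helper53.SUReg

variable {F : Type*} [Field F] {σ : F →+* F} {q : ℕ} {m : ℕ}

theorem exists_ugood [Finite F] (hσq : ∀ x, σ x = x ^ q) (hσ : σ ≠ RingHom.id F)
    (hσ2 : ∀ x, σ (σ x) = x) (hm : 1 ≤ m) :
    ∃ (u : ↥(Cfsg.SU (2 * m + 1) F q)) (a : Fin (2 * m + 1) → F) (φ : F),
      φ ≠ 0 ∧ UGood σ q m u a φ :=
  Cfsg.Agent.Lib.Helper33.SURegTransfer.exists_ugood_of hσq hσ hσ2 hm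
    (Cfsg.Agent.Lib.Helper53.SUReg.exists_model_basis hσ hσ2 m)
    (fun κ hκ x y => Cfsg.Agent.Lib.Helper92.SUReg.uM_form hσ2 κ hκ x y)
    (fun κ => Cfsg.Agent.Lib.Helper61.SUReg.uM_det κ)
    (fun κ => Cfsg.Agent.Lib.Helper61.SUReg.uM_nil κ)
    (fun κ v => Cfsg.Agent.Lib.Helper61.SUReg.uM_span κ hm v)
    (fun κ d hd => Cfsg.Agent.Lib.Helper61.SUReg.uM_gram0 κ d hd)
    (fun κ => Cfsg.Agent.Lib.Helper61.SUReg.uM_gramm hσ2 κ hm)

end Cfsg.Agent.Lib.Helper33.SUReg
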