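/-
Helper33, module SAF-[FIELD2] (hedge) of helper2's sheet (S4025): the number of ring automorphisms of a
finite field of order p ^ n is n; upper bounds for the orders of the one-dimensional affine and
semi-affine groups of a finite field.
-/
import Mathlib
import Cfsg.Prelude.Def_Perm

set_option autoImplicit false
set_option linter.style.haveILetI false
set_option linter.unusedVariables false

namespace Cfsg.Agent.Lib.Helper33.Saf

open Cfsg

/-- the ring automorphisms of a field of characteristic `p` are the automorphisms over `ZMod p` -/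
noncomputable def ringAutEquivAlgAut (F : Type*) [Field F] (p : ℕ) [Fact p.Prime] [CharP F p] :
    (F ≃+* F) ≃ (letI := ZMod.algebra F p; F ≃ₐ[ZMod p] F) :=
  letI := ZMod.algebra F p
  { toFun := fun φ => AlgEquiv.ofRingEquiv (f := φ) (fun x => by
      obtain ⟨k, rfl⟩ := ZMod.natCast_zmod_surjective x
      simp)
    invFun := fun ψ => ψ.toRingEquiv
    left_inv := fun φ => by ext x; rfl
    right_inv := fun ψ => by ext x; rfl }

theorem card_ringAut {F : Type*} [Field F] [Finite F] {p n : ℕ} [Fact p.Prime] (hn : n ≠ 0)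
    (hF : Nat.card F = p ^ n) : Nat.card (F ≃+* F) = n := by
  classical
  haveI := Fintype.ofFinite F
  have hF' : Fintype.card F = p ^ n := by rw [← Nat.card_eq_fintype_card]; exact hF
  haveI : CharP F p := charP_of_card_eq_prime_pow hF'
  letI := ZMod.algebra F p
  rw [Nat.card_congr (ringAutEquivAlgAut F p), IsGalois.card_aut_eq_finrank]
  have h1 : Nat.card F = Nat.card (ZMod p) ^ Module.finrank (ZMod p) F :=
    Module.natCard_eq_pow_finrank
  rw [hF, Nat.card_zmod] at h1
  exact (Nat.pow_right_injective (Fact.out : p.Prime).two_le h1).symm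

theorem card_affine_le {F : Type*} [Field F] [Finite F] :
    Nat.card (affineGroup F) ≤ Nat.card F * (Nat.card F - 1) := by
  classical
  have hsurj : Function.Surjective (fun ab : F × Fˣ =>
      (⟨⟨fun x => (ab.2 : F) * x + ab.1, fun x => ((ab.2⁻¹ : Fˣ) : F) * (x - ab.1),
        fun x => by simp, fun x => by simp [mul_sub]⟩, ab.2, ab.1, fun x => rfl⟩ :
        affineGroup F)) := by
    rintro ⟨s, a, b, hs⟩
    refine ⟨(b, a), ?_⟩
    apply Subtype.ext
    ext x
    simp [hs]
  have h1 := Nat.card_le_card_of_surjective _ hsurj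
  have h2 : Nat.card (F × Fˣ) = Nat.card F * (Nat.card F - 1) := by
    rw [Nat.card_prod, Nat.card_units]
  rw [← h2]
  exact h1

theorem card_semiaffine_le {F : Type*} [Field F] [Finite F] :
    Nat.card (semiaffineGroup F) ≤ Nat.card F * (Nat.card F - 1) * Nat.card (F ≃+* F) := by
  classical
  haveI : Finite (F ≃+* F) := Finite.of_injective (fun φ : F ≃+* F => (φ : F → F))
    (fun φ ψ hφψ => RingEquiv.ext (fun x => congrFun hφψ x))
  have hsurj : Function.Surjective (fun abφ : (F × Fˣ) × (F ≃+* F) =>
      (⟨⟨fun x => (abφ.1.2 : F) * abφ.2 x + abφ.1.1,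
          fun x => abφ.2.symm (((abφ.1.2⁻¹ : Fˣ) : F) * (x - abφ.1.1)),
        fun x => by simp, fun x => by simp [mul_sub]⟩, abφ.1.2, abφ.1.1, abφ.2, fun x => rfl⟩ :
        semiaffineGroup F)) := by
    rintro ⟨s, a, b, φ, hs⟩
    refine ⟨((b, a), φ), ?_⟩
    apply Subtype.ext
    ext x
    simp [hs]
  have h1 := Nat.card_le_card_of_surjective _ hsurj
  have h2 : Nat.card ((F × Fˣ) × (F ≃+* F)) = Nat.card F * (Nat.card F - 1) * Nat.card (F ≃+* F) := by
    rw [Nat.card_prod, Nat.card_prod, Nat.card_units]
  rw [← h2]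
  exact h1

end Cfsg.Agent.Lib.Helper33.Saf
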