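import Cfsg.Agent.Lib.Helper33.TransferLift

/-!
# Control of transfer from constrained sections (helper33 library)

`familyControlsTransfer_of_secProp`: if in every section `G*` of `G` with `C_{G*}(O_p(G*)) ≤ O_p(G*)` the subgroup
`O_p(G*) ∩ (G*)'` is covered by the focal terms `S* ∩ (N_{G*}(W(S*)))'`, `W ∈ 𝓦` (in particular if the family controls transfer
in all these sections), then the family controls transfer in `G` (Glauberman).
-/

set_option autoImplicit false

namespace Cfsg.Agent.Lib.Helper33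

universe u

open scoped commutatorElement

section transport

variable {p : ℕ} {𝓦 : Set (∀ (Q : Type u) [Group Q], Subgroup Q)}

theorem map_biSup_focalTerm_of_injective [Fact p.Prime] (h𝓦 : ∀ W ∈ 𝓦, Cfsg.IsCharPFunctor.{u} p W)
    {X Y : Type u} [Group X] [Group Y] [Finite X] (f : X →* Y) (hf : Function.Injective f)
    (T : Subgroup X) (hT : IsPGroup p T) :
    (⨆ W' ∈ indFam 𝓦 X, focalTerm W' ⊤ T).map f = ⨆ W' ∈ indFam 𝓦 Y, focalTerm W' f.range (T.map f) := by
  unfold indFam
  rw [iSup_image, iSup_image, Subgroup.map_iSup]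
  apply iSup_congr
  intro W
  rw [Subgroup.map_iSup]
  apply iSup_congr
  intro hW
  unfold focalTerm
  have e := inducedFunctor_map_of_injOn W (h𝓦 W hW) f T hT
    (fun a _ ha => hf (ha.trans (map_one f).symm))
  have e2 : ((⊤ : Subgroup X) ⊓ Subgroup.normalizer ((Cfsg.inducedFunctor W T : Subgroup X) : Set X)).map f =
      f.range ⊓ Subgroup.normalizer ((Cfsg.inducedFunctor W (T.map f) : Subgroup Y) : Set Y) := by
    rw [top_inf_eq, map_normalizer_of_injective f hf, e]
  rw [Subgroup.map_inf _ _ _ hf, Subgroup.map_commutator, e2]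

theorem sylIn_top_map_equiv {X Y : Type*} [Group X] [Group Y] (e : X ≃* Y) {T : Subgroup X}
    (hT : SylIn p T ⊤) : SylIn p (T.map e.toMonoidHom) ⊤ := by
  refine ⟨le_top, hT.isPGroup.map _, ?_⟩
  have h1 : (⊤ : Subgroup Y) = (⊤ : Subgroup X).map e.toMonoidHom := by
    rw [← MonoidHom.range_eq_map, MonoidHom.range_eq_top.mpr e.surjective]
  rw [h1, Subgroup.relIndex_map_map_of_injective _ _ e.injective]
  exact hT.not_dvd

end transport

theorem familyControlsTransferIn_singleton {p : ℕ} {G : Type*} [Group G] (W : Subgroup G → Subgroup G)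
    (H : Subgroup G) :
    Cfsg.FamilyControlsTransferIn p {W} H ↔ Cfsg.ControlsTransferIn p W H := by
  unfold Cfsg.FamilyControlsTransferIn Cfsg.ControlsTransferIn
  simp only [iSup_singleton]

theorem indFam_singleton (W : ∀ (Q : Type u) [Group Q], Subgroup Q) (G : Type u) [Group G] :
    indFam {W} G = {Cfsg.inducedFunctor (G := G) W} := by
  unfold indFam
  rw [Set.image_singleton]

variable (p : ℕ) (𝓦 : Set (∀ (Q : Type u) [Group Q], Subgroup Q))

/-- if `Y` is constrained, then `O_p(Y) ∩ Y'` is covered by the focal terms for some Sylow `p`-subgroup -/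
def TrProp : ∀ (Y : Type u) [Group Y], Prop :=
  fun Y _ => Constrained p Y → ∃ T : Subgroup Y, SylIn p T ⊤ ∧
    Cfsg.pCore p Y ⊓ commutator Y ≤ ⨆ W' ∈ indFam 𝓦 Y, focalTerm W' ⊤ T

variable {p} {𝓦}

theorem trProp_of_mulEquiv [Fact p.Prime] (h𝓦 : ∀ W ∈ 𝓦, Cfsg.IsCharPFunctor.{u} p W)
    (X Y : Type u) [Group X] [Group Y] [Finite X] (e : X ≃* Y) (h : TrProp p 𝓦 X) : TrProp p 𝓦 Y := by
  intro hcY
  obtain ⟨T, hT, hle⟩ := h (constrained_of_mulEquiv e.symm hcY)
  refine ⟨T.map e.toMonoidHom, sylIn_top_map_equiv e hT, ?_⟩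
  have h1 := Subgroup.map_mono (f := e.toMonoidHom) hle
  rw [Subgroup.map_inf _ _ _ e.injective, pCore_map_equiv,
    map_biSup_focalTerm_of_injective h𝓦 e.toMonoidHom e.injective T hT.isPGroup,
    MonoidHom.range_eq_top.mpr e.surjective] at h1
  have h2 : (commutator X).map e.toMonoidHom = commutator Y := by
    rw [commutator_def, commutator_def, Subgroup.map_commutator, ← MonoidHom.range_eq_map,
      MonoidHom.range_eq_top.mpr e.surjective]
  rwa [h2] at h1

theorem trProp_of_controls [Fact p.Prime] (h𝓦 : ∀ W ∈ 𝓦, Cfsg.IsCharPFunctor.{u} p W)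
    (Y : Type u) [Group Y] [Finite Y]
    (h : Constrained p Y → Cfsg.FamilyControlsTransferIn p (indFam 𝓦 Y) ⊤) : TrProp p 𝓦 Y := by
  intro hcY
  obtain ⟨T, hT, hle⟩ := familyControlsTransferIn_top_iff_le.mp (h hcY)
  refine ⟨T, hT, le_trans (inf_le_inf_right _ ?_) hle⟩
  have := Cfsg.Agent.Lib.Helper76.pCore_le_sylow p hT.toSylowTop
  exact this

/-- **Glauberman**: control of transfer in all constrained sections gives control of transfer. -/
theorem familyControlsTransfer_of_secProp [hp : Fact p.Prime] (h𝓦 : ∀ W ∈ 𝓦, Cfsg.IsCharPFunctor.{u} p W) :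
    ∀ n : ℕ, ∀ (G : Type u) [Group G] [Finite G], Nat.card G = n → SecProp (TrProp p 𝓦) G →
      Cfsg.FamilyControlsTransferIn p (indFam 𝓦 G) ⊤ := by
  intro n
  induction n using Nat.strong_induction_on with
  | _ n IH =>
  intro G _ _ hn hsec
  have hPn : (Cfsg.pCore p G).Normal := Subgroup.sSup_normal _ (fun _ h => h.1)
  have hPmax : ∀ N : Subgroup G, N.Normal → IsPGroup p N → N ≤ Cfsg.pCore p G :=
    fun N hN hNp => Cfsg.Agent.Lib.Helper76.le_pCore p N hN hNp
  have hKn : (Cfsg.pPrimeCore p G).Normal := Subgroup.sSup_normal _ (fun _ h => h.1)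
  have hK : (Nat.card (Cfsg.pPrimeCore p G)).Coprime p := Cfsg.Agent.Lib.Helper76.pPrimeCore_coprime p
  have hKmax : ∀ N : Subgroup G, N.Normal → (Nat.card N).Coprime p → N ≤ Cfsg.pPrimeCore p G :=
    fun N hN hNp => Cfsg.Agent.Lib.Helper76.le_pPrimeCore p N hN hNp
  have hcfG := indFam_isConjugacyFunctor 𝓦 h𝓦 G
  have IHsub : ∀ H : Subgroup G, H ≠ ⊤ → Cfsg.FamilyControlsTransferIn p (indFam 𝓦 G) H := by
    intro H hH
    apply familyControlsTransfer_subgroup_of_top h𝓦 H
    refine IH (Nat.card H) ?_ ↥H rfl (hsec.subgroup H)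
    rw [← hn, ← Subgroup.card_top (G := G)]
    exact card_lt_card_of_lt (lt_top_iff_ne_top.mpr hH)
  have IHquot : ∀ (M : Subgroup G) [M.Normal], M ≠ ⊥ →
      Cfsg.FamilyControlsTransferIn p (indFam 𝓦 (G ⧸ M)) ⊤ := by
    intro M _ hM
    refine IH (Nat.card (G ⧸ M)) ?_ (G ⧸ M) rfl (hsec.quotient _)
    rw [← hn, Subgroup.card_eq_card_quotient_mul_card_subgroup M]
    have h1 : 1 < Nat.card ↥M := by
      rw [Subgroup.one_lt_card_iff_ne_bot]
      exact hM
    have h0 : 0 < Nat.card (G ⧸ M) := Nat.card_pos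
    nlinarith
  have K1 : ∀ (S : Sylow p G) (X : Subgroup G), (S : Subgroup G) ≤ Subgroup.normalizer (X : Set G) →
      Subgroup.normalizer (X : Set G) ≠ ⊤ →
      (S : Subgroup G) ⊓ ⁅Subgroup.normalizer (X : Set G), Subgroup.normalizer (X : Set G)⁆ ≤
        ⨆ W' ∈ indFam 𝓦 G, focalTerm W' ⊤ (S : Subgroup G) :=
    fun S X hSN hne => inf_commutator_le_of_controls hcfG S _ hSN (IHsub _ hne)
  by_cases hcon : Constrained p (G ⧸ Cfsg.pPrimeCore p G)
  · by_cases hK0 : Cfsg.pPrimeCore p G = ⊥
    · -- `G` itself is constrained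
      have hconG : Constrained p G :=
        constrained_of_mulEquiv
          ((QuotientGroup.quotientMulEquivOfEq hK0).trans QuotientGroup.quotientBot) hcon
      obtain ⟨T, hT, hle⟩ := hsec.self hconG
      have hPS : Cfsg.pCore p G ≤ T := Cfsg.Agent.Lib.Helper76.pCore_le_sylow p hT.toSylowTop
      rw [familyControlsTransferIn_top_iff_le]
      refine ⟨T, hT, ?_⟩
      by_cases hSP : T ≤ Cfsg.pCore p G
      · exact (inf_le_inf_right _ hSP).trans hle
      · have hP0 : Cfsg.pCore p G ≠ ⊥ := by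
          intro h0
          apply hSP
          intro t _
          apply hconG
          rw [h0, Subgroup.mem_centralizer_iff]
          intro x hx
          have : x = 1 := hx
          rw [this, one_mul, mul_one]
        have H1 := IHquot (Cfsg.pCore p G) hP0
        have hK2 := inf_commutator_le_sup_of_quot h𝓦 hT.toSylowTop (Cfsg.pCore p G) hPS hPmax hSP H1 _
          (fun X _ hSN hne => K1 hT.toSylowTop X hSN hne)
        exact inf_commutator_le_of_sup T (Cfsg.pCore p G) _
          (biSup_focalTerm_le_commutator (indFam 𝓦 G) ⊤ T) hK2 hle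
    · exact familyControlsTransfer_of_quotient_pPrime h𝓦 _ hK (IHquot _ hK0)
  · obtain S : Sylow p G := Classical.arbitrary _
    have hPS : Cfsg.pCore p G ≤ (S : Subgroup G) := Cfsg.Agent.Lib.Helper76.pCore_le_sylow p S
    have hc : ¬ ((S : Subgroup G) ⊓ Subgroup.centralizer ((Cfsg.pCore p G : Subgroup G) : Set G) ≤
        Cfsg.pCore p G) :=
      fun hc => hcon (constrained_quotient_of_normal_centric S (Cfsg.pCore p G) hPS hc
        (Cfsg.pPrimeCore p G) hK hKmax)
    by_cases hP1 : Cfsg.pCore p G = ⊥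
    · -- `O_p(G) = 1`: all local subgroups are proper
      rw [familyControlsTransferIn_top_iff_le]
      refine ⟨(S : Subgroup G), sylIn_top S, ?_⟩
      refine focal_le_of_local S (indFam 𝓦 G) hcfG (⨆ W' ∈ indFam 𝓦 G, focalTerm W' ⊤ (S : Subgroup G))
        (fun W hW => le_iSup₂ (f := fun W (_ : W ∈ indFam 𝓦 G) => focalTerm W ⊤ (S : Subgroup G)) W hW)
        Set.univ ?_ ?_
      · intro Q hQ
        obtain ⟨g, hle, hfn⟩ := exists_fullyNormalized_cj S hQ
        exact ⟨cj g Q, trivial, ⟨g, rfl⟩, hle, hfn⟩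
      · intro U _ hUne hUS _
        apply IHsub
        intro htop
        have hUn : U.Normal := Subgroup.normalizer_eq_top_iff.mp htop
        have := hPmax U hUn (S.isPGroup'.to_le hUS)
        rw [hP1] at this
        exact hUne (le_bot_iff.mp this)
    · -- `O_p(G) ≠ 1` not centric
      have hStop : (S : Subgroup G) ≠ ⊤ := by
        intro htop
        apply hc
        refine inf_le_left.trans (hPmax _ ?_ S.isPGroup')
        rw [htop]
        infer_instance
      have hSD : ⁅(S : Subgroup G), (S : Subgroup G)⁆ ≤ ⨆ W' ∈ indFam 𝓦 G, focalTerm W' ⊤ (S : Subgroup G) := by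
        have h1 := inf_commutator_le_of_controls hcfG S (S : Subgroup G) le_rfl (IHsub _ hStop)
        exact (le_inf (Subgroup.commutator_le_self _) le_rfl).trans h1
      exact familyControlsTransfer_of_pQuot h𝓦 S (Cfsg.pCore p G) hPS hPmax hc hSD (IHquot _ hP1)
        (fun X _ _ hne => IHsub _ hne)

end Cfsg.Agent.Lib.Helper33
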