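/-
Helper33, modules SPW-[W-SCAL] and SPW-[W-INT] of helper39's project SPW (S2347, Weil representation), `_of`
forms: the statements of [W-LI] (`linearIndependent_weyl`) and [W-SPAN] (`span_weyl`) are hypotheses.
-/
import Mathlib
import Cfsg.Agent.Lib.Helper39.SPW.Defs
import Cfsg.Agent.Lib.Helper39.SPW.WRel
import Cfsg.Agent.Lib.Helper54.SkolemNoether

set_option autoImplicit false
set_option linter.unusedSectionVars false
set_option linter.unusedVariables false
set_option linter.style.haveILetI false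

namespace Cfsg.Agent.Lib.Helper33.SpwWInt

open Matrix Module Cfsg.Agent.Lib.Helper5 Cfsg.Agent.Lib.Helper39.SPW

variable {F : Type*} [Field F] [Fintype F] {n : ℕ}

/-- **[W-SCAL]**, with the statement of [W-SPAN] as a hypothesis -/
theorem scalar_of_commute_weyl_of (ψ : AddChar F ℂ)
    (hspan : Submodule.span ℂ (Set.range (fun v : Fin n ⊕ Fin n → F => weyl ψ v)) = ⊤)
    (X : Module.End ℂ (Fn n F)) (hX : ∀ v : Fin n ⊕ Fin n → F, X * weyl ψ v = weyl ψ v * X) :
    ∃ c : ℂ, X = c • (1 : Module.End ℂ (Fn n F)) := by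
  have hall : ∀ Y : Module.End ℂ (Fn n F), X * Y = Y * X := by
    intro Y
    have hY : Y ∈ Submodule.span ℂ (Set.range (fun v : Fin n ⊕ Fin n → F => weyl ψ v)) := by
      rw [hspan]
      exact Submodule.mem_top
    induction hY using Submodule.span_induction with
    | mem y hy =>
      obtain ⟨v, rfl⟩ := hy
      exact hX v
    | zero => rw [mul_zero, zero_mul]
    | add y z _ _ hy hz => rw [mul_add, add_mul, hy, hz]
    | smul c y _ hy => rw [mul_smul_comm, smul_mul_assoc, hy]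
  have hc : X ∈ Subalgebra.center ℂ (Module.End ℂ (Fn n F)) := by
    rw [Subalgebra.mem_center_iff]
    intro Y
    exact (hall Y).symm
  rw [Algebra.IsCentral.center_eq_bot, Algebra.mem_bot] at hc
  obtain ⟨c, hc⟩ := hc
  refine ⟨c, ?_⟩
  rw [← hc, Algebra.algebraMap_eq_smul_one]

/-- **[W-INT]**, with the statements of [W-LI] and [W-SPAN] as hypotheses -/
theorem Intw_nonempty_of (h2 : (2 : F) ≠ 0) (ψ : AddChar F ℂ)
    (hli : LinearIndependent ℂ (fun v : Fin n ⊕ Fin n → F => weyl ψ v))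
    (hspan : Submodule.span ℂ (Set.range (fun v : Fin n ⊕ Fin n → F => weyl ψ v)) = ⊤)
    (g : Matrix.symplecticGroup (Fin n) F) : (Intw ψ g).Nonempty := by
  classical
  set A := Module.End ℂ (Fn n F) with hA
  set gm : Matrix (Fin n ⊕ Fin n) (Fin n ⊕ Fin n) F :=
    (g : Matrix (Fin n ⊕ Fin n) (Fin n ⊕ Fin n) F) with hgm
  have hform : ∀ u v, sympForm (Fin n) F (gm *ᵥ u) (gm *ᵥ v) = sympForm (Fin n) F u v :=
    mem_symplecticGroup_iff_form.mp g.2
  set b : Basis (Fin n ⊕ Fin n → F) ℂ A := Basis.mk hli (by rw [hspan]) with hb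
  have hbv : ∀ v, b v = weyl ψ v := fun v => by rw [hb, Basis.mk_apply]
  set φ₀ : A →ₗ[ℂ] A := b.constr ℂ (fun v => weyl ψ (gm *ᵥ v)) with hφ₀
  have hφw : ∀ v, φ₀ (weyl ψ v) = weyl ψ (gm *ᵥ v) := by
    intro v
    rw [← hbv v, hφ₀, Basis.constr_basis]
  have hone : φ₀ 1 = 1 := by
    rw [← weyl_zero (n := n) ψ, hφw, Matrix.mulVec_zero]
  have hmul : ∀ x y : A, φ₀ (x * y) = φ₀ x * φ₀ y := by
    have key : (LinearMap.mul ℂ A).compr₂ φ₀ = (LinearMap.mul ℂ A).compl₁₂ φ₀ φ₀ := by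
      apply b.ext
      intro v
      apply b.ext
      intro w
      simp only [LinearMap.compr₂_apply, LinearMap.mul_apply', LinearMap.compl₁₂_apply, hbv]
      rw [weyl_mul h2, map_smul, hφw, hφw, hφw, weyl_mul h2, hform, Matrix.mulVec_add]
    intro x y
    have := LinearMap.congr_fun (LinearMap.congr_fun key x) y
    simpa only [LinearMap.compr₂_apply, LinearMap.mul_apply', LinearMap.compl₁₂_apply] using this
  set φ : A →ₐ[ℂ] A := AlgHom.ofLinearMap φ₀ hone hmul with hφ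
  have hφapp : ∀ x, φ x = φ₀ x := fun x => rfl
  set e : A ≃ₐ[ℂ] Matrix (Fin n → F) (Fin n → F) ℂ := LinearMap.toMatrixAlgEquiv' with he
  set φ' : Matrix (Fin n → F) (Fin n → F) ℂ →ₐ[ℂ] Matrix (Fin n → F) (Fin n → F) ℂ :=
    (e.toAlgHom.comp φ).comp e.symm.toAlgHom with hφ'
  obtain ⟨T, hT⟩ := Cfsg.Agent.Lib.Helper54.SkolemNoether.exists_conj_of_algHom φ'
  -- back to endomorphisms
  set T₀ : A := e.symm (T : Matrix _ _ ℂ) with hT₀
  set T₁ : A := e.symm ((T⁻¹ : (Matrix (Fin n → F) (Fin n → F) ℂ)ˣ) : Matrix _ _ ℂ) with hT₁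
  have h01 : T₀ * T₁ = 1 := by
    rw [hT₀, hT₁, ← map_mul, Units.mul_inv, map_one]
  have h10 : T₁ * T₀ = 1 := by
    rw [hT₀, hT₁, ← map_mul, Units.inv_mul, map_one]
  have hconj : ∀ x : A, φ x = T₀ * x * T₁ := by
    intro x
    have h1 := hT (e x)
    have h2 : φ' (e x) = e (φ x) := by
      rw [hφ']
      simp
    rw [h2] at h1
    apply e.injective
    rw [h1, map_mul, map_mul, hT₀, hT₁, AlgEquiv.apply_symm_apply, AlgEquiv.apply_symm_apply]
  refine ⟨T₀, ⟨⟨T₀, T₁, h01, h10⟩, rfl⟩, ?_⟩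
  intro v
  have h3 := hconj (weyl ψ v)
  rw [hφapp, hφw] at h3
  rw [h3, mul_assoc, mul_assoc, h10, mul_one]

end Cfsg.Agent.Lib.Helper33.SpwWInt
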