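/-
Helper33, modules SPW-[W-SCAL] and SPW-[W-INT] of helper39's project SPW (S2347, Weil representation), EXACT
sheet statements.
-/
import Mathlib
import Cfsg.Agent.Lib.Helper33.SpwWInt
import Cfsg.Agent.Lib.Helper61.SpwWLI
import Cfsg.Agent.Lib.Helper95.SpwWSpan

set_option autoImplicit false

namespace Cfsg.Agent.Lib.Helper39.SPW

open Matrix Module Cfsg.Agent.Lib.Helper5

variable {F : Type*} [Field F] [Fintype F] {n : ℕ}

/-- **[W-SCAL]** an operator commuting with all Weyl operators is a scalar -/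
theorem scalar_of_commute_weyl (h2 : (2 : F) ≠ 0) (ψ : AddChar F ℂ) (hψ : ψ ≠ 1)
    (X : Module.End ℂ (Fn n F)) (hX : ∀ v : Fin n ⊕ Fin n → F, X * weyl ψ v = weyl ψ v * X) :
    ∃ c : ℂ, X = c • (1 : Module.End ℂ (Fn n F)) :=
  Cfsg.Agent.Lib.Helper33.SpwWInt.scalar_of_commute_weyl_of ψ (span_weyl h2 ψ hψ) X hX

/-- **[W-INT]** every symplectic matrix has an intertwiner (Skolem–Noether) -/
theorem Intw_nonempty (h2 : (2 : F) ≠ 0) (ψ : AddChar F ℂ) (hψ : ψ ≠ 1)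
    (g : Matrix.symplecticGroup (Fin n) F) : (Intw ψ g).Nonempty :=
  Cfsg.Agent.Lib.Helper33.SpwWInt.Intw_nonempty_of h2 ψ (linearIndependent_weyl h2 ψ hψ)
    (span_weyl h2 ψ hψ) g

end Cfsg.Agent.Lib.Helper39.SPW
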