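/-
helper33: S5707 module [GRAM] (helper99's sheet): the Gram matrix `c • J^{⊗t}` and its
interaction with the operators `op i N` and with pure tensors.
-/
import Mathlib
import Cfsg.Prelude.Def_GeometricClasses
import Cfsg.Agent.Lib.Helper99.TWDefs
import Cfsg.Agent.Lib.Helper11.TWOpA
import Cfsg.Agent.Lib.Helper11.TWOpB

set_option autoImplicit false
set_option linter.unusedSectionVars false

namespace Cfsg.Agent.Lib.Helper33.TW

open Cfsg.Agent.Lib.Helper99.TW
open scoped Matrix
open Cfsg.Agent.Lib.Helper11.TW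

section op
variable {F : Type*} [Field F] {k t : ℕ}

/-- [GRAM] -/
theorem gram_eq_smul_ptM (c : F) : gram k t c = c • ptM (fun _ => Jm k F) := by
  ext a b
  rfl

/-- [GRAM] -/
theorem gram_apply (c : F) (a b : Idx k t) :
    gram k t c a b = if b = bar a then c else 0 := by
  unfold gram Jm bar
  rw [Finset.prod_ite_zero]
  simp only [Finset.mem_univ, true_implies, Finset.prod_const_one]
  by_cases h : b = fun i => Fin.rev (a i)
  · rw [if_pos h, if_pos (fun i => congrFun h i), mul_one]
  · rw [if_neg h, if_neg (fun h' => h (funext h')), mul_zero]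

/-- [GRAM] -/
theorem op_gram (i : Fin t) (N N' : Matrix (Fin k) (Fin k) F) (c : F)
    (h : Nᵀ * Jm k F = Jm k F * N') : (op i N)ᵀ * gram k t c = gram k t c * op i N' := by
  rw [gram_eq_smul_ptM, op_transpose, Matrix.mul_smul, Matrix.smul_mul]
  congr 1
  exact (ptM_op (fun _ => Jm k F) i N' Nᵀ h.symm).symm

/-- an entry of `op i X * ptM gs` -/
theorem op_mul_ptM_apply (i : Fin t) (X : Matrix (Fin k) (Fin k) F)
    (gs : Fin t → Matrix (Fin k) (Fin k) F) (a b : Idx k t) :
    (op i X * ptM gs) a b = (X * gs i) (a i) (b i) * ∏ l ∈ ({i} : Finset (Fin t))ᶜ, gs l (a l) (b l) := by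
  rw [Matrix.mul_apply]
  have h1 : ∀ d : Idx k t, op i X a d * ptM gs d b =
      if (∀ j, j ≠ i → d j = a j) then X (a i) (d i) * ptM gs d b else 0 := by
    intro d
    unfold op
    by_cases hd : ∀ j, j ≠ i → d j = a j
    · rw [if_pos hd, if_pos (fun j hj => (hd j hj).symm)]
    · rw [if_neg hd, if_neg (fun h' => hd (fun j hj => (h' j hj).symm)), zero_mul]
  rw [Finset.sum_congr rfl (fun d _ => h1 d), sum_agree i a (fun d => X (a i) (d i) * ptM gs d b)]
  rw [Matrix.mul_apply, Finset.sum_mul]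
  apply Finset.sum_congr rfl
  intro s _
  unfold ptM
  rw [Fintype.prod_eq_mul_prod_compl i, Function.update_self, mul_assoc]
  congr 2
  apply Finset.prod_congr rfl
  intro l hl
  rw [Finset.mem_compl, Finset.mem_singleton] at hl
  rw [Function.update_of_ne hl]

/-- an entry of `ptM gs * op i X` -/
theorem ptM_mul_op_apply (i : Fin t) (X : Matrix (Fin k) (Fin k) F)
    (gs : Fin t → Matrix (Fin k) (Fin k) F) (a b : Idx k t) :
    (ptM gs * op i X) a b = (gs i * X) (a i) (b i) * ∏ l ∈ ({i} : Finset (Fin t))ᶜ, gs l (a l) (b l) := by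
  rw [Matrix.mul_apply]
  have h1 : ∀ d : Idx k t, ptM gs a d * op i X d b =
      if (∀ j, j ≠ i → d j = b j) then ptM gs a d * X (d i) (b i) else 0 := by
    intro d
    unfold op
    by_cases hd : ∀ j, j ≠ i → d j = b j
    · rw [if_pos hd, if_pos hd]
    · rw [if_neg hd, if_neg hd, mul_zero]
  rw [Finset.sum_congr rfl (fun d _ => h1 d), sum_agree i b (fun d => ptM gs a d * X (d i) (b i))]
  rw [Matrix.mul_apply, Finset.sum_mul]
  apply Finset.sum_congr rfl
  intro s _
  unfold ptM
  rw [Fintype.prod_eq_mul_prod_compl i, Function.update_self]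
  have : ∏ l ∈ ({i} : Finset (Fin t))ᶜ, gs l (a l) (Function.update b i s l) =
      ∏ l ∈ ({i} : Finset (Fin t))ᶜ, gs l (a l) (b l) := by
    apply Finset.prod_congr rfl
    intro l hl
    rw [Finset.mem_compl, Finset.mem_singleton] at hl
    rw [Function.update_of_ne hl]
  rw [this]
  ring

/-- [GRAM] -/
theorem op_gram_conv (i : Fin t) (N N' : Matrix (Fin k) (Fin k) F) (c : F) (hc : c ≠ 0)
    (h : (op i N)ᵀ * gram k t c = gram k t c * op i N') : Nᵀ * Jm k F = Jm k F * N' := by
  rw [gram_eq_smul_ptM, op_transpose, Matrix.mul_smul, Matrix.smul_mul] at h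
  ext r s
  -- evaluate at `a = const r`, `b = update (bar a) i s`
  set a : Idx k t := fun _ => r with ha
  set b : Idx k t := Function.update (bar a) i s with hb
  have h1 := congrFun (congrFun h a) b
  rw [Matrix.smul_apply, Matrix.smul_apply, op_mul_ptM_apply, ptM_mul_op_apply, smul_eq_mul,
    smul_eq_mul] at h1
  have hprod : ∏ l ∈ ({i} : Finset (Fin t))ᶜ, Jm k F (a l) (b l) = 1 := by
    apply Finset.prod_eq_one
    intro l hl
    rw [Finset.mem_compl, Finset.mem_singleton] at hl
    rw [hb, Function.update_of_ne hl]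
    unfold Jm bar
    rw [if_pos rfl]
  rw [hprod, mul_one, mul_one] at h1
  have h2 := mul_left_cancel₀ hc h1
  have hai : a i = r := rfl
  have hbi : b i = s := by rw [hb, Function.update_self]
  rw [hai, hbi] at h2
  exact h2

theorem pureV_dotProduct (xs zs : Fin t → Fin k → F) :
    pureV xs ⬝ᵥ pureV zs = ∏ i, (xs i ⬝ᵥ zs i) := by
  unfold pureV dotProduct
  rw [Finset.prod_univ_sum]
  rw [Fintype.piFinset_univ]
  apply Finset.sum_congr rfl
  intro a _
  rw [Finset.prod_mul_distrib]

/-- [GRAM] -/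
theorem gram_pure (c : F) (xs ys : Fin t → Fin k → F) :
    pureV xs ⬝ᵥ (gram k t c *ᵥ pureV ys) = c * ∏ i, (xs i ⬝ᵥ (Jm k F *ᵥ ys i)) := by
  rw [gram_eq_smul_ptM, Matrix.smul_mulVec, dotProduct_smul, ptM_mulVec_pureV, pureV_dotProduct,
    smul_eq_mul]

end op

end Cfsg.Agent.Lib.Helper33.TW
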