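/-
helper33: S5707 module [PURE] (helper99's sheet): the standard tensor-wreath group maps pure
tensors to pure tensors, and the sum of two basis vectors differing in two places is not pure.
-/
import Mathlib
import Cfsg.Prelude.Def_GeometricClasses
import Cfsg.Agent.Lib.Helper99.TWDefs
import Cfsg.Agent.Lib.Helper11.TWOpA
import Cfsg.Agent.Lib.Helper11.TWOpB

set_option autoImplicit false
set_option linter.unusedSectionVars false

namespace Cfsg.Agent.Lib.Helper33.TW

open Cfsg.Agent.Lib.Helper99.TW Matrix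
open Cfsg.Agent.Lib.Helper11.TW

section op
variable {F : Type*} [Field F] {k t : ℕ}

/-- [PURE] -/
theorem single_eq_pureV (a : Idx k t) :
    (Pi.single a 1 : Idx k t → F) = pureV (fun i => Pi.single (a i) 1) := by
  funext b
  unfold pureV
  simp only [Pi.single_apply]
  rw [Finset.prod_ite_zero]
  simp only [Finset.mem_univ, true_implies, Finset.prod_const_one]
  congr 1
  exact propext funext_iff

/-- the property propagated through the closure -/
def PureBoth (g : GL (Idx k t) F) : Prop :=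
  (∀ xs : Fin t → Fin k → F, ∃ ys : Fin t → Fin k → F,
    (g : Matrix (Idx k t) (Idx k t) F) *ᵥ pureV xs = pureV ys) ∧
  (∀ xs : Fin t → Fin k → F, ∃ ys : Fin t → Fin k → F,
    ((g⁻¹ : GL (Idx k t) F) : Matrix (Idx k t) (Idx k t) F) *ᵥ pureV xs = pureV ys)

theorem pureBoth_of_pure (g : GL (Idx k t) F) (hg : Cfsg.Geo.IsPureTensor k t g) :
    PureBoth g := by
  obtain ⟨gs, hgs⟩ := hg
  have hgM : (g : Matrix (Idx k t) (Idx k t) F) =
      ptM (fun i => (gs i : Matrix (Fin k) (Fin k) F)) := by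
    ext x y
    exact hgs x y
  have hinv : ((g⁻¹ : GL (Idx k t) F) : Matrix (Idx k t) (Idx k t) F) =
      ptM (fun i => (((gs i)⁻¹ : GL (Fin k) F) : Matrix (Fin k) (Fin k) F)) := by
    apply Units.inv_eq_of_mul_eq_one_right
    rw [hgM, ptM_mul]
    have : (fun i => (gs i : Matrix (Fin k) (Fin k) F) *
        (((gs i)⁻¹ : GL (Fin k) F) : Matrix (Fin k) (Fin k) F)) =
        fun _ : Fin t => (1 : Matrix (Fin k) (Fin k) F) := by
      funext i
      rw [← Units.val_mul, mul_inv_cancel, Units.val_one]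
    rw [this, ptM_one]
  refine ⟨fun xs => ?_, fun xs => ?_⟩
  · rw [hgM, ptM_mulVec_pureV]
    exact ⟨_, rfl⟩
  · rw [hinv, ptM_mulVec_pureV]
    exact ⟨_, rfl⟩

theorem pureBoth_of_perm (g : GL (Idx k t) F) (hg : Cfsg.Geo.IsFactorPermutation k t g) :
    PureBoth g := by
  obtain ⟨σ, hσ⟩ := hg
  have hgM : (g : Matrix (Idx k t) (Idx k t) F) = pmM σ := by
    ext x y
    exact hσ x y
  have hinv : ((g⁻¹ : GL (Idx k t) F) : Matrix (Idx k t) (Idx k t) F) = pmM σ⁻¹ := by
    apply Units.inv_eq_of_mul_eq_one_right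
    rw [hgM, pmM_mul, mul_inv_cancel, pmM_one]
  refine ⟨fun xs => ?_, fun xs => ?_⟩
  · rw [hgM, pmM_mulVec_pureV]
    exact ⟨_, rfl⟩
  · rw [hinv, pmM_mulVec_pureV]
    exact ⟨_, rfl⟩

theorem pureBoth_mem (g : GL (Idx k t) F) (hg : g ∈ Cfsg.Geo.tensorWreathStandard k t F) :
    PureBoth g := by
  unfold Cfsg.Geo.tensorWreathStandard at hg
  induction hg using Subgroup.closure_induction with
  | mem x hx =>
    rcases hx with hx | hx
    · exact pureBoth_of_pure x hx
    · exact pureBoth_of_perm x hx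
  | one =>
    refine ⟨fun xs => ⟨xs, ?_⟩, fun xs => ⟨xs, ?_⟩⟩
    · simp
    · simp
  | mul x y _ _ hx hy =>
    refine ⟨fun xs => ?_, fun xs => ?_⟩
    · obtain ⟨ys, hys⟩ := hy.1 xs
      obtain ⟨zs, hzs⟩ := hx.1 ys
      exact ⟨zs, by rw [Units.val_mul, ← Matrix.mulVec_mulVec, hys, hzs]⟩
    · obtain ⟨ys, hys⟩ := hx.2 xs
      obtain ⟨zs, hzs⟩ := hy.2 ys
      exact ⟨zs, by rw [_root_.mul_inv_rev, Units.val_mul, ← Matrix.mulVec_mulVec, hys, hzs]⟩
  | inv x _ hx =>
    refine ⟨hx.2, ?_⟩
    rw [inv_inv]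
    exact hx.1

/-- [PURE] -/
theorem pure_of_mem (g : GL (Idx k t) F) (hg : g ∈ Cfsg.Geo.tensorWreathStandard k t F)
    (xs : Fin t → Fin k → F) :
    ∃ ys : Fin t → Fin k → F, (g : Matrix (Idx k t) (Idx k t) F) *ᵥ pureV xs = pureV ys :=
  (pureBoth_mem g hg).1 xs

theorem pureV_exchange (xs : Fin t → Fin k → F) (b b' : Idx k t) (i : Fin t) :
    pureV xs b * pureV xs b' =
      pureV xs (Function.update b i (b' i)) * pureV xs (Function.update b' i (b i)) := by
  unfold pureV
  rw [Fintype.prod_eq_mul_prod_compl i (fun l => xs l (b l)),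
    Fintype.prod_eq_mul_prod_compl i (fun l => xs l (b' l)),
    Fintype.prod_eq_mul_prod_compl i (fun l => xs l (Function.update b i (b' i) l)),
    Fintype.prod_eq_mul_prod_compl i (fun l => xs l (Function.update b' i (b i) l))]
  have h1 : ∏ l ∈ ({i} : Finset (Fin t))ᶜ, xs l (Function.update b i (b' i) l) =
      ∏ l ∈ ({i} : Finset (Fin t))ᶜ, xs l (b l) := by
    apply Finset.prod_congr rfl
    intro l hl
    rw [Finset.mem_compl, Finset.mem_singleton] at hl
    rw [Function.update_of_ne hl]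
  have h2 : ∏ l ∈ ({i} : Finset (Fin t))ᶜ, xs l (Function.update b' i (b i) l) =
      ∏ l ∈ ({i} : Finset (Fin t))ᶜ, xs l (b' l) := by
    apply Finset.prod_congr rfl
    intro l hl
    rw [Finset.mem_compl, Finset.mem_singleton] at hl
    rw [Function.update_of_ne hl]
  rw [h1, h2, Function.update_self, Function.update_self]
  ring

/-- [PURE] -/
theorem not_pure_add (a a' : Idx k t) (i j : Fin t) (hij : i ≠ j) (hi : a i ≠ a' i)
    (hj : a j ≠ a' j) :
    ¬ ∃ xs : Fin t → Fin k → F, (Pi.single a 1 + Pi.single a' 1 : Idx k t → F) = pureV xs := by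
  rintro ⟨xs, hxs⟩
  have haa' : a ≠ a' := fun h => hi (by rw [h])
  have hv : ∀ b : Idx k t, pureV xs b = (Pi.single a 1 + Pi.single a' 1 : Idx k t → F) b := by
    intro b; rw [hxs]
  have h1 : pureV xs a = 1 := by
    rw [hv, Pi.add_apply, Pi.single_eq_same, Pi.single_eq_of_ne haa', add_zero]
  have h2 : pureV xs a' = 1 := by
    rw [hv, Pi.add_apply, Pi.single_eq_same, Pi.single_eq_of_ne haa'.symm, zero_add]
  have hne1 : Function.update a i (a' i) ≠ a := by
    intro h
    have := congrFun h i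
    rw [Function.update_self] at this
    exact hi this.symm
  have hne2 : Function.update a i (a' i) ≠ a' := by
    intro h
    have := congrFun h j
    rw [Function.update_of_ne hij.symm] at this
    exact hj this
  have h3 : pureV xs (Function.update a i (a' i)) = 0 := by
    rw [hv, Pi.add_apply, Pi.single_eq_of_ne hne1, Pi.single_eq_of_ne hne2, add_zero]
  have := pureV_exchange xs a a' i
  rw [h1, h2, h3, zero_mul, one_mul] at this
  exact one_ne_zero this

end op

end Cfsg.Agent.Lib.Helper33.TW
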