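/-
helper33: S5707 module [TRACK] (helper99's sheet): every element of the standard tensor-wreath
group conjugates the operators `op i N` to operators `op (σ i) (gs i * N * (gs i)⁻¹)`.
-/
import Mathlib
import Cfsg.Prelude.Def_GeometricClasses
import Cfsg.Agent.Lib.Helper99.TWDefs
import Cfsg.Agent.Lib.Helper11.TWOpA
import Cfsg.Agent.Lib.Helper11.TWOpB

set_option autoImplicit false
set_option linter.unusedSectionVars false

namespace Cfsg.Agent.Lib.Helper33.TW

open Cfsg.Agent.Lib.Helper99.TW Matrix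
open Cfsg.Agent.Lib.Helper11.TW

section cl
variable {F : Type*} [Field F] {k : ℕ} [NeZero k] {t : ℕ}

theorem track_of_pure (g : GL (Idx k t) F) (hg : Cfsg.Geo.IsPureTensor k t g) : Track g := by
  obtain ⟨gs, hgs⟩ := hg
  have hgM : (g : Matrix (Idx k t) (Idx k t) F) =
      ptM (fun i => (gs i : Matrix (Fin k) (Fin k) F)) := by
    ext x y
    exact hgs x y
  refine ⟨1, gs, fun i N => ?_⟩
  have h1 : (gs i : Matrix (Fin k) (Fin k) F) * N =
      ((gs i : Matrix (Fin k) (Fin k) F) * N *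
        (((gs i)⁻¹ : GL (Fin k) F) : Matrix (Fin k) (Fin k) F)) *
          (gs i : Matrix (Fin k) (Fin k) F) := by
    rw [mul_assoc, ← Units.val_mul, inv_mul_cancel, Units.val_one, mul_one]
  have h2 := ptM_op (fun i => (gs i : Matrix (Fin k) (Fin k) F)) i N _ h1
  rw [← hgM] at h2
  rw [h2, mul_assoc, ← Units.val_mul, mul_inv_cancel, Units.val_one, mul_one]
  rfl

theorem track_of_perm (g : GL (Idx k t) F) (hg : Cfsg.Geo.IsFactorPermutation k t g) :
    Track g := by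
  obtain ⟨σ, hσ⟩ := hg
  have hgM : (g : Matrix (Idx k t) (Idx k t) F) = pmM σ := by
    ext x y
    exact hσ x y
  refine ⟨σ, fun _ => 1, fun i N => ?_⟩
  have h2 := pmM_op (F := F) (k := k) σ i N
  rw [← hgM] at h2
  rw [h2, mul_assoc, ← Units.val_mul, mul_inv_cancel, Units.val_one, mul_one]
  simp

theorem track_one : Track (1 : GL (Idx k t) F) := by
  refine ⟨1, fun _ => 1, fun i N => ?_⟩
  simp

theorem track_mul (x y : GL (Idx k t) F) (hx : Track x) (hy : Track y) : Track (x * y) := by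
  obtain ⟨σ, gs, h⟩ := hx
  obtain ⟨σ', gs', h'⟩ := hy
  refine ⟨σ * σ', fun i => gs (σ' i) * gs' i, fun i N => ?_⟩
  have e1 : ((x * y : GL (Idx k t) F) : Matrix (Idx k t) (Idx k t) F) * op i N *
      (((x * y)⁻¹ : GL (Idx k t) F) : Matrix (Idx k t) (Idx k t) F) =
      (x : Matrix (Idx k t) (Idx k t) F) * ((y : Matrix (Idx k t) (Idx k t) F) * op i N *
        ((y⁻¹ : GL (Idx k t) F) : Matrix (Idx k t) (Idx k t) F)) *
        ((x⁻¹ : GL (Idx k t) F) : Matrix (Idx k t) (Idx k t) F) := by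
    rw [_root_.mul_inv_rev, Units.val_mul, Units.val_mul]
    simp only [mul_assoc]
  rw [e1, h' i N, h (σ' i)]
  rw [Equiv.Perm.mul_apply, _root_.mul_inv_rev, Units.val_mul, Units.val_mul]
  simp only [mul_assoc]

theorem track_inv (x : GL (Idx k t) F) (hx : Track x) : Track x⁻¹ := by
  obtain ⟨σ, gs, h⟩ := hx
  refine ⟨σ⁻¹, fun j => (gs (σ⁻¹ j))⁻¹, fun j M => ?_⟩
  have h1 := h (σ⁻¹ j) ((((gs (σ⁻¹ j))⁻¹ : GL (Fin k) F) : Matrix (Fin k) (Fin k) F) * M *
    (gs (σ⁻¹ j) : Matrix (Fin k) (Fin k) F))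
  have h2 : (gs (σ⁻¹ j) : Matrix (Fin k) (Fin k) F) *
      ((((gs (σ⁻¹ j))⁻¹ : GL (Fin k) F) : Matrix (Fin k) (Fin k) F) * M *
        (gs (σ⁻¹ j) : Matrix (Fin k) (Fin k) F)) *
      (((gs (σ⁻¹ j))⁻¹ : GL (Fin k) F) : Matrix (Fin k) (Fin k) F) = M := by
    rw [mul_assoc, mul_assoc, ← Units.val_mul, mul_inv_cancel, Units.val_one, mul_one,
      ← mul_assoc, ← Units.val_mul, mul_inv_cancel, Units.val_one, one_mul]
  rw [h2, Equiv.apply_symm_apply σ j |> fun e => (show σ (σ⁻¹ j) = j from e)] at h1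
  show ((x⁻¹ : GL (Idx k t) F) : Matrix (Idx k t) (Idx k t) F) * op j M *
      (((x⁻¹)⁻¹ : GL (Idx k t) F) : Matrix (Idx k t) (Idx k t) F) =
    op (σ⁻¹ j) ((((gs (σ⁻¹ j))⁻¹ : GL (Fin k) F) : Matrix (Fin k) (Fin k) F) * M *
      ((((gs (σ⁻¹ j))⁻¹)⁻¹ : GL (Fin k) F) : Matrix (Fin k) (Fin k) F))
  rw [inv_inv, inv_inv, ← h1]
  simp only [mul_assoc]
  rw [← mul_assoc (((x⁻¹ : GL (Idx k t) F) : Matrix (Idx k t) (Idx k t) F)), ← Units.val_mul,
    inv_mul_cancel, Units.val_one, one_mul]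
  simp only [mul_one]

/-- [TRACK] -/
theorem track_of_mem (g : GL (Idx k t) F) (hg : g ∈ Cfsg.Geo.tensorWreathStandard k t F) :
    Track g := by
  unfold Cfsg.Geo.tensorWreathStandard at hg
  induction hg using Subgroup.closure_induction with
  | mem x hx =>
    rcases hx with hx | hx
    · exact track_of_pure x hx
    · exact track_of_perm x hx
  | one => exact track_one
  | mul x y _ _ hx hy => exact track_mul x y hx hy
  | inv x _ hx => exact track_inv x hx

end cl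

end Cfsg.Agent.Lib.Helper33.TW
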