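import Cfsg.Agent.Lib.Helper33.WellPlaced

/-!
# Local-to-global control of transfer by conjugacy functors (helper33 library)
-/

set_option autoImplicit false

namespace Cfsg.Agent.Lib.Helper33

open scoped commutatorElement

variable {G : Type*} [Group G] {p : ℕ}

/-- `T ∩ (N_H(W(T)))'` -/
def focalTerm (W : Subgroup G → Subgroup G) (H T : Subgroup G) : Subgroup G :=
  T ⊓ ⁅H ⊓ Subgroup.normalizer ((W T : Subgroup G) : Set G), H ⊓ Subgroup.normalizer ((W T : Subgroup G) : Set G)⁆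

theorem familyControlsTransferIn_iff {𝓦 : Set (Subgroup G → Subgroup G)} {H : Subgroup G} :
    Cfsg.FamilyControlsTransferIn p 𝓦 H ↔
      ∃ T : Subgroup G, SylIn p T H ∧ T ⊓ ⁅H, H⁆ = ⨆ W ∈ 𝓦, focalTerm W H T := by
  constructor
  · rintro ⟨T, h1, h2, h3, h4⟩
    exact ⟨T, ⟨h1, h2, h3⟩, h4⟩
  · rintro ⟨T, ⟨h1, h2, h3⟩, h4⟩
    exact ⟨T, h1, h2, h3, h4⟩

theorem cj_focalTerm {W : Subgroup G → Subgroup G} (hW : Cfsg.IsConjugacyFunctor p W) {H T : Subgroup G}
    (hT : IsPGroup p T) {u : G} (hu : u ∈ H) : cj u (focalTerm W H T) = focalTerm W H (cj u T) := by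
  unfold focalTerm
  rw [cj_inf, cj_commutator, cj_inf, cj_normalizer, ← cf_cj hW hT, cj_eq_self_of_mem hu]

theorem cj_biSup {ι : Type*} (u : G) (s : Set ι) (f : ι → Subgroup G) :
    cj u (⨆ i ∈ s, f i) = ⨆ i ∈ s, cj u (f i) := by
  unfold cj
  rw [Subgroup.map_iSup]
  congr 1
  funext i
  rw [Subgroup.map_iSup]

/-- control of transfer in `H` holds with respect to every Sylow `p`-subgroup of `H` -/
theorem focal_eq_of_familyControlsTransfer [Fact p.Prime] [Finite G]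
    {𝓦 : Set (Subgroup G → Subgroup G)} (h𝓦 : ∀ W ∈ 𝓦, Cfsg.IsConjugacyFunctor p W) {H : Subgroup G}
    (hctl : Cfsg.FamilyControlsTransferIn p 𝓦 H) {T : Subgroup G} (hT : SylIn p T H) :
    T ⊓ ⁅H, H⁆ = ⨆ W ∈ 𝓦, focalTerm W H T := by
  obtain ⟨T₀, hT₀, heq⟩ := familyControlsTransferIn_iff.mp hctl
  obtain ⟨u, hu, huT⟩ := hT.exists_cj_eq hT₀
  have h1 := congrArg (cj u) heq
  rw [cj_inf, cj_commutator, cj_eq_self_of_mem hu, huT, cj_biSup] at h1
  rw [h1]
  apply iSup_congr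
  intro W
  apply iSup_congr
  intro hW
  rw [cj_focalTerm (h𝓦 W hW) hT₀.isPGroup hu, huT]

section main

variable [Fact p.Prime] [Finite G] (S : Sylow p G) (𝓦 : Set (Subgroup G → Subgroup G))
  (h𝓦 : ∀ W ∈ 𝓦, Cfsg.IsConjugacyFunctor p W)

local notation "NS(" V ")" => ((S : Subgroup G) ⊓ Subgroup.normalizer ((V : Subgroup G) : Set G) : Subgroup G)

local notation "NG(" V ")" => (Subgroup.normalizer ((V : Subgroup G) : Set G) : Subgroup G)

variable (D : Subgroup G) (hD : ∀ W ∈ 𝓦, focalTerm W ⊤ (S : Subgroup G) ≤ D)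

include h𝓦 hD in
/-- conversion of a term `N_S(X) ∩ (N_{N(X)}(W(N_S(X))))'` -/
theorem focalTerm_le_of (X : Subgroup G) (hXS : X ≤ (S : Subgroup G)) (hXne : X ≠ ⊥)
    (hL : ∀ V : Subgroup G, V ≤ (S : Subgroup G) → V ≠ ⊥ → Nat.card NS(X) < Nat.card NS(V) →
      NS(V) ⊓ ⁅NG(V), NG(V)⁆ ≤ D) :
    ∀ W ∈ 𝓦, focalTerm W NG(X) NS(X) ≤ D := by
  intro W hW
  have hNSp : IsPGroup p NS(X) := S.isPGroup'.to_le inf_le_left
  by_cases hS : NS(X) = (S : Subgroup G)
  · refine le_trans ?_ (hD W hW)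
    unfold focalTerm
    rw [hS]
    exact inf_le_inf_left _ (Subgroup.commutator_mono (inf_le_inf_right _ le_top) (inf_le_inf_right _ le_top))
  · set V := W NS(X) with hV
    have hVle : V ≤ NS(X) := cf_le (h𝓦 W hW) hNSp
    have hVS : V ≤ (S : Subgroup G) := hVle.trans inf_le_left
    have hNSne : NS(X) ≠ ⊥ := by
      intro h
      apply hXne
      have : X ≤ NS(X) := le_inf hXS Subgroup.le_normalizer
      rw [h] at this
      exact le_bot_iff.mp this
    have hVne : V ≠ ⊥ := cf_ne_bot (h𝓦 W hW) hNSp hNSne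
    have hNN : NS(NS(X)) ≤ NS(V) :=
      le_inf inf_le_left (inf_le_right.trans (cf_normalizer_le (h𝓦 W hW) hNSp))
    have hcard : Nat.card NS(X) < Nat.card NS(V) :=
      lt_of_lt_of_le (card_lt_card_normalizer_inf S inf_le_left hS) (Subgroup.card_le_of_le hNN)
    have hXV : NS(X) ≤ NS(V) := (le_inf inf_le_left Subgroup.le_normalizer).trans hNN
    refine le_trans ?_ (hL V hVS hVne hcard)
    unfold focalTerm
    exact inf_le_inf hXV (Subgroup.commutator_mono inf_le_right inf_le_right)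

variable (𝓕 : Set (Subgroup G))
  (h𝓕 : ∀ P : Subgroup G, P ≤ (S : Subgroup G) →
    ∃ U ∈ 𝓕, (∃ g : G, cj g P = U) ∧ U ≤ (S : Subgroup G) ∧ FullyNormalized p (S : Subgroup G) U)
  (hloc : ∀ U ∈ 𝓕, U ≠ ⊥ → U ≤ (S : Subgroup G) → FullyNormalized p (S : Subgroup G) U →
    Cfsg.FamilyControlsTransferIn p 𝓦 (Subgroup.normalizer (U : Set G)))

include h𝓦 hD h𝓕 hloc in
theorem claim_L_transfer (c₀ : ℕ)
    (IH : ∀ P : Subgroup G, P ≤ (S : Subgroup G) → c₀ < Nat.card P → ∀ g, cj g P ≤ (S : Subgroup G) →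
      ∀ x ∈ P, g * x * g⁻¹ * x⁻¹ ∈ D) :
    ∀ m : ℕ, ∀ V : Subgroup G, V ≤ (S : Subgroup G) → V ≠ ⊥ → c₀ < Nat.card NS(V) →
      Nat.card (S : Subgroup G) - Nat.card NS(V) = m → NS(V) ⊓ ⁅NG(V), NG(V)⁆ ≤ D := by
  intro m
  induction m using Nat.strong_induction_on with
  | _ m ih =>
    intro V hVS hVne hc hm
    have hNSS : NS(V) ≤ (S : Subgroup G) := inf_le_left
    obtain ⟨V', hV'𝓕, ⟨v, hv⟩, hV'S, hV'fn⟩ := h𝓕 V hVS
    obtain ⟨k, hkV, hkN⟩ := exists_cj_normalizer_le S hV'fn v hv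
    have hV'ne : V' ≠ ⊥ := by
      rw [← hkV]; exact fun h => hVne (cj_eq_bot_iff.mp h)
    have hNS'S : NS(V') ≤ (S : Subgroup G) := inf_le_left
    have hcard' : Nat.card NS(V) ≤ Nat.card NS(V') := by
      rw [← card_cj k]; exact Subgroup.card_le_of_le hkN
    have hcardS : Nat.card NS(V') ≤ Nat.card (S : Subgroup G) := Subgroup.card_le_of_le hNS'S
    have hΦk := IH NS(V) hNSS hc k (hkN.trans hNS'S)
    have heq := focal_eq_of_familyControlsTransfer h𝓦 (hloc V' hV'𝓕 hV'ne hV'S hV'fn) hV'fn.sylIn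
    have hterm := focalTerm_le_of S 𝓦 h𝓦 D hD V' hV'S hV'ne (by
      intro V'' hV''S hV''ne hlt
      have hle'' : Nat.card NS(V'') ≤ Nat.card (S : Subgroup G) := Subgroup.card_le_of_le inf_le_left
      exact ih (Nat.card (S : Subgroup G) - Nat.card NS(V'')) (by omega) V'' hV''S hV''ne (by omega) rfl)
    have hV'D : NS(V') ⊓ ⁅NG(V'), NG(V')⁆ ≤ D := by
      rw [heq]
      exact iSup₂_le hterm
    intro x hx
    have hkx : k * x * k⁻¹ ∈ NS(V') ⊓ ⁅NG(V'), NG(V')⁆ := by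
      refine ⟨hkN (conj_mem_cj hx.1), ?_⟩
      have := conj_mem_cj (g := k) hx.2
      rwa [cj_commutator, cj_normalizer, hkV] at this
    have h1 := hV'D hkx
    have h2 := hΦk x hx.1
    have : x = (k * x * k⁻¹ * x⁻¹)⁻¹ * (k * x * k⁻¹) := by group
    rw [this]
    exact D.mul_mem (D.inv_mem h2) h1

include h𝓦 hD h𝓕 hloc in
/-- **Local-to-global control of transfer.** -/
theorem focal_le_of_local : (S : Subgroup G) ⊓ commutator G ≤ D := by
  have key := alperin_induction S (fun P g => ∀ x ∈ P, g * x * g⁻¹ * x⁻¹ ∈ D) 𝓕 h𝓕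
    (by
      intro P g h _ _ _ h1 h2 x hx
      have e : h * g * x * (h * g)⁻¹ * x⁻¹ =
          (h * (g * x * g⁻¹) * h⁻¹ * (g * x * g⁻¹)⁻¹) * (g * x * g⁻¹ * x⁻¹) := by group
      rw [e]
      exact D.mul_mem (h2 _ (conj_mem_cj hx)) (h1 x hx))
    (by
      intro P P' g hle _ _ h1 x hx
      exact h1 x (hle hx))
    (by
      intro P g _ _ h1 x hx
      have hx' := mem_cj.mp hx
      have := h1 _ hx'
      have e : g⁻¹ * x * g⁻¹⁻¹ * x⁻¹ = (g * (g⁻¹ * x * g) * g⁻¹ * (g⁻¹ * x * g)⁻¹)⁻¹ := by group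
      rw [e]
      exact D.inv_mem this)
    (by
      intro U hU𝓕 hUS hUfn IH g hg x hx
      by_cases hUne : U = ⊥
      · subst hUne
        have : x = 1 := hx
        subst this
        simp
      · have hL := claim_L_transfer S 𝓦 h𝓦 D hD 𝓕 h𝓕 hloc (Nat.card U) IH
        have heq := focal_eq_of_familyControlsTransfer h𝓦 (hloc U hU𝓕 hUne hUS hUfn) hUfn.sylIn
        have hUN : U ≤ NS(U) := le_inf hUS Subgroup.le_normalizer
        have hterm := focalTerm_le_of S 𝓦 h𝓦 D hD U hUS hUne (by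
          intro V hVS hVne hlt
          have hcU : Nat.card U ≤ Nat.card NS(U) := Subgroup.card_le_of_le hUN
          exact hL _ V hVS hVne (by omega) rfl)
        have hUD : NS(U) ⊓ ⁅NG(U), NG(U)⁆ ≤ D := by
          rw [heq]
          exact iSup₂_le hterm
        apply hUD
        have hgx : g * x * g⁻¹ ∈ U := by
          have := conj_mem_cj (g := g) hx
          rwa [cj_eq_self_of_mem_normalizer hg] at this
        refine ⟨hUN (U.mul_mem hgx (U.inv_mem hx)), ?_⟩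
        have e : g * x * g⁻¹ * x⁻¹ = ⁅g, x⁆ := by rw [commutatorElement_def]
        rw [e]
        exact Subgroup.commutator_mem_commutator hg (Subgroup.le_normalizer hx))
  have hSF : (S : Subgroup G) ⊓ commutator G = (S : Subgroup G).focalSubgroup := by
    rw [inf_comm]; exact Subgroup.commutator_inf_eq_focalSubgroup S
  rw [hSF, Subgroup.focalSubgroup_def, Subgroup.closure_le]
  rintro g ⟨hgS, x, hxS, u, rfl⟩
  -- ⁅x, u⁆ = x u x⁻¹ u⁻¹ = (u x u⁻¹ x⁻¹)⁻¹
  have hux : u * x * u⁻¹ ∈ (S : Subgroup G) := by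
    have : u * x * u⁻¹ = (x⁻¹ * ⁅x, u⁆)⁻¹ := by rw [commutatorElement_def]; group
    rw [this]
    exact (S : Subgroup G).inv_mem ((S : Subgroup G).mul_mem ((S : Subgroup G).inv_mem hxS) hgS)
  have hP : Subgroup.zpowers x ≤ (S : Subgroup G) := by
    rw [Subgroup.zpowers_le]; exact hxS
  have hPu : cj u (Subgroup.zpowers x) ≤ (S : Subgroup G) := by
    rw [Subgroup.zpowers_eq_closure, cj_closure, Subgroup.closure_le]
    rintro _ ⟨a, ha, rfl⟩
    rw [Set.mem_singleton_iff.mp ha]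
    exact hux
  have := key _ hP u hPu x (Subgroup.mem_zpowers _)
  have e : ⁅x, u⁆ = (u * x * u⁻¹ * x⁻¹)⁻¹ := by rw [commutatorElement_def]; group
  rw [SetLike.mem_coe, e]
  exact D.inv_mem this

end main

end Cfsg.Agent.Lib.Helper33
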