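import Cfsg.Agent.Lib.Helper33.TransferTransport

/-!
# Control of transfer: quotients by normal `p'`- and `p`-subgroups (helper33 library)
-/

set_option autoImplicit false

namespace Cfsg.Agent.Lib.Helper33

universe u

open scoped commutatorElement

section transferEval

variable {G A : Type*} [Group G] [CommGroup A]

/-- Evaluation of the transfer on a normal subgroup on which `ϕ` is invariant under conjugation. -/
theorem transfer_eq_pow_of_normal (H : Subgroup G) [H.FiniteIndex] (ϕ : H →* A) (P : Subgroup G)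
    (hinv : ∀ x ∈ P, ∀ (g : G) (h1 : g⁻¹ * x * g ∈ H) (h2 : x ∈ H), ϕ ⟨g⁻¹ * x * g, h1⟩ = ϕ ⟨x, h2⟩)
    (x : G) (hx : x ∈ P) (hxH : x ∈ H) : MonoidHom.transfer ϕ x = ϕ ⟨x, hxH⟩ ^ H.index := by
  have : Fintype (Quotient (MulAction.orbitRel (Subgroup.zpowers x) (G ⧸ H))) := Fintype.ofFinite _
  rw [Subgroup.index_eq_sum_minimalPeriod H x, ← Finset.prod_pow_eq_pow_sum,
    MonoidHom.transfer_eq_prod_quotient_orbitRel_zpowers_quot]
  apply Finset.prod_congr rfl
  intro q _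
  have hxn : x ^ Function.minimalPeriod (x • ·) q.out ∈ P := P.pow_mem hx _
  have hxnH : x ^ Function.minimalPeriod (x • ·) q.out ∈ H := H.pow_mem hxH _
  rw [hinv _ hxn q.out.out _ hxnH, ← map_pow]
  rfl

/-- If `ϕ : S → A` (`A` commutative) is invariant under `G`-conjugation on the subgroup `P ≤ S`, then `ϕ` kills
`P ∩ G'`. -/
theorem map_eq_one_of_mem_commutator {p : ℕ} [hp : Fact p.Prime] [Finite G] (S : Sylow p G)
    (ϕ : ↥(S : Subgroup G) →* A) (P : Subgroup G) (hPS : P ≤ (S : Subgroup G))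
    (hinv : ∀ x ∈ P, ∀ (g : G) (h1 : g⁻¹ * x * g ∈ (S : Subgroup G)) (h2 : x ∈ (S : Subgroup G)),
      ϕ ⟨g⁻¹ * x * g, h1⟩ = ϕ ⟨x, h2⟩)
    (x : G) (hx : x ∈ P) (hxc : x ∈ commutator G) : ϕ ⟨x, hPS hx⟩ = 1 := by
  have h1 : MonoidHom.transfer ϕ x = 1 :=
    (Abelianization.commutator_subset_ker (MonoidHom.transfer ϕ)) hxc
  rw [transfer_eq_pow_of_normal (S : Subgroup G) ϕ P hinv x hx (hPS hx)] at h1
  obtain ⟨k, hk⟩ := S.isPGroup' ⟨x, hPS hx⟩
  have h2 : ϕ ⟨x, hPS hx⟩ ^ p ^ k = 1 := by rw [← map_pow, hk, map_one]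
  have hcop : ((S : Subgroup G).index).Coprime p :=
    ((Nat.Prime.coprime_iff_not_dvd hp.out).mpr S.not_dvd_index).symm
  exact Cfsg.Agent.Lib.Helper76.eq_one_of_pow_eq_one_of_coprime p _ _ k hcop h1 h2

end transferEval

section normalInf

variable {G : Type*} [Group G] {p : ℕ}

open scoped IsMulCommutative in
/-- `P ∩ G' ≤ D` when `S' ≤ D` and `[P, G] ≤ D` (for `P ≤ S` normal in `G`). -/
theorem normal_inf_commutator_le [hp : Fact p.Prime] [Finite G] (S : Sylow p G) (P : Subgroup G)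
    (hPS : P ≤ (S : Subgroup G)) (D : Subgroup G)
    (hSD : ⁅(S : Subgroup G), (S : Subgroup G)⁆ ≤ D)
    (hPG : ∀ x ∈ P, ∀ g : G, x⁻¹ * (g⁻¹ * x * g) ∈ D) : P ⊓ commutator G ≤ D := by
  have hcomm : commutator ↥(S : Subgroup G) ≤ D.subgroupOf (S : Subgroup G) := by
    intro y hy
    rw [Subgroup.mem_subgroupOf]
    apply hSD
    rw [← Subgroup.map_subtype_commutator]
    exact ⟨y, hy, rfl⟩
  have hDn : (D.subgroupOf (S : Subgroup G)).Normal := by
    constructor
    intro d hd s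
    have h1 : s * d * s⁻¹ * d⁻¹ ∈ D.subgroupOf (S : Subgroup G) := by
      apply hcomm
      exact Subgroup.commutator_mem_commutator (Subgroup.mem_top s) (Subgroup.mem_top d)
    have e : s * d * s⁻¹ = (s * d * s⁻¹ * d⁻¹) * d := by group
    rw [e]
    exact mul_mem h1 hd
  have hQc : IsMulCommutative (↥(S : Subgroup G) ⧸ D.subgroupOf (S : Subgroup G)) :=
    Subgroup.Normal.quotient_commutative_iff_commutator_le.mpr hcomm
  rintro x ⟨hx, hxc⟩
  have h1 := map_eq_one_of_mem_commutator S (QuotientGroup.mk' (D.subgroupOf (S : Subgroup G))) P hPS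
    (by
      intro y hy g h1 h2
      symm
      rw [QuotientGroup.mk'_apply, QuotientGroup.mk'_apply, QuotientGroup.eq, Subgroup.mem_subgroupOf]
      exact hPG y hy g) x hx hxc
  rw [QuotientGroup.mk'_apply, QuotientGroup.eq_one_iff, Subgroup.mem_subgroupOf] at h1
  exact h1

/-- combining `S ∩ G' ≤ D P` with `P ∩ G' ≤ D` -/
theorem inf_commutator_le_of_sup (S P D : Subgroup G) [P.Normal] (hD : D ≤ commutator G)
    (h1 : S ⊓ commutator G ≤ D ⊔ P) (h2 : P ⊓ commutator G ≤ D) : S ⊓ commutator G ≤ D := by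
  intro x hx
  obtain ⟨d, hd, π, hπ, rfl⟩ := exists_mul_of_mem_sup_normal (h1 hx)
  have hπc : π ∈ commutator G := by
    have : π = d⁻¹ * (d * π) := by group
    rw [this]
    exact mul_mem (inv_mem (hD hd)) hx.2
  exact mul_mem hd (h2 ⟨hπ, hπc⟩)

/-- A `p`-element `s` of `H` which is congruent to an element of `H'` modulo a `p'`-subgroup `K` lies in `H'`. -/
theorem mem_commutator_of_mul_pPrime [hp : Fact p.Prime] [Finite G] (H K : Subgroup G)
    (hK : (Nat.card K).Coprime p) {s l : G} (hs : s ∈ H) {a : ℕ} (hsp : s ^ (p ^ a) = 1)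
    (hl : l ∈ ⁅H, H⁆) (hk : l⁻¹ * s ∈ K) : s ∈ ⁅H, H⁆ := by
  have hlH : l ∈ H := Subgroup.commutator_le_self H hl
  rw [← Subgroup.map_subtype_commutator] at hl ⊢
  obtain ⟨l', hl', hl'l⟩ := hl
  have hkH : l⁻¹ * s ∈ H := mul_mem (inv_mem hlH) hs
  have h1 : (Abelianization.of l' : Abelianization ↥H) = 1 := by
    have : l' ∈ (Abelianization.of : ↥H →* Abelianization ↥H).ker := by
      rw [Abelianization.ker_of]; exact hl'
    exact this
  have hs' : (⟨s, hs⟩ : ↥H) = l' * ⟨l⁻¹ * s, hkH⟩ := by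
    apply Subtype.ext
    rw [Subgroup.coe_mul]
    change s = (H.subtype l') * (l⁻¹ * s)
    rw [hl'l]
    group
  have h2 : (Abelianization.of (⟨s, hs⟩ : ↥H) : Abelianization ↥H) =
      Abelianization.of (⟨l⁻¹ * s, hkH⟩ : ↥H) := by
    rw [hs', map_mul, h1, one_mul]
  have h3 : (Abelianization.of (⟨s, hs⟩ : ↥H) : Abelianization ↥H) ^ (p ^ a) = 1 := by
    rw [← map_pow]
    have : (⟨s, hs⟩ : ↥H) ^ (p ^ a) = 1 := Subtype.ext (by simpa using hsp)
    rw [this, map_one]
  have h4 : (Abelianization.of (⟨s, hs⟩ : ↥H) : Abelianization ↥H) ^ (Nat.card K) = 1 := by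
    rw [h2, ← map_pow]
    have h5 : (l⁻¹ * s) ^ Nat.card K = 1 := by
      have h50 : (⟨l⁻¹ * s, hk⟩ : ↥K) ^ Nat.card ↥K = 1 := pow_card_eq_one'
      have h51 := congrArg Subtype.val h50
      rwa [Subgroup.coe_pow, Subgroup.coe_one] at h51
    have : (⟨l⁻¹ * s, hkH⟩ : ↥H) ^ Nat.card K = 1 := Subtype.ext (by simpa using h5)
    rw [this, map_one]
  have h6 := Cfsg.Agent.Lib.Helper76.eq_one_of_pow_eq_one_of_coprime p _ _ a hK h4 h3
  have h7 : (⟨s, hs⟩ : ↥H) ∈ commutator ↥H := by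
    rw [← Abelianization.ker_of]; exact h6
  exact ⟨⟨s, hs⟩, h7, rfl⟩

end normalInf

section focalBasics

variable {G : Type*} [Group G] {p : ℕ}

theorem focalTerm_mono_left (W : Subgroup G → Subgroup G) {H H' : Subgroup G} (h : H ≤ H') (T : Subgroup G) :
    focalTerm W H T ≤ focalTerm W H' T := by
  unfold focalTerm
  exact inf_le_inf_left _ (Subgroup.commutator_mono (inf_le_inf_right _ h) (inf_le_inf_right _ h))

theorem focalTerm_le_commutator (W : Subgroup G → Subgroup G) (H T : Subgroup G) :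
    focalTerm W H T ≤ commutator G := by
  unfold focalTerm
  rw [commutator_def]
  exact inf_le_right.trans (Subgroup.commutator_mono le_top le_top)

theorem biSup_focalTerm_le_commutator (𝓥 : Set (Subgroup G → Subgroup G)) (H T : Subgroup G) :
    (⨆ W ∈ 𝓥, focalTerm W H T) ≤ commutator G :=
  iSup₂_le (fun W _ => focalTerm_le_commutator W H T)

/-- control of transfer in a subgroup `H ≥ S` bounds `S ∩ H'` by the global focal terms -/
theorem inf_commutator_le_of_controls [Fact p.Prime] [Finite G] {𝓥 : Set (Subgroup G → Subgroup G)}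
    (h𝓥 : ∀ W ∈ 𝓥, Cfsg.IsConjugacyFunctor p W) (S : Sylow p G) (H : Subgroup G)
    (hSH : (S : Subgroup G) ≤ H) (h : Cfsg.FamilyControlsTransferIn p 𝓥 H) :
    (S : Subgroup G) ⊓ ⁅H, H⁆ ≤ ⨆ W ∈ 𝓥, focalTerm W ⊤ (S : Subgroup G) := by
  rw [focal_eq_of_familyControlsTransfer h𝓥 h (sylIn_of_sylow_le S hSH)]
  exact iSup₂_mono (fun W _ => focalTerm_mono_left W le_top _)

theorem sylIn_map_mk_top [hp : Fact p.Prime] [Finite G] (S : Sylow p G) (K : Subgroup G) [K.Normal] :
    SylIn p ((S : Subgroup G).map (QuotientGroup.mk' K)) ⊤ := by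
  refine ⟨le_top, S.isPGroup'.map _, ?_⟩
  rw [Subgroup.relIndex_top_right]
  intro hdvd
  exact S.not_dvd_index (dvd_trans hdvd (Subgroup.index_map_dvd _ (QuotientGroup.mk'_surjective _)))

theorem mk_mem_commutator_of_mem {x : G} (K : Subgroup G) [K.Normal] (hx : x ∈ commutator G) :
    QuotientGroup.mk' K x ∈ ⁅(⊤ : Subgroup (G ⧸ K)), (⊤ : Subgroup (G ⧸ K))⁆ := by
  rw [commutator_def] at hx
  have h1 : QuotientGroup.mk' K x ∈ Subgroup.map (QuotientGroup.mk' K) ⁅(⊤ : Subgroup G), (⊤ : Subgroup G)⁆ :=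
    Subgroup.mem_map_of_mem _ hx
  rw [Subgroup.map_commutator] at h1
  exact Subgroup.commutator_mono (le_top : _ ≤ (⊤ : Subgroup (G ⧸ K))) (le_top : _ ≤ (⊤ : Subgroup (G ⧸ K))) h1

end focalBasics

section quot

variable {p : ℕ} {𝓦 : Set (∀ (Q : Type u) [Group Q], Subgroup Q)}

/-- **K2**: from control of transfer in `G ⧸ P` (`P = O_p(G) < S`) and the bound `S ∩ N(X)' ≤ D` for the proper normalizers
of normal subgroups `X` of `S`, one gets `S ∩ G' ≤ D P`. -/
theorem inf_commutator_le_sup_of_quot [hp : Fact p.Prime] (h𝓦 : ∀ W ∈ 𝓦, Cfsg.IsCharPFunctor.{u} p W)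
    {G : Type u} [Group G] [Finite G] (S : Sylow p G) (P : Subgroup G) [hPn : P.Normal]
    (hPS : P ≤ (S : Subgroup G))
    (hPmax : ∀ N : Subgroup G, N.Normal → IsPGroup p N → N ≤ P)
    (hSP : ¬ ((S : Subgroup G) ≤ P))
    (H1 : Cfsg.FamilyControlsTransferIn p (indFam 𝓦 (G ⧸ P)) ⊤)
    (D : Subgroup G)
    (K1 : ∀ X : Subgroup G, X ≤ (S : Subgroup G) → (S : Subgroup G) ≤ Subgroup.normalizer (X : Set G) →
      Subgroup.normalizer (X : Set G) ≠ ⊤ →
      (S : Subgroup G) ⊓ ⁅Subgroup.normalizer (X : Set G), Subgroup.normalizer (X : Set G)⁆ ≤ D) :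
    (S : Subgroup G) ⊓ commutator G ≤ D ⊔ P := by
  have hSp : IsPGroup p (S : Subgroup G) := S.isPGroup'
  have hπs : Function.Surjective (QuotientGroup.mk' P) := QuotientGroup.mk'_surjective P
  have hSb := sylIn_map_mk_top S P
  have heq := focal_eq_of_familyControlsTransfer (indFam_isConjugacyFunctor 𝓦 h𝓦 (G ⧸ P)) H1 hSb
  have hterm : ∀ W ∈ 𝓦, focalTerm (Cfsg.inducedFunctor W) ⊤ ((S : Subgroup G).map (QuotientGroup.mk' P)) ≤
      D.map (QuotientGroup.mk' P) := by
    intro W hW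
    have hcfb := isConjugacyFunctor_inducedFunctor W (h𝓦 W hW) (G := G ⧸ P)
    have hSbp : IsPGroup p ((S : Subgroup G).map (QuotientGroup.mk' P)) := hSp.map _
    have hVbS : Cfsg.inducedFunctor W ((S : Subgroup G).map (QuotientGroup.mk' P)) ≤
        (S : Subgroup G).map (QuotientGroup.mk' P) := cf_le hcfb hSbp
    have hXS : (Cfsg.inducedFunctor W ((S : Subgroup G).map (QuotientGroup.mk' P))).comap
        (QuotientGroup.mk' P) ≤ (S : Subgroup G) := by
      have := Subgroup.comap_mono (f := QuotientGroup.mk' P) hVbS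
      rwa [Subgroup.comap_map_eq, QuotientGroup.ker_mk', sup_eq_left.mpr hPS] at this
    have hSN : (S : Subgroup G) ≤ Subgroup.normalizer
        ((((Cfsg.inducedFunctor W ((S : Subgroup G).map (QuotientGroup.mk' P))).comap
          (QuotientGroup.mk' P) : Subgroup G)) : Set G) := by
      intro s hs
      apply Subgroup.le_normalizer_comap (QuotientGroup.mk' P)
      rw [Subgroup.mem_comap]
      exact (Subgroup.le_normalizer.trans (cf_normalizer_le hcfb hSbp))
        (Subgroup.mem_map_of_mem _ hs)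
    have hne : Subgroup.normalizer
        ((((Cfsg.inducedFunctor W ((S : Subgroup G).map (QuotientGroup.mk' P))).comap
          (QuotientGroup.mk' P) : Subgroup G)) : Set G) ≠ ⊤ := by
      intro htop
      have hXn := Subgroup.normalizer_eq_top_iff.mp htop
      have hXP := hPmax _ hXn (hSp.to_le hXS)
      have hVbot : Cfsg.inducedFunctor W ((S : Subgroup G).map (QuotientGroup.mk' P)) = ⊥ := by
        have h1 := Subgroup.map_mono (f := QuotientGroup.mk' P) hXP
        rw [Subgroup.map_comap_eq_self_of_surjective hπs] at h1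
        have hPb : P.map (QuotientGroup.mk' P) = ⊥ := by
          rw [Subgroup.map_eq_bot_iff, QuotientGroup.ker_mk']
        exact le_bot_iff.mp (h1.trans hPb.le)
      have hSbot : (S : Subgroup G).map (QuotientGroup.mk' P) = ⊥ := by
        by_contra hne'
        exact cf_ne_bot hcfb hSbp hne' hVbot
      rw [Subgroup.map_eq_bot_iff, QuotientGroup.ker_mk'] at hSbot
      exact hSP hSbot
    have hK1 := K1 _ hXS hSN hne
    have hNX : Subgroup.normalizer
        ((Cfsg.inducedFunctor W ((S : Subgroup G).map (QuotientGroup.mk' P)) : Subgroup (G ⧸ P)) : Set (G ⧸ P)) =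
        (Subgroup.normalizer
          ((((Cfsg.inducedFunctor W ((S : Subgroup G).map (QuotientGroup.mk' P))).comap
            (QuotientGroup.mk' P) : Subgroup G)) : Set G)).map (QuotientGroup.mk' P) := by
      rw [← Subgroup.comap_normalizer_eq_of_surjective _ hπs,
        Subgroup.map_comap_eq_self_of_surjective hπs]
    unfold focalTerm
    rw [top_inf_eq, hNX, ← Subgroup.map_commutator]
    rintro _ ⟨⟨s, hs, rfl⟩, ⟨l, hl, hsl⟩⟩
    have hlS : l ∈ (S : Subgroup G) := by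
      have h1 : s⁻¹ * l ∈ P := by
        rw [← QuotientGroup.eq_one_iff, ← QuotientGroup.mk'_apply, map_mul, map_inv, hsl, inv_mul_cancel]
      have : l = s * (s⁻¹ * l) := by group
      rw [this]
      exact mul_mem hs (hPS h1)
    exact ⟨l, hK1 ⟨hlS, hl⟩, hsl⟩
  intro x hx
  have h1 : QuotientGroup.mk' P x ∈
      (S : Subgroup G).map (QuotientGroup.mk' P) ⊓ ⁅(⊤ : Subgroup (G ⧸ P)), ⊤⁆ :=
    ⟨Subgroup.mem_map_of_mem _ hx.1, mk_mem_commutator_of_mem P hx.2⟩
  rw [heq] at h1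
  have h2 : QuotientGroup.mk' P x ∈ D.map (QuotientGroup.mk' P) := by
    refine (iSup₂_le ?_ : (⨆ W' ∈ indFam 𝓦 (G ⧸ P),
      focalTerm W' ⊤ ((S : Subgroup G).map (QuotientGroup.mk' P))) ≤ _) h1
    rintro _ ⟨W, hW, rfl⟩
    exact hterm W hW
  rw [← Subgroup.mem_comap, Subgroup.comap_map_eq, QuotientGroup.ker_mk'] at h2
  exact h2

/-- **Lifting control of transfer through a normal `p'`-subgroup.** -/
theorem familyControlsTransfer_of_quotient_pPrime [hp : Fact p.Prime]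
    (h𝓦 : ∀ W ∈ 𝓦, Cfsg.IsCharPFunctor.{u} p W)
    {G : Type u} [Group G] [Finite G] (K : Subgroup G) [K.Normal] (hK : (Nat.card K).Coprime p)
    (h : Cfsg.FamilyControlsTransferIn p (indFam 𝓦 (G ⧸ K)) ⊤) :
    Cfsg.FamilyControlsTransferIn p (indFam 𝓦 G) ⊤ := by
  obtain S : Sylow p G := Classical.arbitrary _
  have hSp : IsPGroup p (S : Subgroup G) := S.isPGroup'
  have hSb := sylIn_map_mk_top S K
  have heq := focal_eq_of_familyControlsTransfer (indFam_isConjugacyFunctor 𝓦 h𝓦 (G ⧸ K)) h hSb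
  have hπk : ∀ k' ∈ K, QuotientGroup.mk' K k' = 1 := by
    intro k' hk'
    rw [QuotientGroup.mk'_apply, QuotientGroup.eq_one_iff]; exact hk'
  rw [familyControlsTransferIn_top_iff_le]
  refine ⟨(S : Subgroup G), sylIn_top S, ?_⟩
  have hterm : ∀ W ∈ 𝓦, focalTerm (Cfsg.inducedFunctor W) ⊤ ((S : Subgroup G).map (QuotientGroup.mk' K)) ≤
      (focalTerm (Cfsg.inducedFunctor W) ⊤ (S : Subgroup G)).map (QuotientGroup.mk' K) := by
    intro W hW
    have hcf := isConjugacyFunctor_inducedFunctor W (h𝓦 W hW) (G := G)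
    have hVS : Cfsg.inducedFunctor W (S : Subgroup G) ≤ (S : Subgroup G) := cf_le hcf hSp
    have hVp : IsPGroup p (Cfsg.inducedFunctor W (S : Subgroup G)) := hSp.to_le hVS
    have e : Cfsg.inducedFunctor W ((S : Subgroup G).map (QuotientGroup.mk' K)) =
        (Cfsg.inducedFunctor W (S : Subgroup G)).map (QuotientGroup.mk' K) :=
      inducedFunctor_map_of_injOn W (h𝓦 W hW) (QuotientGroup.mk' K) (S : Subgroup G) hSp
        (injOn_mk_of_pPrime K hK hSp)
    have hN : Subgroup.normalizer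
        ((((Cfsg.inducedFunctor W (S : Subgroup G)).map (QuotientGroup.mk' K) : Subgroup (G ⧸ K))) : Set (G ⧸ K)) ≤
        (Subgroup.normalizer ((Cfsg.inducedFunctor W (S : Subgroup G) : Subgroup G) : Set G)).map
          (QuotientGroup.mk' K) := by
      intro yb hyb
      obtain ⟨y, rfl⟩ := QuotientGroup.mk'_surjective K yb
      have hyN : y ∈ Subgroup.normalizer ((Cfsg.inducedFunctor W (S : Subgroup G) ⊔ K : Subgroup G) : Set G) := by
        have h1 : y ∈ (Subgroup.normalizer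
            ((((Cfsg.inducedFunctor W (S : Subgroup G)).map (QuotientGroup.mk' K) : Subgroup (G ⧸ K))) :
              Set (G ⧸ K))).comap (QuotientGroup.mk' K) := hyb
        have h2 := Subgroup.le_normalizer_comap (QuotientGroup.mk' K) h1
        rwa [Subgroup.comap_map_eq, QuotientGroup.ker_mk'] at h2
      obtain ⟨k, hk, hky⟩ := exists_mul_mem_normalizer_of_sup hVp hK hyN
      refine ⟨k * y, hky, ?_⟩
      rw [map_mul, hπk k hk, one_mul]
    have hSN : (S : Subgroup G) ≤ Subgroup.normalizer ((Cfsg.inducedFunctor W (S : Subgroup G) : Subgroup G) : Set G) :=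
      Subgroup.le_normalizer.trans (cf_normalizer_le hcf hSp)
    unfold focalTerm
    rw [top_inf_eq, top_inf_eq, e]
    rintro _ ⟨⟨s, hs, rfl⟩, hc⟩
    have hc' : QuotientGroup.mk' K s ∈ Subgroup.map (QuotientGroup.mk' K)
        ⁅Subgroup.normalizer ((Cfsg.inducedFunctor W (S : Subgroup G) : Subgroup G) : Set G),
          Subgroup.normalizer ((Cfsg.inducedFunctor W (S : Subgroup G) : Subgroup G) : Set G)⁆ := by
      rw [Subgroup.map_commutator]
      exact Subgroup.commutator_mono hN hN hc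
    obtain ⟨l, hl, hsl⟩ := hc'
    have hk : l⁻¹ * s ∈ K := by
      rw [← QuotientGroup.eq_one_iff, ← QuotientGroup.mk'_apply, map_mul, map_inv, hsl, inv_mul_cancel]
    obtain ⟨a, ha⟩ := hSp ⟨s, hs⟩
    have ha' : s ^ (p ^ a) = 1 := by
      have := congrArg Subtype.val ha
      rwa [Subgroup.coe_pow, Subgroup.coe_one] at this
    have := mem_commutator_of_mul_pPrime _ K hK (hSN hs) ha' hl hk
    exact ⟨s, ⟨hs, this⟩, rfl⟩
  intro x hx
  have h1 : QuotientGroup.mk' K x ∈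
      (S : Subgroup G).map (QuotientGroup.mk' K) ⊓ ⁅(⊤ : Subgroup (G ⧸ K)), ⊤⁆ :=
    ⟨Subgroup.mem_map_of_mem _ hx.1, mk_mem_commutator_of_mem K hx.2⟩
  rw [heq] at h1
  have h2 : QuotientGroup.mk' K x ∈
      (⨆ W' ∈ indFam 𝓦 G, focalTerm W' ⊤ (S : Subgroup G)).map (QuotientGroup.mk' K) := by
    refine (iSup₂_le ?_ : (⨆ W' ∈ indFam 𝓦 (G ⧸ K),
      focalTerm W' ⊤ ((S : Subgroup G).map (QuotientGroup.mk' K))) ≤ _) h1
    rintro _ ⟨W, hW, rfl⟩
    refine (hterm W hW).trans (Subgroup.map_mono ?_)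
    exact le_biSup (fun W' => focalTerm W' ⊤ (S : Subgroup G)) (⟨W, hW, rfl⟩ : _ ∈ indFam 𝓦 G)
  obtain ⟨d, hd, hdx⟩ := h2
  have hDS : (⨆ W' ∈ indFam 𝓦 G, focalTerm W' ⊤ (S : Subgroup G)) ≤ (S : Subgroup G) :=
    iSup₂_le (fun W' _ => inf_le_left)
  have h3 : d⁻¹ * x = 1 := by
    apply injOn_mk_of_pPrime K hK hSp _ (mul_mem (inv_mem (hDS hd)) hx.1)
    rw [map_mul, map_inv, hdx, inv_mul_cancel]
  have h4 : x = d := (inv_mul_eq_one.mp h3).symm
  rw [h4]
  exact hd

/-- **Control of transfer from the quotient by a non-centric `O_p(G)`** and from proper normalizers of normal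
subgroups of `S`. -/
theorem familyControlsTransfer_of_pQuot [hp : Fact p.Prime] (h𝓦 : ∀ W ∈ 𝓦, Cfsg.IsCharPFunctor.{u} p W)
    {G : Type u} [Group G] [Finite G] (S : Sylow p G) (P : Subgroup G) [hPn : P.Normal]
    (hPS : P ≤ (S : Subgroup G))
    (hPmax : ∀ N : Subgroup G, N.Normal → IsPGroup p N → N ≤ P)
    (hPnc : ¬ ((S : Subgroup G) ⊓ Subgroup.centralizer (P : Set G) ≤ P))
    (hSD : ⁅(S : Subgroup G), (S : Subgroup G)⁆ ≤ ⨆ W' ∈ indFam 𝓦 G, focalTerm W' ⊤ (S : Subgroup G))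
    (H1 : Cfsg.FamilyControlsTransferIn p (indFam 𝓦 (G ⧸ P)) ⊤)
    (H2 : ∀ X : Subgroup G, X ≤ (S : Subgroup G) → (S : Subgroup G) ≤ Subgroup.normalizer (X : Set G) →
      Subgroup.normalizer (X : Set G) ≠ ⊤ →
      Cfsg.FamilyControlsTransferIn p (indFam 𝓦 G) (Subgroup.normalizer (X : Set G))) :
    Cfsg.FamilyControlsTransferIn p (indFam 𝓦 G) ⊤ := by
  have hcfG := indFam_isConjugacyFunctor 𝓦 h𝓦 G
  have hSp : IsPGroup p (S : Subgroup G) := S.isPGroup'
  have K1 : ∀ X : Subgroup G, X ≤ (S : Subgroup G) → (S : Subgroup G) ≤ Subgroup.normalizer (X : Set G) →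
      Subgroup.normalizer (X : Set G) ≠ ⊤ →
      (S : Subgroup G) ⊓ ⁅Subgroup.normalizer (X : Set G), Subgroup.normalizer (X : Set G)⁆ ≤
        ⨆ W' ∈ indFam 𝓦 G, focalTerm W' ⊤ (S : Subgroup G) :=
    fun X hXS hSN hne => inf_commutator_le_of_controls hcfG S _ hSN (H2 X hXS hSN hne)
  have hSP : ¬ ((S : Subgroup G) ≤ P) := fun h => hPnc (inf_le_left.trans h)
  have hK2 := inf_commutator_le_sup_of_quot h𝓦 S P hPS hPmax hSP H1 _ K1
  have hCn : (Subgroup.centralizer (P : Set G)).Normal := Subgroup.normal_centralizer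
  have hcjC : ∀ g : G, cj g (Subgroup.centralizer (P : Set G)) = Subgroup.centralizer (P : Set G) := by
    intro g
    apply cj_eq_self_of_mem_normalizer
    rw [Subgroup.normalizer_eq_top (H := Subgroup.centralizer (P : Set G))]
    exact Subgroup.mem_top g
  have hQsyl : SylIn p ((S : Subgroup G) ⊓ Subgroup.centralizer (P : Set G)) (Subgroup.centralizer (P : Set G)) := by
    refine (sylIn_top S).inf_of_normal le_top ?_
    rw [Subgroup.normalizer_eq_top (H := Subgroup.centralizer (P : Set G))]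
  have hSNQ : (S : Subgroup G) ≤ Subgroup.normalizer
      ((((S : Subgroup G) ⊓ Subgroup.centralizer (P : Set G) : Subgroup G)) : Set G) := by
    intro s hs
    rw [mem_normalizer_iff_cj_eq, cj_inf, cj_eq_self_of_mem hs, hcjC]
  have hneQ : Subgroup.normalizer
      ((((S : Subgroup G) ⊓ Subgroup.centralizer (P : Set G) : Subgroup G)) : Set G) ≠ ⊤ := by
    intro htop
    have hn : ((S : Subgroup G) ⊓ Subgroup.centralizer (P : Set G)).Normal :=
      Subgroup.normalizer_eq_top_iff.mp htop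
    exact hPnc (hPmax _ hn (hSp.to_le inf_le_left))
  have hK1Q := K1 _ inf_le_left hSNQ hneQ
  have hPG : ∀ x ∈ P, ∀ g : G, x⁻¹ * (g⁻¹ * x * g) ∈
      ⨆ W' ∈ indFam 𝓦 G, focalTerm W' ⊤ (S : Subgroup G) := by
    intro x hx g
    have h1 : cj g⁻¹ ((S : Subgroup G) ⊓ Subgroup.centralizer (P : Set G)) ≤ Subgroup.centralizer (P : Set G) :=
      (cj_mono inf_le_right).trans (hcjC g⁻¹).le
    obtain ⟨c, hc, hle⟩ := hQsyl.exists_cj_le h1 (isPGroup_cj hQsyl.isPGroup)
    have hn : c * g⁻¹ ∈ Subgroup.normalizer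
        ((((S : Subgroup G) ⊓ Subgroup.centralizer (P : Set G) : Subgroup G)) : Set G) := by
      rw [mem_normalizer_iff_cj_eq, cj_mul]
      apply Subgroup.eq_of_le_of_card_ge hle
      rw [card_cj, card_cj]
    have hnx : (c * g⁻¹) * x * (c * g⁻¹)⁻¹ ∈ P := hPn.conj_mem x hx _
    have hcomm : c⁻¹ * ((c * g⁻¹) * x * (c * g⁻¹)⁻¹) = ((c * g⁻¹) * x * (c * g⁻¹)⁻¹) * c⁻¹ :=
      ((Subgroup.mem_centralizer_iff.mp (inv_mem hc)) _ hnx).symm
    have e : g⁻¹ * x * g = (c * g⁻¹) * x * (c * g⁻¹)⁻¹ := by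
      calc g⁻¹ * x * g = c⁻¹ * ((c * g⁻¹) * x * (c * g⁻¹)⁻¹) * c := by group
        _ = ((c * g⁻¹) * x * (c * g⁻¹)⁻¹) * c⁻¹ * c := by rw [hcomm]
        _ = (c * g⁻¹) * x * (c * g⁻¹)⁻¹ := by group
    rw [e]
    apply hK1Q
    have hxS : x⁻¹ * ((c * g⁻¹) * x * (c * g⁻¹)⁻¹) ∈ (S : Subgroup G) :=
      mul_mem (inv_mem (hPS hx)) (hPS hnx)
    refine Subgroup.mem_inf.mpr ⟨hxS, ?_⟩
    have e2 : x⁻¹ * ((c * g⁻¹) * x * (c * g⁻¹)⁻¹) = ⁅x⁻¹, c * g⁻¹⁆ := by
      rw [commutatorElement_def]; group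
    rw [e2]
    exact Subgroup.commutator_mem_commutator (hSNQ (inv_mem (hPS hx))) hn
  have hP := normal_inf_commutator_le S P hPS _ hSD hPG
  have final := inf_commutator_le_of_sup (S : Subgroup G) P _
    (biSup_focalTerm_le_commutator (indFam 𝓦 G) ⊤ (S : Subgroup G)) hK2 hP
  rw [familyControlsTransferIn_top_iff_le]
  exact ⟨(S : Subgroup G), sylIn_top S, final⟩

end quot


end Cfsg.Agent.Lib.Helper33
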