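import Cfsg.Agent.Lib.Helper33.SectionFusion

/-!
# Transport of control of transfer along injective homomorphisms (helper33 library)
-/

set_option autoImplicit false

namespace Cfsg.Agent.Lib.Helper33

universe u

open scoped commutatorElement

section basics

variable {X Y : Type*} [Group X] [Group Y]

theorem map_normalizer_of_injective (f : X →* Y) (hf : Function.Injective f) (V : Subgroup X) :
    (Subgroup.normalizer (V : Set X)).map f = f.range ⊓ Subgroup.normalizer ((V.map f : Subgroup Y) : Set Y) := by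
  apply le_antisymm
  · refine le_inf ?_ (Subgroup.le_normalizer_map f)
    rintro _ ⟨x, -, rfl⟩
    exact ⟨x, rfl⟩
  · rintro _ ⟨⟨x, rfl⟩, hx⟩
    refine ⟨x, ?_, rfl⟩
    have hx : f x ∈ Subgroup.normalizer ((V.map f : Subgroup Y) : Set Y) := hx
    show x ∈ Subgroup.normalizer (V : Set X)
    rw [Subgroup.mem_normalizer_iff] at hx ⊢
    intro v
    have h1 := hx (f v)
    rw [Subgroup.mem_map_iff_mem hf] at h1
    rw [h1, ← map_inv, ← map_mul, ← map_mul, Subgroup.mem_map_iff_mem hf]

end basics

section family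

variable {p : ℕ} {𝓦 : Set (∀ (Q : Type u) [Group Q], Subgroup Q)}

theorem familyControlsTransferIn_top_iff_le {G : Type*} [Group G] {𝓥 : Set (Subgroup G → Subgroup G)} :
    Cfsg.FamilyControlsTransferIn p 𝓥 ⊤ ↔
      ∃ T : Subgroup G, SylIn p T ⊤ ∧ T ⊓ commutator G ≤ ⨆ W ∈ 𝓥, focalTerm W ⊤ T := by
  rw [familyControlsTransferIn_iff]
  constructor
  · rintro ⟨T, hT, heq⟩
    refine ⟨T, hT, ?_⟩
    rw [commutator_def, heq]
  · rintro ⟨T, hT, hle⟩
    refine ⟨T, hT, le_antisymm ?_ ?_⟩
    · rwa [commutator_def] at hle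
    · apply iSup₂_le
      intro W _
      unfold focalTerm
      exact inf_le_inf_left _ (Subgroup.commutator_mono inf_le_left inf_le_left)

/-- Control of transfer in the group `X` gives control of transfer in the image of an injective homomorphism. -/
theorem familyControlsTransfer_range_of_injective [Fact p.Prime]
    (h𝓦 : ∀ W ∈ 𝓦, Cfsg.IsCharPFunctor.{u} p W)
    {X Y : Type u} [Group X] [Group Y] [Finite X] (f : X →* Y) (hf : Function.Injective f)
    (h : Cfsg.FamilyControlsTransferIn p (indFam 𝓦 X) ⊤) :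
    Cfsg.FamilyControlsTransferIn p (indFam 𝓦 Y) f.range := by
  rw [familyControlsTransferIn_iff] at h ⊢
  obtain ⟨T, hT, heq⟩ := h
  refine ⟨T.map f, ⟨?_, hT.isPGroup.map f, ?_⟩, ?_⟩
  · rw [MonoidHom.range_eq_map]
    exact Subgroup.map_mono le_top
  · rw [MonoidHom.range_eq_map, Subgroup.relIndex_map_map_of_injective _ _ hf]
    exact hT.not_dvd
  · have h1 := congrArg (Subgroup.map f) heq
    rw [Subgroup.map_inf _ _ _ hf, Subgroup.map_commutator, ← MonoidHom.range_eq_map] at h1
    rw [h1]
    unfold indFam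
    rw [iSup_image, iSup_image, Subgroup.map_iSup]
    apply iSup_congr
    intro W
    rw [Subgroup.map_iSup]
    apply iSup_congr
    intro hW
    unfold focalTerm
    have e := inducedFunctor_map_of_injOn W (h𝓦 W hW) f T hT.isPGroup
      (fun a _ ha => hf (ha.trans (map_one f).symm))
    have e2 : ((⊤ : Subgroup X) ⊓ Subgroup.normalizer ((Cfsg.inducedFunctor W T : Subgroup X) : Set X)).map f =
        f.range ⊓ Subgroup.normalizer ((Cfsg.inducedFunctor W (T.map f) : Subgroup Y) : Set Y) := by
      rw [top_inf_eq, map_normalizer_of_injective f hf, e]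
    rw [Subgroup.map_inf _ _ _ hf, Subgroup.map_commutator, e2]

theorem familyControlsTransfer_subgroup_of_top [Fact p.Prime] (h𝓦 : ∀ W ∈ 𝓦, Cfsg.IsCharPFunctor.{u} p W)
    {G : Type u} [Group G] [Finite G] (H : Subgroup G)
    (h : Cfsg.FamilyControlsTransferIn p (indFam 𝓦 ↥H) ⊤) :
    Cfsg.FamilyControlsTransferIn p (indFam 𝓦 G) H := by
  have := familyControlsTransfer_range_of_injective h𝓦 H.subtype H.subtype_injective h
  rwa [Subgroup.range_subtype] at this

theorem familyControlsTransfer_top_of_mulEquiv [Fact p.Prime] (h𝓦 : ∀ W ∈ 𝓦, Cfsg.IsCharPFunctor.{u} p W)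
    {X Y : Type u} [Group X] [Group Y] [Finite X] (e : X ≃* Y)
    (h : Cfsg.FamilyControlsTransferIn p (indFam 𝓦 X) ⊤) :
    Cfsg.FamilyControlsTransferIn p (indFam 𝓦 Y) ⊤ := by
  have := familyControlsTransfer_range_of_injective h𝓦 e.toMonoidHom e.injective h
  rwa [MonoidHom.range_eq_top.mpr e.surjective] at this

end family

end Cfsg.Agent.Lib.Helper33
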