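import Cfsg.Agent.Lib.Helper33.SectionFusion
import Cfsg.Agent.Lib.Helper33.CentricNormal
import Cfsg.Agent.Lib.Helper33.TransferControl2
import Cfsg.Prelude.Def_PLocal
import Cfsg.Prelude.Def_LocalEven
import Cfsg.Prelude.Def_TwoFusion

/-!
# Factorizations `G* = C(Ω₁Z(S*)) N(W(S*))` in constrained sections (helper33 library)

Lifting such factorizations through normal `p'`-subgroups and to normalizers of centric `p`-subgroups.
-/

set_option autoImplicit false

namespace Cfsg.Agent.Lib.Helper33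

universe u

section oz

variable {G : Type*} [Group G]

/-- `Ω₁Z(T)` in the form used by the Prelude -/
def oz (p : ℕ) (T : Subgroup G) : Subgroup G :=
  Cfsg.omegaOne p (T ⊓ Subgroup.centralizer (T : Set G))

theorem oz_le (p : ℕ) (T : Subgroup G) : oz p T ≤ T := by
  unfold oz Cfsg.omegaOne
  rw [Subgroup.closure_le]
  intro x hx
  exact hx.1.1

theorem oz_le_centralizer (p : ℕ) (T : Subgroup G) : oz p T ≤ Subgroup.centralizer (T : Set G) := by
  unfold oz Cfsg.omegaOne
  rw [Subgroup.closure_le]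
  intro x hx
  exact hx.1.2

/-- `Ω₁Z(f(T)) = f(Ω₁Z(T))` for `f` injective on `T`. -/
theorem oz_map_of_injOn (p : ℕ) {X Y : Type*} [Group X] [Group Y] (f : X →* Y) (T : Subgroup X)
    (hinj : ∀ x ∈ T, f x = 1 → x = 1) : oz p (T.map f) = (oz p T).map f := by
  unfold oz Cfsg.omegaOne
  rw [MonoidHom.map_closure]
  congr 1
  ext y
  simp only [Set.mem_ofPred_eq, Set.mem_image, Subgroup.mem_inf, Subgroup.mem_centralizer_iff]
  constructor
  · rintro ⟨⟨⟨x, hx, rfl⟩, hc⟩, hp⟩
    refine ⟨x, ⟨⟨hx, ?_⟩, ?_⟩, rfl⟩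
    · intro t ht
      have h1 := hc (f t) (Subgroup.mem_map_of_mem f ht)
      have h2 : f (t * x * t⁻¹ * x⁻¹) = 1 := by
        simp only [map_mul, map_inv]
        rw [h1]; group
      have h3 := hinj _ (T.mul_mem (T.mul_mem (T.mul_mem ht hx) (T.inv_mem ht)) (T.inv_mem hx)) h2
      calc t * x = (t * x * t⁻¹ * x⁻¹) * x * t := by group
        _ = x * t := by rw [h3, one_mul]
    · rw [← map_pow] at hp
      exact hinj _ (T.pow_mem hx p) hp
  · rintro ⟨x, ⟨⟨hx, hc⟩, hp⟩, rfl⟩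
    refine ⟨⟨Subgroup.mem_map_of_mem f hx, ?_⟩, ?_⟩
    · rintro _ ⟨t, ht, rfl⟩
      rw [← map_mul, ← map_mul, hc t ht]
    · rw [← map_pow, hp, map_one]

end oz

section lift

variable {p : ℕ} (W : ∀ (Q : Type u) [Group Q], Subgroup Q)

/-- the factorization `x ∈ C(Ω₁Z(T)) N(W(T))` -/
def CZNFact (p : ℕ) (W : ∀ (Q : Type u) [Group Q], Subgroup Q) {Y : Type u} [Group Y] (T : Subgroup Y) (x : Y) : Prop :=
  ∃ a ∈ Subgroup.centralizer ((oz p T : Subgroup Y) : Set Y),
    ∃ b ∈ Subgroup.normalizer ((Cfsg.inducedFunctor W T : Subgroup Y) : Set Y), x = a * b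

/-- Lifting a factorization from `Y ⧸ K` to `Y`, for a normal `p'`-subgroup `K` centralizing `Ω₁Z(T)`. -/
theorem cznFact_of_quotient_pPrime [Fact p.Prime] (hW : Cfsg.IsCharPFunctor.{u} p W) {Y : Type u} [Group Y]
    [Finite Y] (K : Subgroup Y) [K.Normal] (hK : (Nat.card K).Coprime p) (T : Subgroup Y)
    (hT : IsPGroup p T) (hKZ : K ≤ Subgroup.centralizer ((oz p T : Subgroup Y) : Set Y)) (x : Y)
    (h : CZNFact p W (T.map (QuotientGroup.mk' K)) (QuotientGroup.mk' K x)) : CZNFact p W T x := by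
  obtain ⟨ab, hab, bb, hbb, hx⟩ := h
  obtain ⟨a, rfl⟩ := QuotientGroup.mk'_surjective K ab
  obtain ⟨b, rfl⟩ := QuotientGroup.mk'_surjective K bb
  have hcf := isConjugacyFunctor_inducedFunctor W hW (G := Y)
  have hVT : Cfsg.inducedFunctor W T ≤ T := cf_le hcf hT
  have hVp : IsPGroup p (Cfsg.inducedFunctor W T) := hT.to_le hVT
  have hZp : IsPGroup p (oz p T) := hT.to_le (oz_le p T)
  have hinj := injOn_mk_of_pPrime K hK hT
  have e : Cfsg.inducedFunctor W (T.map (QuotientGroup.mk' K)) =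
      (Cfsg.inducedFunctor W T).map (QuotientGroup.mk' K) :=
    inducedFunctor_map_of_injOn W hW (QuotientGroup.mk' K) T hT hinj
  have ez : oz p (T.map (QuotientGroup.mk' K)) = (oz p T).map (QuotientGroup.mk' K) :=
    oz_map_of_injOn p (QuotientGroup.mk' K) T hinj
  -- lifting `b`
  have hbN : b ∈ Subgroup.normalizer ((Cfsg.inducedFunctor W T ⊔ K : Subgroup Y) : Set Y) := by
    have h1 : b ∈ (Subgroup.normalizer
        (((Cfsg.inducedFunctor W T).map (QuotientGroup.mk' K) : Subgroup (Y ⧸ K)) : Set (Y ⧸ K))).comap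
        (QuotientGroup.mk' K) := by
      rw [← e]; exact hbb
    have h2 := Subgroup.le_normalizer_comap (QuotientGroup.mk' K) h1
    rwa [Subgroup.comap_map_eq, QuotientGroup.ker_mk'] at h2
  obtain ⟨k, hk, hkb⟩ := exists_mul_mem_normalizer_of_sup hVp hK hbN
  -- lifting `a`
  have haN : a ∈ Subgroup.normalizer ((oz p T ⊔ K : Subgroup Y) : Set Y) := by
    have h1 : a ∈ (Subgroup.normalizer
        (((oz p T).map (QuotientGroup.mk' K) : Subgroup (Y ⧸ K)) : Set (Y ⧸ K))).comap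
        (QuotientGroup.mk' K) := by
      rw [← ez]; exact Subgroup.centralizer_le_normalizer _ hab
    have h2 := Subgroup.le_normalizer_comap (QuotientGroup.mk' K) h1
    rwa [Subgroup.comap_map_eq, QuotientGroup.ker_mk'] at h2
  obtain ⟨l, hl, hla⟩ := exists_mul_mem_normalizer_of_sup hZp hK haN
  have hπK : ∀ k' ∈ K, QuotientGroup.mk' K k' = 1 := by
    intro k' hk'
    rw [QuotientGroup.mk'_apply, QuotientGroup.eq_one_iff]; exact hk'
  have hlaC : l * a ∈ Subgroup.centralizer ((oz p T : Subgroup Y) : Set Y) := by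
    rw [Subgroup.mem_centralizer_iff]
    intro z hz
    have h1 : (l * a) * z * (l * a)⁻¹ ∈ oz p T := by
      have := conj_mem_cj (g := l * a) hz
      rwa [cj_eq_self_of_mem_normalizer hla] at this
    have h2 : (l * a) * z * (l * a)⁻¹ * z⁻¹ ∈ K := by
      rw [← QuotientGroup.eq_one_iff, ← QuotientGroup.mk'_apply]
      simp only [map_mul, map_inv, hπK l hl, one_mul]
      have h3 := (Subgroup.mem_centralizer_iff.mp hab) (QuotientGroup.mk' K z)
        (by rw [ez]; exact Subgroup.mem_map_of_mem _ hz)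
      rw [← h3]; group
    have h4 : (l * a) * z * (l * a)⁻¹ * z⁻¹ ∈ oz p T ⊓ K :=
      ⟨(oz p T).mul_mem h1 ((oz p T).inv_mem hz), h2⟩
    rw [pGroup_inf_pPrime_eq_bot hZp hK, Subgroup.mem_bot] at h4
    calc z * (l * a) = ((l * a) * z * (l * a)⁻¹ * z⁻¹)⁻¹ * ((l * a) * z) := by group
      _ = (l * a) * z := by rw [h4]; group
  -- the correction term
  have hk₀ : ((l * a) * (k * b))⁻¹ * x ∈ K := by
    rw [← QuotientGroup.eq_one_iff, ← QuotientGroup.mk'_apply]
    simp only [map_mul, map_inv, hπK l hl, hπK k hk, one_mul]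
    rw [hx]; group
  have hk₁ : (k * b) * (((l * a) * (k * b))⁻¹ * x) * (k * b)⁻¹ ∈ K :=
    Subgroup.Normal.conj_mem inferInstance _ hk₀ _
  refine ⟨(l * a) * ((k * b) * (((l * a) * (k * b))⁻¹ * x) * (k * b)⁻¹),
    Subgroup.mul_mem _ hlaC (hKZ hk₁), k * b, hkb, ?_⟩
  group

/-- A group with a normal centric `p`-subgroup `P` inherits the factorization from its quotient by the largest normal
`p'`-subgroup. -/
theorem cznFact_of_normal_centric [Fact p.Prime] (hW : Cfsg.IsCharPFunctor.{u} p W) {Y : Type u} [Group Y]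
    [Finite Y] (S : Sylow p Y) (P : Subgroup Y) [hPn : P.Normal] (hPS : P ≤ (S : Subgroup Y))
    (hcent : (S : Subgroup Y) ⊓ Subgroup.centralizer (P : Set Y) ≤ P)
    (K : Subgroup Y) [hKn : K.Normal] (hK : (Nat.card K).Coprime p)
    (hKmax : ∀ N : Subgroup Y, N.Normal → (Nat.card N).Coprime p → N ≤ K)
    (hq : Constrained p (Y ⧸ K) → ∀ (T : Sylow p (Y ⧸ K)) (x : Y ⧸ K), CZNFact p W (T : Subgroup (Y ⧸ K)) x)
    (y : Y) : CZNFact p W (S : Subgroup Y) y := by
  have hcon := constrained_quotient_of_normal_centric S P hPS hcent K hK hKmax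
  have hπ : Function.Surjective (QuotientGroup.mk' K) := QuotientGroup.mk'_surjective K
  have h1 := hq hcon (S.mapSurjective hπ) (QuotientGroup.mk' K y)
  rw [Sylow.coe_mapSurjective] at h1
  have hPp : IsPGroup p P := S.isPGroup'.to_le hPS
  have hKP : K ≤ Subgroup.centralizer (P : Set Y) := by
    intro k hk
    rw [Subgroup.mem_centralizer_iff]
    intro x hx
    have h2 : k * x * k⁻¹ * x⁻¹ ∈ P ⊓ K := by
      refine ⟨P.mul_mem (hPn.conj_mem x hx k) (P.inv_mem hx), ?_⟩
      have : k * x * k⁻¹ * x⁻¹ = k * (x * k⁻¹ * x⁻¹) := by group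
      rw [this]
      exact K.mul_mem hk (hKn.conj_mem _ (K.inv_mem hk) x)
    rw [pGroup_inf_pPrime_eq_bot hPp hK, Subgroup.mem_bot] at h2
    calc x * k = (k * x * k⁻¹ * x⁻¹)⁻¹ * (k * x) := by group
      _ = k * x := by rw [h2]; group
  have hZP : oz p (S : Subgroup Y) ≤ P := by
    unfold oz Cfsg.omegaOne
    rw [Subgroup.closure_le]
    intro x hx
    refine hcent ⟨hx.1.1, ?_⟩
    exact Subgroup.centralizer_le hPS hx.1.2
  have hKZ : K ≤ Subgroup.centralizer ((oz p (S : Subgroup Y) : Subgroup Y) : Set Y) :=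
    hKP.trans (Subgroup.centralizer_le hZP)
  exact cznFact_of_quotient_pPrime W hW K hK (S : Subgroup Y) S.isPGroup' hKZ y h1

end lift

section ambient

variable {p : ℕ} (W : ∀ (Q : Type u) [Group Q], Subgroup Q)

/-- the hypothesis: the factorization `G* = C(Ω₁Z(S*)) N(W(S*))` in all constrained sections `G* = K/R` of `G` -/
def SecCZNFact (p : ℕ) (W : ∀ (Q : Type u) [Group Q], Subgroup Q) (G : Type u) [Group G] : Prop :=
  ∀ (K R : Subgroup G) [(R.subgroupOf K).Normal], Constrained p (↥K ⧸ R.subgroupOf K) →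
    ∀ (T : Sylow p (↥K ⧸ R.subgroupOf K)) (x : ↥K ⧸ R.subgroupOf K),
      CZNFact p W (T : Subgroup (↥K ⧸ R.subgroupOf K)) x

theorem mem_normalizer_map_subtype_iff {G : Type*} [Group G] (H : Subgroup G) (L' : Subgroup ↥H) (y : ↥H) :
    y ∈ Subgroup.normalizer (L' : Set ↥H) ↔
      (y : G) ∈ Subgroup.normalizer ((L'.map H.subtype : Subgroup G) : Set G) := by
  have h1 : L'.map H.subtype ≤ H.subtype.range := Subgroup.map_le_range _ _
  have h2 := Subgroup.comap_normalizer_eq_of_le_range h1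
  rw [Subgroup.comap_map_eq_self_of_injective H.subtype_injective] at h2
  rw [← h2, Subgroup.mem_comap]
  rfl

variable {G : Type u} [Group G] [Finite G]

/-- The factorization holds for the elements of the normalizer of a centric subgroup `P` normal in `S`. -/
theorem cznFact_of_centric [Fact p.Prime] (hW : Cfsg.IsCharPFunctor.{u} p W) (S : Sylow p G)
    (hfac : SecCZNFact p W G) (P : Subgroup G) (hPS : P ≤ (S : Subgroup G))
    (hSP : (S : Subgroup G) ≤ Subgroup.normalizer (P : Set G))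
    (hcent : (S : Subgroup G) ⊓ Subgroup.centralizer (P : Set G) ≤ P) (m : G)
    (hm : m ∈ Subgroup.normalizer (P : Set G)) : CZNFact p W (S : Subgroup G) m := by
  set M := Subgroup.normalizer (P : Set G) with hM
  have hsyl : SylIn p (S : Subgroup G) M := sylIn_of_sylow_le S hSP
  have hS' : ((hsyl.toSylow : Sylow p ↥M) : Subgroup ↥M) = (S : Subgroup G).subgroupOf M := hsyl.coe_toSylow
  have hP'n : (P.subgroupOf M).Normal := Subgroup.normal_in_normalizer
  have hPM : P ≤ M := Subgroup.le_normalizer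
  have hP'S' : P.subgroupOf M ≤ ((hsyl.toSylow : Sylow p ↥M) : Subgroup ↥M) := by
    intro x hx
    rw [hS', Subgroup.mem_subgroupOf]
    exact hPS (Subgroup.mem_subgroupOf.mp hx)
  have hcent' : ((hsyl.toSylow : Sylow p ↥M) : Subgroup ↥M) ⊓
      Subgroup.centralizer ((P.subgroupOf M : Subgroup ↥M) : Set ↥M) ≤ P.subgroupOf M := by
    intro x hx
    obtain ⟨hx1, hx2⟩ := Subgroup.mem_inf.mp hx
    rw [hS', Subgroup.mem_subgroupOf] at hx1
    rw [Subgroup.mem_subgroupOf]
    have hx3 : (x : G) ∈ Subgroup.centralizer (P : Set G) := by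
      rw [Subgroup.mem_centralizer_iff]
      intro y hy
      have := (Subgroup.mem_centralizer_iff.mp hx2) ⟨y, hPM hy⟩ (Subgroup.mem_subgroupOf.mpr hy)
      exact congrArg Subtype.val this
    exact hcent (Subgroup.mem_inf.mpr ⟨hx1, hx3⟩)
  -- the section `M / O_{p'}(M)`
  have hK'n : (Cfsg.pPrimeCore p ↥M).Normal := Subgroup.sSup_normal _ (fun _ h => h.1)
  have e : ((Cfsg.pPrimeCore p ↥M).map M.subtype).subgroupOf M = Cfsg.pPrimeCore p ↥M :=
    Subgroup.comap_map_eq_self_of_injective M.subtype_injective _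
  have hRn : (((Cfsg.pPrimeCore p ↥M).map M.subtype).subgroupOf M).Normal := by rw [e]; exact hK'n
  have hRc : (Nat.card (((Cfsg.pPrimeCore p ↥M).map M.subtype).subgroupOf M)).Coprime p := by
    rw [e]; exact Cfsg.Agent.Lib.Helper76.pPrimeCore_coprime p
  have hRmax : ∀ N : Subgroup ↥M, N.Normal → (Nat.card N).Coprime p →
      N ≤ ((Cfsg.pPrimeCore p ↥M).map M.subtype).subgroupOf M := by
    rw [e]; exact fun N hN hNp => Cfsg.Agent.Lib.Helper76.le_pPrimeCore p N hN hNp
  have h := cznFact_of_normal_centric W hW hsyl.toSylow (P.subgroupOf M) hP'S' hcent'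
    (((Cfsg.pPrimeCore p ↥M).map M.subtype).subgroupOf M) hRc hRmax
    (fun hcon T x => hfac M ((Cfsg.pPrimeCore p ↥M).map M.subtype) hcon T x) ⟨m, hm⟩
  -- transport to `G`
  have hinj : ∀ x ∈ ((hsyl.toSylow : Sylow p ↥M) : Subgroup ↥M), M.subtype x = 1 → x = 1 :=
    fun x _ hx => M.subtype_injective (by rw [hx, map_one])
  have hmap : ((hsyl.toSylow : Sylow p ↥M) : Subgroup ↥M).map M.subtype = (S : Subgroup G) := by
    rw [hS']; exact Subgroup.map_subgroupOf_eq_of_le hSP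
  have ez := oz_map_of_injOn p M.subtype ((hsyl.toSylow : Sylow p ↥M) : Subgroup ↥M) hinj
  have ew := inducedFunctor_map_of_injOn W hW M.subtype ((hsyl.toSylow : Sylow p ↥M) : Subgroup ↥M)
    (hsyl.toSylow).isPGroup' hinj
  rw [hmap] at ez ew
  obtain ⟨a, ha, b, hb, hab⟩ := h
  refine ⟨a.1, ?_, b.1, ?_, congrArg Subtype.val hab⟩
  · rw [Subgroup.mem_centralizer_iff]
    intro z hz
    rw [SetLike.mem_coe, ez] at hz
    obtain ⟨z', hz', rfl⟩ := hz
    exact congrArg Subtype.val ((Subgroup.mem_centralizer_iff.mp ha) z' hz')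
  · rw [ew]
    exact (mem_normalizer_map_subtype_iff M _ b).mp hb

/-- For `n ∈ N(Wa(S))` and `z ∈ Ω₁Z(S) ≤ Wa(S)`, the conjugate `n z n⁻¹` is a conjugate of `z` by an element of
`N(Wb(S))`, if `Wb` satisfies the factorization hypothesis. -/
theorem exists_conj_eq_of_secCZNFact [Fact p.Prime] (Wa Wb : ∀ (Q : Type u) [Group Q], Subgroup Q)
    (hWa : Cfsg.IsCharPFunctor.{u} p Wa) (hWb : Cfsg.IsCharPFunctor.{u} p Wb) (S : Sylow p G)
    (hfac : SecCZNFact p Wb G)
    (hZ : oz p (S : Subgroup G) ≤ Cfsg.inducedFunctor Wa (S : Subgroup G)) {n z : G}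
    (hn : n ∈ Subgroup.normalizer ((Cfsg.inducedFunctor Wa (S : Subgroup G) : Subgroup G) : Set G))
    (hz : z ∈ oz p (S : Subgroup G)) :
    ∃ b ∈ Subgroup.normalizer ((Cfsg.inducedFunctor Wb (S : Subgroup G) : Subgroup G) : Set G),
      n * z * n⁻¹ = b * z * b⁻¹ := by
  set U := Cfsg.inducedFunctor Wa (S : Subgroup G) with hU
  have hcf := isConjugacyFunctor_inducedFunctor Wa hWa (G := G)
  have hUS : U ≤ (S : Subgroup G) := cf_le hcf S.isPGroup'
  have hSU : (S : Subgroup G) ≤ Subgroup.normalizer (U : Set G) :=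
    Subgroup.le_normalizer.trans (cf_normalizer_le hcf S.isPGroup')
  have hfn : FullyNormalized p (S : Subgroup G) U := by
    unfold FullyNormalized
    rw [inf_eq_left.mpr hSU]
    exact (sylIn_of_sylow_le S hSU).not_dvd
  have hNC : ∀ g ∈ Subgroup.normalizer (U : Set G),
      cj g (Subgroup.centralizer (U : Set G)) = Subgroup.centralizer (U : Set G) := fun g hg => by
    rw [cj_centralizer, cj_eq_self_of_mem_normalizer hg]
  have hPS : U ⊔ ((S : Subgroup G) ⊓ Subgroup.centralizer (U : Set G)) ≤ (S : Subgroup G) :=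
    sup_le hUS inf_le_left
  have hSP : (S : Subgroup G) ≤ Subgroup.normalizer
      ((U ⊔ ((S : Subgroup G) ⊓ Subgroup.centralizer (U : Set G)) : Subgroup G) : Set G) := by
    intro s hs
    rw [mem_normalizer_iff_cj_eq, cj_sup, cj_inf, cj_eq_self_of_mem_normalizer (hSU hs),
      cj_eq_self_of_mem hs, hNC s (hSU hs)]
  have hcent : (S : Subgroup G) ⊓ Subgroup.centralizer
      ((U ⊔ ((S : Subgroup G) ⊓ Subgroup.centralizer (U : Set G)) : Subgroup G) : Set G) ≤
      U ⊔ ((S : Subgroup G) ⊓ Subgroup.centralizer (U : Set G)) := by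
    intro x hx
    obtain ⟨hx1, hx2⟩ := Subgroup.mem_inf.mp hx
    have hx3 : x ∈ Subgroup.centralizer (U : Set G) :=
      Subgroup.centralizer_le (show (U : Set G) ⊆ _ from SetLike.coe_subset_coe.mpr le_sup_left) hx2
    exact (le_sup_right : _ ≤ U ⊔ ((S : Subgroup G) ⊓ Subgroup.centralizer (U : Set G)))
      (Subgroup.mem_inf.mpr ⟨hx1, hx3⟩)
  obtain ⟨c, hc, hcn⟩ := exists_centralizer_mul_mem_normalizer hfn hn
  have hcnU : c * n ∈ Subgroup.normalizer (U : Set G) :=
    mul_mem (Subgroup.centralizer_le_normalizer _ hc) hn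
  have hcnP : c * n ∈ Subgroup.normalizer
      ((U ⊔ ((S : Subgroup G) ⊓ Subgroup.centralizer (U : Set G)) : Subgroup G) : Set G) := by
    rw [mem_normalizer_iff_cj_eq, cj_sup, cj_eq_self_of_mem_normalizer hcnU,
      cj_eq_self_of_mem_normalizer hcn]
  obtain ⟨a, ha, b, hb, hab⟩ := cznFact_of_centric Wb hWb S hfac _ hPS hSP hcent (c * n)⁻¹ (inv_mem hcnP)
  refine ⟨b⁻¹, inv_mem hb, ?_⟩
  have hzU : z ∈ U := hZ hz
  have h1 : (c * n) * z * (c * n)⁻¹ ∈ U := by
    have := conj_mem_cj (g := c * n) hzU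
    rwa [cj_eq_self_of_mem_normalizer hcnU] at this
  have h2 := (Subgroup.mem_centralizer_iff.mp hc) _ h1
  have h3 := (Subgroup.mem_centralizer_iff.mp ha) z hz
  have h4 : c * n = b⁻¹ * a⁻¹ := by rw [← mul_inv_rev, ← hab, inv_inv]
  calc n * z * n⁻¹ = c⁻¹ * (((c * n) * z * (c * n)⁻¹) * c) := by group
    _ = c⁻¹ * (c * ((c * n) * z * (c * n)⁻¹)) := by rw [h2]
    _ = (c * n) * z * (c * n)⁻¹ := by group
    _ = b⁻¹ * (a⁻¹ * (z * a)) * b := by rw [h4]; group
    _ = b⁻¹ * (a⁻¹ * (a * z)) * b := by rw [h3]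
    _ = b⁻¹ * z * (b⁻¹)⁻¹ := by group

end ambient

section closure

variable {G : Type*} [Group G]

/-- the subgroup generated by the `N`-conjugates of the elements of `Z` -/
def conjClosure (N Z : Subgroup G) : Subgroup G :=
  Subgroup.closure {g | ∃ n ∈ N, ∃ z ∈ Z, g = n * z * n⁻¹}

theorem conj_mem_conjClosure {N Z : Subgroup G} {n z : G} (hn : n ∈ N) (hz : z ∈ Z) :
    n * z * n⁻¹ ∈ conjClosure N Z :=
  Subgroup.subset_closure ⟨n, hn, z, hz, rfl⟩

theorem conjClosure_le {N Z X : Subgroup G} (h : ∀ n ∈ N, ∀ z ∈ Z, n * z * n⁻¹ ∈ X) :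
    conjClosure N Z ≤ X := by
  unfold conjClosure
  rw [Subgroup.closure_le]
  rintro _ ⟨n, hn, z, hz, rfl⟩
  exact h n hn z hz

theorem le_conjClosure {N Z : Subgroup G} : Z ≤ conjClosure N Z := by
  intro z hz
  have := conj_mem_conjClosure (N := N) N.one_mem hz
  simpa using this

theorem le_normalizer_conjClosure (N Z : Subgroup G) :
    N ≤ Subgroup.normalizer ((conjClosure N Z : Subgroup G) : Set G) := by
  have key : ∀ n ∈ N, cj n (conjClosure N Z) ≤ conjClosure N Z := by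
    intro n hn
    unfold conjClosure
    rw [cj_closure, Subgroup.closure_le]
    rintro _ ⟨_, ⟨n', hn', z, hz, rfl⟩, rfl⟩
    have e : n * (n' * z * n'⁻¹) * n⁻¹ = (n * n') * z * (n * n')⁻¹ := by group
    show n * (n' * z * n'⁻¹) * n⁻¹ ∈ _
    rw [e]
    exact Subgroup.subset_closure ⟨n * n', N.mul_mem hn hn', z, hz, rfl⟩
  intro n hn
  rw [mem_normalizer_iff_cj_eq]
  apply le_antisymm (key n hn)
  have := cj_mono (g := n) (key n⁻¹ (N.inv_mem hn))
  rwa [cj_cj_inv] at this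

theorem map_normalClosure_eq_conjClosure {N Z : Subgroup G} (hZN : Z ≤ N) :
    (Subgroup.normalClosure ((Z.subgroupOf N : Subgroup ↥N) : Set ↥N)).map N.subtype = conjClosure N Z := by
  have hle : conjClosure N Z ≤ N :=
    conjClosure_le (fun n hn z hz => N.mul_mem (N.mul_mem hn (hZN hz)) (N.inv_mem hn))
  apply le_antisymm
  · rw [Subgroup.map_le_iff_le_comap]
    have hn : ((conjClosure N Z).subgroupOf N).Normal :=
      (Subgroup.normal_subgroupOf_iff_le_normalizer hle).mpr (le_normalizer_conjClosure N Z)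
    apply Subgroup.normalClosure_le_normal (N := (conjClosure N Z).subgroupOf N)
    intro z hz
    exact Subgroup.mem_subgroupOf.mpr (le_conjClosure (Subgroup.mem_subgroupOf.mp hz))
  · apply conjClosure_le
    intro n hn z hz
    have h1 : (⟨z, hZN hz⟩ : ↥N) ∈ Subgroup.normalClosure ((Z.subgroupOf N : Subgroup ↥N) : Set ↥N) :=
      Subgroup.subset_normalClosure (Subgroup.mem_subgroupOf.mpr hz)
    have h2 := (Subgroup.normalClosure_normal (s := ((Z.subgroupOf N : Subgroup ↥N) : Set ↥N))).conj_mem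
      _ h1 ⟨n, hn⟩
    exact ⟨_, h2, rfl⟩

/-- the elements of order dividing `p` of `Z(V)`, as a subgroup -/
def ozSub (p : ℕ) (V : Subgroup G) : Subgroup G where
  carrier := {x | x ∈ V ∧ x ∈ Subgroup.centralizer (V : Set G) ∧ x ^ p = 1}
  mul_mem' := by
    rintro x y ⟨hx1, hx2, hx3⟩ ⟨hy1, hy2, hy3⟩
    refine ⟨V.mul_mem hx1 hy1, Subgroup.mul_mem _ hx2 hy2, ?_⟩
    have hc : Commute x y := (Subgroup.mem_centralizer_iff.mp hy2) x hx1
    rw [hc.mul_pow, hx3, hy3, one_mul]
  one_mem' := ⟨V.one_mem, Subgroup.one_mem _, one_pow p⟩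
  inv_mem' := by
    rintro x ⟨hx1, hx2, hx3⟩
    exact ⟨V.inv_mem hx1, Subgroup.inv_mem _ hx2, by rw [inv_pow, hx3, inv_one]⟩

theorem mem_ozSub {p : ℕ} {V : Subgroup G} {x : G} :
    x ∈ ozSub p V ↔ x ∈ V ∧ x ∈ Subgroup.centralizer (V : Set G) ∧ x ^ p = 1 := Iff.rfl

theorem ozSub_le (p : ℕ) (V : Subgroup G) : ozSub p V ≤ V := fun _ hx => hx.1

theorem isElementaryAbelian_of_le_ozSub {p : ℕ} {V A : Subgroup G} (h : A ≤ ozSub p V) :
    Cfsg.IsElementaryAbelian p A := by
  refine ⟨⟨⟨fun a b => Subtype.ext ?_⟩⟩, fun a ha => (h ha).2.2⟩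
  exact (Subgroup.mem_centralizer_iff.mp (h b.2).2.1) a.1 (h a.2).1

theorem conj_mem_ozSub {p : ℕ} {V : Subgroup G} {n x : G}
    (hn : n ∈ Subgroup.normalizer (V : Set G)) (hx : x ∈ ozSub p V) : n * x * n⁻¹ ∈ ozSub p V := by
  obtain ⟨hx1, hx2, hx3⟩ := hx
  refine ⟨?_, ?_, ?_⟩
  · have := conj_mem_cj (g := n) hx1
    rwa [cj_eq_self_of_mem_normalizer hn] at this
  · have := conj_mem_cj (g := n) hx2
    rwa [cj_centralizer, cj_eq_self_of_mem_normalizer hn] at this
  · rw [conj_pow, hx3, mul_one, mul_inv_cancel]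

end closure

section main

variable {p : ℕ} {G : Type u} [Group G] [Finite G]

/-- the normal closures of `Ω₁Z(S)` in `N(W₁(S))` and `N(W₂(S))` coincide -/
theorem conjClosure_eq_of_secCZNFact [Fact p.Prime] (W₁ W₂ : ∀ (Q : Type u) [Group Q], Subgroup Q)
    (hW₁ : Cfsg.IsCharPFunctor.{u} p W₁) (hW₂ : Cfsg.IsCharPFunctor.{u} p W₂) (S : Sylow p G)
    (hfac₁ : SecCZNFact p W₁ G) (hfac₂ : SecCZNFact p W₂ G)
    (hZ : oz p (S : Subgroup G) ≤
      Cfsg.inducedFunctor W₁ (S : Subgroup G) ⊓ Cfsg.inducedFunctor W₂ (S : Subgroup G)) :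
    conjClosure (Subgroup.normalizer ((Cfsg.inducedFunctor W₁ (S : Subgroup G) : Subgroup G) : Set G))
        (oz p (S : Subgroup G)) =
      conjClosure (Subgroup.normalizer ((Cfsg.inducedFunctor W₂ (S : Subgroup G) : Subgroup G) : Set G))
        (oz p (S : Subgroup G)) := by
  apply le_antisymm
  · apply conjClosure_le
    intro n hn z hz
    obtain ⟨b, hb, e⟩ := exists_conj_eq_of_secCZNFact W₁ W₂ hW₁ hW₂ S hfac₂ (hZ.trans inf_le_left) hn hz
    rw [e]
    exact conj_mem_conjClosure hb hz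
  · apply conjClosure_le
    intro n hn z hz
    obtain ⟨b, hb, e⟩ := exists_conj_eq_of_secCZNFact W₂ W₁ hW₂ hW₁ S hfac₁ (hZ.trans inf_le_right) hn hz
    rw [e]
    exact conj_mem_conjClosure hb hz

/-- **Triple factorization**: the normal closure `A` of `Ω₁Z(S)` in `N(W₁(S))` is an elementary abelian subgroup of `S`,
strongly closed in `S` with respect to `G`, and `N_G(A)` controls strong fusion in `S`. -/
theorem tripleFact_main [Fact p.Prime] (W₁ W₂ : ∀ (Q : Type u) [Group Q], Subgroup Q)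
    (hW₁ : Cfsg.IsCharPFunctor.{u} p W₁) (hW₂ : Cfsg.IsCharPFunctor.{u} p W₂) (S : Sylow p G)
    (hfac₁ : SecCZNFact p W₁ G) (hfac₂ : SecCZNFact p W₂ G)
    (hctl : Cfsg.FamilyControlsStrongFusionIn p
      {Cfsg.inducedFunctor (G := G) W₁, Cfsg.inducedFunctor (G := G) W₂} ⊤)
    (hZ : oz p (S : Subgroup G) ≤
      Cfsg.inducedFunctor W₁ (S : Subgroup G) ⊓ Cfsg.inducedFunctor W₂ (S : Subgroup G)) :
    conjClosure (Subgroup.normalizer ((Cfsg.inducedFunctor W₁ (S : Subgroup G) : Subgroup G) : Set G))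
        (oz p (S : Subgroup G)) ≤ (S : Subgroup G) ∧
      Cfsg.IsElementaryAbelian p
        (conjClosure (Subgroup.normalizer ((Cfsg.inducedFunctor W₁ (S : Subgroup G) : Subgroup G) : Set G))
          (oz p (S : Subgroup G))) ∧
      Cfsg.IsStronglyClosed
        (conjClosure (Subgroup.normalizer ((Cfsg.inducedFunctor W₁ (S : Subgroup G) : Subgroup G) : Set G))
          (oz p (S : Subgroup G))) (S : Subgroup G) ∧
      Cfsg.ControlsStrongFusion p
        (conjClosure (Subgroup.normalizer ((Cfsg.inducedFunctor W₁ (S : Subgroup G) : Subgroup G) : Set G))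
          (oz p (S : Subgroup G))) := by
  have heq := conjClosure_eq_of_secCZNFact W₁ W₂ hW₁ hW₂ S hfac₁ hfac₂ hZ
  set V₁ := Cfsg.inducedFunctor W₁ (S : Subgroup G) with hV₁
  set V₂ := Cfsg.inducedFunctor W₂ (S : Subgroup G) with hV₂
  set A := conjClosure (Subgroup.normalizer (V₁ : Set G)) (oz p (S : Subgroup G)) with hA
  have hcf₁ := isConjugacyFunctor_inducedFunctor W₁ hW₁ (G := G)
  have hcf₂ := isConjugacyFunctor_inducedFunctor W₂ hW₂ (G := G)
  have hV₁S : V₁ ≤ (S : Subgroup G) := cf_le hcf₁ S.isPGroup'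
  -- `A ≤ Ω₁Z(V₁)`
  have hZE : oz p (S : Subgroup G) ≤ ozSub p V₁ := by
    intro z hz
    have hzV : z ∈ V₁ := (hZ hz).1
    revert hzV
    unfold oz Cfsg.omegaOne at hz
    induction hz using Subgroup.closure_induction with
    | mem x hx =>
      intro hxV
      exact ⟨hxV, Subgroup.centralizer_le (SetLike.coe_subset_coe.mpr hV₁S) hx.1.2, hx.2⟩
    | one => intro _; exact Subgroup.one_mem _
    | mul x y hx hy ihx ihy =>
      intro _
      have hxZ : x ∈ oz p (S : Subgroup G) := hx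
      have hyZ : y ∈ oz p (S : Subgroup G) := hy
      exact Subgroup.mul_mem _ (ihx (hZ hxZ).1) (ihy (hZ hyZ).1)
    | inv x hx ihx =>
      intro _
      have hxZ : x ∈ oz p (S : Subgroup G) := hx
      exact Subgroup.inv_mem _ (ihx (hZ hxZ).1)
  have hAE : A ≤ ozSub p V₁ :=
    conjClosure_le (fun n hn z hz => conj_mem_ozSub hn (hZE hz))
  have hAS : A ≤ (S : Subgroup G) := hAE.trans ((ozSub_le p V₁).trans hV₁S)
  -- both normalizers normalize `A`
  have hNA₁ : Subgroup.normalizer (V₁ : Set G) ≤ Subgroup.normalizer (A : Set G) :=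
    le_normalizer_conjClosure _ _
  have hNA₂ : Subgroup.normalizer (V₂ : Set G) ≤ Subgroup.normalizer (A : Set G) := by
    rw [heq]
    exact le_normalizer_conjClosure _ _
  have h𝓦 : ∀ W ∈ ({Cfsg.inducedFunctor (G := G) W₁, Cfsg.inducedFunctor (G := G) W₂} :
      Set (Subgroup G → Subgroup G)), Cfsg.IsConjugacyFunctor p W := by
    rintro W (rfl | rfl)
    · exact hcf₁
    · exact hcf₂
  have hgood := good_of_familyControls h𝓦 hctl (sylIn_top S)
  have hstep : stepSet {Cfsg.inducedFunctor (G := G) W₁, Cfsg.inducedFunctor (G := G) W₂} ⊤ (S : Subgroup G) ⊆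
      ((Subgroup.normalizer (A : Set G) : Subgroup G) : Set G) := by
    rintro x ⟨W, hW, hx⟩
    rcases hW with rfl | rfl
    · exact hNA₁ hx.2
    · exact hNA₂ hx.2
  have hctlA : ∀ (B : Set G) (g : G), B ⊆ (S : Subgroup G) → lc g B ⊆ (S : Subgroup G) →
      ∃ x ∈ Subgroup.normalizer (A : Set G), ∀ a ∈ B, g * a * g⁻¹ = x * a * x⁻¹ := by
    intro B g hB hgB
    obtain ⟨g', hreach, hagree⟩ := hgood B g (Subgroup.mem_top _) hB hgB
    exact ⟨g', (hreach.mono hstep le_rfl subset_rfl).mem_of_subgroup, fun a ha => (hagree a ha).symm⟩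
  refine ⟨hAS, isElementaryAbelian_of_le_ozSub hAE, ⟨hAS, ?_⟩, ⟨S, hAS, ?_⟩⟩
  · intro x hx g hgx
    obtain ⟨n, hn, hag⟩ := hctlA {x} g (by
      intro y hy; rw [Set.mem_singleton_iff.mp hy]; exact hAS hx) (by
      rintro _ ⟨y, hy, rfl⟩; rw [Set.mem_singleton_iff.mp hy]; exact hgx)
    rw [hag x rfl]
    have := conj_mem_cj (g := n) hx
    rwa [cj_eq_self_of_mem_normalizer hn] at this
  · intro B hB
    exact ⟨hB, fun g hg => hctlA B g hB hg⟩

end main

end Cfsg.Agent.Lib.Helper33
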