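/-
Helper33, module UDEC-[C2R] of helper94's sheet (S5655 part 2): changing the ratio of the two
components of a vector `u + v ∈ UXa` (`u`, `v` isotropic in two different members) by the torus
element of a hyperbolic pair of the member of `v`, corrected to determinant one by a quasi-reflection
whose centre is orthogonal to `u`, `v` and the partner of `v`.
-/
import Mathlib
import Cfsg.Agent.Lib.Helper94.UDec.Ex14
import Cfsg.Agent.Lib.Helper94.UDec.B1
import Cfsg.Agent.Lib.Helper45.UDecDil
import Cfsg.Agent.Lib.Helper45.UDecQR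

set_option autoImplicit false
set_option linter.unusedSectionVars false
set_option linter.unusedVariables false
set_option linter.unusedSimpArgs false

namespace Cfsg.Agent.Lib.Helper33.UDec

open Cfsg.Agent.Lib.Helper94 Cfsg.Agent.Lib.Helper94.SympData Cfsg.Agent.Lib.Helper94.UDec Module

variable {K V : Type*} [Field K] [AddCommGroup V] [Module K V] [FiniteDimensional K V]
variable {σ : K →+* K} {h : V → V → K}
variable {t k : ℕ} {D : Fin t → Submodule K V}

/-- (= [EX5] of the sheet) a non-isotropic vector of `W` orthogonal to a hyperbolic pair of `W`,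
when `W` has dimension at least three -/
theorem aniso_perp_hyp (F : FCtx σ h) {W : Submodule K V} (hW : NdOn h W) (hk : 3 ≤ finrank K W)
    {e f : V} (he : e ∈ W) (hf : f ∈ W) (hee : h e e = 0) (hff : h f f = 0) (hef : h e f = 1) :
    ∃ d ∈ W, h d d ≠ 0 ∧ h d e = 0 ∧ h d f = 0 := by
  obtain ⟨W', hW'W, hW'nd, hW'perp, hfr, -⟩ := ex_perp_hyp F hW he hf hee hff hef
  have h1 : 1 ≤ finrank K W' := by omega
  obtain ⟨d, hd, hdd⟩ := ex_aniso F hW'nd h1
  exact ⟨d, hW'W hd, hdd, (hW'perp d hd).1, (hW'perp d hd).2⟩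

/-- the torus element of a hyperbolic pair `e, f` of the member `D b`, made of determinant one by a
quasi-reflection with centre `d` (in some member, orthogonal to `e` and `f`): an element of `H` with an
explicit action on the vectors orthogonal to `d` -/
theorem ex_dil_HG (C : UCtx σ h k D) {b c : Fin t} {e f d : V} (he : e ∈ D b) (hf : f ∈ D b)
    (hd : d ∈ D c) (hee : h e e = 0) (hff : h f f = 0) (hef : h e f = 1) (hdd : h d d ≠ 0)
    (hde : h d e = 0) (hdf : h d f = 0) {ζ : K} (hζ : ζ ≠ 0) :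
    ∃ g ∈ HG h D, ∀ x, h x d = 0 →
      g x = x + ((ζ - 1) * h x f) • e + (((σ ζ)⁻¹ - 1) * h x e) • f := by
  have F := C.toFCtx
  have hH := C.herm
  have hσζ : σ ζ ≠ 0 := F.σ_ne_zero hζ
  have hη : (σ ζ / ζ) * σ (σ ζ / ζ) = 1 := by
    rw [map_div₀, F.invol]
    field_simp
  obtain ⟨g1, hg1U, hg1det, hg1⟩ := Cfsg.Agent.Lib.Helper45.UDec.ex_dil F hee hff hef hζ
  obtain ⟨g2, hg2U, hg2det, hg2⟩ := Cfsg.Agent.Lib.Helper45.UDec.ex_qrefl F hdd hη
  have hed : h e d = 0 := by rw [hH.conj d e, hde, map_zero]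
  have hfd : h f d = 0 := by rw [hH.conj d f, hdf, map_zero]
  refine ⟨g1 * g2, ⟨?_, (UG h).mul_mem hg1U hg2U, ?_⟩, ?_⟩
  · apply mem_stabDec_of_maps
    intro l x hx
    rw [LinearEquiv.mul_apply]
    have h2 : g2 x ∈ D l := by
      rw [hg2]
      by_cases hl : l = c
      · subst hl
        exact (D l).add_mem hx ((D l).smul_mem _ hd)
      · rw [C.orth l c hl x hx d hd, mul_zero, zero_div, zero_smul, add_zero]
        exact hx
    rw [hg1]
    by_cases hl : l = b
    · subst hl
      exact (D l).add_mem ((D l).add_mem h2 ((D l).smul_mem _ he)) ((D l).smul_mem _ hf)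
    · rw [C.orth l b hl _ h2 f hf, C.orth l b hl _ h2 e he, mul_zero, mul_zero, zero_smul,
        zero_smul, add_zero, add_zero]
      exact h2
  · have hdet : LinearEquiv.det (g1 * g2) = 1 := by
      apply Units.ext
      rw [map_mul, Units.val_mul, hg1det, hg2det, Units.val_one]
      field_simp
    exact mem_SLe.2 hdet
  · intro x hxd
    rw [LinearEquiv.mul_apply, hg2, hxd, mul_zero, zero_div, zero_smul, add_zero, hg1]

/-- a non-isotropic vector in some member, orthogonal to the member `D a` and to a hyperbolic pair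
`e, f` of the member `D b`, when there is a third member or the members have dimension at least three -/
theorem ex_aniso_room (C : UCtx σ h k D) (hroom : 3 ≤ t ∨ 3 ≤ k) {a b : Fin t} (hab : a ≠ b)
    {e f : V} (he : e ∈ D b) (hf : f ∈ D b) (hee : h e e = 0) (hff : h f f = 0)
    (hef : h e f = 1) :
    ∃ c : Fin t, ∃ d ∈ D c, h d d ≠ 0 ∧ h d e = 0 ∧ h d f = 0 ∧ ∀ u ∈ D a, h u d = 0 := by
  by_cases hk : 3 ≤ k
  · have hfr : 3 ≤ finrank K (D b) := by rw [C.ld.finrank_eq b]; exact hk
    obtain ⟨d, hd, hdd, hde, hdf⟩ := aniso_perp_hyp C.toFCtx (C.nd b) hfr he hf hee hff hef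
    exact ⟨b, d, hd, hdd, hde, hdf, fun u hu => C.orth a b hab u hu d hd⟩
  · have ht : 3 ≤ t := by
      rcases hroom with h1 | h1
      · exact h1
      · exact absurd h1 hk
    -- a third member
    obtain ⟨c, hca, hcb⟩ : ∃ c : Fin t, c ≠ a ∧ c ≠ b := by
      by_contra hno
      push Not at hno
      have hsub : (Finset.univ : Finset (Fin t)) ⊆ {a, b} := by
        intro c _
        by_cases hca : c = a
        · simp [hca]
        · simp [hno c hca]
      have := Finset.card_le_card hsub
      rw [Finset.card_univ, Fintype.card_fin] at this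
      have h2 : ({a, b} : Finset (Fin t)).card ≤ 2 := Finset.card_le_two
      omega
    have hfr : 1 ≤ finrank K (D c) := by
      rw [C.ld.finrank_eq c]
      have := C.two_le
      omega
    obtain ⟨d, hd, hdd⟩ := ex_aniso C.toFCtx (C.nd c) hfr
    exact ⟨c, d, hd, hdd, C.orth c b hcb d hd e he, C.orth c b hcb d hd f hf,
      fun u hu => C.orth a c (Ne.symm hca) u hu d hd⟩

/-- [C2R] changing the ratio of the two components -/
theorem pair_ratio (C : UCtx σ h k D) {M : Subgroup (V ≃ₗ[K] V)} (hMU : M ≤ UG h)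
    (hHM : HG h D ≤ M) (hroom : 3 ≤ t ∨ 3 ≤ k)
    {a b : Fin t} (hab : a ≠ b) {u v : V} (hu : u ∈ D a) (hv : v ∈ D b) (hu0 : u ≠ 0)
    (hv0 : v ≠ 0) (huu : h u u = 0) (hvv : h v v = 0) (huv : u + v ∈ UXa C.herm M) {ζ : K}
    (hζ : ζ ≠ 0) : u + ζ • v ∈ UXa C.herm M := by
  have hH := C.herm
  obtain ⟨f, hf, hff, hvf⟩ := ex_partner C.toFCtx (C.nd b) hv hv0 hvv
  obtain ⟨c, d, hd, hdd, hdv, hdf, hDa⟩ := ex_aniso_room C hroom hab hv hf hvv hff hvf
  obtain ⟨g, hgH, hg⟩ := ex_dil_HG C hv hf hd hvv hff hvf hdd hdv hdf hζ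
  have hvd : h v d = 0 := by rw [hH.conj d v, hdv, map_zero]
  have h0 : h (u + v) d = 0 := by rw [hH.add_left, hDa u hu, hvd, add_zero]
  have h1 : h (u + v) f = 1 := by
    rw [hH.add_left, C.orth a b hab u hu f hf, hvf, zero_add]
  have h2 : h (u + v) v = 0 := by
    rw [hH.add_left, C.orth a b hab u hu v hv, hvv, zero_add]
  have hgM : g ∈ M := hHM hgH
  have hmem := uxa_map hH hgM (hMU hgM) huv
  rw [hg (u + v) h0, h1, h2, mul_one, mul_zero, zero_smul, add_zero] at hmem
  have e : u + v + (ζ - 1) • v = u + ζ • v := by module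
  rwa [e] at hmem

end Cfsg.Agent.Lib.Helper33.UDec
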