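/-
Helper33, module UDEC-[C1B] of helper94's sheet (S5655 part 2): if the members of the decomposition
have dimension at least three, a vector of `UXa` with two non-zero components yields a vector of `UXa`
which is the sum of two non-zero isotropic vectors of the two members.

`pair_of_shift` is the common tail: an element `g` of `H` with `g x = x + w`, `w` a non-zero isotropic
vector of the member `D b` orthogonal to `x`, followed by a block transvection of the member `D a` and a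
hyperbolic line.  `pair_of_mixed_k_of` takes the Siegel elements ([SG] of the sheet) as a hypothesis.
-/
import Mathlib
import Cfsg.Agent.Lib.Helper94.UDec.C1A
import Cfsg.Agent.Lib.Helper33.UDecC2R

set_option autoImplicit false
set_option linter.unusedSectionVars false
set_option linter.unusedVariables false
set_option linter.unusedSimpArgs false

namespace Cfsg.Agent.Lib.Helper33.UDec

open Cfsg.Agent.Lib.Helper94 Cfsg.Agent.Lib.Helper94.SympData Cfsg.Agent.Lib.Helper94.UDec Module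

variable {K V : Type*} [Field K] [AddCommGroup V] [Module K V] [FiniteDimensional K V]
variable {σ : K →+* K} {h : V → V → K}
variable {t k : ℕ} {D : Fin t → Submodule K V}

/-- (= [EX6] of the sheet) a non-zero isotropic vector of `W` orthogonal to a given non-isotropic vector
of `W`, when `W` has dimension at least three -/
theorem iso_perp (F : FCtx σ h) {W : Submodule K V} (hW : NdOn h W) (hk : 3 ≤ finrank K W)
    {x : V} (hx : x ∈ W) (hxx : h x x ≠ 0) : ∃ z ∈ W, z ≠ 0 ∧ h z z = 0 ∧ h x z = 0 := by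
  obtain ⟨W', hW'W, hW'nd, hW'perp, hfr, -⟩ := ex_perp_aniso F hW hx hxx
  have h2 : 2 ≤ finrank K W' := by omega
  obtain ⟨z, hz, hz0, hzz⟩ := ex_iso F hW'nd h2
  refine ⟨z, hW'W hz, hz0, hzz, ?_⟩
  rw [F.herm.conj z x, hW'perp z hz, map_zero]

/-- the common tail of [C1B]: an element of `H` moving `x ∈ UXa` by a non-zero isotropic vector `w` of
the member `D b` orthogonal to `x` -/
theorem pair_of_shift (C : UCtx σ h k D) {M : Subgroup (V ≃ₗ[K] V)} (hMU : M ≤ UG h)
    (hHM : HG h D ≤ M) {x : V} (hx : x ∈ UXa C.herm M) {a b : Fin t} (hab : a ≠ b)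
    (hxa : C.ld.pr a x ≠ 0) {g : V ≃ₗ[K] V} (hg : g ∈ HG h D) {w : V} (hw : w ∈ D b)
    (hw0 : w ≠ 0) (hww : h w w = 0) (hxw : h x w = 0) (hgx : g x = x + w) : HasPair C M a b := by
  obtain ⟨ya, hya, hya0, hyaa, hα⟩ := ex_iso_of_pr C hxa
  obtain ⟨hxx, -⟩ := id hx
  obtain ⟨c₀, hc₀0, hc₀⟩ := C.tz
  obtain ⟨α, hαdef⟩ : ∃ α : K, α = h x ya := ⟨_, rfl⟩
  rw [← hαdef] at hα
  have hσα : σ α ≠ 0 := C.toFCtx.σ_ne_zero hα
  have hgM : g ∈ M := hHM hg
  have hx₁ : x + w ∈ UXa C.herm M := by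
    have := uxa_map C.herm hgM (hMU hgM) hx
    rwa [hgx] at this
  have hYa := block_mem C hHM hya hyaa
  have hx' := C.uxa_tv hMU hx₁ hYa c₀ hc₀
  have hwya : h w ya = 0 := C.orth b a (Ne.symm hab) w hw ya hya
  have hyaw : h ya w = 0 := C.orth a b hab ya hya w hw
  have e1 : h (x + w) ya = α := by rw [C.herm.add_left, hwya, add_zero, hαdef]
  rw [e1] at hx'
  have hσc₀ : σ c₀ = -c₀ := by linear_combination hc₀
  have hprod : h x (x + w + (c₀ * α) • ya) ≠ 0 := by
    rw [C.herm.add_right, C.herm.add_right, C.herm.smul_right, hxx, hxw, ← hαdef, map_mul, hσc₀]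
    intro h0
    have : (-c₀) * (α * σ α) = 0 := by linear_combination h0
    rcases mul_eq_zero.1 this with h1 | h1
    · exact hc₀0 (neg_eq_zero.1 h1)
    · rcases mul_eq_zero.1 h1 with h2 | h2
      · exact hα h2
      · exact hσα h2
  have hdiff : x + w + (c₀ * α) • ya - x = (c₀ * α) • ya + w := by abel
  have hN : h ((c₀ * α) • ya + w) ((c₀ * α) • ya + w) = 0 := by
    simp only [C.herm.add_left, C.herm.add_right, C.herm.smul_left, C.herm.smul_right, hyaa, hww,
      hwya, hyaw]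
    ring
  have hmem := C.uxa_sub hMU hx hx' hprod (by rw [hdiff]; exact hN)
  rw [hdiff] at hmem
  have hca : c₀ * α ≠ 0 := mul_ne_zero hc₀0 hα
  refine ⟨(c₀ * α) • ya, (D a).smul_mem _ hya, w, hw, smul_ne_zero hca hya0, hw0, ?_, hww, hmem⟩
  rw [C.herm.smul_left, C.herm.smul_right, hyaa]; ring

/-- [C1B] with the Siegel elements ([SG]) as a hypothesis -/
theorem pair_of_mixed_k_of (C : UCtx σ h k D)
    (hSG : ∀ {z u : V}, h z z = 0 → h u z = 0 → ∀ {β : K}, β + σ β + h u u = 0 →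
      ∃ g : V ≃ₗ[K] V, g ∈ UG h ∧ LinearEquiv.det g = 1 ∧
        ∀ x, g x = x + h x z • (u + β • z) - h x u • z)
    {M : Subgroup (V ≃ₗ[K] V)} (hMU : M ≤ UG h) (hHM : HG h D ≤ M) (hk : 3 ≤ k)
    {x : V} (hx : x ∈ UXa C.herm M) {a b : Fin t} (hab : a ≠ b) (hxa : C.ld.pr a x ≠ 0)
    (hxb : C.ld.pr b x ≠ 0) : HasPair C M a b := by
  have hH := C.herm
  have F := C.toFCtx
  obtain ⟨xb, hxbdef⟩ : ∃ xb : V, xb = C.ld.pr b x := ⟨_, rfl⟩
  rw [← hxbdef] at hxb
  have hxbmem : xb ∈ D b := by rw [hxbdef]; exact C.ld.pr_mem b x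
  have hpair : ∀ y ∈ D b, h x y = h xb y := by
    intro y hy
    rw [C.h_right_of_mem hy x, hxbdef]
  have hfr : 3 ≤ finrank K (D b) := by rw [C.ld.finrank_eq b]; exact hk
  by_cases hρ : h xb xb = 0
  · -- the component is isotropic: torus element of a hyperbolic pair
    obtain ⟨f, hf, hff, hxbf⟩ := ex_partner F (C.nd b) hxbmem hxb hρ
    obtain ⟨d, hd, hdd, hdxb, hdf⟩ := aniso_perp_hyp F (C.nd b) hfr hxbmem hf hρ hff hxbf
    obtain ⟨ζ, hζ⟩ := F.exists_not_fixed
    have hζ0 : ζ ≠ 0 := by rintro rfl; exact hζ (map_zero σ)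
    have hζ1 : ζ ≠ 1 := by rintro rfl; exact hζ (map_one σ)
    obtain ⟨g, hgH, hg⟩ := ex_dil_HG C hxbmem hf hd hρ hff hxbf hdd hdxb hdf hζ0
    have hxd : h x d = 0 := by rw [hpair d hd, hH.conj d xb, hdxb, map_zero]
    have hxf : h x f = 1 := by rw [hpair f hf]; exact hxbf
    have hxxb : h x xb = 0 := by rw [hpair xb hxbmem]; exact hρ
    have hgx : g x = x + (ζ - 1) • xb := by
      rw [hg x hxd, hxf, hxxb, mul_one, mul_zero, zero_smul, add_zero]
    refine pair_of_shift C hMU hHM hx hab hxa hgH ((D b).smul_mem _ hxbmem)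
      (smul_ne_zero (sub_ne_zero.2 hζ1) hxb) ?_ ?_ hgx
    · rw [hH.smul_left, hH.smul_right, hρ]; ring
    · rw [hH.smul_right, hxxb, mul_zero]
  · -- the component is not isotropic: Siegel element
    obtain ⟨z, hz, hz0, hzz, hxbz⟩ := iso_perp F (C.nd b) hfr hxbmem hρ
    obtain ⟨ρ, hρdef⟩ : ∃ ρ : K, ρ = h xb xb := ⟨_, rfl⟩
    rw [← hρdef] at hρ
    have hρfix : σ ρ = ρ := by rw [hρdef]; exact σ_norm hH xb
    have humem : (-ρ⁻¹) • xb ∈ D b := (D b).smul_mem _ hxbmem
    have huz : h ((-ρ⁻¹) • xb) z = 0 := by rw [hH.smul_left, hxbz, mul_zero]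
    have huu : h ((-ρ⁻¹) • xb) ((-ρ⁻¹) • xb) = ρ⁻¹ := by
      rw [hH.smul_left, hH.smul_right, map_neg, map_inv₀, hρfix, ← hρdef]
      field_simp
    obtain ⟨β, hβ⟩ := F.tr_surj (-ρ⁻¹) (by rw [map_neg, map_inv₀, hρfix])
    have hβ' : β + σ β + h ((-ρ⁻¹) • xb) ((-ρ⁻¹) • xb) = 0 := by rw [huu, hβ]; ring
    obtain ⟨g, hgU, hgdet, hg⟩ := hSG hzz huz hβ'
    have hgH : g ∈ HG h D := by
      refine ⟨?_, hgU, mem_SLe.2 hgdet⟩
      apply mem_stabDec_of_maps
      intro l y hy
      rw [hg]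
      by_cases hl : l = b
      · subst hl
        exact (D l).sub_mem ((D l).add_mem hy ((D l).smul_mem _
          ((D l).add_mem humem ((D l).smul_mem _ hz)))) ((D l).smul_mem _ hz)
      · rw [C.orth l b hl y hy z hz, C.orth l b hl y hy _ humem, zero_smul, zero_smul, add_zero,
          sub_zero]
        exact hy
    have hxz : h x z = 0 := by rw [hpair z hz]; exact hxbz
    have hxu : h x ((-ρ⁻¹) • xb) = -1 := by
      rw [hH.smul_right, map_neg, map_inv₀, hρfix, hpair xb hxbmem, ← hρdef]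
      field_simp
    have hgx : g x = x + z := by
      rw [hg, hxz, hxu, zero_smul, add_zero, neg_one_smul, sub_neg_eq_add]
    exact pair_of_shift C hMU hHM hx hab hxa hgH hz hz0 hzz hxz hgx

end Cfsg.Agent.Lib.Helper33.UDec
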