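/-
Helper33, module UDEC-[C1B] of helper94's sheet (S5655 part 2), final form: `pair_of_mixed_k` with the
exact statement of the skeleton (`pair_of_mixed_k_of` of `UDecC1B` + the Siegel elements of helper11).
-/
import Mathlib
import Cfsg.Agent.Lib.Helper33.UDecC1B
import Cfsg.Agent.Lib.Helper11.UDecSG

set_option autoImplicit false
set_option linter.unusedSectionVars false
set_option linter.unusedVariables false

namespace Cfsg.Agent.Lib.Helper33.UDec

open Cfsg.Agent.Lib.Helper94 Cfsg.Agent.Lib.Helper94.SympData Cfsg.Agent.Lib.Helper94.UDec Module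

variable {K V : Type*} [Field K] [AddCommGroup V] [Module K V] [FiniteDimensional K V]
variable {σ : K →+* K} {h : V → V → K}
variable {t k : ℕ} {D : Fin t → Submodule K V}

/-- [C1B] members of dimension at least three -/
theorem pair_of_mixed_k (C : UCtx σ h k D) {M : Subgroup (V ≃ₗ[K] V)} (hMU : M ≤ UG h)
    (hHM : HG h D ≤ M) (hk : 3 ≤ k)
    {x : V} (hx : x ∈ UXa C.herm M) {a b : Fin t} (hab : a ≠ b) (hxa : C.ld.pr a x ≠ 0)
    (hxb : C.ld.pr b x ≠ 0) : HasPair C M a b :=
  pair_of_mixed_k_of C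
    (fun {z u} hzz huz {β} hβ => Cfsg.Agent.Lib.Helper11.UDec.ex_siegel C.toFCtx hzz huz hβ)
    hMU hHM hk hx hab hxa hxb

end Cfsg.Agent.Lib.Helper33.UDec
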