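import Cfsg.Agent.Lib.Helper33.ConjFamily

/-!
# Conjugacy functors, towers, well-placed subgroups (helper33 library)
-/

set_option autoImplicit false

namespace Cfsg.Agent.Lib.Helper33

variable {G : Type*} [Group G] {p : ℕ}

theorem cf_le {W : Subgroup G → Subgroup G} (hW : Cfsg.IsConjugacyFunctor p W)
    {P : Subgroup G} (hP : IsPGroup p P) : W P ≤ P := (hW P hP).1

theorem cf_ne_bot {W : Subgroup G → Subgroup G} (hW : Cfsg.IsConjugacyFunctor p W)
    {P : Subgroup G} (hP : IsPGroup p P) (hne : P ≠ ⊥) : W P ≠ ⊥ := (hW P hP).2.1 hne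

theorem cf_cj {W : Subgroup G → Subgroup G} (hW : Cfsg.IsConjugacyFunctor p W)
    {P : Subgroup G} (hP : IsPGroup p P) (g : G) : W (cj g P) = cj g (W P) := (hW P hP).2.2 g

/-- `N_G(P) ≤ N_G(W(P))` for a `p`-subgroup `P`. -/
theorem cf_normalizer_le {W : Subgroup G → Subgroup G} (hW : Cfsg.IsConjugacyFunctor p W)
    {P : Subgroup G} (hP : IsPGroup p P) :
    Subgroup.normalizer (P : Set G) ≤ Subgroup.normalizer ((W P : Subgroup G) : Set G) := by
  intro g hg
  rw [mem_normalizer_iff_cj_eq] at hg ⊢
  rw [← cf_cj hW hP, hg]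

theorem functorTower_zero (W : Subgroup G → Subgroup G) (S T : Subgroup G) :
    Cfsg.functorTower W S T 0 = T := rfl

theorem functorTower_succ (W : Subgroup G → Subgroup G) (S T : Subgroup G) (i : ℕ) :
    Cfsg.functorTower W S T (i + 1) =
      W (S ⊓ Subgroup.normalizer ((Cfsg.functorTower W S T i : Subgroup G) : Set G)) := rfl

theorem isWellPlaced_iff {W : Subgroup G → Subgroup G} {S T : Subgroup G} :
    Cfsg.IsWellPlaced p W S T ↔ T ≤ S ∧ ∀ i, FullyNormalized p S (Cfsg.functorTower W S T i) := Iff.rfl

section tower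

variable [Fact p.Prime] [Finite G] (S : Sylow p G) {W : Subgroup G → Subgroup G}
  (hW : Cfsg.IsConjugacyFunctor p W)

include hW

/-- the normalizers in `S` of the terms of a tower increase -/
theorem tower_normalizer_le_succ (T : Subgroup G) (i : ℕ) :
    (S : Subgroup G) ⊓ Subgroup.normalizer ((Cfsg.functorTower W S T i : Subgroup G) : Set G) ≤
      (S : Subgroup G) ⊓ Subgroup.normalizer ((Cfsg.functorTower W S T (i + 1) : Subgroup G) : Set G) := by
  refine le_inf inf_le_left ?_
  rw [functorTower_succ]
  exact Subgroup.le_normalizer.trans (cf_normalizer_le hW (S.isPGroup'.to_le inf_le_left))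

theorem tower_normalizer_mono (T : Subgroup G) {i j : ℕ} (hij : i ≤ j) :
    (S : Subgroup G) ⊓ Subgroup.normalizer ((Cfsg.functorTower W S T i : Subgroup G) : Set G) ≤
      (S : Subgroup G) ⊓ Subgroup.normalizer ((Cfsg.functorTower W S T j : Subgroup G) : Set G) := by
  induction j, hij using Nat.le_induction with
  | base => exact le_rfl
  | succ j _ ih => exact ih.trans (tower_normalizer_le_succ S hW T j)

theorem tower_succ_le (T : Subgroup G) (i : ℕ) :
    Cfsg.functorTower W S T (i + 1) ≤ (S : Subgroup G) := by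
  rw [functorTower_succ]
  exact (cf_le hW (S.isPGroup'.to_le inf_le_left)).trans inf_le_left

/-- the order of `N_S(T_i)` grows until it reaches `|S|` -/
theorem tower_card_normalizer_ge (T : Subgroup G) (i : ℕ) :
    min (Nat.card (S : Subgroup G)) (i + 1) ≤
      Nat.card ((S : Subgroup G) ⊓ Subgroup.normalizer ((Cfsg.functorTower W S T i : Subgroup G) : Set G) : Subgroup G) := by
  induction i with
  | zero =>
    have : 0 < Nat.card ((S : Subgroup G) ⊓ Subgroup.normalizer ((Cfsg.functorTower W S T 0 : Subgroup G) : Set G) : Subgroup G) :=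
      Nat.card_pos
    omega
  | succ i ih =>
    set R := (S : Subgroup G) ⊓ Subgroup.normalizer ((Cfsg.functorTower W S T i : Subgroup G) : Set G) with hR
    have hmono := tower_normalizer_le_succ S hW T i
    rw [← hR] at hmono
    by_cases hRS : R = (S : Subgroup G)
    · have : Nat.card (S : Subgroup G) ≤ Nat.card ((S : Subgroup G) ⊓ Subgroup.normalizer ((Cfsg.functorTower W S T (i + 1) : Subgroup G) : Set G) : Subgroup G) := by
        rw [← hRS]
        exact Subgroup.card_le_of_le (by rw [hRS]; exact hRS ▸ hmono)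
      omega
    · have h1 : Nat.card R < Nat.card ((S : Subgroup G) ⊓ Subgroup.normalizer (R : Set G) : Subgroup G) :=
        card_lt_card_normalizer_inf S inf_le_left hRS
      have h2 : (S : Subgroup G) ⊓ Subgroup.normalizer (R : Set G) ≤
          (S : Subgroup G) ⊓ Subgroup.normalizer ((Cfsg.functorTower W S T (i + 1) : Subgroup G) : Set G) := by
        refine le_inf inf_le_left ?_
        rw [functorTower_succ]
        exact inf_le_right.trans (cf_normalizer_le hW (S.isPGroup'.to_le inf_le_left))
      have h3 := Subgroup.card_le_of_le h2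
      omega

theorem tower_normalizer_eq_of_card_le (T : Subgroup G) {i : ℕ} (hi : Nat.card (S : Subgroup G) ≤ i + 1) :
    (S : Subgroup G) ⊓ Subgroup.normalizer ((Cfsg.functorTower W S T i : Subgroup G) : Set G) = (S : Subgroup G) := by
  apply Subgroup.eq_of_le_of_card_ge inf_le_left
  have := tower_card_normalizer_ge S hW T i
  omega

omit hW in
theorem fullyNormalized_of_inf_eq {U : Subgroup G}
    (h : (S : Subgroup G) ⊓ Subgroup.normalizer (U : Set G) = (S : Subgroup G)) :
    FullyNormalized p (S : Subgroup G) U := by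
  unfold FullyNormalized
  rw [h]
  exact (sylIn_of_sylow_le S (inf_eq_left.mp h)).not_dvd

omit hW [Finite G] in
/-- if `k` carries `N_S(U)` into `S` and `U` is fully normalized then `k U k⁻¹` is fully normalized and
`N_S(k U k⁻¹) = k N_S(U) k⁻¹`. -/
theorem fullyNormalized_cj_of_le {U : Subgroup G} (hU : FullyNormalized p (S : Subgroup G) U) (k : G)
    (hk : cj k ((S : Subgroup G) ⊓ Subgroup.normalizer (U : Set G)) ≤ (S : Subgroup G)) :
    (S : Subgroup G) ⊓ Subgroup.normalizer ((cj k U : Subgroup G) : Set G) =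
        cj k ((S : Subgroup G) ⊓ Subgroup.normalizer (U : Set G)) ∧
      FullyNormalized p (S : Subgroup G) (cj k U) := by
  have h1 : SylIn p (cj k ((S : Subgroup G) ⊓ Subgroup.normalizer (U : Set G)))
      (Subgroup.normalizer ((cj k U : Subgroup G) : Set G)) := by
    have := hU.sylIn.cj k
    rwa [cj_normalizer] at this
  have h2 : cj k ((S : Subgroup G) ⊓ Subgroup.normalizer (U : Set G)) ≤
      (S : Subgroup G) ⊓ Subgroup.normalizer ((cj k U : Subgroup G) : Set G) := le_inf hk h1.le
  have h3 := h1.eq_of_le inf_le_right (S.isPGroup'.to_le inf_le_left) h2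
  refine ⟨h3, ?_⟩
  unfold FullyNormalized
  rw [h3]
  exact h1.not_dvd

/-- conjugating a tower term by term -/
theorem tower_cj (T : Subgroup G) (k : G) (m : ℕ)
    (h : ∀ i < m, (S : Subgroup G) ⊓ Subgroup.normalizer ((cj k (Cfsg.functorTower W S T i) : Subgroup G) : Set G) =
      cj k ((S : Subgroup G) ⊓ Subgroup.normalizer ((Cfsg.functorTower W S T i : Subgroup G) : Set G))) :
    ∀ i ≤ m, Cfsg.functorTower W S (cj k T) i = cj k (Cfsg.functorTower W S T i) := by
  intro i
  induction i with
  | zero => intro _; rfl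
  | succ i ih =>
    intro hi
    rw [functorTower_succ, ih (by omega), h i (by omega), cf_cj hW (S.isPGroup'.to_le inf_le_left), functorTower_succ]

/-- every subgroup of `S` has a conjugate whose tower is fully normalized up to level `m` -/
theorem exists_cj_tower_fullyNormalized (m : ℕ) : ∀ T : Subgroup G, T ≤ (S : Subgroup G) →
    ∃ g : G, cj g T ≤ (S : Subgroup G) ∧
      ∀ i ≤ m, FullyNormalized p (S : Subgroup G) (Cfsg.functorTower W S (cj g T) i) := by
  induction m with
  | zero =>
    intro T hT
    obtain ⟨g, hg, hfn⟩ := exists_fullyNormalized_cj S hT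
    refine ⟨g, hg, fun i hi => ?_⟩
    have : i = 0 := by omega
    subst this
    exact hfn
  | succ m ih =>
    intro T hT
    obtain ⟨g, hg, hfn⟩ := ih T hT
    set T' := cj g T with hT'
    set U := Cfsg.functorTower W S T' (m + 1) with hU
    have hUS : U ≤ (S : Subgroup G) := tower_succ_le S hW T' m
    obtain ⟨u, _, hufn⟩ := exists_fullyNormalized_cj S hUS
    obtain ⟨k, hkU, hkN⟩ := exists_cj_normalizer_le S hufn u rfl
    -- k carries all N_S(T'_i), i ≤ m+1, into S
    have hkS : ∀ i ≤ m + 1, cj k ((S : Subgroup G) ⊓ Subgroup.normalizer ((Cfsg.functorTower W S T' i : Subgroup G) : Set G)) ≤ (S : Subgroup G) := by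
      intro i hi
      exact (cj_mono (tower_normalizer_mono S hW T' hi)).trans (hkN.trans inf_le_left)
    have heq : ∀ i < m + 1, (S : Subgroup G) ⊓ Subgroup.normalizer ((cj k (Cfsg.functorTower W S T' i) : Subgroup G) : Set G) =
        cj k ((S : Subgroup G) ⊓ Subgroup.normalizer ((Cfsg.functorTower W S T' i : Subgroup G) : Set G)) := by
      intro i hi
      exact (fullyNormalized_cj_of_le S (hfn i (by omega)) k (hkS i (by omega))).1
    have htower := tower_cj S hW T' k (m + 1) heq
    refine ⟨k * g, ?_, ?_⟩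
    · rw [cj_mul, ← hT']
      have : T' ≤ (S : Subgroup G) ⊓ Subgroup.normalizer ((Cfsg.functorTower W S T' 0 : Subgroup G) : Set G) :=
        le_inf hg Subgroup.le_normalizer
      exact (cj_mono this).trans (hkS 0 (by omega))
    · intro i hi
      rw [cj_mul, ← hT', htower i hi]
      rcases Nat.lt_or_ge i (m + 1) with hlt | hge
      · exact (fullyNormalized_cj_of_le S (hfn i (by omega)) k (hkS i (by omega))).2
      · have : i = m + 1 := by omega
        subst this
        rw [← hU, hkU]
        exact hufn

/-- **Every subgroup of `S` has a well-placed conjugate.** -/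
theorem exists_cj_isWellPlaced (T : Subgroup G) (hT : T ≤ (S : Subgroup G)) :
    ∃ g : G, Cfsg.IsWellPlaced p W (S : Subgroup G) (cj g T) := by
  obtain ⟨g, hg, hfn⟩ := exists_cj_tower_fullyNormalized S hW (Nat.card (S : Subgroup G)) T hT
  refine ⟨g, hg, fun i => ?_⟩
  rcases Nat.lt_or_ge i (Nat.card (S : Subgroup G)) with hlt | hge
  · exact hfn i hlt.le
  · exact fullyNormalized_of_inf_eq S (tower_normalizer_eq_of_card_le S hW _ (by omega))

end tower

end Cfsg.Agent.Lib.Helper33
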